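import Cfsg.Statements.S0033
import Mathlib
import Cfsg.Agent.H1.ThompsonFPF

set_option autoImplicit false
open Cfsg

namespace Cfsg.Agent.S0033

/-- Thompson's Theorem on fixed-point-free automorphisms: a finite group with an automorphism of prime order fixing only the identity is nilpotent. -/
theorem result {G : Type*} [Group G] [Finite G] (φ : G ≃* G)
    (hφ : MonoidHom.FixedPointFree (φ : G →* G)) (p : ℕ) (hp : p.Prime) (hord : orderOf φ = p) :
    Group.IsNilpotent G := by
  let ψ : MulAut G := φ
  have hord' : orderOf ψ = p := hord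
  have hc : Nat.card (Subgroup.zpowers ψ) = p := by rw [Nat.card_zpowers, hord']
  haveI : Fact p.Prime := ⟨hp⟩
  haveI : Nontrivial (Subgroup.zpowers ψ) := by
    rw [← Finite.one_lt_card_iff_nontrivial, hc]; exact hp.one_lt
  refine H1.nilpotent_of_regular_action (Subgroup.zpowers ψ).subtype ?_
  intro x hx t ht
  have hgen : Subgroup.zpowers x = ⊤ := zpowers_eq_top_of_prime_card hc hx
  have hm : (⟨ψ, Subgroup.mem_zpowers ψ⟩ : Subgroup.zpowers ψ) ∈ Subgroup.zpowers x := by
    rw [hgen]; trivial
  have hst : Subgroup.zpowers x ≤ (MulAction.stabilizer (MulAut G) t).comap (Subgroup.zpowers ψ).subtype := by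
    rw [Subgroup.zpowers_le]
    exact ht
  exact hφ t (hst hm)

end Cfsg.Agent.S0033
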