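import Cfsg.Statements.S1534
import Mathlib
import Cfsg.Agent.H27.Wrap3

set_option autoImplicit false
open Cfsg

namespace Cfsg.Agent.S1534

/-- Let G be a finite group and K a nontrivial nilpotent subgroup whose underlying set is a TI-subset of G, properly contained in its set normaliser N, with C_G(k) ≤ K for every non-identity k ∈ K; let e be the index of K in N and S the set of irreducible characters χ of N with χ k ≠ χ 1 for some k ∈ K. Then one of: S has exactly one member, Nat.card K = e + 1 and K is an elementary abelian p-group for some prime p; or K is a Sylow 2-subgroup of G (Nat.card K is the largest power of 2 dividing Nat.card G) and [K : [K,K]] < 4e²; or (S, N minus 1, induction to G) is coherent. -/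
theorem result {G : Type*} [Group G] [Fintype G] (K : Subgroup G) (hK1 : K ≠ ⊥) (hnil : Group.IsNilpotent K) (hTI : Cfsg.IsTISubset (K : Set G)) (hlt : K < Subgroup.normalizer (K : Set G)) (hC : ∀ k ∈ K, k ≠ 1 → Subgroup.centralizer ({k} : Set G) ≤ K) [Fintype ↥(Subgroup.normalizer (K : Set G))] : (Nat.card {χ : ↥(Subgroup.normalizer (K : Set G)) → ℂ // Cfsg.IsIrrCharacter ↥(Subgroup.normalizer (K : Set G)) χ ∧ ∃ k : ↥(Subgroup.normalizer (K : Set G)), (k : G) ∈ K ∧ χ k ≠ χ 1} = 1 ∧ Nat.card K = (K.subgroupOf (Subgroup.normalizer (K : Set G))).index + 1 ∧ ∃ p : ℕ, p.Prime ∧ Cfsg.IsElementaryAbelian p K) ∨ (Nat.card K = 2 ^ (Nat.card G).factorization 2 ∧ (⁅K, K⁆.subgroupOf K).index < 4 * (K.subgroupOf (Subgroup.normalizer (K : Set G))).index ^ 2) ∨ Cfsg.IsCoherent {χ : ↥(Subgroup.normalizer (K : Set G)) → ℂ | Cfsg.IsIrrCharacter ↥(Subgroup.normalizer (K : Set G)) χ ∧ ∃ k : ↥(Subgroup.normalizer (K : Set G)), (k : G) ∈ K ∧ χ k ≠ χ 1} {1}ᶜ (fun α => Cfsg.indFun (Subgroup.normalizer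 (K : Set G)) α) := by
  open H24 H27 in
  have hF := frobK_N hK1 hlt hC
  have hT : NormedTI (shp K) N[K] := normedTI_shp_iff.mpr ⟨hK1, hTI, rfl⟩
  by_cases he : Nat.card K = K.relIndex N[K] + 1
  · refine Or.inl ⟨?_, he, hF.elem_of_card he⟩
    rw [card_irr_nontriv hF.nml.le, ← hF.seqIndD_eq hF.nml le_rfl, hF.card_seqInd_eq_one_iff, he]
  rcases feit_sibley hF hT with h | ⟨h1, h2, h3⟩
  · exact Or.inr (Or.inr (hF.isCoherent_of hF.nml le_rfl h (hF.one_lt_card_seqInd he)))
  · obtain ⟨S, hS⟩ := (hF.syl_top Nat.prime_two h1).exists_sylow_top Nat.prime_two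
    have := Fact.mk Nat.prime_two
    exact Or.inr (Or.inl ⟨hS ▸ S.card_eq_multiplicity, h3⟩)

end Cfsg.Agent.S1534
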