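import Cfsg.Statements.S0227
import Mathlib
import Cfsg.Agent.H17.Aut
import Cfsg.Agent.S0205

set_option autoImplicit false
open Cfsg

namespace Cfsg.Agent.S0227

/-- Let G be a finite group with no nontrivial normal subgroup of odd order, S a Sylow 2-subgroup, and C the group of automorphisms of G that fix every element of S. Then every Sylow 2-subgroup of C is abelian and has a normal complement in C; in particular C is solvable. -/
theorem result {G : Type*} [Group G] [Finite G] (hO : ∀ N : Subgroup G, N.Normal → Odd (Nat.card N) → N = ⊥) (S : Sylow 2 G) (C : Subgroup (MulAut G)) (hC : ∀ φ : MulAut G, φ ∈ C ↔ ∀ s : G, s ∈ S → φ s = s) : (∀ T : Sylow 2 ↥C, (∀ a b : ↥T, a * b = b * a) ∧ ∃ N : Subgroup ↥C, N.Normal ∧ Subgroup.IsComplement' N (T : Subgroup ↥C)) ∧ Group.IsSolvable ↥C := by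
  open H4 H17 in
  have : Finite (MulAut G) := Finite.of_injective _ (DFunLike.coe_injective (F := MulAut G))
  obtain ⟨K, hK, h1, h2, h3⟩ := exists_odd_of_centralizes_sylow (pPrimeCore_eq_bot hO) S C
    fun φ hφ => (hC φ).mp hφ
  refine ⟨fun T => ⟨fun a b => Subtype.ext ?_, (H3.hasNPC_iff_sylow T).mp (H3.hasNPC_iff_coprime.mpr
    (Nat.coprime_two_right.mpr (h1.of_dvd_nat (Subgroup.card_dvd_of_le h3))))⟩, ?_⟩
  · refine commutatorElement_eq_one_iff_mul_comm.mp (eq_one_of_PElt_of_reg
      (PElt.of_mem T.isPGroup' ?_) (reg_of_mem h1.not_two_dvd_nat (h2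
        (Subgroup.commutator_mem_commutator (Subgroup.mem_top _) (Subgroup.mem_top _)))))
    exact mul_mem (mul_mem (mul_mem a.2 b.2) (inv_mem a.2)) (inv_mem b.2)
  · have := Cfsg.Agent.S0205.result h1
    have : Group.IsSolvable (C ⧸ K) := Group.isSolvable_of_comm
      (Subgroup.Normal.quotient_commutative_iff_commutator_le.mpr h2).is_comm.comm
    exact Group.isSolvable_of_ker_le_range K.subtype (QuotientGroup.mk' K) (by simp)

end Cfsg.Agent.S0227
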