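import Cfsg.Statements.S0157
import Mathlib
import Cfsg.Agent.H4.Induce

set_option autoImplicit false
open Cfsg

namespace Cfsg.Agent.S0157
open H4


/-- For a transitive action of a finite group on a finite set with at least two points: the action is 2-transitive if and only if the function sending g to (number of fixed points of g) − 1 is an irreducible character. -/
theorem result {G : Type*} [Group G] [Finite G] (X : Type*) [MulAction G X] [Finite X] [MulAction.IsPretransitive G X] (hX : 2 ≤ Nat.card X) : Cfsg.IsIrrCharacter G (fun g => (Nat.card (MulAction.fixedBy X g) : ℂ) - 1) ↔ MulAction.IsMultiplyPretransitive G X 2 := by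
  have := Fintype.ofFinite G
  have hπ := isCharacter_fixedBy (G := G) X
  have hne : Nonempty X := (Nat.card_pos_iff.mp (by omega : 0 < Nat.card X)).1
  have h1 : classInner (fun g : G => (Nat.card (MulAction.fixedBy X g) : ℂ)) (fun _ => 1) = 1 := by
    rw [classInner_fixedBy_one]
    obtain ⟨this⟩ := (MulAction.pretransitive_iff_unique_quotient_of_nonempty G X).mp inferInstance
    rw [Nat.card_unique, Nat.cast_one]
  have h2 : classInner (fun g : G => (Nat.card (MulAction.fixedBy X g) : ℂ))
      (fun g : G => (Nat.card (MulAction.fixedBy X g) : ℂ)) =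
      Nat.card (MulAction.orbitRel.Quotient G (X × X)) := by
    rw [← classInner_fixedBy_one, classInner, classInner]
    congr 1
    refine Finset.sum_congr rfl fun g _ => ?_
    rw [map_natCast, map_one, mul_one, ← Nat.cast_mul, ← Nat.card_prod]
    congr 1
    exact Nat.card_congr
      { toFun := fun p => ⟨(p.1.1, p.2.1), Prod.ext p.1.2 p.2.2⟩
        invFun := fun p => (⟨p.1.1, congrArg Prod.fst p.2⟩, ⟨p.1.2, congrArg Prod.snd p.2⟩)
        left_inv := fun p => rfl
        right_inv := fun p => rfl }
  have h3 : IsCharacter G (fun g : G => (Nat.card (MulAction.fixedBy X g) : ℂ) - 1) :=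
    hπ.sub_irr isIrrCharacter_one (by rw [h1]; exact one_ne_zero)
  have h4 : classInner (fun g : G => (Nat.card (MulAction.fixedBy X g) : ℂ) - 1)
      (fun g : G => (Nat.card (MulAction.fixedBy X g) : ℂ) - 1) =
      Nat.card (MulAction.orbitRel.Quotient G (X × X)) - 1 := by
    have := classInner_sub_irr_self (fun g : G => (Nat.card (MulAction.fixedBy X g) : ℂ))
      isIrrCharacter_one
    rw [h1, h2, one_smul, map_one, mul_one] at this
    exact this
  rw [isIrr_iff, h4, sub_eq_iff_eq_add, MulAction.is_two_pretransitive_iff]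
  have h5 : ((Nat.card (MulAction.orbitRel.Quotient G (X × X)) : ℂ) = 1 + 1) ↔
      Nat.card (MulAction.orbitRel.Quotient G (X × X)) = 2 := by
    rw [one_add_one_eq_two]; exact_mod_cast Iff.rfl
  obtain ⟨x⟩ := hne
  rw [and_iff_right h3, h5, Nat.card_eq_two_iff' (Quotient.mk _ (x, x))]
  have hdiag : ∀ a b : X, (Quotient.mk (MulAction.orbitRel G (X × X)) (a, b)) =
      Quotient.mk _ (x, x) ↔ a = b := by
    intro a b
    rw [Quotient.eq, MulAction.orbitRel_apply, MulAction.mem_orbit_iff]
    constructor
    · rintro ⟨g, hg⟩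
      exact (congrArg Prod.fst hg).symm.trans (congrArg Prod.snd hg)
    · rintro rfl
      obtain ⟨g, hg⟩ := MulAction.exists_smul_eq G x a
      exact ⟨g, Prod.ext hg hg⟩
  constructor
  · rintro ⟨y, -, hy⟩ a b c d hab hcd
    have e1 := hy (Quotient.mk _ (a, b)) (fun h => hab ((hdiag a b).mp h))
    have e2 := hy (Quotient.mk _ (c, d)) (fun h => hcd ((hdiag c d).mp h))
    have e3 := e2.trans e1.symm
    rw [Quotient.eq, MulAction.orbitRel_apply, MulAction.mem_orbit_iff] at e3
    obtain ⟨g, hg⟩ := e3
    exact ⟨g, congrArg Prod.fst hg, congrArg Prod.snd hg⟩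
  · intro h
    have : Nontrivial X := Finite.one_lt_card_iff_nontrivial.mp (by omega)
    obtain ⟨y, hy⟩ := exists_ne x
    refine ⟨Quotient.mk _ (y, x), fun h' => hy ((hdiag y x).mp h'), fun z hz => ?_⟩
    obtain ⟨⟨a, b⟩, rfl⟩ := Quotient.exists_rep z
    obtain ⟨g, hg1, hg2⟩ := h hy (fun h' => hz ((hdiag a b).mpr h'))
    rw [Quotient.eq, MulAction.orbitRel_apply, MulAction.mem_orbit_iff]
    exact ⟨g, Prod.ext hg1 hg2⟩

end Cfsg.Agent.S0157
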