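import Cfsg.Statements.S1230
import Mathlib
import Cfsg.Agent.H6.CentEA
import Cfsg.Agent.S0727
import Cfsg.Agent.H7.ProjLine

set_option autoImplicit false
open Cfsg

namespace Cfsg.Agent.S1230

/-- Let G be a finite group with a Sylow 2-subgroup T that is neither cyclic nor normal, such that the centralizer of every involution is an elementary abelian 2-group. Then G ≅ PSL(2,F) for a finite field F with |F| = |T|. -/
theorem result {G : Type*} [Group G] [Finite G] (T : Sylow 2 G) (hnc : ¬ IsCyclic (T : Subgroup G)) (hnn : ¬ (T : Subgroup G).Normal) (hC : ∀ t : G, orderOf t = 2 → IsMulCommutative (Subgroup.centralizer ({t} : Set G)) ∧ ∀ c ∈ Subgroup.centralizer ({t} : Set G), c ^ 2 = 1) : ∃ (F : Type) (_ : Field F) (_ : Fintype F), Fintype.card F = Nat.card T ∧ Nonempty (G ≃* Matrix.ProjectiveSpecialLinearGroup (Fin 2) F) := by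
  classical
  have h := H6.cea_of_sylow T hnc hC hnn
  have hcard := H6.cea_card_quotient T hnc hC hnn
  set Ω := G ⧸ Subgroup.normalizer ((T : Subgroup G) : Set G)
  let _ : Fintype Ω := Fintype.ofFinite Ω
  obtain ⟨f, hf⟩ := T.isPGroup'.exists_card_eq
  have hf2 : 2 ≤ f := by
    by_contra hlt
    apply hnc
    have : f = 0 ∨ f = 1 := by omega
    rcases this with rfl | rfl
    · have := (Nat.card_eq_one_iff_unique.1 hf).1
      infer_instance
    · exact isCyclic_of_prime_card (p := 2) hf
  have hT : Nat.card T = 2 ^ f := hf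
  have hΩ : Fintype.card Ω = 2 ^ f + 1 := by rw [← Nat.card_eq_fintype_card, hcard, hT]
  have h3 : 2 < Fintype.card Ω := by
    have : 2 ^ 2 ≤ 2 ^ f := Nat.pow_le_pow_right (by norm_num) hf2
    omega
  obtain ⟨a, b, c, hab, hac, hbc⟩ := Fintype.two_lt_card_iff.1 h3
  let φ := MulAction.toPermHom G Ω
  have hφ : Function.Injective φ := by
    rw [injective_iff_map_eq_one]
    intro g hg
    have : ∀ x : Ω, g • x = x := fun x => congrArg (fun e : Equiv.Perm Ω => e x) hg
    exact h.eq_one_of_fix_three hab hac hbc (this a) (this b) (this c)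
  obtain ⟨F, _, _, hF, ⟨e⟩⟩ := Cfsg.Agent.S0727.result (by omega : 1 ≤ f) hΩ φ.range
    (H7.is_three_pretransitive_iff.2 fun a b c a' b' c' h1 h2 h3 h4 h5 h6 => by
      obtain ⟨g, hg⟩ := h.three_trans h1 h2 h3 h4 h5 h6
      exact ⟨⟨φ g, g, rfl⟩, hg⟩) (fun x => by
      rw [eq_bot_iff]
      rintro ⟨_, g, rfl⟩ hg
      have hx : ∀ i, g • x i = x i := fun i => congrArg (fun e : Fin 3 ↪ Ω => e i) hg
      have := h.eq_one_of_fix_three (x.injective.ne (by decide)) (x.injective.ne (by decide))
        (x.injective.ne (by decide)) (hx 0) (hx 1) (hx 2)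
      subst this
      exact Subtype.ext (map_one φ))
  refine ⟨F, inferInstance, inferInstance, by rw [hF, hT], ⟨((MonoidHom.ofInjective hφ).trans e).trans
    (MulEquiv.ofBijective Matrix.ProjectiveSpecialLinearGroup.toPGL
      ⟨Matrix.ProjectiveSpecialLinearGroup.toPGL_injective,
        Matrix.ProjectiveSpecialLinearGroup.toPGL_surj_of_roots fun r => ?_⟩).symm⟩⟩
  have hodd : (Nat.card Fˣ).Coprime 2 := by
    rw [Nat.card_units, Nat.card_eq_fintype_card, hF, Nat.coprime_two_right]
    exact Nat.Even.sub_odd Nat.one_le_two_pow (by rw [Nat.even_pow]; exact ⟨even_two, by omega⟩) odd_one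
  obtain ⟨k, hk⟩ := (powCoprime hodd).surjective r
  exact ⟨k, by simpa using hk⟩

end Cfsg.Agent.S1230
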