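import Cfsg.Statements.S0995
import Mathlib
import Cfsg.Agent.H18.Elem

set_option autoImplicit false
open Cfsg

namespace Cfsg.Agent.S0995

theorem aux {G : Type*} [Group G] [Finite G] (p : ℕ) [hp : Fact p.Prime] (z : G)
    (hz : orderOf z = p) (hC : Subgroup.centralizer ({z} : Set G) = Subgroup.zpowers z) :
    ∃ P : Sylow p G, (P : Subgroup G) = Subgroup.zpowers z := by
  have h1 : IsPGroup p (Subgroup.zpowers z) :=
    IsPGroup.of_card (n := 1) (by rw [Nat.card_zpowers, hz, pow_one])
  obtain ⟨P, hP⟩ := h1.exists_le_sylow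
  refine ⟨P, ?_⟩
  by_contra hne
  have h2 := H18.lt_inf_normalizer_of_isPGroup P.2 (lt_of_le_of_ne hP (Ne.symm hne))
  obtain ⟨x, hx, hx'⟩ := SetLike.exists_of_lt h2
  apply hx'
  obtain ⟨k, hk⟩ := P.2 ⟨x, hx.1⟩
  have hk' : x ^ p ^ k = 1 := congrArg Subtype.val hk
  have h3 := H3.card_modEq_card_inf_centralizer hp.out hx.2 hk'
  rw [Nat.card_zpowers, hz] at h3
  have h4 : p ∣ Nat.card (Subgroup.zpowers z ⊓ Subgroup.centralizer {x} : Subgroup G) :=
    (Nat.modEq_zero_iff_dvd.1 (h3.symm.trans (Nat.modEq_zero_iff_dvd.2 dvd_rfl)))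
  have h5 : Subgroup.zpowers z ⊓ Subgroup.centralizer {x} = Subgroup.zpowers z :=
    Subgroup.eq_of_le_of_card_ge inf_le_left (by
      rw [Nat.card_zpowers, hz]; exact Nat.le_of_dvd Nat.card_pos h4)
  have h6 : z ∈ Subgroup.centralizer {x} := (h5.ge (Subgroup.mem_zpowers z)).2
  rw [← hC, Subgroup.mem_centralizer_singleton_iff]
  exact (Subgroup.mem_centralizer_singleton_iff.1 h6).symm

/-- Let G be a finite perfect group containing an element z of prime order p whose centralizer is the cyclic group it generates. Let t be the number of conjugacy classes of elements of order p. Then t divides p - 1, the number of Sylow p-subgroups has the form 1 + n * p, and |G| * t = (p - 1) * p * (1 + n * p). -/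
theorem result {G : Type*} [Group G] [Finite G] (hperf : commutator G = ⊤) (p : ℕ) [Fact p.Prime] (z : G) (hz : orderOf z = p) (hC : Subgroup.centralizer ({z} : Set G) = Subgroup.zpowers z) : ∃ n t : ℕ, t = Nat.card {c : ConjClasses G // ∃ g : G, ConjClasses.mk g = c ∧ orderOf g = p} ∧ t ∣ p - 1 ∧ Nat.card (Sylow p G) = 1 + n * p ∧ Nat.card G * t = (p - 1) * p * (1 + n * p) := by
  have hp : p.Prime := Fact.out
  obtain ⟨P, hP⟩ := aux p z hz hC
  have hPc : Nat.card (P : Subgroup G) = p := by rw [hP, Nat.card_zpowers, hz]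
  obtain ⟨m, hm⟩ : p ∣ Nat.card G := hz ▸ orderOf_dvd_natCard z
  have hcl : ∀ a : G, orderOf a = p → Nat.card {g : G // IsConj a g} = m := by
    intro a ha
    obtain ⟨Q, hQ⟩ := H18.exists_sylow_eq_zpowers P hPc ha
    obtain ⟨g, hg⟩ := MulAction.exists_smul_eq G Q P
    have h1 : g * a * g⁻¹ ∈ (P : Subgroup G) := by
      rw [← hg, Sylow.coe_subgroup_smul, hQ]
      exact Subgroup.smul_mem_pointwise_smul _ _ _ (Subgroup.mem_zpowers a)
    have ha1 : g * a * g⁻¹ ≠ 1 := by
      intro h
      have : a = 1 := by simpa using h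
      rw [this, orderOf_one] at ha
      exact hp.one_lt.ne ha
    have h2 := H18.zpowers_eq_of_mem hPc h1 ha1
    have h3 : Subgroup.centralizer ({g * a * g⁻¹} : Set G) = Subgroup.zpowers z := by
      rw [← hC, ← Subgroup.centralizer_closure, ← Subgroup.zpowers_eq_closure, h2, hP,
        Subgroup.zpowers_eq_closure, Subgroup.centralizer_closure]
    have h4 := H18.card_centralizer_mul_card_isConj (g * a * g⁻¹)
    rw [h3, Nat.card_zpowers, hz, hm] at h4
    rw [← Nat.eq_of_mul_eq_mul_left hp.pos h4]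
    have h5 : IsConj a (g * a * g⁻¹) := isConj_iff.2 ⟨g, rfl⟩
    exact Nat.card_congr (Equiv.subtypeEquivRight fun x =>
      ⟨fun h => h5.symm.trans h, fun h => h5.trans h⟩)
  have h1 := H18.card_eq_card_classes_mul (fun g : G => orderOf g = p)
    (fun a b h ha => by
      obtain ⟨c, rfl⟩ := isConj_iff.1 h
      rw [← ha]; exact (SemiconjBy.orderOf_eq c (by simp [SemiconjBy])).symm) m hcl
  rw [H18.card_orderOf_eq_prime P hPc] at h1
  have h2 := card_sylow_modEq_one p G
  have h3 : 1 ≤ Nat.card (Sylow p G) := Nat.card_pos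
  obtain ⟨n, hn⟩ := (Nat.modEq_iff_dvd' h3).1 h2.symm
  have hn' : Nat.card (Sylow p G) = 1 + n * p := by rw [mul_comm n, ← hn]; omega
  refine ⟨n, _, rfl, ?_, hn', ?_⟩
  · have h4 := H18.card_sylow_mul_card_normalizer P
    obtain ⟨e, he⟩ : p ∣ Nat.card (Subgroup.normalizer ((P : Subgroup G) : Set G)) :=
      (dvd_of_eq hPc.symm).trans (Subgroup.card_dvd_of_le Subgroup.le_normalizer)
    rw [he, hm] at h4
    have h5 : m = Nat.card (Sylow p G) * e :=
      Nat.eq_of_mul_eq_mul_left hp.pos (by rw [← h4]; ring)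
    rw [h5] at h1
    exact ⟨e, Nat.eq_of_mul_eq_mul_left h3 (by rw [h1]; ring)⟩
  · rw [← hn', hm]
    rw [mul_assoc, mul_comm m, ← h1]; ring

end Cfsg.Agent.S0995
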