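import Cfsg.Statements.S1018
import Mathlib
import Cfsg.Agent.H18.Elem

set_option autoImplicit false
open Cfsg

namespace Cfsg.Agent.S1018

/-- Let P be a Sylow p-subgroup of order p of a finite group G, and consider the action of G on the left cosets of the normalizer N of P. Then every element of order p fixes exactly one coset, and an element of N that does not centralize P fixes at most as many cosets as there are orbits of P. -/
theorem result {G : Type*} [Group G] [Finite G] (p : ℕ) [Fact p.Prime] (P : Sylow p G) (hP : Nat.card ↥(P : Subgroup G) = p) : (∀ y : G, orderOf y = p → Nat.card (MulAction.fixedBy (G ⧸ Subgroup.normalizer ((P : Subgroup G) : Set G)) y) = 1) ∧ ∀ x : G, x ∈ Subgroup.normalizer ((P : Subgroup G) : Set G) → x ∉ Subgroup.centralizer ((P : Subgroup G) : Set G) → Nat.card (MulAction.fixedBy (G ⧸ Subgroup.normalizer ((P : Subgroup G) : Set G)) x) ≤ Nat.card (MulAction.orbitRel.Quotient ↥(P : Subgroup G) (G ⧸ Subgroup.normalizer ((P : Subgroup G) :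 Set G))) := by
  have hp : p.Prime := Fact.out
  set N := Subgroup.normalizer ((P : Subgroup G) : Set G) with hN
  have key : ∀ y g : G, (g : G ⧸ N) ∈ MulAction.fixedBy (G ⧸ N) y ↔ g⁻¹ * y * g ∈ N := by
    intro y g
    rw [MulAction.mem_fixedBy, MulAction.Quotient.smul_mk, eq_comm, QuotientGroup.eq, smul_eq_mul,
      mul_assoc]
  have hmem : ∀ y : G, orderOf y = p → y ∈ N → y ∈ (P : Subgroup G) := fun y hy hyN => by
    have h1 : IsPGroup p (Subgroup.zpowers y) :=
      IsPGroup.of_card (n := 1) (by rw [Nat.card_zpowers, hy, pow_one])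
    have h2 : y ∈ Subgroup.zpowers y ⊓ Subgroup.normalizer (P : Set G) :=
      ⟨Subgroup.mem_zpowers y, hyN⟩
    rw [h1.inf_normalizer_sylow] at h2
    exact h2.2
  have hord : ∀ y g : G, orderOf (g⁻¹ * y * g) = orderOf y := fun y g =>
    SemiconjBy.orderOf_eq g (by simp [SemiconjBy, mul_assoc])
  have huniq : ∀ y : G, orderOf y = p → ∀ a b : G ⧸ N, a ∈ MulAction.fixedBy (G ⧸ N) y →
      b ∈ MulAction.fixedBy (G ⧸ N) y → a = b := by
    intro y hy a b ha hb
    obtain ⟨g, rfl⟩ := QuotientGroup.mk_surjective a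
    obtain ⟨h, rfl⟩ := QuotientGroup.mk_surjective b
    have h1 := hmem _ ((hord y g).trans hy) ((key y g).1 ha)
    have h2 := hmem _ ((hord y h).trans hy) ((key y h).1 hb)
    have hne : ∀ g : G, g⁻¹ * y * g ≠ 1 := fun g h => by
      have := hord y g
      rw [h, orderOf_one, hy] at this
      exact hp.one_lt.ne this
    have h3 := H18.zpowers_eq_of_mem hP h1 (hne g)
    rw [QuotientGroup.eq, ← inv_mem_iff]
    apply Subgroup.mem_normalizer_fintype
    intro n hn
    rw [SetLike.mem_coe, ← h3] at hn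
    obtain ⟨k, rfl⟩ := hn
    have : (g⁻¹ * h)⁻¹ * (g⁻¹ * y * g) ^ k * (g⁻¹ * h)⁻¹⁻¹ = (h⁻¹ * y * h) ^ k := by
      rw [← conj_zpow]; congr 1; group
    simp only [SetLike.mem_coe]
    rw [this]
    exact zpow_mem h2 k
  refine ⟨fun y hy => ?_, fun x hx hxc => ?_⟩
  · obtain ⟨Q, hQ⟩ := H18.exists_sylow_eq_zpowers P hP hy
    obtain ⟨g, hg⟩ := MulAction.exists_smul_eq G Q P
    have h1 : g * y * g⁻¹ ∈ (P : Subgroup G) := by
      rw [← hg, Sylow.coe_subgroup_smul, hQ]
      exact Subgroup.smul_mem_pointwise_smul _ _ _ (Subgroup.mem_zpowers y)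
    have h2 : ((g⁻¹ : G) : G ⧸ N) ∈ MulAction.fixedBy (G ⧸ N) y :=
      (key y g⁻¹).2 (by rw [inv_inv]; exact Subgroup.le_normalizer h1)
    rw [Nat.card_eq_one_iff_exists]
    exact ⟨⟨_, h2⟩, fun b => Subtype.ext (huniq y hy _ _ b.2 h2)⟩
  · refine Nat.card_le_card_of_injective (fun a => Quotient.mk'' a.1) ?_
    rintro ⟨a, ha⟩ ⟨b, hb⟩ hab
    obtain ⟨u, hu⟩ := MulAction.orbitRel_apply.1 (Quotient.exact' hab)
    apply Subtype.ext
    change (u : G) • b = a at hu
    change a = b
    rw [MulAction.mem_fixedBy] at ha hb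
    have hw : x⁻¹ * (u : G)⁻¹ * x * u ∈ (P : Subgroup G) :=
      mul_mem ((Subgroup.mem_normalizer_iff''.1 hx _).1 (inv_mem u.2)) u.2
    have hwb : (x⁻¹ * (u : G)⁻¹ * x * u) • b = b := by
      rw [mul_smul, mul_smul, mul_smul, hu, ha, ← hu, inv_smul_smul, inv_smul_eq_iff, hb]
    by_cases h1 : x⁻¹ * (u : G)⁻¹ * x * u = 1
    · by_cases h2 : (u : G) = 1
      · rw [← hu, h2, one_smul]
      · exfalso
        apply hxc
        rw [← H18.zpowers_eq_of_mem hP u.2 h2, Subgroup.zpowers_eq_closure,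
          Subgroup.centralizer_closure, Subgroup.mem_centralizer_singleton_iff]
        calc x * u = u * x * (x⁻¹ * (u : G)⁻¹ * x * u) := by group
          _ = u * x := by rw [h1, mul_one]
    · have h3 : ∀ v ∈ (P : Subgroup G), ((1 : G) : G ⧸ N) ∈ MulAction.fixedBy (G ⧸ N) v :=
        fun v hv => (key v 1).2 (by rw [inv_one, one_mul, mul_one]; exact Subgroup.le_normalizer hv)
      have h4 := huniq _ (H18.orderOf_eq_of_mem hP hw h1) _ _ hwb (h3 _ hw)
      rw [← hu, h4]
      exact h3 _ u.2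

end Cfsg.Agent.S1018
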