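import Cfsg.Statements.S0949
import Mathlib
import Cfsg.Agent.H17.Klein

set_option autoImplicit false
open Cfsg

namespace Cfsg.Agent.S0949

/-- Let the finite group G have a Sylow 2-subgroup P isomorphic to Z/2^m × Z/2^m with m ≥ 2, and suppose G has no nontrivial normal subgroup of odd order. Then P is normal in G, C_G(P) = P, and the index of P is 1 or 3. -/
theorem result {G : Type*} [Group G] [Finite G] (P : Sylow 2 G) (m : ℕ) (hm : 2 ≤ m) (e : (P : Subgroup G) ≃* Multiplicative (ZMod (2 ^ m) × ZMod (2 ^ m))) (hO : ∀ N : Subgroup G, N.Normal → Odd (Nat.card N) → N = ⊥) : (P : Subgroup G).Normal ∧ Subgroup.centralizer (P : Set G) = (P : Subgroup G) ∧ ((P : Subgroup G).index = 1 ∨ (P : Subgroup G).index = 3) := by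
  open H4 H17 in
  have hO' := pPrimeCore_eq_bot hO
  have hR := r2_of_equiv (by omega) e
  have hn := homo_normal (fun P e => r2_of_equiv (m := m) (by omega) e) (by
    rw [Nat.card_congr Multiplicative.toAdd, Nat.card_prod, Nat.card_zmod, ← pow_add]
    exact Nat.pow_le_pow_right (n := 2) (i := 4) (by norm_num) (by omega)) _ G rfl P e hO'
  have hC := centralizer_eq_of_normal P hO' hR.le_centralizer
  refine ⟨hn, hC, ?_⟩
  have := hR.relIndex
  rwa [hC, Subgroup.normalizer_eq_top, Subgroup.relIndex_top_right] at this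

end Cfsg.Agent.S0949
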