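import Cfsg.Statements.S0848
import Mathlib
import Cfsg.Agent.H5.BSW

set_option autoImplicit false
open Cfsg

namespace Cfsg.Agent.S0848

open H4 H5
open scoped ComplexConjugate

/-- If a finite group equals its own commutator subgroup and contains an involution whose centralizer is isomorphic to the dihedral group of order 8, then the group has order 168 or 360. -/
theorem result {G : Type*} [Group G] [Finite G] (hperf : commutator G = ⊤) (t : G) (ht : orderOf t = 2) (e : Subgroup.centralizer ({t} : Set G) ≃* DihedralGroup 4) : Nat.card G = 168 ∨ Nat.card G = 360 := by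
  obtain ⟨a, x, hD⟩ := exists_ddata e
  have hC : IsPGroup 2 (Subgroup.centralizer ({t} : Set G)) :=
    IsPGroup.of_card (n := 3) (by rw [hD.card]; rfl)
  have htC : t ∈ Subgroup.centralizer ({t} : Set G) := Subgroup.mem_centralizer_singleton_iff.2 rfl
  obtain ⟨P, hP⟩ := hC.exists_le_sylow
  have hne : (P : Subgroup G) ≠ ⊥ := fun h0 =>
    H6.ne_one_of_orderOf_two ht (by simpa [h0] using hP htC)
  have ha2 : a * a ≠ 1 := fun h => by
    have := Nat.le_of_dvd two_pos (orderOf_dvd_of_pow_eq_one ((pow_two a).trans h))
    rw [hD.ord] at this; omega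
  have hcen : ∀ z ∈ Subgroup.centralizer ({t} : Set G), a * z = z * a → z ∈ Subgroup.zpowers a := by
    intro z hz hc
    by_contra hza
    have := hD.conj_of_nmem hz hza (Subgroup.mem_zpowers a)
    rw [← hc, mul_inv_cancel_right] at this
    exact ha2 (by nth_rw 1 [this]; simp)
  obtain ⟨z, -, hz, hzc⟩ := H6.exists_central_involution P.2 hne
  have hzt : z = t := H6.eq_of_isCyclic_of_orderOf_two (S := Subgroup.zpowers a) inferInstance
    (hcen z (Subgroup.mem_centralizer_singleton_iff.2 (hzc t (hP htC)).symm) (hzc a (hP hD.a_mem)))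
    (hcen t htC (Subgroup.mem_centralizer_singleton_iff.1 hD.a_mem)) hz ht
  subst hzt
  have hPC : (P : Subgroup G) = Subgroup.centralizer {z} :=
    le_antisymm (fun p hp => Subgroup.mem_centralizer_singleton_iff.2 (hzc p hp)) hP
  have hO : ⊥ = oddPart (Subgroup.centralizer ({z} : Set G)) := by
    rw [oddPart_eq, H3.pResidual_eq_bot_iff.2 hC, Subgroup.map_bot]
  obtain ⟨K, s, h⟩ := exists_bswHyp P (n := 4) (by norm_num) ((MulEquiv.subgroupCongr hPC).trans e)
    (fun H hH => by
      have := Subgroup.normal_of_index_eq_two hH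
      have : IsCyclic (G ⧸ H) := isCyclic_of_prime_card (p := 2) hH
      have h1 : commutator G ≤ H := Subgroup.Normal.quotient_commutative_iff_commutator_le.1
        inferInstance
      rw [hperf, top_le_iff] at h1
      simp [h1] at hH) hz (hP htC) hzc hO (fun h => absurd rfl h) (by simp)
    (fun y hy h1 => absurd hy h1)
  have h1 := h.card_cent
  rw [hD.card] at h1
  have hk : Nat.card K = 4 := by omega
  have h2 := h.card_G
  rcases h.index_eq (by omega) with h3 | h3 <;> rw [h3, hk] at h2 <;> simp [h2]

end Cfsg.Agent.S0848
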