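import Cfsg.Statements.S0204
import Mathlib
import Cfsg.Agent.H17.ZStar
import Cfsg.Agent.S0205

set_option autoImplicit false
open Cfsg

namespace Cfsg.Agent.S0204

/-- A non-cyclic finite simple group contains a subgroup which is a Klein four-group; this combines the Odd Order Theorem, Burnside's transfer argument for cyclic Sylow 2-subgroups and the Brauer–Suzuki Theorem. -/
theorem result {G : Type*} [Group G] [Finite G] [IsSimpleGroup G] (hG : ¬ IsCyclic G) : ∃ E : Subgroup G, IsKleinFour E := by
  open H4 H17 in
  by_contra h
  push Not at h
  apply hG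
  rcases Nat.even_or_odd (Nat.card G) with he | ho
  · obtain ⟨z, hz⟩ := exists_prime_orderOf_dvd_card' (G := G) 2 he.two_dvd
    have hO : pPrimeCore 2 G = ⊥ := (IsSimpleGroup.eq_bot_or_eq_top_of_normal _
      inferInstance).resolve_right fun e => by
        have h1 := odd_card_pPrimeCore (G := G)
        rw [e, Subgroup.card_top] at h1
        exact Nat.not_odd_iff_even.mpr he h1
    have h1 := (IsSimpleGroup.eq_bot_or_eq_top_of_normal _ (normal_zpowers_of_central
      ((ui_of_no_klein h).central hO hz))).resolve_left (by
        simpa using H22.ne_one_of_orderOf_two hz)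
    exact ⟨z, fun g => show g ∈ Subgroup.zpowers z from h1 ▸ Subgroup.mem_top g⟩
  · have := Cfsg.Agent.S0205.result ho
    have h1 := IsSimpleGroup.comm_iff_isSolvable.mpr this
    let : CommGroup G := { (inferInstance : Group G) with mul_comm := h1 }
    exact IsSimpleGroup.isCyclic

end Cfsg.Agent.S0204
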