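import Cfsg.Statements.S0281
import Mathlib
import Cfsg.Agent.H7.QuadClass

set_option autoImplicit false
open Cfsg

namespace Cfsg.Agent.S0281

/-- SU_2(q) is isomorphic to SL_2(q). -/
theorem result {F K : Type*} [Field F] [Fintype F] [Field K] [Fintype K] {q : ℕ} (hF : Fintype.card F = q ^ 2) (hK : Fintype.card K = q) : Nonempty (Cfsg.SU 2 F q ≃* Matrix.SpecialLinearGroup (Fin 2) K) := by
  open H15 H7 in
  obtain ⟨ι⟩ := nonempty_ringHom_of_card_sq hK hF
  let _ : Algebra K F := ι.toAlgebra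
  have hι : ∀ x, H15.frob hF (ι x) = ι x := H7.frob_algebraMap hK hF
  let Φ := H15.unForm hF 2
  have hΦ : Φ.Nondeg := H15.unForm_nondeg hF 2
  have hH : Φ.IsHerm := H15.unForm_isHerm hF 2
  obtain ⟨e, f, H⟩ := H7.herm_exists_hypPair hΦ hH (by simp)
  obtain ⟨θ, hθ0, hθ⟩ := H15.exists_trace_zero _ hH.1 Φ.invol
  have hθ' : H15.frob hF θ = -θ := by linear_combination hθ
  have hfe : Φ.B f e = 1 := by rw [H.fe, hH.2.1]
  have hli : LinearIndependent F ![e, θ • f] := by
    rw [LinearIndependent.pair_iff]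
    intro s t hst
    have h1 := congrArg (Φ.B e) hst
    have h2 := congrArg (Φ.B f) hst
    simp [H.ee, H.ef, H.ff, hfe, hθ0] at h1 h2
    exact ⟨h2, h1⟩
  let b := basisOfLinearIndependentOfCardEqFinrank hli (by simp)
  have hb0 : b 0 = e := by simp [b]
  have hb1 : b 1 = θ • f := by simp [b]
  have hT : ∀ (A : Matrix (Fin 2) (Fin 2) F) j, Matrix.toLin b b A (b j) =
      A 0 j • e + A 1 j • θ • f := fun A j => by
    rw [Matrix.toLin_self, Fin.sum_univ_two, hb0, hb1]
  have hiso : ∀ g : Matrix.SpecialLinearGroup (Fin 2) K, ∀ x y,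
      Φ.B (Matrix.toLin b b (g.1.map ι) x) (Matrix.toLin b b (g.1.map ι) y) = Φ.B x y := by
    intro g x y
    have hd := congrArg ι g.det_coe
    rw [Matrix.det_fin_two, map_sub, map_mul, map_mul, map_one] at hd
    refine Φ.B_map_of_span Φ _ b (fun i j => ?_) x (by rw [b.span_eq]; trivial) y
      (by rw [b.span_eq]; trivial)
    rw [hT, hT]
    fin_cases i <;> fin_cases j <;>
      simp [hb0, hb1, H.ee, H.ef, H.ff, hfe, hι, hθ'] <;>
      first | ring1 | linear_combination θ * hd | linear_combination (-θ) * hd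
  let ρ : Matrix.SpecialLinearGroup (Fin 2) K →* Φ.det.ker := MonoidHom.mk' (fun g =>
    ⟨Φ.mkIsom hΦ (Matrix.toLin b b (g.1.map ι)) (hiso g) fun _ => rfl, by
      rw [MonoidHom.mem_ker, Units.ext_iff, H15.Form.coe_det]
      change LinearMap.det (Matrix.toLin b b (g.1.map ι)) = _
      rw [LinearMap.det_toLin, ← RingHom.mapMatrix_apply, ← RingHom.map_det, g.det_coe, map_one]
      rfl⟩) fun g h => Subtype.ext (H15.Form.Isom.ext fun x => by
        change Matrix.toLin b b ((g.1 * h.1).map ι) x =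
          Matrix.toLin b b (g.1.map ι) (Matrix.toLin b b (h.1.map ι) x)
        rw [Matrix.map_mul, Matrix.toLin_mul b b b]; rfl)
  have hρ : Function.Injective ρ := by
    intro g h hgh
    have h1 : Matrix.toLin b b (g.1.map ι) = Matrix.toLin b b (h.1.map ι) :=
      LinearMap.ext fun x => congrArg (fun k : Φ.det.ker => k.1.1 x) hgh
    exact Subtype.ext (Matrix.map_injective ι.injective ((Matrix.toLin b b).injective h1))
  have hc : Nat.card (Matrix.SpecialLinearGroup (Fin 2) K) = Nat.card (Cfsg.SU 2 F q) := by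
    have h1 := H7.card_su hF 2 (by omega)
    have h2 := H7.card_sl_two hK
    simp only [Finset.prod_range_succ, Finset.range_zero, Finset.prod_empty] at h1
    apply Nat.eq_of_mul_eq_mul_left (show 0 < q + 1 by omega)
    rw [h1, h2]
    simp
    ring
  have : Finite (Cfsg.SU 2 F q) := inferInstance
  refine ⟨(MulEquiv.ofBijective ((H15.suEquiv hF 2).symm.toMonoidHom.comp ρ) ?_).symm⟩
  rw [Nat.bijective_iff_injective_and_card]
  exact ⟨(H15.suEquiv hF 2).symm.injective.comp hρ, hc⟩

end Cfsg.Agent.S0281
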