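import Mathlib
import Cfsg.Statements.S1163
import Cfsg.Agent.H8.SzLie

set_option autoImplicit false
open Cfsg

namespace Cfsg.Agent.S1163

/-- For the Suzuki group Sz(q), q = 2^(2m+1) ≥ 8, realised as the elements g of Sp₄(F) with g* = g^θ (θ the 2^(m+1)-th power map, so that θ² is squaring): `|Sz(q)| = q² (q - 1) (q² + 1)`, and there is a Sylow 2-subgroup `S` whose normaliser `H` has order `q²(q-1)` and index `q² + 1`, the action of `Sz(q)` on the cosets of `H` is doubly transitive, and `S` acts regularly on the cosets other than `H` itself. -/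
theorem result {F : Type*} [Field F] [Fintype F] {m : ℕ} (hm : 1 ≤ m) (hF : Fintype.card F = 2 ^ (2 * m + 1)) :
    Nat.card ↥(Cfsg.Lie.Sz F (2 ^ (m + 1))) = (2 ^ (2 * m + 1)) ^ 2 * (2 ^ (2 * m + 1) - 1) * ((2 ^ (2 * m + 1)) ^ 2 + 1) ∧
    ∃ S : Sylow 2 ↥(Cfsg.Lie.Sz F (2 ^ (m + 1))),
      Nat.card (Subgroup.normalizer ((S : Subgroup ↥(Cfsg.Lie.Sz F (2 ^ (m + 1)))) : Set ↥(Cfsg.Lie.Sz F (2 ^ (m + 1))))) = (2 ^ (2 * m + 1)) ^ 2 * (2 ^ (2 * m + 1) - 1) ∧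
      (Subgroup.normalizer ((S : Subgroup ↥(Cfsg.Lie.Sz F (2 ^ (m + 1)))) : Set ↥(Cfsg.Lie.Sz F (2 ^ (m + 1))))).index = (2 ^ (2 * m + 1)) ^ 2 + 1 ∧
      MulAction.IsMultiplyPretransitive ↥(Cfsg.Lie.Sz F (2 ^ (m + 1))) (↥(Cfsg.Lie.Sz F (2 ^ (m + 1))) ⧸ Subgroup.normalizer ((S : Subgroup ↥(Cfsg.Lie.Sz F (2 ^ (m + 1)))) : Set ↥(Cfsg.Lie.Sz F (2 ^ (m + 1))))) 2 ∧
      ∀ x y : ↥(Cfsg.Lie.Sz F (2 ^ (m + 1))) ⧸ Subgroup.normalizer ((S : Subgroup ↥(Cfsg.Lie.Sz F (2 ^ (m + 1)))) : Set ↥(Cfsg.Lie.Sz F (2 ^ (m + 1)))),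
        x ≠ (QuotientGroup.mk 1) → y ≠ (QuotientGroup.mk 1) → ∃! s : ↥(S : Subgroup ↥(Cfsg.Lie.Sz F (2 ^ (m + 1)))), (s : ↥(Cfsg.Lie.Sz F (2 ^ (m + 1)))) • x = y := by
  obtain ⟨T⟩ := H8.Sz.nonempty_ctx hm hF
  rw [← Nat.card_eq_fintype_card] at hF
  let e := T.lieEquiv
  have hfin : Finite ↥(Cfsg.Lie.Sz F (2 ^ (m + 1))) := Finite.of_equiv _ e.toEquiv
  let S : Sylow 2 ↥(Cfsg.Lie.Sz F (2 ^ (m + 1))) :=
    T.sylowU.mapSurjective (f := e.toMonoidHom) e.surjective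
  have hS : (S : Subgroup ↥(Cfsg.Lie.Sz F (2 ^ (m + 1)))) = T.U.map e.toMonoidHom := rfl
  have hN : Subgroup.normalizer ((S : Subgroup ↥(Cfsg.Lie.Sz F (2 ^ (m + 1)))) :
      Set ↥(Cfsg.Lie.Sz F (2 ^ (m + 1)))) = (H8.Sz.B F m).map e.toMonoidHom := by
    rw [hS, ← T.normalizer_U]
    exact (Subgroup.map_equiv_normalizer_eq T.U e).symm
  refine ⟨?_, S, ?_⟩
  · rw [← Nat.card_congr e.toEquiv, T.card_Sz, hF]
    ring
  rw [hN]
  have key : ∀ a b : Cfsg.Sz F m, (QuotientGroup.mk (e a) :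
      ↥(Cfsg.Lie.Sz F (2 ^ (m + 1))) ⧸ (H8.Sz.B F m).map e.toMonoidHom) =
      QuotientGroup.mk (e b) ↔ a • H8.Sz.inf F = b • H8.Sz.inf F := by
    intro a b
    rw [QuotientGroup.eq, ← map_inv, ← map_mul]
    refine (Subgroup.mem_map_iff_mem (f := e.toMonoidHom) e.injective).trans ?_
    rw [MulAction.mem_stabilizer_iff, mul_smul, inv_smul_eq_iff, eq_comm]
  have hsm : ∀ g a : Cfsg.Sz F m, e g • (QuotientGroup.mk (e a) :
      ↥(Cfsg.Lie.Sz F (2 ^ (m + 1))) ⧸ (H8.Sz.B F m).map e.toMonoidHom) =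
      QuotientGroup.mk (e (g * a)) := by
    intro g a
    rw [map_mul]
    rfl
  refine ⟨?_, ?_, ?_, ?_⟩
  · rw [Subgroup.card_map_of_injective e.injective, T.card_B, hF]
  · rw [← hF, ← T.index_B]
    exact Subgroup.index_map_equiv _ e
  · rw [MulAction.is_two_pretransitive_iff]
    intro a b c d hab hcd
    obtain ⟨a, rfl⟩ := QuotientGroup.mk_surjective a
    obtain ⟨b, rfl⟩ := QuotientGroup.mk_surjective b
    obtain ⟨c, rfl⟩ := QuotientGroup.mk_surjective c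
    obtain ⟨d, rfl⟩ := QuotientGroup.mk_surjective d
    obtain ⟨a, rfl⟩ := e.surjective a
    obtain ⟨b, rfl⟩ := e.surjective b
    obtain ⟨c, rfl⟩ := e.surjective c
    obtain ⟨d, rfl⟩ := e.surjective d
    rw [Ne, key] at hab hcd
    obtain ⟨g, h1, h2⟩ := T.exists_smul_pair (H8.Sz.smul_mem a T.inf_mem)
      (H8.Sz.smul_mem b T.inf_mem) hab
    obtain ⟨g', h1', h2'⟩ := T.exists_smul_pair (H8.Sz.smul_mem c T.inf_mem)
      (H8.Sz.smul_mem d T.inf_mem) hcd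
    refine ⟨e (g' * g⁻¹), ?_, ?_⟩
    · rw [hsm, key, mul_smul, ← h1, ← h1', mul_smul, inv_smul_smul]
    · rw [hsm, key, mul_smul, ← h2, ← h2', mul_smul, inv_smul_smul]
  · intro x y hx hy
    obtain ⟨x, rfl⟩ := QuotientGroup.mk_surjective x
    obtain ⟨y, rfl⟩ := QuotientGroup.mk_surjective y
    obtain ⟨x, rfl⟩ := e.surjective x
    obtain ⟨y, rfl⟩ := e.surjective y
    rw [← map_one e, Ne, key, one_smul] at hx hy
    obtain ⟨a, b, h1⟩ :=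
      ((T.mem_ovoid_iff _).mp (H8.Sz.smul_mem x T.inf_mem)).resolve_left hx
    obtain ⟨c, d, h2⟩ :=
      ((T.mem_ovoid_iff _).mp (H8.Sz.smul_mem y T.inf_mem)).resolve_left hy
    have hu : T.u c d * (T.u a b)⁻¹ ∈ T.U :=
      T.U.mul_mem (T.u_mem_U _ _) (T.U.inv_mem (T.u_mem_U _ _))
    have h3 : (T.u c d * (T.u a b)⁻¹) • T.pt a b = T.pt c d := by
      rw [mul_smul, ← T.u_pt_zero a b, inv_smul_smul, T.u_pt_zero]
    refine ⟨⟨e (T.u c d * (T.u a b)⁻¹), _, hu, rfl⟩, ?_, ?_⟩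
    · show e _ • _ = _
      rw [hsm, key, mul_smul, h1, h2, h3]
    · rintro ⟨_, s, hs, rfl⟩ h
      change e s • _ = _ at h
      rw [hsm, key, mul_smul, h1, h2] at h
      apply Subtype.ext
      show e s = e _
      congr 1
      by_contra hne
      apply T.pt_ne_inf a b
      apply T.eq_inf_of_U (T.U.mul_mem (T.U.inv_mem hu) hs) (fun h => hne (inv_mul_eq_one.mp h).symm)
        (T.pt_mem a b)
      rw [mul_smul, h, inv_smul_eq_iff, h3]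

end Cfsg.Agent.S1163
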