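import Cfsg.Statements.S1314
import Mathlib
import Cfsg.Agent.H23.Components

set_option autoImplicit false
open Cfsg
open scoped commutatorElement

namespace Cfsg.Agent.S1314

/-- Let x be an involution of a group G and L a perfect subgroup with ⁅L, x L x⁻¹⁆ = 1. Then l ↦ l (x l x⁻¹) is a group homomorphism π from L to G whose kernel is central in L and whose image lies in C_G(x); and the commutator subgroup of C_{L ⊔ xLx⁻¹}(x) equals the image of π. -/
theorem result {G : Type*} [Group G] [Finite G] (x : G) (hx : orderOf x = 2) (L : Subgroup G) (hperf : ⁅L, L⁆ = L) (hcomm : ⁅L, L.map (MulAut.conj x).toMonoidHom⁆ = ⊥) : ∃ π : ↥L →* G, (∀ l : ↥L, π l = (l : G) * (x * (l : G) * x⁻¹)) ∧ π.ker ≤ Subgroup.center ↥L ∧ π.range ≤ Subgroup.centralizer ({x} : Set G) ∧ ⁅(L ⊔ L.map (MulAut.conj x).toMonoidHom) ⊓ Subgroup.centralizer ({x} : Set G), (L ⊔ L.map (MulAut.conj x).toMonoidHom) ⊓ Subgroup.centralizer ({x} : Set G)⁆ = π.range := by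
  have hx2 : x * x = 1 := by rw [← pow_two, ← hx]; exact pow_orderOf_eq_one x
  have hxi : x⁻¹ = x := inv_eq_of_mul_eq_one_right hx2
  set M := L.map (MulAut.conj x).toMonoidHom with hM
  have hc : ∀ a ∈ L, ∀ b ∈ L, a * (x * b * x⁻¹) = (x * b * x⁻¹) * a := fun a ha b hb =>
    H23.comm_bot_iff.mp hcomm a ha _ ⟨b, hb, rfl⟩
  have hxx : ∀ a : G, x * (x * a * x⁻¹) * x⁻¹ = a := fun a => by
    calc x * (x * a * x⁻¹) * x⁻¹ = (x * x) * a * (x * x)⁻¹ := by group
      _ = a := by rw [hx2]; simp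
  let π : ↥L →* G :=
    { toFun := fun l => (l : G) * (x * (l : G) * x⁻¹)
      map_one' := by simp
      map_mul' := fun a b => by
        simp only [Subgroup.coe_mul]
        calc (a : G) * b * (x * (a * b) * x⁻¹) = a * (b * (x * a * x⁻¹)) * (x * b * x⁻¹) := by group
          _ = a * ((x * a * x⁻¹) * b) * (x * b * x⁻¹) := by rw [hc _ b.2 _ a.2]
          _ = _ := by group }
  have hπ : ∀ l : ↥L, π l = (l : G) * (x * (l : G) * x⁻¹) := fun _ => rfl
  have hrange : π.range ≤ Subgroup.centralizer ({x} : Set G) := by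
    rintro _ ⟨l, rfl⟩
    rw [Subgroup.mem_centralizer_singleton_iff, hπ]
    have h1 := hc _ l.2 _ l.2
    calc (l : G) * (x * l * x⁻¹) * x = (x * l * x⁻¹) * l * x := by rw [h1]
      _ = x * (l * (x⁻¹ * l * x⁻¹⁻¹)) := by group
      _ = x * (l * (x * l * x⁻¹)) := by rw [hxi, hxi]
  have hrange' : π.range ≤ L ⊔ M := by
    rintro _ ⟨l, rfl⟩
    exact Subgroup.mul_mem_sup l.2 ⟨l, l.2, rfl⟩
  have hperf' : ⁅π.range, π.range⁆ = π.range := by
    have : Group.IsPerfect L := Subgroup.isPerfect_iff.mpr hperf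
    exact Subgroup.isPerfect_iff.mp (Group.IsPerfect.range π)
  refine ⟨π, hπ, ?_, hrange, le_antisymm ?_ ?_⟩
  · intro l hl
    have h1 : (l : G) = x * (l⁻¹ : ↥L) * x⁻¹ := by
      have : (l : G) * (x * (l : G) * x⁻¹) = 1 := hl
      rw [mul_eq_one_iff_eq_inv] at this
      rw [Subgroup.coe_inv]
      calc (l : G) = (x * (l : G) * x⁻¹)⁻¹ := this
        _ = _ := by group
    refine Subgroup.mem_center_iff.mpr fun g => Subtype.ext ?_
    simp only [Subgroup.coe_mul]
    rw [h1]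
    exact hc _ g.2 _ (l⁻¹).2
  · have key : ∀ d ∈ (L ⊔ M) ⊓ Subgroup.centralizer ({x} : Set G),
        ∃ a ∈ π.range, ∃ c ∈ Subgroup.centralizer ((L ⊔ M : Subgroup G) : Set G), d = a * c := by
      rintro d ⟨hd, hdx⟩
      obtain ⟨a, ha, _, ⟨b, hb, rfl⟩, rfl⟩ := H23.mem_sup_of_le_normalizer_right
        (H23.le_normalizer_of_comm_bot hcomm) hd
      have hab : a⁻¹ * b ∈ L := L.mul_mem (L.inv_mem ha) hb
      have e : a * (MulAut.conj x).toMonoidHom b = π ⟨a, ha⟩ * (x * (a⁻¹ * b) * x⁻¹) := by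
        rw [hπ]; simp only [MulEquiv.toMonoidHom_eq_coe, MonoidHom.coe_coe, MulAut.conj_apply]; group
      refine ⟨π ⟨a, ha⟩, ⟨_, rfl⟩, x * (a⁻¹ * b) * x⁻¹, ?_, e⟩
      have h1 : x * (a⁻¹ * b) * x⁻¹ ∈ Subgroup.centralizer ({x} : Set G) := by
        rw [e] at hdx
        exact (Subgroup.mul_mem_cancel_left _ (hrange ⟨_, rfl⟩)).mp hdx
      have h2 : x * (a⁻¹ * b) * x⁻¹ = a⁻¹ * b := by
        rw [Subgroup.mem_centralizer_singleton_iff] at h1
        calc x * (a⁻¹ * b) * x⁻¹ = x * (x * (a⁻¹ * b) * x⁻¹) * x⁻¹ := by rw [← h1]; group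
          _ = _ := hxx _
      have h3 : Subgroup.zpowers (a⁻¹ * b) ≤ L := by simpa using hab
      have h4 : Subgroup.zpowers (a⁻¹ * b) ≤ M := by
        rw [Subgroup.zpowers_le]; exact ⟨_, hab, h2⟩
      have := H23.le_centralizer_of_comm_bot (H23.comm_bot_symm (H23.comm_sup_bot
        (H23.comm_bot_mono hcomm le_rfl h4) (H23.comm_bot_symm (H23.comm_bot_mono hcomm h3 le_rfl))))
      rw [h2]
      exact this (Subgroup.mem_zpowers _)
    rw [Subgroup.commutator_le]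
    intro d hd d' hd'
    obtain ⟨a, ha, c, hc1, rfl⟩ := key d hd
    obtain ⟨a', ha', c', hc2, rfl⟩ := key d' hd'
    have e : ⁅a * c, a' * c'⁆ = ⁅a, a'⁆ := by
      have h1 : a' * c' * c = c * (a' * c') := hc1 _ hd'.1
      have h2 : a * c' = c' * a := hc2 _ (hrange' ha)
      simp only [commutatorElement_def, mul_inv_rev]
      calc a * c * (a' * c') * (c⁻¹ * a⁻¹) * (c'⁻¹ * a'⁻¹)
          = a * (c * (a' * c')) * c⁻¹ * (c' * a)⁻¹ * a'⁻¹ := by group
        _ = a * (a' * c' * c) * c⁻¹ * (a * c')⁻¹ * a'⁻¹ := by rw [h1, h2]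
        _ = a * a' * a⁻¹ * a'⁻¹ := by group
    rw [e, ← hperf']
    exact Subgroup.commutator_mem_commutator ha ha'
  · conv_lhs => rw [← hperf']
    exact Subgroup.commutator_mono (le_inf hrange' hrange) (le_inf hrange' hrange)

end Cfsg.Agent.S1314
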