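import Cfsg.Statements.S0343
import Mathlib
import Cfsg.Agent.H27.JTG
import Cfsg.Agent.H27.JTEven
import Cfsg.Agent.H16.PSL2Small
import Cfsg.Agent.S0448

set_option autoImplicit false
open Cfsg

namespace Cfsg.Agent.S0343

/-- If a finite simple group has abelian Sylow `2`-subgroups and an involution whose centraliser is isomorphic to
`Z₂ × PSL₂(F)` with `|F| = q ≥ 3`, then either `q = 3^(2m+1)` with `m ≥ 1` and the group has the small-Ree order
`q³(q³+1)(q-1)`, or `q = 4` or `q = 5` and the group is simple of the order of the smallest Janko group. -/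
theorem result {G : Type*} [Group G] [Finite G]
    [IsSimpleGroup G] (hab : ∀ P : Sylow 2 G, ∀ a b : P, a * b = b * a)
    {F : Type*} [Field F] [Fintype F] (hq : 3 ≤ Fintype.card F) (t : G) (ht : orderOf t = 2)
    (hC : Nonempty (Subgroup.centralizer ({t} : Set G) ≃* Multiplicative (ZMod 2) × Matrix.ProjectiveSpecialLinearGroup (Fin 2) F)) :
    (∃ m : ℕ, 1 ≤ m ∧ Fintype.card F = 3 ^ (2 * m + 1) ∧
        Nat.card G = (3 ^ (2 * m + 1)) ^ 3 * ((3 ^ (2 * m + 1)) ^ 3 + 1) * (3 ^ (2 * m + 1) - 1)) ∨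
      ((Fintype.card F = 4 ∨ Fintype.card F = 5) ∧ Cfsg.IsJ1 G) := by
  open H27.JT in
  obtain ⟨e⟩ := hC
  have hJ : Fintype.card F = 4 ∨ Fintype.card F = 5 → Cfsg.IsJ1 G := by
    intro h
    obtain ⟨f⟩ := h.elim H16.psl2_four H16.psl2_five
    obtain ⟨P, hP⟩ := (H17.PElt.of_two ht).isPGroup_zpowers.exists_le_sylow
    have htP : t ∈ P := hP (Subgroup.mem_zpowers t)
    exact Cfsg.Agent.S0448.result t
      ⟨ht, P, htP, fun x hx => congrArg Subtype.val (hab P ⟨x, hx⟩ ⟨t, htP⟩)⟩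
      (e.trans (MulEquiv.prodCongr (MulEquiv.refl _) f))
  rcases Nat.even_or_odd (Fintype.card F) with he | ho
  · have h4 := even_case hab hq he t ht ⟨e⟩
    exact Or.inr ⟨Or.inl h4, hJ (Or.inl h4)⟩
  · obtain ⟨P⟩ : Nonempty (Sylow 2 G) := inferInstance
    obtain ⟨p, a, b, ε, hL, hSt⟩ := psl2_LH rfl ho fun x y hx hy hxy => by
      have c := H17.commute_of_abelian_sylow P
        (fun a ha b hb => congrArg Subtype.val (hab P ⟨a, ha⟩ ⟨b, hb⟩))
        (a := emb e y) (b := emb e x)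
        ((H17.PElt.iff_pow.mpr ⟨1, by rw [pow_one, pow_two, hy]⟩).map _)
        ((H17.PElt.iff_pow.mpr hx).map _) (by
          rw [← map_inv, ← map_mul, ← map_mul, hxy, map_inv]
          exact inv_mem (Subgroup.mem_zpowers _))
      have c' : y * x = x * y := emb_inj e (by rw [map_mul, map_mul]; exact c)
      rw [c', mul_inv_cancel_right] at hxy
      exact mul_eq_one_iff_eq_inv.mpr hxy
    rcases odd_case hab ht e hL hSt with h5 | ⟨m, hm, h1, h2⟩
    · exact Or.inr ⟨Or.inr h5, hJ (Or.inr h5)⟩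
    · exact Or.inl ⟨m, hm, h1, h1 ▸ h2⟩

end Cfsg.Agent.S0343
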