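import Cfsg.Statements.S0942
import Mathlib
import Cfsg.Agent.H17.Cover

set_option autoImplicit false
open Cfsg

namespace Cfsg.Agent.S0942

/-- Let u be a p-element of the finite group G, let v lie in the largest normal subgroup of C_G(u) of order prime to p, and let χ belong to the principal block (relative to a maximal ideal M of the algebraic integers containing p). Then χ (u * v) = χ u. -/
theorem result {G : Type*} [Group G] [Finite G] (p : ℕ) [Fact p.Prime] (M : Ideal Cfsg.AlgInt) (hM : Cfsg.IsPModular p M) (u : G) (hu : ∃ k : ℕ, orderOf u = p ^ k) (v : G) (hv : v ∈ Cfsg.centralizerPPrimeCore p u) (χ : Cfsg.IrrCharacter G) (hχ : χ ∈ Cfsg.principalBlock M G) : (χ : G → ℂ) (u * v) = (χ : G → ℂ) u := by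
  open H4 H17 in
  have : PM p M := ⟨hM⟩
  obtain ⟨v, hv, rfl⟩ := hv
  have := Fintype.ofFinite (Subgroup.centralizer ({u} : Set G))
  have h1 := irr_eq_blockPart_principal (M := M) (h := selfC u * v) (pp_mul hu
    (by rw [Subgroup.orderOf_coe]; exact reg_of_mem (H2.not_dvd_card_pPrimeCore p _) hv)
    (H17.mem_centralizer_singleton.mp v.2).symm) hχ
  have h2 := irr_eq_blockPart_principal (M := M) (h := selfC u) (pp_of_pElt hu) hχ
  refine h1.trans (Eq.trans ?_ h2.symm)
  rw [blockPart_apply, blockPart_apply]
  refine Finset.sum_congr rfl fun ξ _ => ?_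
  by_cases h : ξ ∈ principalBlock M _
  · rw [SB.pPrimeCore_mul h hv]
  · rw [ind_of_notMem h, zero_mul, zero_mul]

end Cfsg.Agent.S0942
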