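import Cfsg.Statements.S0054
import Mathlib
import Cfsg.Agent.H2.MinNormal

set_option autoImplicit false
open Cfsg

namespace Cfsg.Agent.S0054

/-- A regular normal subgroup of a finite 2-transitive group is elementary abelian: it is commutative and all its elements have order dividing one prime. -/
theorem result {G : Type*} [Group G] [Finite G]
    {X : Type*} [Nonempty X] [MulAction G X] (h2 : MulAction.IsMultiplyPretransitive G X 2)
    (N : Subgroup G) [N.Normal] (htrans : MulAction.IsPretransitive N X) (hreg : ∀ x : X, MulAction.stabilizer N x = ⊥) :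
    IsMulCommutative N ∧ ∃ p : ℕ, p.Prime ∧ ∀ n ∈ N, n ^ p = 1 := by
  by_cases hN : N = ⊥
  · subst hN
    exact ⟨inferInstance, 2, Nat.prime_two, fun n hn => by simp [Subgroup.mem_bot.mp hn]⟩
  obtain ⟨x⟩ := ‹Nonempty X›
  have hreg2 : ∀ n ∈ N, n • x = x → n = 1 := by
    intro n hn h
    have : (⟨n, hn⟩ : N) ∈ MulAction.stabilizer N x := h
    rw [hreg x, Subgroup.mem_bot] at this
    exact congrArg Subtype.val this
  have hconj : ∀ n ∈ N, n ≠ 1 → ∀ m ∈ N, m ≠ 1 → ∃ g : G, g * n * g⁻¹ = m := by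
    intro n hn hn1 m hm hm1
    obtain ⟨g, hg1, hg2⟩ : ∃ g : G, g • x = x ∧ g • n • x = m • x :=
      MulAction.is_two_pretransitive_iff.mp h2
      (fun e => hn1 (hreg2 n hn e.symm)) (fun e => hm1 (hreg2 m hm e.symm))
    refine ⟨g, ?_⟩
    have := hreg2 (m⁻¹ * (g * n * g⁻¹)) (N.mul_mem (N.inv_mem hm) (‹N.Normal›.conj_mem n hn g)) (by
      rw [mul_smul, mul_smul, mul_smul, inv_smul_eq_iff.mpr hg1.symm, hg2, inv_smul_smul])
    exact (inv_mul_eq_one.mp this).symm
  obtain ⟨z, hz, hp⟩ := H2.exists_mem_prime_orderOf hN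
  have hz1 : z ≠ 1 := fun e => by simp [e] at hp; exact Nat.not_prime_one hp
  have hpow : ∀ n ∈ N, n ^ orderOf z = 1 := by
    intro n hn
    by_cases hn1 : n = 1
    · simp [hn1]
    obtain ⟨g, rfl⟩ := hconj z hz hz1 n hn hn1
    rw [conj_pow, pow_orderOf_eq_one]; simp
  refine ⟨?_, _, hp, hpow⟩
  have : Fact (orderOf z).Prime := ⟨hp⟩
  have hP := H2.isPGroup_of_forall_pow_eq_one hpow
  obtain ⟨⟨c, hc⟩, hc1⟩ := Subgroup.ne_bot_iff_exists_ne_one.mp
    (H2.inf_centralizer_ne_bot_of_isPGroup hP hP Subgroup.le_normalizer hN)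
  rw [← Subgroup.le_centralizer_iff_isMulCommutative]
  intro n hn
  by_cases hn1 : n = 1
  · simp [hn1]
  obtain ⟨g, rfl⟩ := hconj c hc.1 (by simpa using hc1) n hn hn1
  exact (inferInstance : (Subgroup.centralizer (N : Set G)).Normal).conj_mem c hc.2 g

end Cfsg.Agent.S0054
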