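import Cfsg.Statements.S1068
import Mathlib
import Cfsg.Agent.H20.TwF4

set_option autoImplicit false
open Cfsg

namespace Cfsg.Agent.S1068

/-- `|²F₄(q)| = q¹² (q - 1)(q³ + 1)(q⁴ - 1)(q⁶ + 1)` for `q = 2^(2m+1)` (θ = 2^m-th power map), every `m ≥ 0`. -/
theorem result {K : Type*} [Field K] [Fintype K] {m : ℕ} (hK : Fintype.card K = 2 ^ (2 * m + 1)) :
    Nat.card ↥(Cfsg.Lie.twistedF4 K (2 ^ m)) =
      (2 ^ (2 * m + 1)) ^ 12 * (2 ^ (2 * m + 1) - 1) * ((2 ^ (2 * m + 1)) ^ 3 + 1) * ((2 ^ (2 * m + 1)) ^ 4 - 1) * ((2 ^ (2 * m + 1)) ^ 6 + 1) := by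
  obtain ⟨T, hJ, h1, h2, -⟩ := H20.F4.main hK
  have h3 := T.card_eq_poin h1
  have h4 := H20.tpoinF4 T hJ √(2 ^ (2 * m + 1))
  have h5 : ∀ k, 1 ≤ (2 ^ (2 * m + 1)) ^ k := fun k => Nat.one_le_pow k _ (by positivity)
  have h6 : √(2 ^ (2 * m + 1)) ^ 2 = ((2 ^ (2 * m + 1) : ℕ) : ℝ) := by rw [Real.sq_sqrt (by positivity)]; simp
  have h7 : 1 ≤ 2 ^ (2 * m + 1) := Nat.one_le_two_pow
  rw [H19.card_pos, show Cfsg.Lie.chevF4.nroots / 2 = 24 from rfl, h2] at h3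
  generalize 2 ^ (2 * m + 1) = q at h3 h5 h6 h7 ⊢
  generalize √(2 ^ (2 * m + 1)) = y at h3 h4 h6
  apply Nat.cast_injective (R := ℝ)
  rw [h3]
  push_cast [h7, h5]
  rw [← h6]
  linear_combination y ^ 24 * h4

end Cfsg.Agent.S1068
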