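import Cfsg.Statements.S1711
import Cfsg.Agent.H9.J4M
-- import your own Cfsg.Agent.* helpers here

set_option autoImplicit false
open Cfsg

namespace Cfsg.Agent.S1711

/-- In the presented fourth Janko group (generators x, y, t), the subgroup generated by the images of x and y is isomorphic to the Mathieu group M₂₄. -/
theorem result : Nonempty ((((Subgroup.closure ({Cfsg.Spor.J4.x, Cfsg.Spor.J4.y} : Set (FreeGroup Cfsg.Spor.J4.Gen))).map (PresentedGroup.mk (Cfsg.Spor.coxRelators Cfsg.Spor.J4.edges ∪ {r | r ∈ Cfsg.Spor.J4.extra})))) ≃* Cfsg.M24) := by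
  erw [H29.PData.map_closure (P := H9.J4.P) H9.J4.coh H9.J4.hg
    (ws := [Cfsg.Spor.J4.x, Cfsg.Spor.J4.y]) (by simp) (e' := H9.J4.P.e) (l := [0, 1])
    (W := fun c => [c]) (by simp) (by decide +kernel)]
  exact H9.J4.iso_N'

end Cfsg.Agent.S1711
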