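import Mathlib
import Cfsg.Statements.S1583
import Cfsg.Agent.H10.Std

set_option autoImplicit false
open Cfsg

namespace Cfsg.Agent.S1583

/-- The Higman–Sims configuration: for two vectors of customary norm 6 with inner product −4, exactly 100 minimal vectors have customary inner products 3 and −3 with them, and the joint stabiliser permutes these transitively. -/
theorem result (v w : ↥Cfsg.leechLattice) (hv : Cfsg.sqNorm (v : Cfsg.GolayPt → ℤ) = 48) (hw : Cfsg.sqNorm (w : Cfsg.GolayPt → ℤ) = 48) (hvw : Cfsg.dotInt (v : Cfsg.GolayPt → ℤ) (w : Cfsg.GolayPt → ℤ) = -32) : {x : ↥Cfsg.leechLattice | Cfsg.sqNorm (x : Cfsg.GolayPt → ℤ) = 32 ∧ Cfsg.dotInt (v : Cfsg.GolayPt → ℤ) (x : Cfsg.GolayPt → ℤ) = 24 ∧ Cfsg.dotInt (w : Cfsg.GolayPt → ℤ) (x : Cfsg.GolayPt → ℤ) = -24}.ncard = 100 ∧ ∀ x ∈ {x : ↥Cfsg.leechLattice | Cfsg.sqNorm (x : Cfsg.GolayPt → ℤ) = 32 ∧ Cfsg.dotInt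 (v : Cfsg.GolayPt → ℤ) (x : Cfsg.GolayPt → ℤ) = 24 ∧ Cfsg.dotInt (w : Cfsg.GolayPt → ℤ) (x : Cfsg.GolayPt → ℤ) = -24}, ∀ x' ∈ {x : ↥Cfsg.leechLattice | Cfsg.sqNorm (x : Cfsg.GolayPt → ℤ) = 32 ∧ Cfsg.dotInt (v : Cfsg.GolayPt → ℤ) (x : Cfsg.GolayPt → ℤ) = 24 ∧ Cfsg.dotInt (w : Cfsg.GolayPt → ℤ) (x : Cfsg.GolayPt → ℤ) = -24}, ∃ g : ↥Cfsg.Co0, g • v = v ∧ g • w = w ∧ g • x = x' := by
  obtain ⟨g, rfl, rfl⟩ := H10.std_HS hv hw hvw
  constructor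
  · rw [← show H10.cntP (fun _ b c => decide (c = 24 ∧ b = 0)) = 100 by decide +kernel,
      ← H10.ncard_P]
    apply H10.ncard_transport g
    intro x
    simp only [Set.mem_ofPred_eq, H10.co_norm, H10.co_dot, H10.dot_w1, decide_eq_true_eq, H10.dV]
    omega
  · intro x hx x' hx'
    obtain ⟨y, rfl⟩ := MulAction.surjective g x
    obtain ⟨y', rfl⟩ := MulAction.surjective g x'
    simp only [Set.mem_ofPred_eq, H10.co_norm, H10.co_dot] at hx hx'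
    obtain ⟨h, h1, h2, h3⟩ := H10.tr_Vw1 y y' hx.1 hx'.1 (by rw [H10.dV, hx.2.1]; norm_num)
      (hx.2.1.trans hx'.2.1.symm) (hx.2.2.trans hx'.2.2.symm)
    exact ⟨_, H10.conj_fix g h1, H10.conj_fix g h2, H10.conj_fix g h3⟩

end Cfsg.Agent.S1583
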