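import Mathlib
import Cfsg.Statements.S1584
import Cfsg.Agent.H10.Std

set_option autoImplicit false
open Cfsg

namespace Cfsg.Agent.S1584

/-- The Higman–Sims group acts with rank 3 and subdegrees 1, 22, 77 on its 100 points, the orbits of a point stabiliser being distinguished by customary inner product 1 with the fixed point. -/
theorem result (v w x : ↥Cfsg.leechLattice) (hv : Cfsg.sqNorm (v : Cfsg.GolayPt → ℤ) = 48) (hw : Cfsg.sqNorm (w : Cfsg.GolayPt → ℤ) = 48) (hvw : Cfsg.dotInt (v : Cfsg.GolayPt → ℤ) (w : Cfsg.GolayPt → ℤ) = -32) (hx : x ∈ {x : ↥Cfsg.leechLattice | Cfsg.sqNorm (x : Cfsg.GolayPt → ℤ) = 32 ∧ Cfsg.dotInt (v : Cfsg.GolayPt → ℤ) (x : Cfsg.GolayPt → ℤ) = 24 ∧ Cfsg.dotInt (w : Cfsg.GolayPt → ℤ) (x : Cfsg.GolayPt → ℤ) = -24}) : {y : ↥Cfsg.leechLattice | y ∈ {x : ↥Cfsg.leechLattice | Cfsg.sqNorm (x : Cfsg.GolayPt → ℤ) = 32 ∧ Cfsg.dotInt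 (v : Cfsg.GolayPt → ℤ) (x : Cfsg.GolayPt → ℤ) = 24 ∧ Cfsg.dotInt (w : Cfsg.GolayPt → ℤ) (x : Cfsg.GolayPt → ℤ) = -24} ∧ Cfsg.dotInt (x : Cfsg.GolayPt → ℤ) (y : Cfsg.GolayPt → ℤ) = 8}.ncard = 22 ∧ {y : ↥Cfsg.leechLattice | y ∈ {x : ↥Cfsg.leechLattice | Cfsg.sqNorm (x : Cfsg.GolayPt → ℤ) = 32 ∧ Cfsg.dotInt (v : Cfsg.GolayPt → ℤ) (x : Cfsg.GolayPt → ℤ) = 24 ∧ Cfsg.dotInt (w : Cfsg.GolayPt → ℤ) (x : Cfsg.GolayPt → ℤ) = -24} ∧ y ≠ x ∧ Cfsg.dotInt (x : Cfsg.GolayPt → ℤ) (y : Cfsg.GolayPt → ℤ) ≠ 8}.ncard = 77 ∧ ∀ y ∈ {x : ↥Cfsg.leechLattice | Cfsg.sqNorm (x : Cfsg.GolayPt → ℤ) = 32 ∧ Cfsg.dotInt (v : Cfsg.GolayPt → ℤ) (x : Cfsg.GolayPt → ℤ) = 24 ∧ Cfsg.dotInt (w : Cfsg.GolayPt → ℤ) (x : Cfsg.GolayPt → ℤ) = -24}, ∀ y' ∈ {x : ↥Cfsg.leechLattice | Cfsg.sqNorm (x : Cfsg.GolayPt → ℤ) = 32 ∧ Cfsg.dotInt (v : Cfsg.GolayPt → ℤ) (x : Cfsg.GolayPt → ℤ) = 24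 ∧ Cfsg.dotInt (w : Cfsg.GolayPt → ℤ) (x : Cfsg.GolayPt → ℤ) = -24}, y ≠ x → y' ≠ x → (Cfsg.dotInt (x : Cfsg.GolayPt → ℤ) (y : Cfsg.GolayPt → ℤ) = 8 ↔ Cfsg.dotInt (x : Cfsg.GolayPt → ℤ) (y' : Cfsg.GolayPt → ℤ) = 8) → ∃ g : ↥Cfsg.Co0, g • v = v ∧ g • w = w ∧ g • x = x ∧ g • y = y' := by
  obtain ⟨g, rfl, rfl, rfl⟩ := H10.std_third (c := -H10.vU) hx.1 (H10.std_HS hv hw hvw)
    (by rw [hx.2.1]; decide +kernel) (by rw [hx.2.2]; decide +kernel)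
    (fun y hy h1 h2 => H10.tr_Vw1 _ y (by decide +kernel) hy (by decide +kernel) h1 h2)
  have hne : ∀ y : H10.L, Cfsg.sqNorm (y : H10.V) = 32 → (y ≠ -H10.vU ↔ H10.dU y ≠ -32) := by
    intro y hy
    refine not_congr ⟨fun h => by rw [h]; decide +kernel, fun h => ?_⟩
    exact (H10.eq_of_dot32 (by decide +kernel) hy (by rw [H10.dot_negL]; exact neg_eq_iff_eq_neg.2 h)).symm
  refine ⟨?_, ?_, ?_⟩
  · refine Eq.trans ?_ (show H10.cntP (fun a b c => decide (c = 24 ∧ b = 0 ∧ a = -8)) = 22 by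
      decide +kernel)
    rw [← H10.ncard_P]
    apply H10.ncard_transport g
    intro x
    simp only [Set.mem_ofPred_eq, H10.co_norm, H10.co_dot, H10.dot_w1, decide_eq_true_eq, H10.dV,
      H10.dot_negL, H10.dU]
    omega
  · rw [← show H10.cntP (fun a b c => decide (c = 24 ∧ b = 0 ∧ a ≠ -32 ∧ a ≠ -8)) = 77 by
      decide +kernel, ← H10.ncard_P]
    apply H10.ncard_transport g
    intro x
    have := hne x
    simp only [Set.mem_ofPred_eq, H10.co_norm, H10.co_dot, H10.dot_w1, decide_eq_true_eq, H10.dV,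
      H10.dot_negL, H10.dU, ne_eq, smul_left_cancel_iff] at this ⊢
    constructor
    · rintro ⟨⟨a, b, c⟩, d, e⟩
      rw [this a] at d
      omega
    · rintro ⟨a, b, c, d, e⟩
      exact ⟨⟨a, b, by omega⟩, (this a).2 d, by omega⟩
  · intro x hx x' hx' h1 h2 h3
    obtain ⟨y, rfl⟩ := MulAction.surjective g x
    obtain ⟨y', rfl⟩ := MulAction.surjective g x'
    simp only [Set.mem_ofPred_eq, H10.co_norm, H10.co_dot, ne_eq, smul_left_cancel_iff,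
      H10.dot_w1, H10.dot_negL] at hx hx' h1 h2 h3
    have e1 := (hne y hx.1).1 h1
    have e2 := (hne y' hx'.1).1 h2
    have key := H10.forall_min (fun a b c _ => c = 24 → b = 0 → a ≠ -32 →
      (a = -8 ∨ a = -16) ∧ (a, b, c) ∈ H10.fM22.map Prod.fst) (by decide +kernel)
    have a1 : H10.dV y = 24 := hx.2.1
    have a2 : H10.dV y' = 24 := hx'.2.1
    have k1 := key y hx.1 a1 (by omega) e1
    have k2 := key y' hx'.1 a2 (by omega) e2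
    obtain ⟨h, hh, e⟩ := H10.tr_M22 y y' hx.1 hx'.1 k1.2
      (by change -H10.dU y = 8 ↔ -H10.dU y' = 8 at h3; omega) (by omega) (by omega)
    obtain ⟨b1, b2, b3⟩ := H10.mem_H22.1 hh
    exact ⟨_, H10.conj_fix g b3, H10.conj_fix g ((H10.fix_w1 b3).2 b2),
      H10.conj_fix g (H10.fix_neg.2 b1), H10.conj_fix g e⟩

end Cfsg.Agent.S1584
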