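import Cfsg.Statements.S0486
import Mathlib
import Cfsg.Agent.H17.LyRec
import Cfsg.Agent.S0222
import Cfsg.Agent.H16.SymRep
import Cfsg.Agent.H16.SL2Orders
import Cfsg.Agent.H7.SpSuSimple

set_option autoImplicit false
open Cfsg

namespace Cfsg.Agent.S0486

/-- A finite simple group whose Sylow 2-subgroups are isomorphic to a Sylow 2-subgroup of the projective special
unitary group of dimension 3 over the field with 16 elements is isomorphic to that unitary group. -/
theorem result {G : Type*} [Group G] [Finite G] [IsSimpleGroup G]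
    {F : Type*} [Field F] [Fintype F] (hF : Fintype.card F = 16) (S : Sylow 2 G) (P : Sylow 2 (Cfsg.PSU 3 F 4))
    (hS : Nonempty ((S : Subgroup G) ≃* (P : Subgroup (Cfsg.PSU 3 F 4)))) :
    Nonempty (G ≃* Cfsg.PSU 3 F 4) := by
  open H4 H17 in
  obtain ⟨α, hα⟩ := H22.u34_sylow hF P
  obtain ⟨e⟩ := hS
  have h : Ly.US (S : Subgroup G) := (Ly.us_of_u34 hα).of_equiv e.symm
  have hS : ∀ {q m : ℕ}, Even q → Odd m → ∀ {k c : ℕ}, Odd c → c * Nat.card G = q ^ k * m →
      (∃ n, q = 2 ^ n) → q ^ k = 64 := fun {q m} hq hm k c hc e ⟨n, hn⟩ => by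
    have h1 := S.card_eq_multiplicity
    rw [h.card] at h1
    have h2 := congrArg (fun x => x.factorization 2) e
    have f0 : ∀ {x : ℕ}, Odd x → x.factorization 2 = 0 := fun hx =>
      Nat.factorization_eq_zero_of_not_dvd hx.not_two_dvd_nat
    simp only [Nat.factorization_mul hc.pos.ne' Nat.card_pos.ne', hn, ← pow_mul,
      Nat.factorization_mul (pow_ne_zero _ two_ne_zero) hm.pos.ne', Finsupp.add_apply, f0 hc, f0 hm,
      Nat.prime_two.factorization_pow, Finsupp.single_eq_same, zero_add, add_zero] at h2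
    rw [h1, h2, hn, pow_mul]
  rcases S0222.result h.not_comm _ h.isStronglyEmbedded with ⟨K, _, _, hK, -, ⟨f⟩⟩ | ⟨-, m, -, hm⟩ |
    ⟨K, _, _, q, hK, hq, h4, ⟨f⟩⟩
  · obtain ⟨x, hx, h2⟩ := h.exists_four
    have h4 : orderOf (f x) = 2 ^ (1 + 1) := by
      rw [f.orderOf_eq]
      exact orderOf_eq_prime_pow (by rwa [pow_one, sq]) (by
        rw [← h.sq_sq hx, show 2 ^ (1 + 1) = 2 + 2 from rfl, pow_add, sq])
    obtain ⟨n, -, hn⟩ := FiniteField.card K 2
    have h5 : 2 ∣ Fintype.card K := hn ▸ dvd_pow_self 2 n.ne_zero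
    have h6 : Nat.gcd 2 (Fintype.card K - 1) = 1 :=
      Nat.prime_two.coprime_iff_not_dvd.mpr (by have := Fintype.card_pos (α := K); omega)
    have := Fintype.card_pos (α := K)
    rcases H16.psl2_pow_cases 2 rfl (f x) with e | e | e <;>
      have := orderOf_dvd_of_pow_eq_one e <;> simp only [h4, h6] at this <;> omega
  · have h1 := h.three_dvd
    have h2 : 2 ^ (2 * m + 1) % 3 = 2 := by
      rw [pow_succ, pow_mul, Nat.mul_mod, Nat.pow_mod]; simp
    generalize 2 ^ (2 * m + 1) = q at hm h2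
    obtain ⟨k, rfl⟩ : ∃ k, q = 3 * k + 2 := ⟨q / 3, by omega⟩
    rw [hm, show 3 * k + 2 - 1 = 3 * k + 1 from rfl, show (3 * k + 2) ^ 2 * ((3 * k + 2) ^ 2 + 1) *
      (3 * k + 1) = 3 * (81 * k ^ 5 + 243 * k ^ 4 + 297 * k ^ 3 + 183 * k ^ 2 + 56 * k + 6) + 2 by ring] at h1
    omega
  · have h1 := H7.card_psu hK 3 (by norm_num)
    obtain ⟨p, hp, n, hpp, hn⟩ := FiniteField.card' K
    have hp2 : p = 2 := by
      have : 2 ∣ p ^ (n : ℕ) := hn ▸ hK ▸ hq.two_dvd.trans (dvd_pow_self q two_ne_zero)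
      exact ((Nat.prime_dvd_prime_iff_eq Nat.prime_two hpp).mp (Nat.prime_two.dvd_of_dvd_pow this)).symm
    subst hp2
    have h2 : ∃ n, q = 2 ^ n := by
      obtain ⟨k, -, e⟩ := (Nat.dvd_prime_pow Nat.prime_two).mp
        (show q ∣ 2 ^ (n : ℕ) from hn ▸ hK ▸ dvd_pow_self q two_ne_zero)
      exact ⟨k, e⟩
    have o1 : Odd (q + 1) := hq.add_one
    rw [← Nat.card_congr f.toEquiv, ← mul_assoc] at h1
    have h3 := hS hq (Finset.prod_induction _ Odd (fun _ _ => Odd.mul) odd_one fun i _ => by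
      have := (Nat.even_pow.mpr ⟨hq, i.succ_ne_zero⟩)
      split_ifs
      · exact this.add_one
      · exact Nat.Even.sub_odd (Nat.one_le_pow _ _ (by omega)) this odd_one)
      ((Odd.of_dvd_nat o1 (Nat.gcd_dvd_right _ _)).mul o1) h1 h2
    obtain rfl : q = 4 := Nat.pow_left_injective (n := 3) (by norm_num) h3
    exact ⟨f.trans (H7.quotCenterCongr (H16.suCongr (FiniteField.ringEquivOfCardEq
      (hK.trans hF.symm)) 3 4))⟩

end Cfsg.Agent.S0486
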