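import Cfsg.Statements.S0516
import Mathlib
import Cfsg.Agent.H22.Rank2
import Cfsg.Agent.S0204
import Cfsg.Agent.S0215
import Cfsg.Agent.S0949

set_option autoImplicit false
open Cfsg

namespace Cfsg.Agent.S0516

/-- In a non-abelian finite simple group of 2-rank at most 2, a Sylow 2-subgroup is dihedral (of order at least 4),
quasi-dihedral, wreathed, or isomorphic to a Sylow 2-subgroup of the projective special unitary group of dimension 3
over the field with 16 elements. -/
theorem result {G : Type*} [Group G] [Finite G] [IsSimpleGroup G]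
    (hG : ¬ IsMulCommutative G) (h2 : Cfsg.PRankLE 2 2 G) (S : Sylow 2 G) {F : Type*} [Field F] [Fintype F]
    (hF : Fintype.card F = 16) (P : Sylow 2 (Cfsg.PSU 3 F 4)) :
    (∃ n : ℕ, 2 ≤ n ∧ Nonempty ((S : Subgroup G) ≃* DihedralGroup n)) ∨ Cfsg.IsQuasiDihedral (S : Subgroup G) ∨
      Cfsg.IsWreathed (S : Subgroup G) ∨ Nonempty ((S : Subgroup G) ≃* (P : Subgroup (Cfsg.PSU 3 F 4))) := by
  obtain ⟨E, hE⟩ := Cfsg.Agent.S0204.result (G := G) fun h => hG inferInstance
  have h1 : ¬ Cfsg.PRankLE 2 1 G := fun h => by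
    have := h E IsKleinFour.isMulCommutative fun a ha => congrArg Subtype.val
      (show (⟨a, ha⟩ : E) ^ 2 = 1 by rw [sq]; exact IsKleinFour.mul_self _)
    rw [hE.card_four] at this
    omega
  have hO : ∀ N : Subgroup G, N.Normal → Odd (Nat.card N) → N = ⊥ := fun N hN hodd => by
    refine hN.eq_bot_or_eq_top.resolve_right ?_
    rintro rfl
    rw [Subgroup.card_top] at hodd
    have := Subgroup.card_subgroup_dvd_card E
    rw [hE.card_four] at this
    exact (Nat.not_even_iff_odd.2 hodd) (even_iff_two_dvd.2 (Dvd.dvd.trans (by norm_num) this))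
  have hiso : ∀ z : G, ¬ Cfsg.IsIsolatedInvolution z := fun z hz => by
    obtain ⟨P, hP⟩ := (H22.isPGroup_zpowers (p := 2) (k := 1) (a := z)
      (by rw [pow_one, sq]; exact H22.isolated_mul_self hz)).exists_le_sylow
    have hzP : z ∈ P := hP (Subgroup.mem_zpowers z)
    obtain ⟨N, hN, hodd, hc⟩ := Cfsg.Agent.S0215.result P z hz.1 hzP fun g hg => by
      obtain ⟨k, hk⟩ := H22.isPGroup_iff_forall_mem.1 P.isPGroup' _ (P.mul_mem hzP hg)
      have h3 : orderOf (z * (g * z * g⁻¹)) = 1 :=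
        (Nat.coprime_self _).1 ((Nat.Coprime.pow_right k (Nat.coprime_two_right.2
          (H22.isolated_odd hz g))).coprime_dvd_right (orderOf_dvd_of_pow_eq_one hk))
      exact mul_left_cancel ((orderOf_eq_one_iff.1 h3).trans (H22.isolated_mul_self hz).symm)
    rw [hO N hN hodd] at hc
    have hzc : z ∈ Subgroup.center G := Subgroup.mem_center_iff.2 fun g =>
      (commutatorElement_eq_one_iff_mul_comm.1 (Subgroup.mem_bot.1 (hc g))).symm
    rcases (inferInstance : (Subgroup.center G).Normal).eq_bot_or_eq_top with e | e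
    · exact H22.ne_one_of_orderOf_two hz.1 (Subgroup.mem_bot.1 (e ▸ hzc))
    · exact hG ⟨⟨fun a b => (Subgroup.mem_center_iff.1 (e ▸ Subgroup.mem_top a) b).symm⟩⟩
  rcases H22.s1238 h2 h1 hiso S hF P with e | e | e | ⟨n, hn, ⟨e⟩⟩ | e
  · exact Or.inl e
  · exact Or.inr (Or.inl e)
  · exact Or.inr (Or.inr (Or.inl e))
  · exfalso
    obtain ⟨a, -, -, -, ha, -⟩ := H22.exists_two_invol h1 S
    rcases (Cfsg.Agent.S0949.result S n hn e hO).1.eq_bot_or_eq_top with h | h
    · exact ha (Subtype.ext (Subgroup.mem_bot.1 (h ▸ a.2)))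
    · refine hG ⟨⟨fun x y => ?_⟩⟩
      have := e.injective (a₁ := ⟨x, h ▸ Subgroup.mem_top x⟩ * ⟨y, h ▸ Subgroup.mem_top y⟩)
        (a₂ := ⟨y, h ▸ Subgroup.mem_top y⟩ * ⟨x, h ▸ Subgroup.mem_top x⟩)
        (by rw [map_mul, map_mul, mul_comm])
      exact congrArg Subtype.val this
  · exact Or.inr (Or.inr (Or.inr e))

end Cfsg.Agent.S0516
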