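import Cfsg.Statements.S0073
import Mathlib
import Cfsg.Agent.H3.Frobenius

set_option autoImplicit false
open Cfsg

namespace Cfsg.Agent.S0073

/-- For a finite non-abelian simple group, either the cube of the least prime divisor of the order divides the order, or 12 does. -/
theorem result {G : Type*} [Group G] [Finite G] [IsSimpleGroup G] (hG : ∃ x y : G, x * y ≠ y * x) : (Nat.card G).minFac ^ 3 ∣ Nat.card G ∨ 12 ∣ Nat.card G := by
  by_contra hne
  push Not at hne
  obtain ⟨h1, h2⟩ := hne
  have hG1 : Nat.card G ≠ 1 := (Finite.one_lt_card (α := G)).ne'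
  set p := (Nat.card G).minFac with hp
  have hpp : p.Prime := Nat.minFac_prime hG1
  have : Fact p.Prime := ⟨hpp⟩
  obtain ⟨P⟩ : Nonempty (Sylow p G) := inferInstance
  refine H3.not_hasNPC_of_isSimpleGroup (Nat.minFac_dvd _) hG ?_
  obtain ⟨k, hk⟩ := IsPGroup.iff_card.mp P.2
  have hk' : Nat.card P = p ^ k := hk
  have hdvd : p ^ k ∣ Nat.card G := hk ▸ Subgroup.card_subgroup_dvd_card _
  have hk3 : k < 3 := by
    by_contra h
    exact h1 ((pow_dvd_pow p (not_lt.mp h)).trans hdvd)
  have hmin : ∀ q : ℕ, q.Prime → q ≠ p → q ∣ Nat.card G → p < q := fun q hq hqp hd =>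
    lt_of_le_of_ne (Nat.minFac_le_of_dvd hq.two_le hd) hqp.symm
  have hp1 : 0 < p - 1 := Nat.sub_pos_of_lt hpp.one_lt
  have hA : ∀ q : ℕ, p < q → ¬ q ∣ p - 1 := fun q h hd => by
    have := Nat.le_of_dvd hp1 hd
    omega
  have hB : ∀ q : ℕ, p < q → ¬ q ∣ p := fun q h hd => by
    have := Nat.le_of_dvd hpp.pos hd
    omega
  have hcomm : IsMulCommutative P := by
    interval_cases k
    · have : Subsingleton P := (Nat.card_eq_one_iff_unique.mp (by simpa using hk')).1
      exact ⟨⟨fun a b => Subsingleton.elim _ _⟩⟩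
    · have : IsCyclic P := isCyclic_of_prime_card (p := p) (by simpa using hk')
      infer_instance
    · exact IsPGroup.isMulCommutative_of_card_eq_prime_sq hk'
  refine H3.hasNPC_of_abelian_of_no_prime P hcomm fun q d hq hqp hqd hd hlt hdiv => ?_
  have hpq := hmin q hq hqp hqd
  rw [hk'] at hd hlt hdiv
  obtain ⟨j, hj, rfl⟩ := (Nat.dvd_prime_pow hpp).mp hd
  have hjk : j < k := (Nat.pow_lt_pow_iff_right hpp.one_lt).mp hlt
  interval_cases k
  · omega
  · obtain rfl : j = 0 := by omega
    exact hA q hpq (by simpa using hdiv)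
  · interval_cases j
    · have e : p ^ 2 - p ^ 0 = (p + 1) * (p - 1) := by
        rw [pow_zero, ← Nat.sq_sub_sq, one_pow]
      rw [e] at hdiv
      rcases (Nat.Prime.dvd_mul hq).mp hdiv with h | h
      · have h3 : q = p + 1 := le_antisymm (Nat.le_of_dvd (by omega) h) hpq
        have h4 : p = 2 := by
          by_contra h5
          have h6 := hpp.odd_of_ne_two h5
          have h7 : q = 2 := hq.even_iff.mp (h3 ▸ h6.add_one)
          have := hpp.two_le
          omega
        rw [h4] at hdvd h3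
        exact h2 (Nat.Coprime.mul_dvd_of_dvd_of_dvd (by norm_num : Nat.Coprime 4 3) hdvd
          ((show q = 3 from h3) ▸ hqd))
      · exact hA q hpq h
    · have e : p ^ 2 - p ^ 1 = p * (p - 1) := by
        rw [pow_one, Nat.mul_sub, mul_one, sq]
      rw [e] at hdiv
      exact ((Nat.Prime.dvd_mul hq).mp hdiv).elim (hB q hpq) (hA q hpq)

end Cfsg.Agent.S0073
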