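import Cfsg.Statements.S0765
import Mathlib
import Cfsg.Agent.H15.Transv

set_option autoImplicit false
open Cfsg

namespace Cfsg.Agent.S0765

/-- Generation of the symplectic group by symplectic transvections: the subgroup of Sp_2m(F) generated by all matrices of maps x ↦ x + c f(x, w) w is the whole group. -/
theorem result {F : Type*} [Field F] (m : ℕ) : Subgroup.closure {A : Matrix.symplecticGroup (Fin m) F | ∃ (w : Fin m ⊕ Fin m → F) (c : F), (A : Matrix (Fin m ⊕ Fin m) (Fin m ⊕ Fin m) F) = Cfsg.sympTransvection m w c} = ⊤ := by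
  refine H15.closure_eq_top_of_mem (H15.spEquiv m F) _ (H15.spForm m F).transvSet (fun A => ?_)
    ((H15.spForm_isAlt m).closure_transvSet (H15.spForm_nondeg m F))
  have hs : ∀ u v, Cfsg.sympForm m F u v = -Cfsg.sympForm m F v u := fun u v => by
    rw [H15.sympForm_eq, H15.sympForm_eq, ← Finset.sum_neg_distrib]
    exact Finset.sum_congr rfl fun i _ => by ring
  constructor
  · rintro ⟨w, c, h⟩
    refine ⟨w, -c, (H15.spForm_isAlt m).1 w, fun v => ?_⟩
    rw [H15.spEquiv_apply, h, H15.sympTransvection_mulVec, H15.spForm_B, hs v w]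
    simp
  · rintro ⟨w, c, -, h⟩
    refine ⟨w, -c, H15.matrix_ext_mulVec fun v => ?_⟩
    rw [← H15.spEquiv_apply, h, H15.sympTransvection_mulVec, H15.spForm_B, hs v w]
    simp

end Cfsg.Agent.S0765
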