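import Cfsg.Statements.S0873
import Mathlib
import Cfsg.Agent.H4.Core

set_option autoImplicit false
open Cfsg

namespace Cfsg.Agent.S0873

/-- Let C be a normal subgroup of the finite group G of order prime to p and P a p-subgroup with C ⊔ P = G. Let λ be a character of C of degree 1 invariant under conjugation by G and equal to 1 at every element of C centralized by P. Then λ is identically 1. -/
theorem result {G : Type*} [Group G] [Finite G] (p : ℕ) [Fact p.Prime] (C P : Subgroup G) [hC : C.Normal] (hP : IsPGroup p P) (hcop : Nat.Coprime (Nat.card C) p) (hCP : C ⊔ P = ⊤) (lam : C → ℂ) (hlam : Cfsg.IsCharacter C lam ∧ lam 1 = 1) (hinv : ∀ (g : G) (c : C), lam ⟨g * c * g⁻¹, hC.conj_mem (c : G) c.2 g⟩ = lam c) (hker : ∀ c : C, (c : G) ∈ Subgroup.centralizer (P : Set G) → lam c = 1) : lam = fun _ => 1 := by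
  obtain ⟨lam, rfl⟩ := H4.Cfsg.IsCharacter.exists_linear hlam.1 hlam.2
  funext c
  let X := {x : C // lam x = lam c}
  let _ : MulAction P X :=
    { smul := fun g x => ⟨⟨g * x.1 * (g : G)⁻¹, hC.conj_mem _ x.1.2 _⟩, (Units.ext (hinv g x.1)).trans x.2⟩
      one_smul := fun x => by
        apply Subtype.ext; apply Subtype.ext
        change ((1 : P) : G) * x.1 * ((1 : P) : G)⁻¹ = x.1
        simp
      mul_smul := fun a b x => by
        apply Subtype.ext; apply Subtype.ext
        change ((a * b : P) : G) * x.1 * ((a * b : P) : G)⁻¹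
          = (a : G) * ((b : G) * x.1 * (b : G)⁻¹) * (a : G)⁻¹
        simp [mul_assoc] }
  have hcard : Nat.card X = Nat.card lam.ker := Nat.card_congr (MonoidHom.fiberEquivKer lam c)
  have hnd : ¬ p ∣ Nat.card X := by
    rw [hcard]
    intro h
    exact (Nat.Prime.coprime_iff_not_dvd Fact.out).mp hcop.symm
      (h.trans (Subgroup.card_subgroup_dvd_card _))
  obtain ⟨x, hx⟩ := hP.nonempty_fixed_point_of_prime_not_dvd_card X hnd
  have h1 := hker x.1 (by
    rw [Subgroup.mem_centralizer_iff]
    intro g hg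
    have h2 : g * x.1 * g⁻¹ = x.1 := congrArg (fun y : X => ((y.1 : C) : G)) (hx ⟨g, hg⟩)
    rw [mul_inv_eq_iff_eq_mul] at h2
    exact h2)
  rw [← x.2]; exact h1

end Cfsg.Agent.S0873
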