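import Cfsg.Statements.S1067
import Mathlib
import Cfsg.Agent.H20.TwD4

set_option autoImplicit false
open Cfsg

namespace Cfsg.Agent.S1067

/-- `|³D₄(q)| = q¹² (q² - 1)(q⁶ - 1)(q⁸ + q⁴ + 1)`, the group being realised inside D₄ over the field with `q³` elements. -/
theorem result {K : Type*} [Field K] [Fintype K] {q : ℕ} (hq : IsPrimePow q) (hK : Fintype.card K = q ^ 3) :
    Nat.card ↥(Cfsg.Lie.twistedD4 K q) = q ^ 12 * (q ^ 2 - 1) * (q ^ 6 - 1) * (q ^ 8 + q ^ 4 + 1) := by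
  obtain ⟨T, hJ, h1, h2, -⟩ := H20.D4.main hq hK
  have h3 := T.card_eq_poin (A := ℤ) (y := q) fun i => by exact_mod_cast h1 i
  have h4 := H20.tpoinD4 T hJ (q : ℤ)
  have h5 : ∀ k, 1 ≤ q ^ k := fun k => Nat.one_le_pow k q hq.pos
  rw [H19.card_pos, show Cfsg.Lie.chevD4.nroots / 2 = 12 from rfl] at h3
  zify [hq.one_lt.le, h5] at h2 ⊢
  rw [h3]
  linear_combination (q : ℤ) ^ 12 * H20.goodD4.rs.poin T.W1 Set.univ (q : ℤ) * h2 + (q : ℤ) ^ 12 * h4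

end Cfsg.Agent.S1067
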