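import Cfsg.Statements.S0744
import Mathlib
import Cfsg.Agent.H14.Gener

set_option autoImplicit false
open Cfsg

namespace Cfsg.Agent.S0744

/-- If for some `k > 1` the pointwise stabilisers of all `(k-1)`-subsets have the same order `> 1` and those of all `k`-subsets have the same order, then the group is `(k-1)`-transitive. -/
theorem result {α : Type*} [Fintype α] [DecidableEq α] (G : Subgroup (Equiv.Perm α)) {k : ℕ} (hk : 1 < k) (hkn : k ≤ Fintype.card α) (l m : ℕ) (hl : 1 < l) (hkm1 : ∀ s : Finset α, s.card = k - 1 → Nat.card (fixingSubgroup G (s : Set α)) = l) (hkm : ∀ s : Finset α, s.card = k → Nat.card (fixingSubgroup G (s : Set α)) = m) : MulAction.IsMultiplyPretransitive G α (k - 1) := by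
  have horb : ∀ s : Finset α, s.card = k - 1 → ∀ a ∉ s,
      (MulAction.orbit (fixingSubgroup G (s : Set α)) a).ncard * m = l := by
    intro s hs a ha
    rw [← hkm1 s hs, ← H14.ncard_orbit_mul _ a,
      ← hkm (insert a s) (by rw [Finset.card_insert_of_notMem ha]; omega)]
    congr 3
    ext g
    simp [H14.mem_fixing, and_comm]
  obtain ⟨s₀, -, hs₀⟩ := Finset.exists_subset_card_eq (s := (Finset.univ : Finset α)) (n := k - 1)
    (by rw [Finset.card_univ]; omega)
  have hm : m ≠ 0 ∧ l / m ≠ 1 := by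
    obtain ⟨a, ha⟩ : ∃ a, a ∉ s₀ := by
      by_contra hh
      push Not at hh
      have := Finset.card_le_card (show Finset.univ ⊆ s₀ from fun x _ => hh x)
      rw [Finset.card_univ] at this
      omega
    have hm0 : m ≠ 0 := by
      rintro rfl
      have := horb s₀ hs₀ a ha
      omega
    refine ⟨hm0, fun h1 => ?_⟩
    have hbot : fixingSubgroup G (s₀ : Set α) = ⊥ := by
      rw [eq_bot_iff]
      intro g hg
      rw [Subgroup.mem_bot]
      refine FaithfulSMul.eq_of_smul_eq_smul (α := α) fun x => ?_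
      rw [one_smul]
      by_cases hx : x ∈ s₀
      · exact H14.mem_fixing.1 hg x hx
      · have h2 := horb s₀ hs₀ x hx
        rw [← h2, Nat.mul_div_cancel _ (Nat.pos_of_ne_zero hm0), Set.ncard_eq_one] at h1
        obtain ⟨y, hy⟩ := h1
        have h3 : g • x ∈ MulAction.orbit (fixingSubgroup G (s₀ : Set α)) x := ⟨⟨g, hg⟩, rfl⟩
        have h4 := MulAction.mem_orbit_self (M := fixingSubgroup G (s₀ : Set α)) x
        rw [hy] at h3 h4
        exact h3.trans h4.symm
    have := hkm1 s₀ hs₀
    rw [hbot, Subgroup.card_bot] at this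
    omega
  obtain ⟨p, hp, hpd⟩ := Nat.exists_prime_and_dvd hm.2
  have : Fact p.Prime := ⟨hp⟩
  apply H14.MT.isMultiplyPretransitive_top
  refine H14.gleason (p := p) Set.finite_univ (H14.Pres.univ _)
    (by rw [Set.ncard_univ, Nat.card_eq_fintype_card]; omega) fun s _ hs => ?_
  obtain ⟨P, hP, -⟩ := H22.exists_sylIn (p := p) (R := ⊥) (H := fixingSubgroup G (s : Set α)) bot_le
    IsPGroup.of_bot
  refine ⟨P, le_top, hP.2.1, ?_⟩
  rw [Set.univ_inter]
  ext x
  constructor
  · intro hx
    by_contra hxs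
    apply H14.not_dvd_orbit_of_sylIn hP (H14.mem_fix.1 hx)
    rw [← horb s hs x hxs, Nat.mul_div_cancel _ (Nat.pos_of_ne_zero hm.1)] at hpd
    exact hpd
  · intro hx
    exact H14.mem_fix.2 fun g hg => H14.mem_fixing.1 (hP.1 hg) x hx

end Cfsg.Agent.S0744
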