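import Cfsg.Statements.S0839
import Mathlib
import Cfsg.Agent.H16.MatBasic

set_option autoImplicit false
open Cfsg

namespace Cfsg.Agent.S0839

/-- Every transvection t ∈ SL_(n+2)(F) (rank(t − 1) = 1, (t − 1)² = 0) is conjugate in SL_(n+2)(F) to 1 + v·e_0ᵀ for some column vector v with v_0 = 0 (the group A of matrices that are the identity except in the first column below the diagonal); the dimension is written n + 2 ≥ 2. -/
theorem result {F : Type*} [Field F] (n : ℕ) (t : Matrix.SpecialLinearGroup (Fin (n + 2)) F) (ht : Cfsg.IsTransvection (t : Matrix (Fin (n + 2)) (Fin (n + 2)) F)) : ∃ (g : Matrix.SpecialLinearGroup (Fin (n + 2)) F) (v : Fin (n + 2) → F), v 0 = 0 ∧ ((g⁻¹ * t * g : Matrix.SpecialLinearGroup (Fin (n + 2)) F) : Matrix (Fin (n + 2)) (Fin (n + 2)) F) = 1 + Matrix.vecMulVec v (Pi.single 0 1) := by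
  obtain ⟨a, b, ha, hb, hab⟩ := H16.exists_vecMulVec_of_rank_eq_one _ ht.1
  have h2 := ht.2
  rw [hab, Matrix.vecMulVec_mul_vecMulVec] at h2
  have hba : b ⬝ᵥ a = 0 := by
    by_contra hne
    rcases Matrix.vecMulVec_eq_zero.1 h2 with h | h
    · exact ha h
    · exact hb ((smul_eq_zero.1 h).resolve_left hne)
  obtain ⟨g, c, hc, hg⟩ := H16.exists_SL_mulVec_eq_smul b (Pi.single 0 1) hb (by simp)
  have ht' : (t : Matrix (Fin (n + 2)) (Fin (n + 2)) F) = 1 + Matrix.vecMulVec a b := by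
    rw [← hab]; abel
  have hbg : Matrix.vecMul b (g.transpose : Matrix (Fin (n + 2)) (Fin (n + 2)) F)
      = c • Pi.single 0 1 := by
    rw [← hg]; simp [Matrix.vecMul_transpose]
  refine ⟨g.transpose, c • Matrix.mulVec ((g.transpose⁻¹ : Matrix.SpecialLinearGroup _ F) :
    Matrix (Fin (n + 2)) (Fin (n + 2)) F) a, ?_, ?_⟩
  · have : (c • Pi.single 0 1 : Fin (n + 2) → F) ⬝ᵥ Matrix.mulVec ((g.transpose⁻¹ :
        Matrix.SpecialLinearGroup _ F) : Matrix (Fin (n + 2)) (Fin (n + 2)) F) a = 0 := by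
      rw [← hbg, Matrix.dotProduct_mulVec, Matrix.vecMul_vecMul,
        ← Matrix.SpecialLinearGroup.coe_mul, mul_inv_cancel]
      simpa using hba
    simpa using this
  · rw [Matrix.SpecialLinearGroup.coe_mul, Matrix.SpecialLinearGroup.coe_mul, ht', mul_add, add_mul,
      mul_one, ← Matrix.SpecialLinearGroup.coe_mul, inv_mul_cancel, Matrix.mul_vecMulVec,
      Matrix.vecMulVec_mul, hbg]
    simp [Matrix.vecMulVec_smul, Matrix.smul_vecMulVec]

end Cfsg.Agent.S0839
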