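import Cfsg.Statements.S0340
import Mathlib
import Cfsg.Agent.H21.Suz4
import Cfsg.Agent.H21.Feit6

set_option autoImplicit false
open Cfsg

namespace Cfsg.Agent.S0340

/-- Classification of Zassenhaus groups, simple case, order-level form: a finite simple Zassenhaus group is
isomorphic to `PSL₂(F)` for some finite field `F` or is simple of Suzuki order. -/
theorem result {G Ω : Type*} [Group G] [Finite G] [MulAction G Ω]
    [Finite Ω] (hZ : Cfsg.IsZassenhausGroup G Ω) [IsSimpleGroup G] :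
    (∃ (F : Type) (_ : Field F) (_ : Fintype F), Nonempty (G ≃* Matrix.ProjectiveSpecialLinearGroup (Fin 2) F)) ∨ Cfsg.IsSuzuki G := by
  obtain ⟨a, -⟩ := hZ.2.2.2.1.choose_spec.2
  obtain ⟨b, hab⟩ := H21.exists_pair hZ a
  obtain ⟨F, hK⟩ := (H21.z3_of_zass hZ).exists_ker hab
  rcases H21.simple_cases_two hZ hab hK with h | ⟨h1, h2, -⟩
  · obtain ⟨K, _, _, -, h3⟩ := H21.iso_psl_of_large hZ hab h
    exact Or.inl ⟨K, inferInstance, inferInstance, h3⟩
  · refine Or.inr (H21.isSuzuki_of_ker hZ hK h1 ?_)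
    by_contra h3
    push Not at h3
    exact h2 ⟨⟨h3⟩⟩

end Cfsg.Agent.S0340
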