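import Cfsg.Statements.S0482
import Mathlib
import Cfsg.Agent.H22.Simp
import Cfsg.Agent.S0516
import Cfsg.Agent.S0486
import Cfsg.Agent.S0507
import Cfsg.Agent.S0523

set_option autoImplicit false
open Cfsg

namespace Cfsg.Agent.S0482

/-- A non-abelian finite simple group of 2-rank at most 2 (no elementary abelian subgroup of order 8) is isomorphic
to a projective special linear group of dimension 2 over a field of odd order at least 5, a projective special linear
or unitary group of dimension 3 in odd characteristic, the projective special unitary group of dimension 3 over the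
field with 16 elements, the alternating group of degree 7, or is simple of order 7920. -/
theorem result {G : Type*} [Group G] [Finite G] [IsSimpleGroup G]
    (hG : ¬ IsMulCommutative G) (h2 : Cfsg.PRankLE 2 2 G) :
    (∃ (F : Type) (_ : Field F) (_ : Fintype F), Odd (Fintype.card F) ∧ 5 ≤ Fintype.card F ∧
        Nonempty (G ≃* Matrix.ProjectiveSpecialLinearGroup (Fin 2) F)) ∨
      (∃ (F : Type) (_ : Field F) (_ : Fintype F), Odd (Fintype.card F) ∧
        Nonempty (G ≃* Matrix.ProjectiveSpecialLinearGroup (Fin 3) F)) ∨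
      (∃ (F : Type) (_ : Field F) (_ : Fintype F) (q : ℕ), Fintype.card F = q ^ 2 ∧ Odd q ∧
        Nonempty (G ≃* Cfsg.PSU 3 F q)) ∨
      (∃ (F : Type) (_ : Field F) (_ : Fintype F), Fintype.card F = 16 ∧ Nonempty (G ≃* Cfsg.PSU 3 F 4)) ∨
      Nonempty (G ≃* alternatingGroup (Fin 7)) ∨
      Cfsg.IsM11 G := by
  obtain ⟨S⟩ : Nonempty (Sylow 2 G) := inferInstance
  have := Fintype.ofFinite (GaloisField 2 4)
  have hF : Fintype.card (GaloisField 2 4) = 16 := by
    rw [← Nat.card_eq_fintype_card, GaloisField.card _ _ (by norm_num)]; rfl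
  obtain ⟨P⟩ : Nonempty (Sylow 2 (PSU 3 (GaloisField 2 4) 4)) := inferInstance
  rcases S0516.result hG h2 S hF P with ⟨n, hn, e⟩ | h | h | h
  · rcases H22.gw_simple hG S n hn e with ⟨F, _, _, h1, h3, f⟩ | h
    · exact Or.inl ⟨F, _, _, h1, by have := Nat.odd_iff.1 h1; omega, f⟩
    · exact Or.inr (Or.inr (Or.inr (Or.inr (Or.inl h))))
  · rcases S0507.result S h with ⟨F, _, _, h1, f⟩ | ⟨F, _, _, q, h1, h3, f⟩ | h
    · exact Or.inr (Or.inl ⟨F, _, _, Nat.odd_iff.2 (by omega), f⟩)
    · exact Or.inr (Or.inr (Or.inl ⟨F, _, _, q, h1, Nat.odd_iff.2 (by omega), f⟩))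
    · exact Or.inr (Or.inr (Or.inr (Or.inr (Or.inr h))))
  · rcases S0523.result S h with h | h | h
    exacts [Or.inr (Or.inl h), Or.inr (Or.inr (Or.inl h)),
      Or.inr (Or.inr (Or.inr (Or.inr (Or.inr h))))]
  · exact Or.inr (Or.inr (Or.inr (Or.inl ⟨_, _, _, hF, S0486.result hF S P h⟩)))

end Cfsg.Agent.S0482
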