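import Cfsg.Statements.S0487
import Mathlib
import Cfsg.Agent.H12.NGFin
import Cfsg.Agent.H12.NGE1

set_option autoImplicit false
open Cfsg

namespace Cfsg.Agent.S0487

/-- A non-abelian finite simple group all of whose local subgroups are solvable is isomorphic to a projective special
linear group of dimension 2 over a field with at least 4 elements, to the projective special linear group of dimension 3
over the field with 3 elements, to the projective special unitary group of dimension 3 over the field with 9 elements,
to the alternating group of degree 7, or is simple with the order of a Suzuki group, of the smallest Mathieu group, or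
of the Tits group. -/
theorem result {G : Type*} [Group G] [Finite G] [IsSimpleGroup G]
    (hG : ¬ IsMulCommutative G) (hN : Cfsg.IsNGroup G) :
    (∃ (F : Type) (_ : Field F) (_ : Fintype F), 4 ≤ Fintype.card F ∧
        Nonempty (G ≃* Matrix.ProjectiveSpecialLinearGroup (Fin 2) F)) ∨
      Cfsg.IsSuzuki G ∨
      (∃ (F : Type) (_ : Field F) (_ : Fintype F), Fintype.card F = 3 ∧ Nonempty (G ≃* Matrix.ProjectiveSpecialLinearGroup (Fin 3) F)) ∨
      (∃ (F : Type) (_ : Field F) (_ : Fintype F), Fintype.card F = 9 ∧ Nonempty (G ≃* Cfsg.PSU 3 F 3)) ∨
      Nonempty (G ≃* alternatingGroup (Fin 7)) ∨ Cfsg.IsM11 G ∨ Cfsg.IsTits G := by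
  exact H12.NG.s0487 H12.NG.main_tits hG hN

end Cfsg.Agent.S0487
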