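import Cfsg.Statements.S0506
import Cfsg.Agent.H1.JRMain
import Cfsg.Agent.H12.JRSetup
import Cfsg.Agent.H18.JRCore

set_option autoImplicit false
open Cfsg H24 H26 H26.Gold H1 Subgroup

namespace Cfsg.Agent.S0506

/-- A non-abelian finite simple group with abelian Sylow 2-subgroups is isomorphic to a projective special linear group
of dimension 2 over a field with 2^a ≥ 4 elements or with q ≡ 3, 5 mod 8 elements, or is simple with the order of a Ree
group or of order 175560. -/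
theorem result {G : Type*} [Group G] [Finite G] [IsSimpleGroup G]
    (hG : ¬ IsMulCommutative G) (S : Sylow 2 G) (hS : IsMulCommutative (S : Subgroup G)) :
    (∃ a : ℕ, 2 ≤ a ∧ ∃ (F : Type) (_ : Field F) (_ : Fintype F), Fintype.card F = 2 ^ a ∧ Nonempty (G ≃* Matrix.ProjectiveSpecialLinearGroup (Fin 2) F)) ∨
      (∃ (F : Type) (_ : Field F) (_ : Fintype F), (Fintype.card F % 8 = 3 ∨ Fintype.card F % 8 = 5) ∧ Nonempty (G ≃* Matrix.ProjectiveSpecialLinearGroup (Fin 2) F)) ∨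
      Cfsg.IsRee G ∨ Cfsg.IsJ1 G := by
  have hT := syl_top_of_sylow Nat.prime_two S
  by_cases hse : ∃ H : Subgroup G, IsStronglyEmbedded H
  · obtain ⟨H, hH⟩ := hse
    exact Or.inl (psl_of_se hT hS hH)
  rcases (abelian_sylow hG hT hS).resolve_left hse with ⟨hE, h4⟩ | ⟨-, h8, -⟩
  · obtain ⟨F, _, _, h1, -, h2⟩ := psl_of_four hG hT hE h4
    exact Or.inr (Or.inl ⟨F, _, _, h1, h2⟩)
  obtain ⟨t, -, ht⟩ := exists_orderOf_eq (H := (S : Subgroup G)) Nat.prime_two
    (by rw [h8]; norm_num)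
  obtain ⟨cnj, K, V, h1, h2, h3, h4, h5, h6, h7, h9⟩ :=
    exists_comp hG hT hS (by rw [h8]; norm_num) hse ht
  obtain ⟨F, _, _, ι, φ, σ, h, -⟩ := exists_jr (fun P hP g hg k hk => by
    obtain ⟨c, -, e⟩ := Sylow_subJ Nat.prime_two hT (isPi_of_isPGroup Nat.prime_two hP) le_top
    exact (Abl.cj hS c).comm (e hg) (e hk)) ht cnj h1 h2 h3 h4 h5 h6 h7 h9
  exact Or.inr (Or.inr h.isRee_or.2)

end Cfsg.Agent.S0506
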