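import Cfsg.Statements.S1758
import Cfsg.Agent.H16.YZ
import Cfsg.Agent.H16.Y0
import Cfsg.Agent.H16.YR
import Cfsg.Agent.H16.YH
import Cfsg.Agent.H11.HsZ

set_option autoImplicit false
open Cfsg

namespace Cfsg.Agent.S1758

/-- Let G be a non-abelian finite simple group and let z be an involution of G such that Q, the generalized Fitting subgroup of the centralizer C of z, is a 2-group of symplectic type (every characteristic abelian subgroup of Q is cyclic). Then either Q is extraspecial (special with centre of order 2), or the image of z is central in the quotient of G by its largest normal odd-order subgroup, or G is isomorphic to a projective special linear group of dimension 2 over a field whose order is one more or one less than a power of 2, to the Mathieu group of degree 11, to the projective special linear group of dimension 3 over the field with 3 elements, to the projective special unitary group of dimension 3 over the field with 9 elements, or to the Higman–Sims group. -/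
theorem result {G : Type*} [Group G] [Finite G] [IsSimpleGroup G]
    (hG : ¬ IsMulCommutative G) (z : G) (hz : orderOf z = 2) (hQ : Cfsg.IsOfSymplecticType ↥(Cfsg.generalizedFittingSubgroup ↥(Subgroup.centralizer ({z} : Set G)))) :
    Cfsg.IsExtraspecial 2 ↥(Cfsg.generalizedFittingSubgroup ↥(Subgroup.centralizer ({z} : Set G))) ∨
      (QuotientGroup.mk' (Cfsg.oddCore G) z ∈ Subgroup.center (G ⧸ Cfsg.oddCore G)) ∨
      (∃ (F : Type) (_ : Field F) (_ : Fintype F), ((∃ n : ℕ, Fintype.card F = 2 ^ n + 1) ∨ (∃ n : ℕ, Fintype.card F + 1 = 2 ^ n)) ∧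
        Nonempty (G ≃* Matrix.ProjectiveSpecialLinearGroup (Fin 2) F)) ∨
      Cfsg.Spor.IsoM11 G ∨
      (∃ (F : Type) (_ : Field F) (_ : Fintype F), Fintype.card F = 3 ∧ Nonempty (G ≃* Matrix.ProjectiveSpecialLinearGroup (Fin 3) F)) ∨
      (∃ (F : Type) (_ : Field F) (_ : Fintype F), Fintype.card F = 9 ∧ Nonempty (G ≃* Cfsg.PSU 3 F 3)) ∨
      Cfsg.Spor.IsoHS G := by
  refine or_iff_not_imp_left.2 fun hne => Or.inr ?_
  rcases H16.SY.hall hz hQ hne with h | ⟨b, R, Q, h, hAB⟩
  · obtain ⟨g, h1, h2⟩ := H16.SY.not_isolated hG hz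
    refine absurd ((h _ h1.symm).resolve_left fun e => ?_) h2
    rw [conj_eq_one_iff] at e
    rw [e] at hz
    simp at hz
  rcases H16.SY.core hG h hAB with ⟨h1, h2⟩ | ⟨S, h1, h2⟩ | ⟨u1, u2, u3, x, a, S, o1, o2, o3, c12, c13,
    c23, xx, aa, xa, x1, x2, x3, a1, a2, a3, h1, h2⟩
  · exact (H16.SY.rec_cit hG h1 h2).imp id Or.inl
  · exact Or.inr ((H16.SY.rec_wr S h1 h2).imp id (Or.imp id Or.inl))
  · obtain ⟨φ, hφ⟩ := H16.SY.hs_emb o1 o2 o3 c12 c13 c23 xx aa xa x1 x2 x3 a1 a2 a3 h1 S h2
    exact Or.inr (Or.inr (Or.inr (Or.inr (H11.Hs.isoHS hφ))))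

end Cfsg.Agent.S1758
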