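import Cfsg.Statements.S1741
import Cfsg.Agent.H25.TwE
import Cfsg.Agent.S1169
import Cfsg.Agent.S1175

set_option autoImplicit false
open Cfsg

namespace Cfsg.Agent.S1741

/-- Let G be a finite simple group whose Sylow 2-subgroups are isomorphic to a Sylow 2-subgroup of the Mathieu group of degree 12, and suppose G has two involutions that are not conjugate. Then G is isomorphic to the Mathieu group of degree 12. -/
theorem result {G : Type*} [Group G] [Finite G] [IsSimpleGroup G]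
    (S : Sylow 2 G) (P : Sylow 2 ↥Cfsg.Spor.M12) (hS : Nonempty (↥(S : Subgroup G) ≃* ↥(P : Subgroup ↥Cfsg.Spor.M12)))
    (h2 : ∃ x y : G, orderOf x = 2 ∧ orderOf y = 2 ∧ ¬ IsConj x y) : Cfsg.Spor.IsoM12 G := by
  refine H25.Tw.main (fun S A hS h1 h2 h3 => ?_) (fun M S z hM z2 z1 hz hS hzS hc h2 h3 => ?_) S P hS h2
  · obtain ⟨T, rfl⟩ := hS.exists_sylow_top Nat.prime_two
    exact Cfsg.Agent.S1169.result T A h1 h2 h3
  · obtain ⟨T, rfl⟩ := hS.exists_sylow_top Nat.prime_two
    exact Cfsg.Agent.S1175.result M hM z (H25.Tw.ord2 z2 z1) hz ⟨T, hzS, fun s hs => H24.mem_C1.1 (hc hs)⟩ h2 h3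

end Cfsg.Agent.S1741
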