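import Cfsg.Statements.S1759
import Mathlib
import Cfsg.Agent.H7.XMain

set_option autoImplicit false
open Cfsg

namespace Cfsg.Agent.S1759

/-- Let G be a finite group and let z be an involution of G such that Q, the generalized Fitting subgroup of the centralizer C of z, is a 2-group of symplectic type (every characteristic abelian subgroup of Q is cyclic); suppose moreover that Q is extraspecial of order 32 and that the generalized Fitting subgroup L of G is a non-abelian simple group. Then L is isomorphic to one of: the projective special unitary group of dimension 3 over the field with 9 elements or of dimension 4 over the field with 4 or with 9 elements, the projective special linear group of dimension 4 over the field with 3 elements, the Chevalley group of type G₂ over the field with 3 elements, the alternating group of degree 8 or 9, the Mathieu group of degree 12, or the second or third Janko group. -/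
theorem result {G : Type*} [Group G] [Finite G] (z : G) (hz : orderOf z = 2) (hQ : Cfsg.IsOfSymplecticType ↥(Cfsg.generalizedFittingSubgroup ↥(Subgroup.centralizer ({z} : Set G)))) (hE : Cfsg.IsExtraspecial 2 ↥(Cfsg.generalizedFittingSubgroup ↥(Subgroup.centralizer ({z} : Set G))))
    (h32 : Nat.card ↥(Cfsg.generalizedFittingSubgroup ↥(Subgroup.centralizer ({z} : Set G))) = 32) (hL : IsSimpleGroup ↥(Cfsg.generalizedFittingSubgroup G))
    (hL' : ¬ IsMulCommutative ↥(Cfsg.generalizedFittingSubgroup G)) :
    (∃ (F : Type) (_ : Field F) (_ : Fintype F), Fintype.card F = 9 ∧ (Nonempty (↥(Cfsg.generalizedFittingSubgroup G) ≃* Cfsg.PSU 3 F 3) ∨ Nonempty (↥(Cfsg.generalizedFittingSubgroup G) ≃* Cfsg.PSU 4 F 3))) ∨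
      (∃ (F : Type) (_ : Field F) (_ : Fintype F), Fintype.card F = 4 ∧ Nonempty (↥(Cfsg.generalizedFittingSubgroup G) ≃* Cfsg.PSU 4 F 2)) ∨
      (∃ (F : Type) (_ : Field F) (_ : Fintype F), Fintype.card F = 3 ∧ (Nonempty (↥(Cfsg.generalizedFittingSubgroup G) ≃* Matrix.ProjectiveSpecialLinearGroup (Fin 4) F) ∨
        Nonempty (↥(Cfsg.generalizedFittingSubgroup G) ≃* ↥(Cfsg.Lie.chevG2.group F)))) ∨
      Nonempty (↥(Cfsg.generalizedFittingSubgroup G) ≃* ↥(alternatingGroup (Fin 8))) ∨
      Nonempty (↥(Cfsg.generalizedFittingSubgroup G) ≃* ↥(alternatingGroup (Fin 9))) ∨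
      Cfsg.Spor.IsoM12 ↥(Cfsg.generalizedFittingSubgroup G) ∨ Cfsg.Spor.IsoJ2 ↥(Cfsg.generalizedFittingSubgroup G) ∨
      Cfsg.Spor.IsoJ3 ↥(Cfsg.generalizedFittingSubgroup G) := by
  exact H7.X32.s1759 hz hE h32 hL hL'

end Cfsg.Agent.S1759
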