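import Cfsg.Statements.S1763
import Cfsg.Agent.H6.XE
import Cfsg.Agent.H6.XZU
import Cfsg.Agent.H6.XZO1
import Cfsg.Agent.H6.XZE
import Cfsg.Agent.H6.XZS
import Cfsg.Agent.H6.XZW
import Cfsg.Agent.H6.XZL2
import Cfsg.Agent.H6.XZ27
import Cfsg.Agent.H6.XZ81
import Cfsg.Agent.H6.XZ15
import Cfsg.Agent.H6.XZ9
import Cfsg.Agent.H6.XZTh
import Cfsg.Agent.H6.XZHN
import Cfsg.Agent.S1675
import Cfsg.Agent.S1718

set_option autoImplicit false
open Cfsg

namespace Cfsg.Agent.S1763

/-- Let G be a non-abelian finite simple group and let z be an involution of G such that Q, the generalized Fitting subgroup of the centralizer C of z, is a 2-group of symplectic type (every characteristic abelian subgroup of Q is cyclic); suppose moreover that Q is extraspecial of order 2^9. Then G is isomorphic to one of: the projective special linear group of dimension 6 over the field with 2 elements; the projective special unitary group of dimension 6 over the field with 4 elements;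 the commutator subgroup of the plus-type or of a minus-type orthogonal group of dimension 8 over the field with 2 elements, modulo its centre; the triality-twisted group of type D₄ over the field with 2 elements (realised over the field with 8 elements); the commutator subgroup of the plus-type orthogonal group of dimension 8 over the field with 3 elements modulo its centre; the first or second Conway group; the Thompson group; or the Harada–Norton group. -/
theorem result {G : Type*} [Group G] [Finite G] [IsSimpleGroup G]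
    (hG : ¬ IsMulCommutative G) (z : G) (hz : orderOf z = 2) (hQ : Cfsg.IsOfSymplecticType ↥(Cfsg.generalizedFittingSubgroup ↥(Subgroup.centralizer ({z} : Set G)))) (hE : Cfsg.IsExtraspecial 2 ↥(Cfsg.generalizedFittingSubgroup ↥(Subgroup.centralizer ({z} : Set G)))) (hcard : Nat.card ↥(Cfsg.generalizedFittingSubgroup ↥(Subgroup.centralizer ({z} : Set G))) = 2 ^ 9) :
    (∃ (F : Type) (_ : Field F) (_ : Fintype F), Fintype.card F = 2 ∧ (Nonempty (G ≃* Matrix.ProjectiveSpecialLinearGroup (Fin 6) F) ∨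
        Nonempty (G ≃* Cfsg.POmega F (Cfsg.quadFormPlus 4 F)) ∨
        (∃ a b : F, (∀ z₁ z₂ : F, z₁ ^ 2 + a * z₁ * z₂ + b * z₂ ^ 2 = 0 → z₁ = 0 ∧ z₂ = 0) ∧
          Nonempty (G ≃* Cfsg.POmega F (Cfsg.quadFormMinus 3 F a b))))) ∨
      (∃ (F : Type) (_ : Field F) (_ : Fintype F), Fintype.card F = 4 ∧ Nonempty (G ≃* Cfsg.PSU 6 F 2)) ∨
      (∃ (K : Type) (_ : Field K) (_ : Fintype K), Fintype.card K = 8 ∧ Nonempty (G ≃* ↥(Cfsg.Lie.twistedD4 K 2))) ∨
      (∃ (F : Type) (_ : Field F) (_ : Fintype F), Fintype.card F = 3 ∧ Nonempty (G ≃* Cfsg.POmega F (Cfsg.quadFormPlus 4 F))) ∨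
      Cfsg.Spor.IsoCo1 G ∨ Cfsg.Spor.IsoCo2 G ∨ Cfsg.Spor.IsoTh G ∨ Cfsg.Spor.IsoHN G := by
  have h := H6.XS.sit_of (w := 4) hz hE (by omega) hcard
  have zD : z ∈ conjugatesOf z := IsConj.refl z
  by_cases k : ∃ d ∈ conjugatesOf z, d ∈ H25.Bd.fs (Subgroup.centralizer {z}) ∧ d ≠ z
  swap
  · have nO := h.noOdd zD
    by_cases hU : H6.XS.AllU (conjugatesOf z) fun d => H25.Bd.fs (Subgroup.centralizer {d})
    · obtain ⟨b, hb⟩ := h.exists_col nO zD (h.not_center zD)
      exact .inr (.inl ⟨H0.F4, inferInstance, inferInstance, H0.F4.card,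
        H6.XS.US.six ⟨h, h.wc_of zD k, hU⟩ hb⟩)
    obtain ⟨b, c, t⟩ : ∃ b, H6.XS.Col (conjugatesOf z) z b ∧
        H6.XS.TO (fun d => H25.Bd.fs (Subgroup.centralizer {d})) z b := by
      rcases h.cases (h.wc_of zD k) zD with u | ⟨-, u⟩ | ⟨u, -⟩
      exacts [absurd u.allU hU, u, absurd u (by decide)]
    obtain ⟨V, _, _, _, -, ⟨F⟩⟩ := h.exists_fr zD
    obtain ⟨S, c⟩ := h.co (h.wc_of zD k) c t F
    obtain ⟨φ⟩ := c.iso
    have := Fact.mk Nat.prime_two
    have e : Cfsg.pCore 2 (Subgroup.centralizer {z}) =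
        Cfsg.generalizedFittingSubgroup (Subgroup.centralizer {z}) :=
      le_antisymm (fun g hg => (H6.XS.mem_map_sub _ g).2 (h.o2 z zD _ (Subgroup.map_subtype_le _)
        (H24.nml_map_subtype (Cfsg.pCore 2 (Subgroup.centralizer {z}))).norm
        ((H2.pCore_isPGroup 2 _).map _) ⟨g, hg, rfl⟩)) (le_sSup ⟨inferInstance, IsPGroup.of_card hcard⟩)
    have a4 : Cfsg.pCore 2 (Subgroup.centralizer {z}) = F.ρ.ker := Subgroup.ext fun g => by
      rw [e]; exact (H6.XS.mem_map_sub _ g).trans (F.ker g).symm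
    exact .inr (.inr (.inr (.inr (.inr (.inl (Cfsg.Agent.S1675.result
      (le_bot_iff.1 (sSup_le fun N hN => (nO N hN.1 (Nat.coprime_two_right.1 hN.2)).le)) (by_contra fun n => h.not_center zD (h.minN nO zD inferInstance n))
      z hz (H13.isPConstrained_of_centralizer_le (e ▸ H23.centralizer_fstar_le)) (e ▸ hE) (e ▸ hcard)
      ((QuotientGroup.quotientMulEquivOfEq a4).trans
        ((QuotientGroup.quotientKerEquivRange F.ρ).trans φ))))))))
  by_cases hr : H6.XS.Irr z (H25.Bd.fs (Subgroup.centralizer {z}))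
  swap
  · exact .inl ⟨ZMod 2, inferInstance, inferInstance, rfl,
      .inl ((h.red (by omega) zD hr).resolve_right fun e => absurd e.1 (by decide))⟩
  obtain ⟨V, _, _, _, -, ⟨F⟩⟩ := h.exists_fr zD
  obtain ⟨E, R, hv, hl⟩ := h.exists_vd (by omega) zD F k
  have hi := (F.irrV_iff h zD).2 hr
  by_cases he : H6.XS.Eich (F.VV (conjugatesOf z)) R
  · rcases hv.eich4 hi he with ho | ⟨A, A', hs⟩
    · obtain ⟨e⟩ := h.omega4 zD hl hv ho _ (H6.XS.mem_map_sub _)
      obtain ⟨d, h1, h2, h3⟩ := k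
      obtain ⟨g, rfl⟩ := h.trans z zD d h1
      exact .inr (.inr (.inr (.inr (.inl (Cfsg.Agent.S1718.result z hz _ rfl hE hcard e
        ⟨g, ⟨h.le zD h2, (H6.XS.mem_map_sub _ _).2 h2⟩, h3⟩)))))
    · exact (h.not_swap4 zD hl hs).elim
  obtain ⟨c, e | e | e | e | e | e⟩ := hv.free4 hi he (h.ax zD hl)
  · exact .inl ⟨ZMod 2, inferInstance, inferInstance, rfl,
      .inr (.inl (H6.XS.FC.iso27 ⟨h, zD, hv, hl, e⟩))⟩
  · exact .inr (.inr (.inr (.inl ⟨ZMod 3, inferInstance, inferInstance, rfl,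
      H6.XS.FC.iso81 ⟨h, zD, hv, hl, e⟩⟩)))
  · exact .inl ⟨ZMod 2, inferInstance, inferInstance, rfl,
      .inr (.inr ⟨1, 1, by decide, H6.XS.FC.iso15 ⟨h, zD, hv, hl, e⟩⟩)⟩
  · exact .inr (.inr (.inl (H6.XS.FC.iso9 ⟨h, zD, hv, hl, e⟩)))
  · exact .inr (.inr (.inr (.inr (.inr (.inr (.inr (H6.XS.FC.hn ⟨h, zD, hv, hl, e⟩)))))))
  · exact .inr (.inr (.inr (.inr (.inr (.inr (.inl (H6.XS.FC.th ⟨h, zD, hv, hl, e⟩)))))))

end Cfsg.Agent.S1763
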