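import Cfsg.Statements.S1290
import Cfsg.Agent.H0.PCMain
import Cfsg.Agent.H0.PCR1
import Cfsg.Agent.H0.PCR2
import Cfsg.Agent.S0516
import Cfsg.Agent.S0514
import Cfsg.Agent.S0507
import Cfsg.Agent.S0523
import Cfsg.Agent.H17.LyRec
-- import your own Cfsg.Agent.* helpers here

set_option autoImplicit false
open Cfsg

namespace Cfsg.Agent.S1290

/-- Let G be a non-abelian finite simple group, S a Sylow 2-subgroup, and W the subgroup generated by the cores O(C_G(x)) of the involutions x of S. If W has odd order and W ∩ C_G(x) = O(C_G(x)) for each involution x ∈ S, then O(C_G(t)) = 1 for every involution t of G. -/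
theorem result {G : Type*} [Group G] [Finite G] [IsSimpleGroup G] (hna : ¬ IsMulCommutative G) (S : Sylow 2 G) (hodd : Odd (Nat.card ↥(⨆ x : {x : G // x ∈ S ∧ orderOf x = 2}, Cfsg.centralizerPPrimeCore 2 (x : G)))) (hfix : ∀ x : G, x ∈ S → orderOf x = 2 → (⨆ y : {y : G // y ∈ S ∧ orderOf y = 2}, Cfsg.centralizerPPrimeCore 2 (y : G)) ⊓ Subgroup.centralizer {x} = Cfsg.centralizerPPrimeCore 2 x) (t : G) (ht : orderOf t = 2) : Cfsg.centralizerPPrimeCore 2 t = ⊥ := by
  open H0.PC H24 H3.B71 H6.ZD H3.P0 Subgroup in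
  have hs : Sig (S : Subgroup G) := ⟨hodd, hfix⟩
  have hS := syl_top_of_sylow Nat.prime_two S
  have h4 := f4_of_simple hna S
  have hp := hs.pc hS h4
  have ti : Inv t := inv_of_order ht
  have fin : (∀ t : G, Inv t → Nar (G ⧸ N[Wc (S : Subgroup G)]) t) → θ t = ⊥ := fun e => by
    obtain ⟨g, -, hg⟩ := Sylow_Jsub Nat.prime_two hS ti.two le_top
    have := th_le (hg (mem_cj'.2 ⟨t, mem_zpowers t, rfl⟩)) (ti.conj g)
    rw [hs.eq_bot hS h4 e, ← th_cj] at this
    exact cj_eq_bot.1 (le_bot_iff.1 this)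
  by_cases hr : PRankLE 2 2 G
  swap
  · exact (pc3 hp hr).elim fin fun e => e.2 t ti
  obtain ⟨u, hu, -, -, ui, -⟩ := id h4
  obtain ⟨z, zS, zi, zc⟩ := exists_cent_inv hS.pi (ne_bot_of_mem hu ui.1)
  have fin2 : C{z} ≤ N[Wc (S : Subgroup G)] → θ t = ⊥ := fun e => fin
    (hp.nar_all hS zi zS (fun x hx => mem_C1.1 (zc hx)) (hp.nar_of_cent zi
      (a := ((1 : G) : G ⧸ N[Wc (S : Subgroup G)])) (by rwa [MulAction.stabilizer_quotient])))
  have fin3 : (∀ a b : G, Inv a → b * a = a * b → θ a ≤ C{b}) → θ t = ⊥ := fun e => fin2 (by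
    have : Wc (S : Subgroup G) ≤ C{z} := iSup_le fun x =>
      e x z (inv_of_order x.2.2) (mem_C1.1 (zc x.2.1)).symm
    rw [← inf_eq_left.2 this, hs.2 z zS zi.orderOf_eq, th_eq]
    exact (pcore_nml _ _).norm)
  have := Fintype.ofFinite (GaloisField 2 4)
  have hF : Fintype.card (GaloisField 2 4) = 16 := by
    rw [← Nat.card_eq_fintype_card, GaloisField.card _ _ (by norm_num)]; rfl
  obtain ⟨P⟩ : Nonempty (Sylow 2 (PSU 3 (GaloisField 2 4) 4)) := inferInstance
  rcases S0516.result hna hr S hF P with ⟨n, hn, e⟩ | h | h | ⟨⟨e⟩⟩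
  · obtain ⟨N, hN, ho, k, hk⟩ := S0514.result S n hn e z zi.orderOf_eq
    have h1 : N.map (C{z}).subtype ≤ θ z := by
      rw [th_eq]
      exact pcore_max ((isPi_compl_iff Nat.prime_two).2 (by
        rw [card_map_of_injective (subtype_injective _)]; exact ho.not_two_dvd_nat)) (nml_map_subtype _)
    refine fin2 (((hS.of_le zc le_top).isProd_of_idx (map_subtype_le N) ?_).sup_eq.ge.trans
      (sup_le ((norm_self _).trans (norm_W _)) (h1.trans ((th_le zS zi).trans (norm_self _)))))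
    rw [relIndex, subgroupOf, comap_map_eq_self_of_injective (subtype_injective _), hk]
    exact piNat_self_pow Nat.prime_two k
  · rcases S0507.result S h with ⟨F, _, _, h1, ⟨f⟩⟩ | ⟨F, _, _, q, h1, h3, ⟨f⟩⟩ | h
    · exact fin3 fun a b => core_psl3 (Nat.odd_iff.2 (by omega)) f
    · exact fin3 fun a b => core_psu3 h1 (Nat.odd_iff.2 (by omega)) f
    · exact core_m11 h ti
  · rcases S0523.result S h with ⟨F, _, _, h1, ⟨f⟩⟩ | ⟨F, _, _, q, h1, h3, ⟨f⟩⟩ | h
    · exact fin3 fun a b => core_psl3 h1 f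
    · exact fin3 fun a b => core_psu3 h1 h3 f
    · exact core_m11 h ti
  · obtain ⟨α, hα⟩ := H22.u34_sylow hF P
    exact fin (hp.nar_of_se ((H17.Ly.us_of_u34 hα).of_equiv e.symm).isStronglyEmbedded)


end Cfsg.Agent.S1290
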