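import Cfsg.Statements.S1291
import Cfsg.Agent.H0.PCK
import Cfsg.Agent.S1290
-- import your own Cfsg.Agent.* helpers here

set_option autoImplicit false
open Cfsg

namespace Cfsg.Agent.S1291

/-- Let G be a balanced finite group with O(G) = 1 and 2-rank at least 3, such that the commuting graph of Klein four-subgroups of G, or of a Sylow 2-subgroup of G, is connected. Then O(C_G(t)) = 1 for every involution t. -/
theorem result {G : Type*} [Group G] [Finite G] (hbal : Cfsg.IsBalanced G) (hO : Cfsg.oddCore G = ⊥) (hrank : ¬ Cfsg.PRankLE 2 2 G) (hconn : Cfsg.IsFourConnected G ∨ ∃ S : Sylow 2 G, Cfsg.IsFourConnected ↥(S : Subgroup G)) (t : G) (ht : orderOf t = 2) : Cfsg.centralizerPPrimeCore 2 t = ⊥ := by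
  open H0.PC H24 H3.B71 H3.P0 Subgroup in
  rcases hconn with h | ⟨S, h⟩
  · exact core_eq_bot_of_conn hbal hO hrank h ht
  have ti : Inv t := inv_of_order ht
  have e := (sig_of_bal hbal S hrank h).eq_bot_of_simple
    (fun L _ _ _ hL P hP x hx => S1290.result hL P hP.1 hP.2 x hx) hO S
    fun h1 => hrank fun A ab hA => (h1 A ab hA).trans (by norm_num)
  obtain ⟨g, -, hg⟩ := Sylow_Jsub Nat.prime_two (syl_top_of_sylow Nat.prime_two S) ti.two le_top
  have := th_le (hg (mem_cj'.2 ⟨t, mem_zpowers t, rfl⟩)) (ti.conj g)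
  rw [e, ← th_cj] at this
  exact cj_eq_bot.1 (le_bot_iff.1 this)


end Cfsg.Agent.S1291
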