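import Cfsg.Statements.S1760
import Cfsg.Agent.H6.XE
import Cfsg.Agent.S1675
-- import your own Cfsg.Agent.* helpers here

set_option autoImplicit false
open Cfsg

namespace Cfsg.Agent.S1760

/-- Let G be a finite group with no nontrivial normal subgroup of odd order, and let z be an involution of G such that Q, the generalized Fitting subgroup of the centralizer C of z, is a 2-group of symplectic type (every characteristic abelian subgroup of Q is cyclic); suppose moreover that Q is extraspecial of order at least 32. Then one of the following holds: z is central in G; or some conjugate of z other than z lies in Q; or the normal closure of z in G equals the generalized Fitting subgroup of G and is isomorphic to a projective special unitary group of dimension at least 4 over the field with 4 elements, to the second Conway group, or to the projective special linear group of dimension 4 over the field with 3 elements. -/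
theorem result {G : Type*} [Group G] [Finite G] (hO : Cfsg.oddCore G = ⊥) (z : G) (hz : orderOf z = 2) (hQ : Cfsg.IsOfSymplecticType ↥(Cfsg.generalizedFittingSubgroup ↥(Subgroup.centralizer ({z} : Set G)))) (hE : Cfsg.IsExtraspecial 2 ↥(Cfsg.generalizedFittingSubgroup ↥(Subgroup.centralizer ({z} : Set G))))
    (h32 : 32 ≤ Nat.card ↥(Cfsg.generalizedFittingSubgroup ↥(Subgroup.centralizer ({z} : Set G)))) :
    z ∈ Subgroup.center G ∨
      (∃ g : G, g * z * g⁻¹ ≠ z ∧ g * z * g⁻¹ ∈ (Cfsg.generalizedFittingSubgroup ↥(Subgroup.centralizer ({z} : Set G))).map (Subgroup.centralizer ({z} : Set G)).subtype) ∨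
      (Subgroup.normalClosure ({z} : Set G) = Cfsg.generalizedFittingSubgroup G ∧
        ((∃ (F : Type) (_ : Field F) (_ : Fintype F), Fintype.card F = 4 ∧ ∃ m : ℕ, 4 ≤ m ∧ Nonempty (↥(Cfsg.generalizedFittingSubgroup G) ≃* Cfsg.PSU m F 2)) ∨
          Cfsg.Spor.IsoCo2 ↥(Cfsg.generalizedFittingSubgroup G) ∨
          (∃ (F : Type) (_ : Field F) (_ : Fintype F), Fintype.card F = 3 ∧ Nonempty (↥(Cfsg.generalizedFittingSubgroup G) ≃* Matrix.ProjectiveSpecialLinearGroup (Fin 4) F)))) := by
  by_cases h1 : z ∈ Subgroup.center G
  · exact Or.inl h1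
  refine Or.inr (or_iff_not_imp_left.2 fun h2 => ?_)
  obtain ⟨e, h | h | h⟩ := H6.XS.s1760 (fun a b t c d e f g => Cfsg.Agent.S1675.result a b t c d e f g)
    hO hz hE h32 h1 h2
  exacts [⟨e, Or.inl ⟨H0.F4, inferInstance, inferInstance, H0.F4.card, h⟩⟩, ⟨e, Or.inr (Or.inl h)⟩,
    ⟨e, Or.inr (Or.inr ⟨ZMod 3, inferInstance, inferInstance, rfl, h⟩)⟩]

end Cfsg.Agent.S1760
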