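import Cfsg.Statements.S1057
import Mathlib
import Cfsg.Agent.H19.TwoG2
import Cfsg.Agent.S1059

set_option autoImplicit false
open Cfsg

namespace Cfsg.Agent.S1057

/-- G₂(2)′ ≅ PSU₃(3). -/
theorem result {F K : Type*} [Field F] [Fintype F] [Field K] [Fintype K] (hF : Fintype.card F = 2) (hK : Fintype.card K = 9) :
    Nonempty (↥(commutator ↥(Cfsg.Lie.chevG2.group F)) ≃* Cfsg.PSU 3 K 3) := by
  have hc := Cfsg.Agent.S1059.result (F := F) hF
  obtain ⟨e⟩ := H19.g2_two hF (by rw [hc]; norm_num)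
  have e1 : ↥(commutator ↥(Cfsg.Lie.chevG2.group F)) ≃* ↥(commutator H19.T9) :=
    (e.subgroupMap _).trans (MulEquiv.subgroupCongr (by
      rw [commutator_def, Subgroup.map_commutator, Subgroup.map_top_of_surjective _ e.surjective]; rfl))
  have e2 : ↥(commutator H19.T9) ≃* Cfsg.SU 3 H19.F9 3 :=
    (MulEquiv.subgroupCongr H19.commutator_T9).trans
      (MonoidHom.ofInjective SemidirectProduct.inl_injective).symm
  have e3 : Cfsg.SU 3 H19.F9 3 ≃* Cfsg.SU 3 K 3 :=
    H16.suCongr (FiniteField.ringEquivOfCardEq (by rw [H19.card_F9, hK]; norm_num)) 3 3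
  have hz : Subgroup.center (Cfsg.SU 3 K 3) = ⊥ := by
    rw [← Subgroup.card_eq_one, H7.card_center_su (q := 3) (by rw [hK]; norm_num) 3 (by norm_num)]
    norm_num
  exact ⟨e1.trans (e2.trans (e3.trans (H7.quotCenterEquivOfBot hz).symm))⟩

end Cfsg.Agent.S1057
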