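import Cfsg.Statements.S1141
import Mathlib
import Cfsg.Agent.H12.U3b

set_option autoImplicit false
open Cfsg

namespace Cfsg.Agent.S1141

/-- Let `q = 2^n ≥ 4` and `|F| = q²`. A Sylow 2-subgroup `S` of `PSU₃(q)` has order `q³`, its centre has order `q`, and `S` is a Suzuki 2-group. -/
theorem result {F : Type*} [Field F] [Fintype F] {n : ℕ} (hn : 2 ≤ n)
    (hF : Fintype.card F = (2 ^ n) ^ 2) (S : Sylow 2 (Cfsg.PSU 3 F (2 ^ n))) :
    Nat.card S = (2 ^ n) ^ 3 ∧ Nat.card (Subgroup.center ↥(S : Subgroup (Cfsg.PSU 3 F (2 ^ n)))) = 2 ^ n ∧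
      Cfsg.IsSuzukiTwoGroup ↥(S : Subgroup (Cfsg.PSU 3 F (2 ^ n))) := by
  have hchar : CharP F 2 := by
    obtain ⟨p, k, hp, hc, hk, e⟩ := H15.exists_char_pow hF
    have : p = 2 := by
      have h : p ∣ 2 ^ n := e ▸ dvd_pow_self p hk.ne'
      exact (Nat.prime_dvd_prime_iff_eq hp Nat.prime_two).1 (hp.dvd_of_dvd_pow h)
    exact this ▸ hc
  obtain ⟨e⟩ := H12.U3.nonempty_equiv_sylow (hF := hF) (by omega) rfl S
  refine ⟨?_, ?_, H12.U3.isSuzuki_of_equiv e (H12.U3.isSuzuki hn rfl)⟩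
  · exact (Nat.card_congr e.toEquiv).symm.trans H12.U3.card_Uq
  · exact (Nat.card_congr (Subgroup.centerCongr e).toEquiv).symm.trans H12.U3.card_center

end Cfsg.Agent.S1141
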