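import Cfsg.Statements.S0435
import Mathlib
import Cfsg.Agent.S0420
import Cfsg.Agent.S1603
import Cfsg.Agent.H9.M24

set_option autoImplicit false
open Cfsg

namespace Cfsg.Agent.S0435

/-- Involution centralisers in a simple group of order 7920 have order 48. -/
theorem result {G : Type*} [Group G] [Finite G] (hG : Cfsg.IsM11 G) (x : G) (hx : orderOf x = 2) : Nat.card (Subgroup.centralizer ({x} : Set G)) = 48 := by
  obtain ⟨p, hp⟩ : (H9.ofMask H9.dod0).Nonempty :=
    Finset.card_pos.1 (by rw [(H9.mem_dodecads.1 H9.dod0_mem).2]; norm_num)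
  obtain ⟨e⟩ := Cfsg.Agent.S0420.result hG _ H9.dod0_mem p hp
  obtain ⟨e'⟩ := Cfsg.Agent.S1603.result _ H9.dod0_mem p hp (e x) (by rw [MulEquiv.orderOf_eq, hx])
  have h1 : Nat.card (GL (Fin 2) (ZMod 3)) = 48 := by
    have : Fact (Nat.Prime 3) := ⟨by norm_num⟩
    rw [Matrix.card_GL_field]
    simp [Fin.prod_univ_two]
  rw [← h1, ← Nat.card_congr e'.toEquiv]
  refine Nat.card_congr (e.toEquiv.subtypeEquiv fun g => ?_)
  simp only [Subgroup.mem_centralizer_singleton_iff, MulEquiv.toEquiv_eq_coe, EquivLike.coe_coe, ← map_mul, EmbeddingLike.apply_eq_iff_eq]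

end Cfsg.Agent.S0435
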