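import Cfsg.Statements.S1644
import Mathlib
import Cfsg.Agent.H11.J1Fin

set_option autoImplicit false
open Cfsg

namespace Cfsg.Agent.S1644

/-- The first Janko group recognised by an involution centraliser, at the level of isomorphism: a finite simple group with abelian Sylow 2-subgroups of order 8 and an involution whose centraliser is isomorphic to Z/2 × A₅ is isomorphic to the subgroup of GL(7, 11) generated by the two explicit Janko matrices. -/
theorem result {G : Type*} [Group G] [Finite G] [IsSimpleGroup G] (S : Sylow 2 G) (hS : IsMulCommutative (S : Subgroup G)) (h8 : Nat.card S = 8) (t : G) (ht : orderOf t = 2) (e : (Subgroup.centralizer ({t} : Set G)) ≃* Multiplicative (ZMod 2) × alternatingGroup (Fin 5)) : Cfsg.Spor.IsoJ1 G := by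
  obtain ⟨g, hg⟩ := H11.J1.exists_conj_mem S.not_dvd_index (H6.mul_self_of_orderOf_two ht)
  refine H11.J1.iso' ht (g⁻¹ • S) (fun x hx => ?_) e
  have h1 : g * x * g⁻¹ ∈ (S : Subgroup G) := by
    have h0 : x ∈ ((g⁻¹ • S : Sylow 2 G) : Subgroup G) := hx
    rw [Sylow.coe_subgroup_smul, Subgroup.mem_pointwise_smul_iff_inv_smul_mem] at h0
    simpa using h0
  have h2 := congrArg Subtype.val (hS.is_comm.comm ⟨_, h1⟩ ⟨_, hg⟩)
  simpa using h2

end Cfsg.Agent.S1644
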