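import Cfsg.Statements.S0102
import Mathlib
import Cfsg.Agent.H3.Transfer

set_option autoImplicit false
open Cfsg

namespace Cfsg.Agent.S0102

/-- A finite perfect group with cyclic Sylow p-subgroups has no perfect central extension whose kernel has order divisible by p. -/
theorem result {G : Type*} {H : Type*} [Group G] [Group H] [Finite G] [Finite H] (hG : commutator G = ⊤) {p : ℕ} [Fact p.Prime] (hcyc : ∀ P : Sylow p G, IsCyclic P) (σ : H →* G) (hσ : Function.Surjective σ) (hz : σ.ker ≤ Subgroup.center H) (hH : commutator H = ⊤) : ¬ p ∣ Nat.card σ.ker := by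
  intro hd
  have hz' := hz
  clear hz
  obtain ⟨z, hz, ho⟩ := H2.exists_mem_orderOf_eq_prime (Fact.out : p.Prime) hd
  obtain ⟨P, hP⟩ := (IsPGroup.of_card (p := p) (n := 1) (G := Subgroup.zpowers z)
    (by rw [Nat.card_zpowers, pow_one, ho])).exists_le_sylow
  have hc := hcyc (P.mapSurjective hσ)
  have hc' : IsCyclic ((P : Subgroup H).map σ) := hc
  have hcomm : IsMulCommutative (P : Subgroup H) := by
    refine MonoidHom.isMulCommutative_of_isCyclic_of_ker_le_center
      (σ.subgroupMap (P : Subgroup H)) fun x hx => ?_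
    rw [Subgroup.mem_center_iff]
    intro y
    have h1 : (x : H) ∈ σ.ker := congrArg Subtype.val (MonoidHom.mem_ker.mp hx)
    exact Subtype.ext (Subgroup.mem_center_iff.mp (hz' h1) y)
  have h1 := H3.abelian_hall_inf_commutator_inf_center hcomm P.card_coprime_index
  have h2 : z ∈ (⊥ : Subgroup H) :=
    h1 ▸ ⟨⟨hP (Subgroup.mem_zpowers z), hH ▸ Subgroup.mem_top z⟩, hz' hz⟩
  rw [Subgroup.mem_bot] at h2
  rw [h2, orderOf_one] at ho
  exact (Fact.out : p.Prime).one_lt.ne ho

end Cfsg.Agent.S0102
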