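import Cfsg.Statements.S1066
import Mathlib
import Cfsg.Agent.H20.TwE6

set_option autoImplicit false
open Cfsg

namespace Cfsg.Agent.S1066

/-- `gcd(3, q+1) · |²E₆(q)| = q³⁶ (q² - 1)(q⁵ + 1)(q⁶ - 1)(q⁸ - 1)(q⁹ + 1)(q¹² - 1)`, the group being realised inside E₆ over the field with `q²` elements. -/
theorem result {K : Type*} [Field K] [Fintype K] {q : ℕ} (hq : IsPrimePow q) (hK : Fintype.card K = q ^ 2) :
    Nat.gcd 3 (q + 1) * Nat.card ↥(Cfsg.Lie.twistedE6 K q) =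
      q ^ 36 * (q ^ 2 - 1) * (q ^ 5 + 1) * (q ^ 6 - 1) * (q ^ 8 - 1) * (q ^ 9 + 1) * (q ^ 12 - 1) := by
  obtain ⟨T, hJ, h1, h2, -⟩ := H20.E6.main hq hK
  have h3 := T.card_eq_poin (A := ℤ) (y := q) fun i => by exact_mod_cast h1 i
  have h4 := H20.tpoinE6 T hJ (q : ℤ)
  have h5 : ∀ k, 1 ≤ q ^ k := fun k => Nat.one_le_pow k q hq.pos
  rw [H19.card_pos, show Cfsg.Lie.chevE6.nroots / 2 = 36 from rfl] at h3
  zify [hq.one_lt.le, h5] at h2 ⊢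
  rw [h3]
  linear_combination (q : ℤ) ^ 36 * H20.goodE6.rs.poin T.W1 Set.univ (q : ℤ) * h2 + (q : ℤ) ^ 36 * h4

end Cfsg.Agent.S1066
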