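import Cfsg.Statements.S1616
import Mathlib
import Cfsg.Agent.H0.Prim
import Cfsg.Agent.H0.Classify

set_option autoImplicit false
open Cfsg

namespace Cfsg.Agent.S1616

/-- If O₂(⟨D_x⟩) is not central in ⟨D_x⟩ for some transposition x, the 3-transposition group is some Sp(2n, 2) or PSU(n, 2). -/
theorem result {G : Type*} [Group G] [Finite G] (hsol : ∀ N : Subgroup G, N.Normal → Group.IsSolvable ↥N → N = ⊥) (hperf : ⁅commutator G, commutator G⁆ = commutator G) {D : Set G} (hD : Cfsg.IsThreeTranspositionClass D) (x : G) (hx : x ∈ D) (h : ¬ Cfsg.pCore 2 ↥(Subgroup.closure {y : G | y ∈ D ∧ y ≠ x ∧ Commute x y}) ≤ Subgroup.center ↥(Subgroup.closure {y : G | y ∈ D ∧ y ≠ x ∧ Commute x y})) : (∃ n : ℕ, Nonempty (G ≃* Matrix.symplecticGroup (Fin n) (ZMod 2))) ∨ ∃ (F : Type) (_ : Field F) (_ : Fintype F) (n : ℕ), Fintype.card F = 4 ∧ Nonempty (G ≃* Cfsg.PSU n F 2) := by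
  have hP := H0.ptt_of_fischer hsol hperf hD
  have hZ : Subgroup.center G = ⊥ :=
    hsol _ inferInstance (H2.isSolvable_of_isMulCommutative _)
  rw [Cfsg.pCore, sSup_le_iff] at h
  push Not at h
  obtain ⟨N, ⟨hN, h2⟩, hc⟩ := h
  have hPol := @H0.PTT.pol_of_two G _ _ D hP x hx N hN h2 hc
  rcases hPol.model hZ with ⟨m, -, φ, hφ⟩ | ⟨n, hn, φ, hφ⟩
  · exact Or.inl ⟨m, hφ.iso_sp hPol hZ⟩
  · exact Or.inr ⟨H0.F4, inferInstance, inferInstance, n, rfl, hφ.iso_su hPol hZ hn⟩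

end Cfsg.Agent.S1616
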