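import Cfsg.Statements.S1617
import Mathlib
import Cfsg.Agent.H18.R3b

set_option autoImplicit false
open Cfsg

namespace Cfsg.Agent.S1617

open H24 H26 Subgroup H18.R3

/-- A generating conjugacy class of involutions on which the group (with trivial solvable radical) acts with rank 3 is a class of 3-transpositions. -/
theorem result {G : Type*} [Group G] [Finite G] (hsol : ∀ N : Subgroup G, N.Normal → Group.IsSolvable ↥N → N = ⊥) {D : Set G} (hinv : ∀ d ∈ D, orderOf d = 2) (hconj : ∃ d ∈ D, D = conjugatesOf d) (hgen : Subgroup.closure D = ⊤) (hrank : ∀ x ∈ D, ∃ y ∈ D, ∃ z ∈ D, {w : G | ∃ g : G, Commute g x ∧ g * y * g⁻¹ = w} ≠ {w : G | ∃ g : G, Commute g x ∧ g * x * g⁻¹ = w} ∧ {w : G | ∃ g : G, Commute g x ∧ g * z * g⁻¹ = w} ≠ {w : G | ∃ g : G, Commute g x ∧ g * x * g⁻¹ = w} ∧ {w : G | ∃ g : G, Commute g x ∧ g * y * g⁻¹ = w} ≠ {w : G | ∃ g : G, Commute g x ∧ g * z * g⁻¹ = w} ∧ D = {w : G | ∃ g : G, Commute g x ∧ g * x * g⁻¹ = w} ∪ {w : G | ∃ g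 : G, Commute g x ∧ g * y * g⁻¹ = w} ∪ {w : G | ∃ g : G, Commute g x ∧ g * z * g⁻¹ = w}) : Cfsg.IsThreeTranspositionClass D := by
  refine ⟨⟨hinv, ?_⟩, hconj, hgen⟩
  obtain ⟨x, hx, hDx⟩ := hconj
  have sq : ∀ d ∈ D, d * d = 1 := fun d hd => by rw [← pow_two, ← hinv d hd, pow_orderOf_eq_one]
  have ne : ∀ d ∈ D, d ≠ 1 := fun d hd e => by have := hinv d hd; rw [e] at this; simp at this
  have mem : ∀ d, d ∈ D ↔ ∃ g, g * x * g⁻¹ = d := fun d => by rw [hDx]; exact isConj_iff
  have conj : ∀ d ∈ D, ∀ g, g * d * g⁻¹ ∈ D := fun d hd g => by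
    obtain ⟨k, rfl⟩ := (mem d).1 hd
    exact (mem _).2 ⟨g * k, by group⟩
  have hD : ∀ a ∈ D, ∀ d ∈ D, ∃ g, d = g * a * g⁻¹ := fun a ha d hd => by
    obtain ⟨k, rfl⟩ := (mem a).1 ha
    obtain ⟨l, rfl⟩ := (mem d).1 hd
    exact ⟨l * k⁻¹, by group⟩
  have nsol : ¬ Sol (closure D) := fun e =>
    ne x hx (mem_bot.1 (hsol _ (H6.normal_closure_of_invariant fun g d hd => conj d hd g) e ▸
      subset_closure hx))
  have hadj : ∀ a ∈ D, ∃ b ∈ D, ¬ Commute b a := fun a ha => by
    by_contra! hh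
    refine nsol (Abl.sol (isMulCommutative_closure fun s hs t ht => ?_))
    obtain ⟨g, rfl⟩ := hD a ha t ht
    have := (hh _ (conj s hs g⁻¹)).conj g
    rwa [show g * (g⁻¹ * s * g⁻¹⁻¹) * g⁻¹ = s by group] at this
  obtain ⟨c, hc, hxc, hcx⟩ : ∃ c ∈ D, Commute x c ∧ c ≠ x := by
    by_contra! hh
    have h1 := Gold.zstar_sub' (H := ⊤) (mem_top x) (ne x hx) (sq x hx) fun g _ e =>
      hh _ (conj x hx g) e
    rw [hsol _ (nml_top_iff.1 (pcore_nml _ _)) (Gold.Od_sol _), le_bot_iff, comm_eq_bot,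
      centsC] at h1
    exact ne x hx (zpowers_eq_bot.1 (hsol _ (nml_top_iff.1 ⟨le_top, norm_of_cent h1⟩)
      (cyc_zpowers x).sol))
  obtain ⟨b, hb, hbx⟩ := hadj x hx
  have one : ∀ w ∈ D, ¬ Commute w x → orderOf (x * w) = orderOf (x * b) := by
    obtain ⟨y, -, z, -, -, -, -, e⟩ := hrank x hx
    have cm : ∀ g v, Commute g x → (Commute (g * v * g⁻¹) x ↔ Commute v x) := fun g v hg => by
      rw [← Commute.conj_iff (a := v) g, hg.eq, mul_inv_cancel_right]
    have od : ∀ g v, Commute g x → orderOf (x * (g * v * g⁻¹)) = orderOf (x * v) := fun g v hg => by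
      rw [← orderOf_conj g (x * v), ← mul_assoc g, hg.eq, mul_assoc, mul_assoc, mul_assoc]
    have key : ∀ w ∈ D, ¬ Commute w x → ∀ v, (¬ Commute y x → y = v) → (¬ Commute z x → z = v) →
        orderOf (x * w) = orderOf (x * v) := fun w hw hn v h1 h2 => by
      rcases e ▸ hw with (⟨g, hg, rfl⟩ | ⟨g, hg, rfl⟩) | ⟨g, hg, rfl⟩
      · exact absurd ((cm g x hg).2 (Commute.refl x)) hn
      · rw [od g y hg, h1 fun e => hn ((cm g y hg).2 e)]
      · rw [od g z hg, h2 fun e => hn ((cm g z hg).2 e)]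
    intro w hw hn
    rcases e ▸ hc with (⟨g, hg, rfl⟩ | ⟨g, hg, rfl⟩) | ⟨g, hg, rfl⟩
    · exact absurd (by rw [hg.eq, mul_inv_cancel_right]) hcx
    · have h1 := (cm g y hg).1 hxc.symm
      rw [key w hw hn z (fun e => absurd h1 e) fun _ => rfl,
        key b hb hbx z (fun e => absurd h1 e) fun _ => rfl]
    · have h1 := (cm g z hg).1 hxc.symm
      rw [key w hw hn y (fun _ => rfl) fun e => absurd h1 e,
        key b hb hbx y (fun _ => rfl) fun e => absurd h1 e]
  have all : ∀ a ∈ D, ∀ d ∈ D, Commute a d ∨ orderOf (a * d) = orderOf (x * b) := fun a ha d hd => by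
    refine or_iff_not_imp_left.2 fun hn => ?_
    obtain ⟨g, e⟩ := hD a ha x hx
    rw [← one _ (conj d hd g) fun e' => hn (by
      rw [e, Commute.conj_iff] at e'; exact e'.symm), ← orderOf_conj g (a * d), e]
    congr 1; group
  have refl : ∀ j : ℕ, (x * b) ^ j * x ∈ D := fun j => by
    have h1 := fun m => refl_pow (sq x hx) (sq b hb) m
    rcases Nat.even_or_odd' j with ⟨i, rfl | rfl⟩
    · have := conj x hx ((x * b) ^ i)
      rwa [mul_assoc, h1, ← mul_assoc, ← pow_add, ← two_mul] at this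
    · have := conj _ (conj b hb x) ((x * b) ^ i)
      have e : x * b * x⁻¹ * ((x * b) ^ i)⁻¹ = x * b * ((x * b) ^ i * x) := by
        rw [← h1, inv_eq (sq x hx), mul_assoc (x * b)]
      rwa [mul_assoc, e, ← mul_assoc, ← mul_assoc, ← pow_succ, ← pow_add,
        show i + 1 + i = 2 * i + 1 by ring] at this
  set m := orderOf (x * b) with hm
  have m0 : 0 < m := orderOf_pos _
  have m2 : ¬ m ∣ 2 := fun e => hbx (comm_of_sq (sq x hx) (sq b hb)
    ((pow_two _).symm.trans (orderOf_dvd_iff_pow_eq_one.1 e))).symm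
  have div : ∀ j, 1 < j → j ∣ m → m ∣ j * 2 := fun j h1 hj => by
    rcases all _ (refl j) x hx with e | e
    · have := sq_of_comm (sq _ (refl j)) (sq x hx) e
      rwa [mul_assoc _ x x, sq x hx, mul_one, ← pow_add, ← mul_two, ← orderOf_dvd_iff_pow_eq_one] at this
    · rw [mul_assoc, sq x hx, mul_one, orderOf_pow_of_dvd (by omega) hj, ← hm] at e
      exact absurd e (Nat.div_lt_self m0 h1).ne
  have hp : m.Prime := by
    by_contra hp
    obtain ⟨r, s, h1, h2, e⟩ := (Nat.not_prime_iff_exists_mul_eq (n := m) (by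
      by_contra h; apply m2; interval_cases m; norm_num)).1 hp
    have r1 : 1 < r := by
      by_contra h
      interval_cases r <;> omega
    have s1 : 1 < s := by
      by_contra h
      interval_cases s <;> omega
    have h3 := div r r1 ⟨s, e.symm⟩
    have h4 := div s s1 ⟨r, by rw [← e, mul_comm]⟩
    rw [← e] at h3 h4
    rw [mul_comm r] at h4
    have h5 := Nat.le_of_dvd two_pos (Nat.dvd_of_mul_dvd_mul_left (by omega) h3)
    have h6 := Nat.le_of_dvd two_pos (Nat.dvd_of_mul_dvd_mul_left (by omega) h4)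
    have h7 : m = 4 := by rw [← e, show r = 2 by omega, show s = 2 by omega]
    refine nsol ((isPi_of_isPGroup Nat.prime_two (H6.isPGroup_closure_of_pairs
      (fun g d hd => conj d hd g) fun a ha d hd => H6.isPGroup_closure_pair (sq a ha) (sq d hd)
        (k := 2) ?_)).sol Nat.prime_two)
    rcases all a ha d hd with e | e
    · rw [show 2 ^ 2 = 2 * 2 from rfl, pow_mul, pow_two (a * d), sq_of_comm (sq a ha) (sq d hd) e, one_pow]
    · rw [show 2 ^ 2 = 4 from rfl, ← h7, ← e, pow_orderOf_eq_one]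
  have h3 : m = 3 := by
    by_contra h3
    have h : Good D m := ⟨hp, hp.five_le_of_ne_two_of_ne_three (fun e => m2 e.dvd) h3, ne, sq, conj,
      fun a ha d hd => (all a ha d hd).imp_right fun e => by rw [← e, pow_orderOf_eq_one]⟩
    exact hcx (by rw [eq_inv_of_mul_eq_one_right (h.P hsol hgen hD hadj hx hc hxc), inv_eq (sq x hx)])
  exact fun a ha d hd => (all a ha d hd).imp (fun e => (pow_two _).trans (sq_of_comm (sq a ha) (sq d hd) e))
    fun e => by rw [← h3, ← e, pow_orderOf_eq_one]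

end Cfsg.Agent.S1617
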