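import Cfsg.Statements.S0031
import Mathlib
import Cfsg.Agent.H1.Coprime

set_option autoImplicit false
open Cfsg

namespace Cfsg.Agent.S0031

/-- A fixed-point-free automorphism of a finite group maps some Sylow p-subgroup to itself. -/
theorem result {G : Type*} [Group G] [Finite G] (φ : G ≃* G)
    (hφ : MonoidHom.FixedPointFree (φ : G →* G)) (p : ℕ) [Fact p.Prime] :
    ∃ P : Sylow p G, (P : Subgroup G).map (φ : G →* G) = P := by
  obtain ⟨P⟩ : Nonempty (Sylow p G) := inferInstance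
  obtain ⟨g, hg⟩ := MulAction.exists_smul_eq G P ((φ : MulAut G) • P)
  obtain ⟨z, hz⟩ := hφ.commutatorMap_surjective g⁻¹
  refine ⟨z⁻¹ • P, ?_⟩
  have h1 : (φ : MulAut G) • z⁻¹ • P = z⁻¹ • P := by
    have e : (φ : MulAut G) * MulAut.conj z⁻¹ = MulAut.conj (φ z⁻¹) * φ := by
      ext x; simp
    rw [Sylow.smul_def, ← mul_smul, e, mul_smul, ← hg, ← Sylow.smul_def, ← mul_smul]
    congr 1
    rw [inv_eq_iff_eq_inv.mp hz.symm]
    simp [div_eq_mul_inv]
  exact congrArg Sylow.toSubgroup h1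

end Cfsg.Agent.S0031
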