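import Cfsg.Statements.S0032
import Mathlib


set_option autoImplicit false
open Cfsg

namespace Cfsg.Agent.S0032

/-- If an automorphism of a finite group fixes only the identity and maps a normal subgroup N into itself, then the only cosets of N it fixes are those in N: a fixed coset xN forces x ∈ N. -/
theorem result {G : Type*} [Group G] [Finite G] (φ : G ≃* G)
    (hφ : MonoidHom.FixedPointFree (φ : G →* G)) (N : Subgroup G) [N.Normal] (hN : ∀ n ∈ N, φ n ∈ N)
    (x : G) (hx : (φ x)⁻¹ * x ∈ N) : x ∈ N := by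
  let f : N → N := fun n => ⟨(φ n)⁻¹ * n, N.mul_mem (N.inv_mem (hN n n.2)) n.2⟩
  have hf : Function.Injective f := by
    intro a b h
    have h1 : (φ a)⁻¹ * a = (φ b)⁻¹ * b := congrArg Subtype.val h
    have h2 := hφ (a * (b : G)⁻¹) (by
      change φ (a * (b : G)⁻¹) = _
      rw [map_mul, map_inv]
      calc φ a * (φ b)⁻¹ = φ a * ((φ b)⁻¹ * b) * (b : G)⁻¹ := by group
        _ = a * (b : G)⁻¹ := by rw [← h1]; group)
    exact Subtype.ext (mul_inv_eq_one.mp h2)
  obtain ⟨n, hn⟩ := Finite.surjective_of_injective hf ⟨_, hx⟩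
  have h1 : (φ n)⁻¹ * n = (φ x)⁻¹ * x := congrArg Subtype.val hn
  have h2 := hφ (n * x⁻¹) (by
    change φ (n * x⁻¹) = _
    rw [map_mul, map_inv]
    calc φ n * (φ x)⁻¹ = φ n * ((φ x)⁻¹ * x) * x⁻¹ := by group
      _ = n * x⁻¹ := by rw [← h1]; group)
  rw [← mul_inv_eq_one.mp h2]
  exact n.2

end Cfsg.Agent.S0032
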