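import Cfsg.Statements.S0042
import Mathlib
import Cfsg.Agent.H2.FrobKernel
import Cfsg.Agent.S0033

set_option autoImplicit false
open Cfsg

namespace Cfsg.Agent.S0042

/-- In a finite Frobenius group, the Frobenius kernel is (the carrier of) a normal subgroup which is nilpotent. -/
theorem result {G : Type*} [Group G] [Finite G] (H : Subgroup G) (hH : Cfsg.IsFrobeniusComplement H) :
    ∃ N : Subgroup G, (N : Set G) = Cfsg.frobeniusKernel H ∧ N.Normal ∧ Group.IsNilpotent N := by
  obtain ⟨K, hK, hc, hker, hf⟩ := (H2.IsFrobeniusComplement.malnormal hH).exists_kernel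
  refine ⟨K, hker, hK, ?_⟩
  by_cases hb : K = ⊥
  · subst hb; infer_instance
  obtain ⟨p, hp, hd⟩ := H2.exists_prime_dvd_card_of_ne_bot hH.1
  obtain ⟨s, hs, hsp⟩ := H2.exists_mem_orderOf_eq_prime hp hd
  obtain ⟨φ, h1, h2⟩ := H2.exists_fpf_aut_of_prime hp hb (Subgroup.le_normalizer_of_normal hs) hsp
    (hf s hs (by rintro rfl; exact hp.one_lt.ne (by simpa using hsp)))
  exact Cfsg.Agent.S0033.result φ h1 p hp h2

end Cfsg.Agent.S0042
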