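import Cfsg.Statements.S0053
import Mathlib
import Cfsg.Agent.H1.Coprime
import Cfsg.Agent.H2.Frattini

set_option autoImplicit false
open Cfsg

namespace Cfsg.Agent.S0053

/-- An abelian minimal normal subgroup N of a finite group is complemented exactly when N is not inside the Frattini subgroup. -/
theorem result {G : Type*} [Group G] [Finite G]
    (N : Subgroup G) [N.Normal] [IsMulCommutative N] (hN : N ≠ ⊥)
    (hmin : ∀ M : Subgroup G, M.Normal → M ≤ N → M = ⊥ ∨ M = N) :
    (∃ H : Subgroup G, Subgroup.IsComplement' N H) ↔ ¬ N ≤ frattini G := by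
  constructor
  · rintro ⟨H, hH⟩ hle
    have h1 : H = ⊤ := H2.eq_top_of_sup_le_frattini hle (by rw [sup_comm, hH.sup_eq_top])
    rw [h1, Subgroup.isComplement'_top_right] at hH
    exact hN hH
  · intro h
    rw [H2.le_frattini_iff] at h
    push Not at h
    obtain ⟨M, hM, hNM⟩ := h
    have hsup : N ⊔ M = ⊤ := hM.2 _ (right_lt_sup.mpr hNM)
    have hn : (N ⊓ M).Normal := by
      rw [← Subgroup.normalizer_eq_top_iff, eq_top_iff, ← hsup]
      refine sup_le ?_ (H1.le_normalizer_inf Subgroup.le_normalizer_of_normal Subgroup.le_normalizer)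
      exact ((Subgroup.le_centralizer N).trans (Subgroup.centralizer_le inf_le_left)).trans
        (Subgroup.centralizer_le_normalizer _)
    refine ⟨M, Subgroup.isComplement'_of_disjoint_and_mul_eq_univ ?_ ?_⟩
    · exact disjoint_iff.mpr ((hmin _ hn inf_le_left).resolve_right fun e => hNM (inf_eq_left.mp e))
    · rw [← Subgroup.normal_mul, hsup, Subgroup.coe_top]

end Cfsg.Agent.S0053
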