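import Cfsg.Statements.S0078
import Mathlib
import Cfsg.Agent.H3.Transfer

set_option autoImplicit false
open Cfsg

namespace Cfsg.Agent.S0078

/-- In a p-normal group, a Sylow p-subgroup P meets O^p(G) exactly where it meets O^p(V), for any subgroup V containing the normalizer of the centre of P. -/
theorem result {G : Type*} [Group G] [Finite G] {p : ℕ} [Fact p.Prime] (P : Sylow p G) (hn : ∀ Q : Sylow p G, (P : Subgroup G) ⊓ Subgroup.centralizer (P : Set G) ≤ (Q : Subgroup G) → (Q : Subgroup G) ⊓ Subgroup.centralizer (Q : Set G) = (P : Subgroup G) ⊓ Subgroup.centralizer (P : Set G)) (V : Subgroup G) (hV : Subgroup.normalizer (((P : Subgroup G) ⊓ Subgroup.centralizer (P : Set G) : Subgroup G) : Set G) ≤ V) : (P : Subgroup G) ⊓ Cfsg.pResidual p G = (P : Subgroup G) ⊓ (Cfsg.pResidual p V).map V.subtype := by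
  set Z : Subgroup G := (P : Subgroup G) ⊓ Subgroup.centralizer (P : Set G) with hZ
  have hZN : Subgroup.normalizer (P : Set G) ≤ Subgroup.normalizer (Z : Set G) :=
    (le_inf le_rfl (H3.normalizer_le_normalizer_centralizer _)).trans
      Subgroup.inf_normalizer_le_normalizer_inf
  have hW : Cfsg.IsWeaklyClosed Z P := by
    refine (H3.isWeaklyClosed_iff_normal_in_sylows P Z inf_le_left hZN).mpr fun R hR => ?_
    rw [← hn R hR]
    exact (le_inf Subgroup.le_normalizer
      (Subgroup.le_normalizer.trans (H3.normalizer_le_normalizer_centralizer _))).trans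
      Subgroup.inf_normalizer_le_normalizer_inf
  have hPV : (P : Subgroup G) ≤ V := (Subgroup.le_normalizer.trans hZN).trans hV
  have h1 := H3.gruen_second P inf_le_right hW hV
  have h2 := H3.tate_pResidual_inf_eq P hPV (by
    refine le_trans ?_ le_sup_left
    refine le_trans (le_inf (H3.pResidual_inf_sylow_le_commutator P) inf_le_right) ?_
    rw [h1]
    exact inf_le_left)
  rw [← h2, inf_comm (Cfsg.pResidual p G) V, ← inf_assoc, inf_eq_left.mpr hPV]

end Cfsg.Agent.S0078
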