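import Cfsg.Statements.S0083
import Mathlib
import Cfsg.Agent.H3.Frobenius

set_option autoImplicit false
open Cfsg

namespace Cfsg.Agent.S0083

/-- For an abelian Sylow p-subgroup P, a normal p-complement exists exactly when the normalizer of P is an internal direct product of P with some subgroup. -/
theorem result {G : Type*} [Group G] [Finite G] {p : ℕ} [Fact p.Prime] (P : Sylow p G) (hP : IsMulCommutative P) : Cfsg.HasNormalPComplement p G ↔ ∃ Q : Subgroup G, Q ≤ Subgroup.centralizer (P : Set G) ∧ Q ⊓ (P : Subgroup G) = ⊥ ∧ Q ⊔ (P : Subgroup G) = Subgroup.normalizer (P : Set G) := by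
  have hP' : IsMulCommutative (P : Subgroup G) := hP
  constructor
  · intro h
    have h1 := H3.HasNPC.subgroup h (Subgroup.normalizer (P : Set G))
    refine ⟨(Cfsg.pResidual p (Subgroup.normalizer (P : Set G))).map (Subgroup.subtype _), ?_, ?_,
      ?_⟩
    · rw [H3.map_subtype_pResidual_eq_closure, Subgroup.closure_le]
      exact fun g hg => H3.HasNPC.mem_centralizer h P.2 hg.1 hg.2
    · exact H2.IsPGroup.eq_bot_of_coprime P.2.to_inf_right
        ((H3.hasNPC_subgroup_iff.mp h1).coprime_dvd_left (Subgroup.card_dvd_of_le inf_le_left))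
    · exact H3.map_pResidual_sup_of_relSylow Subgroup.le_normalizer
        ((H3.sylow_index_coprime P).coprime_dvd_left
          (Subgroup.relIndex_dvd_index_of_le Subgroup.le_normalizer))
  · rintro ⟨Q, h1, -, h3⟩
    refine H3.hasNPC_of_normalizer_le_centralizer P ?_
    rw [← h3]
    exact sup_le h1 (Subgroup.le_centralizer (P : Subgroup G))

end Cfsg.Agent.S0083
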