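import Cfsg.Statements.S0084
import Mathlib
import Cfsg.Agent.H3.Frobenius

set_option autoImplicit false
open Cfsg

namespace Cfsg.Agent.S0084

/-- A group whose Sylow 2-subgroups are Klein four-groups and whose order is prime to 3 has a normal 2-complement. -/
theorem result {G : Type*} [Group G] [Finite G] (T : Sylow 2 G) (hT : IsKleinFour T) (h3 : ¬ 3 ∣ Nat.card G) : Cfsg.HasNormalPComplement 2 G := by
  have : Fact (Nat.Prime 2) := ⟨Nat.prime_two⟩
  refine H3.hasNPC_of_abelian_of_no_prime T hT.isMulCommutative fun q d hq hqp hqd hd hlt hdiv => ?_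
  rw [hT.card_four] at hd hlt hdiv
  have hq2 : ¬ q ∣ 2 := fun h => hqp ((Nat.prime_dvd_prime_iff_eq hq Nat.prime_two).mp h)
  interval_cases d
  · simp at hd
  · exact h3 ((Nat.prime_dvd_prime_iff_eq hq Nat.prime_three).mp hdiv ▸ hqd)
  · exact hq2 hdiv
  · simp at hd

end Cfsg.Agent.S0084
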