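import Cfsg.Statements.S0085
import Mathlib
import Cfsg.Agent.H3.Frobenius

set_option autoImplicit false
open Cfsg

namespace Cfsg.Agent.S0085

/-- A group whose Sylow 2-subgroups are elementary abelian of order 8 and whose order is prime to 3 and to 7 has a normal 2-complement. -/
theorem result {G : Type*} [Group G] [Finite G] (T : Sylow 2 G) (h8 : Nat.card T = 8) (he : ∀ x : T, x * x = 1) (h3 : ¬ 3 ∣ Nat.card G) (h7 : ¬ 7 ∣ Nat.card G) : Cfsg.HasNormalPComplement 2 G := by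
  have : Fact (Nat.Prime 2) := ⟨Nat.prime_two⟩
  have hc : IsMulCommutative T := ⟨⟨fun a b => by
    have h1 : ∀ x : T, x⁻¹ = x := fun x => inv_eq_of_mul_eq_one_right (he x)
    rw [← h1 (a * b), mul_inv_rev, h1, h1]⟩⟩
  refine H3.hasNPC_of_abelian_of_no_prime T hc fun q d hq hqp hqd hd hlt hdiv => ?_
  rw [h8] at hd hlt hdiv
  have hq2 : ¬ q ∣ 2 := fun h => hqp ((Nat.prime_dvd_prime_iff_eq hq Nat.prime_two).mp h)
  have hq3 : ¬ q ∣ 3 := fun h => h3 ((Nat.prime_dvd_prime_iff_eq hq Nat.prime_three).mp h ▸ hqd)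
  interval_cases d
  · simp at hd
  · exact h7 ((Nat.prime_dvd_prime_iff_eq hq (by norm_num)).mp (show q ∣ 7 from hdiv) ▸ hqd)
  · exact ((Nat.Prime.dvd_mul hq).mp (show q ∣ 2 * 3 from hdiv)).elim hq2 hq3
  · simp at hd
  · exact ((Nat.Prime.dvd_mul hq).mp (show q ∣ 2 * 2 from hdiv)).elim hq2 hq2
  · simp at hd
  · simp at hd
  · simp at hd

end Cfsg.Agent.S0085
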