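import Cfsg.Statements.S0089
import Mathlib
import Cfsg.Agent.H3.Transfer

set_option autoImplicit false
open Cfsg

namespace Cfsg.Agent.S0089

/-- When all Sylow subgroups are abelian, the derived subgroup meets the centre trivially. -/
theorem result {G : Type*} [Group G] [Finite G] (h : ∀ p : ℕ, p.Prime → ∀ P : Sylow p G, IsMulCommutative P) : commutator G ⊓ Subgroup.center G = ⊥ := by
  by_contra hne
  obtain ⟨x, hx, hp⟩ := H2.exists_mem_prime_orderOf hne
  have : Fact (orderOf x).Prime := ⟨hp⟩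
  obtain ⟨P, hP⟩ := (IsPGroup.of_card (p := orderOf x) (n := 1) (G := Subgroup.zpowers x)
    (by rw [Nat.card_zpowers, pow_one])).exists_le_sylow
  have h1 := H3.abelian_hall_inf_commutator_inf_center (h _ hp P) P.card_coprime_index
  have h2 : x ∈ (⊥ : Subgroup G) := h1 ▸ ⟨⟨hP (Subgroup.mem_zpowers x), hx.1⟩, hx.2⟩
  rw [Subgroup.mem_bot] at h2
  rw [h2, orderOf_one] at hp
  exact Nat.not_prime_one hp

end Cfsg.Agent.S0089
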