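import Cfsg.Statements.S0090
import Mathlib
import Cfsg.Agent.H3.Split

set_option autoImplicit false
open Cfsg

namespace Cfsg.Agent.S0090

/-- An abelian normal Hall subgroup A splits as the internal direct product of G' ∩ A and Z(G) ∩ A, and [A, G] = G' ∩ A. -/
theorem result {G : Type*} [Group G] [Finite G] (A : Subgroup G) [A.Normal] (hc : IsMulCommutative A) (hHall : Nat.Coprime (Nat.card A) A.index) : ⁅A, (⊤ : Subgroup G)⁆ = commutator G ⊓ A ∧ (commutator G ⊓ A) ⊓ (Subgroup.center G ⊓ A) = ⊥ ∧ (commutator G ⊓ A) ⊔ (Subgroup.center G ⊓ A) = A := by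
  have h1 := H3.commutator_inf_eq_commutator_of_controls (W := ⊤) hHall
    Subgroup.le_normalizer_of_normal fun x _ g _ => ⟨g, Subgroup.mem_top g, rfl⟩
  have h2 := H3.abelian_hall_decomp (L := ⊤) hc le_top Subgroup.le_normalizer_of_normal
    (by rwa [Subgroup.relIndex_top_right])
  rw [Subgroup.coe_top, Subgroup.centralizer_univ] at h2
  refine ⟨h1.symm, ?_, ?_⟩
  · rw [h1, ← inf_assoc, h2.1, bot_inf_eq]
  · rw [h1, inf_comm, h2.2]

end Cfsg.Agent.S0090
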