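import Cfsg.Statements.S0092
import Mathlib
import Cfsg.Agent.H3.Split

set_option autoImplicit false
open Cfsg

namespace Cfsg.Agent.S0092

/-- If the Sylow p-subgroups of O^p(G) are abelian then G splits over O^p(G). -/
theorem result {G : Type*} [Group G] [Finite G] {p : ℕ} [Fact p.Prime] (h : ∀ Q : Sylow p (Cfsg.pResidual p G), IsMulCommutative Q) : ∃ K : Subgroup G, K.IsComplement' (Cfsg.pResidual p G) := by
  obtain ⟨P⟩ : Nonempty (Sylow p G) := inferInstance
  refine H3.exists_complement_pResidual P ?_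
  have h1 := h ((P.2.comap_subtype (K := Cfsg.pResidual p G)).toSylow
    (H3.sylow_not_dvd_relIndex_of_normal P _))
  refine ⟨⟨fun a b => Subtype.ext ?_⟩⟩
  exact congrArg (fun x => ((x.1 : Cfsg.pResidual p G) : G))
    (h1.is_comm.comm ⟨⟨a.1, a.2.2⟩, a.2.1⟩ ⟨⟨b.1, b.2.2⟩, b.2.1⟩)

end Cfsg.Agent.S0092
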