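import Cfsg.Statements.S0105
import Mathlib
import Cfsg.Agent.H3.Split

set_option autoImplicit false
open Cfsg

namespace Cfsg.Agent.S0105

/-- With an abelian Sylow p-subgroup P, some quotient of G is isomorphic to the part of P central in N_G(P). -/
theorem result {G : Type*} [Group G] [Finite G] {p : ℕ} [Fact p.Prime] (P : Sylow p G) (hP : IsMulCommutative P) : ∃ (N : Subgroup G) (hN : N.Normal), Nonempty (G ⧸ N ≃* ((P : Subgroup G) ⊓ Subgroup.centralizer (Subgroup.normalizer (P : Set G) : Set G) : Subgroup G)) := by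
  have hP' : IsMulCommutative (P : Subgroup G) := hP
  have h1 := H3.abelian_hall_decomp hP' Subgroup.le_normalizer le_rfl
    (P.card_coprime_index.coprime_dvd_right
      (Subgroup.relIndex_dvd_index_of_le Subgroup.le_normalizer))
  have h2 : (P : Subgroup G).focalSubgroup = ⁅(P : Subgroup G), Subgroup.normalizer (P : Set G)⁆ :=
    (Subgroup.commutator_inf_eq_focalSubgroup P).symm.trans (H3.abelian_sylow_commutator_inf P hP)
  let f : ↥((P : Subgroup G) ⊓ Subgroup.centralizer (Subgroup.normalizer (P : Set G) : Set G)) →*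
      (P : Subgroup G) ⧸ (P : Subgroup G).focalSubgroupOf :=
    (QuotientGroup.mk' _).comp (Subgroup.inclusion inf_le_left)
  have hf : Function.Bijective f := by
    constructor
    · rw [injective_iff_map_eq_one]
      intro x hx
      have h3 : (x : G) ∈ (P : Subgroup G).focalSubgroup :=
        (QuotientGroup.eq_one_iff (Subgroup.inclusion inf_le_left x)).mp hx
      rw [h2] at h3
      have h4 : (x : G) ∈ (⊥ : Subgroup G) := h1.1 ▸ ⟨h3, x.2.2⟩
      exact Subtype.ext h4
    · intro y
      obtain ⟨y, rfl⟩ := QuotientGroup.mk_surjective y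
      have h3 := h1.2.ge y.2
      obtain ⟨a, ha, b, hb, e⟩ := (H1.mem_sup_of_le_normalizer
        (inf_le_left.trans (Subgroup.normalizer_commutator_ge_left _ _))).mp h3
      refine ⟨⟨b, hb⟩, QuotientGroup.eq.mpr ?_⟩
      show b⁻¹ * y ∈ (P : Subgroup G).focalSubgroup
      have haP : a ∈ (P : Subgroup G) := (P : Subgroup G).focalSubgroup_le (h2 ▸ ha)
      rw [e, setLike_mul_comm haP hb.1, inv_mul_cancel_left, h2]
      exact ha
  exact ⟨_, inferInstance,
    ⟨(Subgroup.transferFocal.quotientKerMulEquivQuotientFocalSubroupOf P).trans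
      (MulEquiv.ofBijective f hf).symm⟩⟩

end Cfsg.Agent.S0105
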