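import Cfsg.Statements.S0109
import Mathlib
import Cfsg.Agent.H12.ThompsonNPC

set_option autoImplicit false
open Cfsg

namespace Cfsg.Agent.S0109

/-- The Thompson factorization Theorem for solvable groups states that, with p odd (and abelian Sylow 2-subgroups when p = 3) and no nontrivial normal subgroup of order prime to p, every element of G is a product of an element normalizing J(P) and an element centralizing the elements of order dividing p in the centre of P. -/
theorem result {G : Type*} [Group G] [Finite G] {p : ℕ} [Fact p.Prime] (hp : p ≠ 2) (hs : Group.IsSolvable G) (h3 : p = 3 → ∀ T : Sylow 2 G, IsMulCommutative T) (hF : ∀ N : Subgroup G, N.Normal → Nat.Coprime (Nat.card N) p → N = ⊥) (P : Sylow p G) (g : G) : ∃ a ∈ Subgroup.normalizer (Cfsg.thompsonSubgroupOf p (P : Subgroup G) : Set G), ∃ c ∈ Subgroup.centralizer {x : G | x ∈ (P : Subgroup G) ∧ (∀ y ∈ (P : Subgroup G), x * y = y * x) ∧ x ^ p = 1}, g = a * c := by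
  have hO : Cfsg.pPrimeCore p G = ⊥ := hF _ inferInstance (H2.pPrimeCore_coprime p G)
  have hsep : H12.PSep p G := H12.pSep_of_isSolvable p
  have hQ : ¬ H12.QuadInvolved p G := fun h =>
    H12.not_quadInvolved_of_abelian_two hp (h3 (h.three_of_pSep hp hsep).1) h
  obtain ⟨x, hx, c, hc, n, hn, he⟩ :=
    H12.factorizable_of_not_quadInvolved hQ (hsep.centralizer_pCore_le hO) P g⁻¹
  rw [hO, Subgroup.mem_bot] at hx
  refine ⟨n⁻¹, inv_mem hn, c⁻¹, inv_mem ?_, by rw [← mul_inv_rev, ← one_mul c, ← hx, ← he, inv_inv]⟩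
  refine Subgroup.centralizer_le ?_ hc
  rintro y ⟨hy, hy', hyp⟩
  exact H12.mem_omega ⟨hy, Subgroup.mem_centralizer_iff.2 fun z hz => (hy' z hz).symm⟩ hyp

end Cfsg.Agent.S0109
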