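import Cfsg.Statements.S0116
import Mathlib
import Cfsg.Agent.H3.Alperin

set_option autoImplicit false
open Cfsg

namespace Cfsg.Agent.S0116

/-- The Alperin fusion Theorem states that conjugation between subsets of a Sylow p-subgroup P factors through normalizers of tame intersections P ∩ Q_i with other Sylow p-subgroups, carrying the subset along step by step. -/
theorem result {G : Type*} [Group G] [Finite G] {p : ℕ} [Fact p.Prime] (P : Sylow p G) (A : Set G) (g : G) (hA : A ⊆ (P : Set G)) (hAg : (fun a => g⁻¹ * a * g) '' A ⊆ (P : Set G)) : ∃ (n : ℕ) (Q : Fin n → Sylow p G) (x : Fin n → G), (List.ofFn x).prod = g ∧ (∀ i : Fin n, x i ∈ Subgroup.normalizer ((((P : Subgroup G) ⊓ (Q i : Subgroup G)) : Subgroup G) : Set G) ∧ ¬ p ∣ ((P : Subgroup G) ⊓ Subgroup.normalizer ((((P : Subgroup G) ⊓ (Q i : Subgroup G)) : Subgroup G) : Set G)).relIndex (Subgroup.normalizer ((((P : Subgroup G) ⊓ (Q i : Subgroup G)) : Subgroup G) : Set G)) ∧ ¬ p ∣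 ((Q i : Subgroup G) ⊓ Subgroup.normalizer ((((P : Subgroup G) ⊓ (Q i : Subgroup G)) : Subgroup G) : Set G)).relIndex (Subgroup.normalizer ((((P : Subgroup G) ⊓ (Q i : Subgroup G)) : Subgroup G) : Set G))) ∧ (∀ h : 0 < n, A ⊆ (((P : Subgroup G) ⊓ (Q ⟨0, h⟩ : Subgroup G) : Subgroup G) : Set G)) ∧ ∀ i : Fin n, ∀ h : i.val + 1 < n, (fun a => (((List.ofFn x).take (i.val + 1)).prod)⁻¹ * a * ((List.ofFn x).take (i.val + 1)).prod) '' A ⊆ (((P : Subgroup G) ⊓ (Q ⟨i.val + 1, h⟩ : Subgroup G) : Subgroup G) : Set G) := by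
  have h1 : Subgroup.closure A ≤ (P : Subgroup G) := (Subgroup.closure_le _).2 hA
  have h2 : H22.cj g⁻¹ (Subgroup.closure A) ≤ (P : Subgroup G) := by
    rw [H22.cj_closure, Subgroup.closure_le]
    simpa using hAg
  obtain ⟨n, Q, x, e1, e2, e3⟩ := (H3.tameChain_of_le P _ h1 g h2).exists_fin
  refine ⟨n, Q, x, e1, fun i => ⟨(e2 i).1, (e2 i).2.1.not_dvd, (e2 i).2.2.not_dvd⟩,
    fun h a ha => ?_, fun i h => ?_⟩
  · have := e3 ⟨0, h⟩
    simp only [List.take_zero, List.prod_nil, inv_one, H22.cj_one] at this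
    exact this (Subgroup.subset_closure ha)
  · rintro _ ⟨a, ha, rfl⟩
    have := H22.cj_le_iff.1 (e3 ⟨i.val + 1, h⟩) a (Subgroup.subset_closure ha)
    rw [inv_inv] at this
    exact this

end Cfsg.Agent.S0116
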