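import Cfsg.Statements.S0123
import Mathlib
import Cfsg.Agent.H3.Power

set_option autoImplicit false
open Cfsg

namespace Cfsg.Agent.S0123

/-- For a p-group of small class relative to p (class ≤ 2 with p odd, or class ≤ 3 with p > 3) whose derived subgroup is generated by elements of order dividing p, the p-th power map is multiplicative. -/
theorem result {R : Type*} [Group R] [Finite R] {p : ℕ} [Fact p.Prime] (hR : IsPGroup p R) (hcl : (p ≠ 2 ∧ ⁅commutator R, (⊤ : Subgroup R)⁆ = ⊥) ∨ (3 < p ∧ ⁅⁅commutator R, (⊤ : Subgroup R)⁆, (⊤ : Subgroup R)⁆ = ⊥)) (hder : commutator R ≤ Subgroup.closure {x : R | x ^ p = 1}) (x y : R) : (x * y) ^ p = x ^ p * y ^ p := by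
  rcases hcl with ⟨hp, h2⟩ | ⟨hp, h3⟩
  · have hodd : Odd p := (Fact.out : p.Prime).odd_of_ne_two hp
    have hc := fun z : R =>
      H3.commute_commutator_of_class_two (K := ⊤) (x := x) (y := y) (z := z) h2 trivial trivial trivial
    refine H3.mul_pow_eq_of_odd hodd (hc x) (hc y) ?_
    refine H3.omega_pow_eq_one_of_class_two (K := ⊤) hodd h2 ?_
    have := Subgroup.commutator_mem_commutator (H₁ := (⊤ : Subgroup R)) (H₂ := ⊤) (g₁ := x) (g₂ := y) trivial trivial
    simpa using hder this
  · refine H3.mul_pow_eq_of_class_three (K := ⊤) Fact.out hp h3 ?_ trivial trivial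
    intro c hc
    refine H3.omega_pow_eq_one_of_class_three (K := ⊤) Fact.out hp h3 ?_
    simpa using hder hc

end Cfsg.Agent.S0123
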