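import Cfsg.Statements.S0125
import Mathlib
import Cfsg.Agent.H3.Frobenius

set_option autoImplicit false
open Cfsg

namespace Cfsg.Agent.S0125

/-- The centralizer of a self-centralizing normal subgroup A of a Sylow p-subgroup is the direct product of A with a normal p'-subgroup. -/
theorem result {G : Type*} [Group G] [Finite G] {p : ℕ} [Fact p.Prime] (R : Sylow p G) (A : Subgroup G) (hAR : A ≤ (R : Subgroup G)) (hAn : (R : Subgroup G) ≤ Subgroup.normalizer (A : Set G)) (hC : (R : Subgroup G) ⊓ Subgroup.centralizer (A : Set G) = A) : ∃ H : Subgroup G, H ≤ Subgroup.centralizer (A : Set G) ∧ Nat.Coprime (Nat.card H) p ∧ Subgroup.centralizer (A : Set G) ≤ Subgroup.normalizer (H : Set G) ∧ H ⊓ A = ⊥ ∧ H ⊔ A = Subgroup.centralizer (A : Set G) := by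
  have hA : IsPGroup p A := R.2.to_le hAR
  have hi : ¬ p ∣ A.relIndex (Subgroup.centralizer (A : Set G)) := by
    have h1 := H3.sylow_not_dvd_relIndex_of_le_normalizer R
      (hAn.trans (H3.normalizer_le_normalizer_centralizer (A : Set G)))
    rwa [← Subgroup.inf_relIndex_right, hC] at h1
  have hAC : A ≤ Subgroup.centralizer (A : Set G) := by
    conv_lhs => rw [← hC]
    exact inf_le_right
  have h1 := H3.hasNPC_subgroup_iff.mp (H3.hasNPC_of_central_relSylow hA hi le_rfl)
  refine ⟨_, Subgroup.map_subtype_le _, h1,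
    Subgroup.le_normalizer.trans (H3.normalizer_le_normalizer_map_pResidual p _), ?_, ?_⟩
  · exact H2.IsPGroup.eq_bot_of_coprime hA.to_inf_right
      (h1.coprime_dvd_left (Subgroup.card_dvd_of_le inf_le_left))
  · exact H3.map_pResidual_sup_of_relSylow hAC
      (((Fact.out : p.Prime).coprime_iff_not_dvd.mpr hi).symm)

end Cfsg.Agent.S0125
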