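import Cfsg.Statements.S0131
import Mathlib
import Cfsg.Agent.H3.Transfer

set_option autoImplicit false
open Cfsg

namespace Cfsg.Agent.S0131

/-- P/P' has a normal complement in G exactly when the focal subgroup G' ∩ P is as small as possible, namely P'. -/
theorem result {G : Type*} [Group G] [Finite G] {p : ℕ} [Fact p.Prime] (P : Sylow p G) : (∃ N : Subgroup G, N.Normal ∧ N ⊓ (P : Subgroup G) = ⁅(P : Subgroup G), (P : Subgroup G)⁆ ∧ N ⊔ (P : Subgroup G) = ⊤) ↔ commutator G ⊓ (P : Subgroup G) = ⁅(P : Subgroup G), (P : Subgroup G)⁆ := by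
  constructor
  · rintro ⟨N, hN, h1, h2⟩
    refine le_antisymm ?_ (le_inf (Subgroup.commutator_mono le_top le_top)
      (Subgroup.commutator_le_self _))
    rw [← h1]
    refine inf_le_inf_right _ ?_
    rw [← H2.map_mk'_eq_bot_iff, commutator, Subgroup.map_commutator, ← h2, Subgroup.map_sup,
      H2.map_mk'_eq_bot_iff.mpr le_rfl, bot_sup_eq, ← Subgroup.map_commutator,
      H2.map_mk'_eq_bot_iff, ← h1]
    exact inf_le_left
  · intro h
    have hc : (P : Subgroup G).index.Coprime
        ((⁅(P : Subgroup G), (P : Subgroup G)⁆).relIndex (P : Subgroup G)) :=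
      P.card_coprime_index.symm.coprime_dvd_right (Subgroup.relIndex_dvd_card _ _)
    have h2 := H3.ker_transferFocal_inf_of_coprime
      (hc.coprime_dvd_right (H3.card_quotient_focal_dvd _))
    exact ⟨_, inferInstance, h2.1.trans ((H3.focal_eq_of_coprime hc).trans h), h2.2⟩

end Cfsg.Agent.S0131
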