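import Cfsg.Statements.S0165
import Mathlib
import Cfsg.Agent.H5.Misc
import Cfsg.Agent.H17.Defect

set_option autoImplicit false
open Cfsg

namespace Cfsg.Agent.S0165

open H4 H5

/-- If p ^ n is the exact power of the prime p dividing the order of a finite group and p ^ n divides the degree of an irreducible complex representation, then its character vanishes at every element of order divisible by p. -/
theorem result {G : Type*} [Group G] [Finite G] {V : Type*} [AddCommGroup V] [Module ℂ V] [FiniteDimensional ℂ V] (ρ : Representation ℂ G V) [ρ.IsIrreducible] (p n : ℕ) (hp : p.Prime) (hn : p ^ n ∣ Nat.card G) (hn' : ¬ p ^ (n + 1) ∣ Nat.card G) (hdeg : p ^ n ∣ Module.finrank ℂ V) (x : G) (hx : p ∣ orderOf x) : ρ.character x = 0 := by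
  obtain ⟨M, hM⟩ := exists_isPModular hp
  have : H17.PM p M := ⟨hM⟩
  have : Fact p.Prime := ⟨hp⟩
  let χ : IrrCharacter G := ⟨ρ.character, isIrrCharacter_of_rep ρ⟩
  have h1 : H17.deg χ = Module.finrank ℂ V := by
    have := H17.deg_eq χ
    simp only [χ, Representation.char_one] at this
    exact_mod_cast this
  refine H17.eq_zero_of_defect_zero M (χ := χ) ?_ hx
  rw [h1]
  have h2 := (hp.pow_dvd_iff_le_factorization (finrank_pos_of_irreducible ρ).ne').mp hdeg
  rw [hp.pow_dvd_iff_le_factorization Nat.card_pos.ne'] at hn'
  omega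

end Cfsg.Agent.S0165
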