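import Cfsg.Statements.S0172
import Mathlib
import Cfsg.Agent.H4.Gen

set_option autoImplicit false
open Cfsg

namespace Cfsg.Agent.S0172
open H4


/-- Class number of a Frobenius group: if G = K H with K normal, K ⊓ H trivial and no non-identity element of H commuting with a non-identity element of K, then |H| * k(G) + 1 = |H| * k(H) + k(K), where k denotes the number of conjugacy classes. -/
theorem result {G : Type*} [Group G] [Finite G] (K H : Subgroup G) [K.Normal] (hKH : K ⊓ H = ⊥) (hKH' : K ⊔ H = ⊤) (hfpf : ∀ h ∈ H, h ≠ 1 → ∀ k ∈ K, h * k = k * h → k = 1) : Nat.card H * Nat.card (ConjClasses G) + 1 = Nat.card H * Nat.card (ConjClasses H) + Nat.card (ConjClasses K) := by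
  classical
  have := Fintype.ofFinite G
  have := Fintype.ofFinite K
  have := Fintype.ofFinite H
  have hN : K.Normal := inferInstance
  have count : ∀ (L : Type _) [Group L] [Fintype L],
      ∑ g : L, Nat.card (Subgroup.centralizer ({g} : Set L)) = Nat.card L * Nat.card (ConjClasses L) := by
    intro L _ _
    have := Fintype.ofFinite (ConjClasses L)
    have h := sum_card_centralizer_mul (G := L) (fun _ => 1)
    simp only [mul_one, Finset.sum_const, Finset.card_univ, nsmul_eq_mul,
      ← Nat.card_eq_fintype_card] at h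
    exact_mod_cast h
  have hcomp : Subgroup.IsComplement' K H := by
    refine Subgroup.isComplement'_of_disjoint_and_mul_eq_univ (disjoint_iff.mpr hKH) ?_
    rw [← Subgroup.normal_mul, hKH', Subgroup.coe_top]
  have hconj : ∀ h : H, h ≠ 1 → ∀ k : K, ∃ x : K, (k : G) * h = x * h * (x : G)⁻¹ := by
    intro h hh k
    let φ : K → K := fun x => ⟨x * h * x⁻¹ * (h : G)⁻¹, by
      have := K.mul_mem x.2 (hN.conj_mem _ (K.inv_mem x.2) h)
      simpa [mul_assoc] using this⟩
    have hφ : Function.Surjective φ := by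
      refine Finite.surjective_of_injective fun x y hxy => ?_
      have h2 : (x : G) * h * x⁻¹ * (h : G)⁻¹ = y * h * y⁻¹ * (h : G)⁻¹ := congrArg Subtype.val hxy
      have h3 := hfpf h h.2 (by simpa using hh) ((y : G)⁻¹ * x) (K.mul_mem (K.inv_mem y.2) x.2) (by
        rw [mul_left_inj] at h2
        symm
        calc (y : G)⁻¹ * x * h = (y : G)⁻¹ * (x * h * x⁻¹) * x := by simp [mul_assoc]
          _ = _ := by rw [h2]; simp [mul_assoc])
      exact Subtype.ext (inv_mul_eq_one.mp h3).symm
    obtain ⟨x, hx⟩ := hφ k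
    exact ⟨x, by rw [← hx]; simp [φ]⟩
  have hsub : ∀ (L : Subgroup G) (g : L), Subgroup.centralizer ({(g : G)} : Set G) ≤ L →
      Nat.card (Subgroup.centralizer ({(g : G)} : Set G)) =
        Nat.card (Subgroup.centralizer ({g} : Set L)) := by
    intro L g hle
    rw [← Nat.card_congr (Subgroup.subgroupOfEquivOfLe hle).toEquiv]
    congr 2
    ext x
    simp [Subgroup.mem_subgroupOf, Subgroup.mem_centralizer_singleton_iff, Subtype.ext_iff]
  have hCH : ∀ h : H, h ≠ 1 → Subgroup.centralizer ({(h : G)} : Set G) ≤ H := by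
    intro h hh g hg
    obtain ⟨⟨k, h'⟩, rfl⟩ := hcomp.2 g
    simp only at hg ⊢
    rw [Subgroup.mem_centralizer_singleton_iff] at hg
    have h1 : (h' : G) * h * (h' : G)⁻¹ * (h : G)⁻¹ ∈ K ⊓ H := by
      refine ⟨?_, H.mul_mem (H.mul_mem (H.mul_mem h'.2 h.2) (H.inv_mem h'.2)) (H.inv_mem h.2)⟩
      have : (h' : G) * h * (h' : G)⁻¹ * (h : G)⁻¹ = (k : G)⁻¹ * (h * k * (h : G)⁻¹) := by
        calc _ = (k : G)⁻¹ * (k * h' * h) * (h' : G)⁻¹ * (h : G)⁻¹ := by group
          _ = _ := by rw [hg]; group
      rw [this]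
      exact K.mul_mem (K.inv_mem k.2) (hN.conj_mem _ k.2 _)
    rw [hKH, Subgroup.mem_bot, mul_inv_eq_one, mul_inv_eq_iff_eq_mul] at h1
    have h2 := hfpf h h.2 (by simpa using hh) k k.2 (by
      rw [mul_assoc, h1, ← mul_assoc, ← mul_assoc, mul_left_inj] at hg
      exact hg.symm)
    rw [h2, one_mul]; exact h'.2
  have hCK : ∀ k : K, k ≠ 1 → Subgroup.centralizer ({(k : G)} : Set G) ≤ K := by
    intro k hk g hg
    obtain ⟨⟨k', h⟩, rfl⟩ := hcomp.2 g
    simp only at hg ⊢
    by_cases hh : h = 1
    · simp [hh]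
    obtain ⟨x, hx⟩ := hconj h hh k'
    rw [Subgroup.mem_centralizer_singleton_iff, hx] at hg
    have h2 := hfpf h h.2 (by simpa using hh) ((x : G)⁻¹ * k * x)
      (by simpa using hN.conj_mem _ k.2 (x : G)⁻¹) (by
        calc _ = (x : G)⁻¹ * (x * h * (x : G)⁻¹ * k) * x := by group
          _ = _ := by rw [hg]; group)
    exact absurd (Subtype.ext (by simpa [mul_assoc, inv_mul_eq_iff_eq_mul] using h2)) hk
  have hG := count G
  have hbij : Function.Bijective (fun x : K × H => (x.1 : G) * x.2) := hcomp
  rw [← hbij.sum_comp, Fintype.sum_prod_type_right,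
    ← Finset.add_sum_erase _ _ (Finset.mem_univ (1 : H)),
    ← Finset.add_sum_erase _ _ (Finset.mem_univ (1 : K))] at hG
  simp only [OneMemClass.coe_one, mul_one] at hG
  rw [Finset.sum_congr rfl fun k hk => hsub K k (hCK k (Finset.mem_erase.mp hk).1),
    Finset.sum_congr rfl (g := fun h : H => Nat.card K * Nat.card (Subgroup.centralizer ({h} : Set H)))
      fun h hh => by
        have hh' := (Finset.mem_erase.mp hh).1
        rw [Finset.sum_congr rfl (g := fun _ => Nat.card (Subgroup.centralizer ({h} : Set H)))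
          fun k _ => by
            obtain ⟨x, hx⟩ := hconj h hh' k
            rw [← hsub H h (hCH h hh'), hx]
            exact (card_centralizer_of_isConj (isConj_iff.mpr ⟨(x : G), rfl⟩)).symm]
        simp, ← Finset.mul_sum] at hG
  have hK := count K
  have hH := count H
  rw [← Finset.add_sum_erase _ _ (Finset.mem_univ 1)] at hK hH
  have top1 : ∀ (L : Type _) [Group L], Nat.card (Subgroup.centralizer ({1} : Set L)) = Nat.card L := by
    intro L _
    have : Subgroup.centralizer ({1} : Set L) = ⊤ := by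
      ext x; simp [Subgroup.mem_centralizer_iff]
    rw [this, Subgroup.card_top]
  rw [top1] at hG hK hH
  rw [← hcomp.card_mul_card] at hG
  have hKpos : 0 < Nat.card K := Nat.card_pos
  refine Nat.eq_of_mul_eq_mul_left hKpos ?_
  nlinarith

end Cfsg.Agent.S0172
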