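import Cfsg.Statements.S0174
import Mathlib
import Cfsg.Agent.H5.Clifford

set_option autoImplicit false
open Cfsg

namespace Cfsg.Agent.S0174

open H4 H5

/-- The Clifford Theorem for characters: if θ is an irreducible character of a finite group G, N is a normal subgroup and χ is an irreducible character of N occurring in the restriction of θ, then θ restricted to N equals e times the sum of the distinct G-conjugates of χ, where e is the inner product of the restriction with χ. -/
theorem result {G : Type*} [Group G] [Fintype G] (N : Subgroup G) [Fintype N] (hN : N.Normal) (θ : G → ℂ) (hθ : Cfsg.IsIrrCharacter G θ) (χ : N → ℂ) (hχ : Cfsg.IsIrrCharacter N χ) (hconst : Cfsg.classInner (fun n : N => θ n) χ ≠ 0) : (fun n : N => θ n) = Cfsg.classInner (fun n : N => θ n) χ • ∑ᶠ ψ ∈ {ψ : N → ℂ | ∃ g : G, ψ = fun n : N => χ ⟨g * n * g⁻¹, hN.conj_mem n n.2 g⟩}, ψ := by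
  classical
  have h := clifford_avg N hθ hχ hconst
  have hS : {ψ : N → ℂ | ∃ g : G, ψ = fun n : N => χ ⟨g * n * g⁻¹, hN.conj_mem n n.2 g⟩}
      = ↑(Finset.univ.image fun g : G => cj N g χ) := by
    ext ψ
    simp only [Set.mem_ofPred_eq, Finset.coe_image, Finset.coe_univ, Set.image_univ,
      Set.mem_range]
    exact exists_congr fun g => eq_comm
  rw [hS, finsum_mem_coe_finset]
  have h2 : ∑ g : G, cj N g χ = (Nat.card (inertia N χ) : ℂ) •
      ∑ ψ ∈ Finset.univ.image (fun g : G => cj N g χ), ψ := by
    rw [← Finset.sum_fiberwise_of_maps_to (s := Finset.univ)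
      (t := Finset.univ.image fun g : G => cj N g χ) (g := fun g : G => cj N g χ)
      (fun g _ => Finset.mem_image_of_mem _ (Finset.mem_univ g)), Finset.smul_sum]
    refine Finset.sum_congr rfl fun ψ hψ => ?_
    obtain ⟨a, -, rfl⟩ := Finset.mem_image.mp hψ
    rw [Finset.sum_congr rfl (g := fun _ => cj N a χ) (fun g hg => (Finset.mem_filter.mp hg).2),
      Finset.sum_const, ← Nat.cast_smul_eq_nsmul ℂ]
    congr 2
    rw [Nat.card_eq_fintype_card, Fintype.card_subtype]
    refine Finset.card_bij (fun g _ => g * a⁻¹) ?_ ?_ ?_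
    · intro g hg
      simp only [Finset.mem_filter, Finset.mem_univ, true_and] at hg ⊢
      exact (cj_eq_cj_iff N).mp hg
    · intro g _ g' _ hgg
      exact mul_right_cancel hgg
    · intro b hb
      refine ⟨b * a, ?_, by simp⟩
      simp only [Finset.mem_filter, Finset.mem_univ, true_and] at hb ⊢
      rw [cj_eq_cj_iff]; simpa using hb
  rw [h2, smul_comm] at h
  exact smul_right_injective _ (card_ne_zero (inertia N χ)) h

end Cfsg.Agent.S0174
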