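import Cfsg.Statements.S0180
import Mathlib
import Cfsg.Agent.H4.Galois

set_option autoImplicit false
open Cfsg

namespace Cfsg.Agent.S0180
open H4


/-- Every irreducible complex character of a finite group takes only rational values if and only if g is conjugate to g ^ m for every element g and every m coprime to the group order. -/
theorem result {G : Type*} [Group G] [Finite G] : (∀ χ : Cfsg.IrrCharacter G, ∀ g : G, ∃ q : ℚ, (χ : G → ℂ) g = (q : ℂ)) ↔ ∀ m : ℕ, m.Coprime (Nat.card G) → ∀ g : G, IsConj g (g ^ m) := by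
  constructor
  · intro h m hm g
    rw [isConj_iff_irr]
    intro χ hχ
    obtain ⟨u, hu⟩ := exists_ringEquiv_pow Nat.card_pos.ne' hm
    obtain ⟨q, hq⟩ := h ⟨χ, hχ⟩ g
    rw [← hχ.isCharacter.map_apply_eq_pow (u : ℂ →+* ℂ) hu pow_card_eq_one']
    simp only at hq
    rw [hq, map_ratCast]
  · intro h χ g
    obtain ⟨k, hk⟩ := χ.2.isGen.exists_int_of_pow Nat.card_pos.ne' (pow_card_eq_one' (x := g))
      fun m hm => (χ.2.classFun.apply_of_isConj (h m hm g)).symm
    exact ⟨k, by simpa using hk⟩

end Cfsg.Agent.S0180
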