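import Cfsg.Statements.S0184
import Mathlib
import Cfsg.Agent.H4.Misc
import Cfsg.Agent.H2.MinNormal

set_option autoImplicit false
open Cfsg

namespace Cfsg.Agent.S0184
open H4


/-- A finite p-group admits a faithful irreducible complex representation if and only if its centre is cyclic. -/
theorem result {G : Type*} [Group G] [Finite G] (p : ℕ) [Fact p.Prime] (hG : IsPGroup p G) : (∃ (n : ℕ) (ρ : Representation ℂ G (Fin n → ℂ)), ρ.IsIrreducible ∧ Function.Injective ρ) ↔ IsCyclic (Subgroup.center G) := by
  constructor
  · rintro ⟨n, ρ, hρ, hinj⟩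
    have := nontrivial_of_irreducible ρ
    obtain ⟨v, hv⟩ := exists_ne (0 : Fin n → ℂ)
    choose c hc using fun z : Subgroup.center G => rep_scalar_of_mem_center ρ z.2
    let f : Subgroup.center G →* ℂ :=
      { toFun := c
        map_one' := by
          have := congr($(hc 1) v)
          simp only [OneMemClass.coe_one, map_one, Module.End.one_apply, LinearMap.smul_apply,
            LinearMap.id_coe, id_eq] at this
          exact smul_left_injective ℂ hv (by simpa using this.symm)
        map_mul' := fun a b => by
          have := congr($(hc (a * b)) v)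
          simp only [Subgroup.coe_mul, map_mul, hc a, hc b, Module.End.mul_apply,
            LinearMap.smul_apply, LinearMap.id_coe, id_eq, smul_smul] at this
          exact smul_left_injective ℂ hv this.symm }
    refine isCyclic_of_injective_ringHom f fun a b hab => Subtype.ext (hinj ?_)
    rw [hc a, hc b]
    exact congrArg (· • _) hab
  · intro hc
    have hpp : p.Prime := Fact.out
    rcases subsingleton_or_nontrivial G with hs | hs
    · obtain ⟨n, ρ, hρ, -⟩ := isIrrCharacter_one (G := G)
      exact ⟨n, ρ, hρ, fun a b _ => Subsingleton.elim a b⟩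
    have hnil := hG.isNilpotent
    have hZ := hG.center_nontrivial
    have hZp : IsPGroup p (Subgroup.center G) := hG.to_subgroup _
    have key : ∀ K : Subgroup (Subgroup.center G), K ≠ ⊥ → ∃ y ∈ K, orderOf y = p := by
      intro K hK
      have hKp : IsPGroup p K := hZp.to_subgroup K
      obtain ⟨k, hk⟩ := hKp.exists_card_eq
      have hk0 : k ≠ 0 := by
        rintro rfl
        exact hK (Subgroup.card_eq_one.mp (hk.trans (pow_zero p)))
      obtain ⟨y, hy⟩ := exists_prime_orderOf_dvd_card' (G := K) p (hk ▸ dvd_pow_self p hk0)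
      exact ⟨y, y.2, by rw [Subgroup.orderOf_coe, hy]⟩
    obtain ⟨z, -, hz⟩ := key ⊤ top_ne_bot
    have hz1 : (z : G) ≠ 1 := by
      intro h
      rw [show z = 1 from Subtype.ext h, orderOf_one] at hz
      exact hpp.one_lt.ne hz
    by_contra hno
    refine hz1 (eq_one_of_forall_irr ?_)
    rintro χ ⟨n, ρ, hρ, rfl⟩
    have hker : ρ.ker ≠ ⊥ := fun h => hno ⟨n, ρ, hρ, (MonoidHom.ker_eq_bot_iff ρ).mp h⟩
    have h1 := H2.inf_center_ne_bot hker
    obtain ⟨y, hy, hyp⟩ := key (ρ.ker.subgroupOf (Subgroup.center G)) (by
      rwa [Ne, Subgroup.subgroupOf_eq_bot, disjoint_iff])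
    have hzy : z ∈ Subgroup.zpowers y := by
      classical
      have := Fintype.ofFinite (Subgroup.center G)
      have h2 := IsCyclic.card_pow_eq_one_le (α := Subgroup.center G) hpp.pos
      have h3 : (Subgroup.zpowers y : Set (Subgroup.center G)).toFinset =
          Finset.univ.filter (fun a : Subgroup.center G => a ^ p = 1) := by
        refine Finset.eq_of_subset_of_card_le (fun a ha => ?_) ?_
        · rw [Set.mem_toFinset] at ha
          simpa [← hyp] using orderOf_dvd_iff_pow_eq_one.mp (orderOf_dvd_of_mem_zpowers ha)
        · rw [Set.toFinset_card, ← Nat.card_eq_fintype_card]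
          erw [Nat.card_zpowers]
          rw [hyp]
          convert h2
      have h4 : z ∈ Finset.univ.filter (fun a : Subgroup.center G => a ^ p = 1) := by
        simp [← hz]
      rw [← h3, Set.mem_toFinset] at h4
      exact h4
    have h5 : (z : G) ∈ ρ.ker := (Subgroup.zpowers_le.mpr hy) hzy
    rw [ρ.char_one, rep_char_eq_iff]
    exact h5

end Cfsg.Agent.S0184
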