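import Cfsg.Statements.S0186
import Mathlib
import Cfsg.Agent.H4.Misc

set_option autoImplicit false
open Cfsg

namespace Cfsg.Agent.S0186
open H4


/-- Let G be a finite simple group of order n and p a prime dividing n. If G has more than n / p^2 conjugacy classes, then every Sylow p-subgroup of G is abelian. -/
theorem result {G : Type*} [Group G] [Finite G] [IsSimpleGroup G] (p : ℕ) [Fact p.Prime] (hp : p ∣ Nat.card G) (hmany : Nat.card G < p ^ 2 * Nat.card (ConjClasses G)) (P : Sylow p G) (a b : G) (ha : a ∈ P) (hb : b ∈ P) : a * b = b * a := by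
  classical
  by_contra hab
  have hpp : p.Prime := Fact.out
  obtain ⟨k, hk⟩ := P.isPGroup'.exists_card_eq
  have hk2 : 2 ≤ k := by
    by_contra hlt
    have hc : IsCyclic P := by
      have : k = 0 ∨ k = 1 := by omega
      rcases this with rfl | rfl
      · have := (Nat.card_eq_one_iff_unique.mp (hk.trans (pow_zero p))).1
        infer_instance
      · exact isCyclic_of_prime_card (p := p) (by simpa using hk)
    exact hab (congrArg Subtype.val ((IsCyclic.commGroup (α := P)).mul_comm ⟨a, ha⟩ ⟨b, hb⟩))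
  have hdvd : p ^ 2 ∣ Nat.card G :=
    (pow_dvd_pow p hk2).trans (hk ▸ (P : Subgroup G).card_subgroup_dvd_card)
  choose d hd0 hd using fun χ : IrrCharacter G => χ.2.exists_nat_apply_one
  have h1 : ∑ χ : IrrCharacter G, d χ ^ 2 = Nat.card G := by
    have := sum_degree_sq (G := G)
    simp only [hd] at this
    exact_mod_cast this
  have h2 : ∃ χ : IrrCharacter G, χ ≠ irrOne G ∧ d χ < p := by
    by_contra hc
    push Not at hc
    rw [← Finset.add_sum_erase _ _ (Finset.mem_univ (irrOne G))] at h1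
    have h3 : (Finset.univ.erase (irrOne G)).card • p ^ 2 ≤
        ∑ χ ∈ Finset.univ.erase (irrOne G), d χ ^ 2 :=
      Finset.card_nsmul_le_sum _ _ _ fun χ hχ =>
        Nat.pow_le_pow_left (hc χ (Finset.mem_erase.mp hχ).1) 2
    rw [Finset.card_erase_of_mem (Finset.mem_univ _), Finset.card_univ, ← Nat.card_eq_fintype_card,
      card_irr_eq_card_conjClasses, smul_eq_mul] at h3
    obtain ⟨m, hm⟩ := hdvd
    rw [hm] at hmany h1
    have h4 : m < Nat.card (ConjClasses G) := Nat.lt_of_mul_lt_mul_left hmany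
    have h5 : p ^ 2 * m ≤ (Nat.card (ConjClasses G) - 1) * p ^ 2 := by
      rw [mul_comm]; exact Nat.mul_le_mul_right _ (by omega)
    have h6 := pow_pos (hd0 (irrOne G)) 2
    omega
  obtain ⟨⟨χ, n, ρ, hρ, rfl⟩, hne, hlt⟩ := h2
  have hinj := rep_injective_of_simple ρ (fun h => hne (Subtype.ext h))
  have hn := hd ⟨_, n, ρ, hρ, rfl⟩
  simp only [ρ.char_one, Nat.cast_inj] at hn
  refine hab (congrArg Subtype.val (rep_comm_of_faithful_of_degree_lt
    (ρ.comp (P : Subgroup G).subtype) (hinj.comp Subtype.val_injective) (fun q hq hqd => ?_)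
    ⟨a, ha⟩ ⟨b, hb⟩))
  rw [hk] at hqd
  rw [(Nat.prime_dvd_prime_iff_eq hq hpp).mp (hq.dvd_of_dvd_pow hqd), hn]
  exact hlt

end Cfsg.Agent.S0186
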