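import Cfsg.Statements.S0192
import Mathlib
import Cfsg.Agent.H4.Misc

set_option autoImplicit false
open Cfsg

namespace Cfsg.Agent.S0192
open H4


/-- Brauer's generation criterion. Let G be a finite simple group, H₁ and H₂ subgroups, and χ a non-principal irreducible character. If the multiplicity of the principal character in χ restricted to H₁ ⊓ H₂ is less than the sum of the corresponding multiplicities for H₁ and H₂, then H₁ and H₂ do not generate G. -/
theorem result {G : Type*} [Group G] [Fintype G] [IsSimpleGroup G] (H₁ H₂ : Subgroup G) [Fintype H₁] [Fintype H₂] [Fintype ↥(H₁ ⊓ H₂)] (χ : G → ℂ) (hχ : Cfsg.IsIrrCharacter G χ) (hχ1 : χ ≠ fun _ => 1) (hlt : (Cfsg.classInner (fun x : ↥(H₁ ⊓ H₂) => χ x) (fun _ => 1)).re < (Cfsg.classInner (fun x : H₁ => χ x) (fun _ => 1)).re + (Cfsg.classInner (fun x : H₂ => χ x) (fun _ => 1)).re) : H₁ ⊔ H₂ ≠ ⊤ := by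
  intro htop
  obtain ⟨n, ρ, hρ, rfl⟩ := hχ
  have e : ∀ (K : Subgroup G) [Fintype K], classInner (fun x : K => ρ.character x) (fun _ => 1) =
      Module.finrank ℂ (Representation.invariants (ρ.comp K.subtype)) :=
    fun K _ => rep_classInner_one_eq_finrank (ρ.comp K.subtype)
  rw [e, e, e] at hlt
  simp only [Complex.natCast_re] at hlt
  set U₁ := Representation.invariants (ρ.comp H₁.subtype)
  set U₂ := Representation.invariants (ρ.comp H₂.subtype)
  set U := Representation.invariants (ρ.comp (H₁ ⊓ H₂).subtype)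
  have h0 : Module.finrank ℂ ρ.invariants = 0 := by
    have := rep_classInner_one_eq_finrank ρ
    rw [(isIrrCharacter_of_rep ρ).inner_of_ne isIrrCharacter_one hχ1] at this
    exact_mod_cast this.symm
  have h1 : U₁ ⊓ U₂ = ⊥ := by
    rw [eq_bot_iff, ← Submodule.finrank_eq_zero.mp h0]
    rintro v ⟨hv1, hv2⟩ g
    let S : Subgroup G :=
      { carrier := {g | ρ g v = v}
        one_mem' := by simp
        mul_mem' := fun {a b} ha hb => by
          simp only [Set.mem_ofPred_eq, map_mul, Module.End.mul_apply] at ha hb ⊢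
          rw [hb, ha]
        inv_mem' := fun {a} ha => by
          simp only [Set.mem_ofPred_eq] at ha ⊢
          conv_lhs => rw [← ha]
          simp }
    have : H₁ ⊔ H₂ ≤ S := sup_le (fun x hx => hv1 ⟨x, hx⟩) (fun x hx => hv2 ⟨x, hx⟩)
    exact this (htop ▸ Subgroup.mem_top g)
  have h2 : U₁ ⊔ U₂ ≤ U := sup_le (fun v hv x => hv ⟨x, x.2.1⟩) (fun v hv x => hv ⟨x, x.2.2⟩)
  have h3 := Submodule.finrank_sup_add_finrank_inf_eq U₁ U₂
  have h4 := Submodule.finrank_mono h2
  rw [h1, finrank_bot] at h3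
  have h5 : Module.finrank ℂ U < Module.finrank ℂ U₁ + Module.finrank ℂ U₂ := by exact_mod_cast hlt
  omega

end Cfsg.Agent.S0192
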