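import Cfsg.Statements.S0197
import Mathlib
import Cfsg.Agent.H4.GD13

set_option autoImplicit false
open Cfsg

namespace Cfsg.Agent.S0197
open H4


/-- If a finite simple group has an involution whose centralizer is isomorphic to the general linear group GL(2, 3), then the group has order 5616 or 7920. -/
theorem result {G : Type*} [Group G] [Finite G] [IsSimpleGroup G] (t : G) (ht : orderOf t = 2) (e : Subgroup.centralizer ({t} : Set G) ≃* Matrix.GeneralLinearGroup (Fin 2) (ZMod 3)) : Nat.card G = 5616 ∨ Nat.card G = 7920 := by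
  haveI : Fact (Nat.Prime 3) := ⟨Nat.prime_three⟩
  refine (gl2_centralizer (F := ZMod 3) (by simp; decide) ⊥ bot_le (by simp) t ht
    ⟨e.trans (QuotientGroup.quotientBot).symm⟩).imp (fun ⟨f⟩ => ?_) id
  have := H7.card_psl (F := ZMod 3) (q := 3) (by simp) 3 (by decide)
  rw [Nat.card_congr f.toEquiv]
  rw [show (∏ i : Fin 3, (3 ^ 3 - 3 ^ (i : ℕ))) = 11232 by decide, show Nat.gcd 3 (3 - 1) = 1 by decide] at this
  omega

end Cfsg.Agent.S0197
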