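import Cfsg.Statements.S0282
import Mathlib
import Cfsg.Agent.H7.SpSuSimple
import Cfsg.Agent.S0144

set_option autoImplicit false
open Cfsg

namespace Cfsg.Agent.S0282

/-- PSU_3(2) is a solvable group of order 72. -/
theorem result {F : Type*} [Field F] [Fintype F] (hF : Fintype.card F = 4) : Nat.card (Cfsg.PSU 3 F 2) = 72 ∧ Group.IsSolvable (Cfsg.PSU 3 F 2) := by
  have h1 := H7.card_psu (q := 2) (by simpa using hF) 3 (by omega)
  have h2 : Nat.card (Cfsg.PSU 3 F 2) = 72 := by
    generalize Nat.card (Cfsg.PSU 3 F 2) = k at h1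
    simp [Finset.prod_range_succ, Nat.even_iff] at h1
    omega
  exact ⟨h2, Cfsg.Agent.S0144.result 2 3 3 2 Nat.prime_two Nat.prime_three (by rw [h2]; norm_num)⟩

end Cfsg.Agent.S0282
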