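import Cfsg.Statements.S0304
import Mathlib
import Cfsg.Agent.H7.QuadClass

set_option autoImplicit false
open Cfsg

namespace Cfsg.Agent.S0304

open H15 H7 in
theorem aux {F : Type*} [Field F] [Finite F] (h2 : (2 : F) = 0) (m : ℕ) :
    Nonempty ((ofQuad (H7.qOdd m F)).Isom ≃* (spForm m F).Isom) := by
  let Q := H7.qOdd m F
  let π : (Unit ⊕ (Fin m ⊕ Fin m) → F) →ₗ[F] (Fin m ⊕ Fin m → F) := LinearMap.funLeft F F Sum.inr
  let s : (Fin m ⊕ Fin m → F) →ₗ[F] (Unit ⊕ (Fin m ⊕ Fin m) → F) :=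
    { toFun := fun w => Sum.elim 0 w
      map_add' := fun x y => by ext (i | i) <;> simp
      map_smul' := fun c x => by ext (i | i) <;> simp }
  let e0 : Unit ⊕ (Fin m ⊕ Fin m) → F := Pi.single (Sum.inl ()) 1
  have hπs : ∀ w, π (s w) = w := fun _ => rfl
  have hπe : π e0 = 0 := by ext i; simp [π, e0]
  have hdec : ∀ x, x = s (π x) + x (Sum.inl ()) • e0 := fun x => by
    ext (i | i) <;> simp [π, s, e0]
  have hB : ∀ x y, (spForm m F).B (π x) (π y) = pol Q x y := fun x y => by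
    rw [spForm_B, sympForm_eq, H7.pol_qOdd, h2, zero_mul, zero_mul, zero_add]
    refine Finset.sum_congr rfl fun i _ => ?_
    simp only [π, LinearMap.funLeft_apply]
    linear_combination (-(x (.inr (.inl i)) * y (.inr (.inr i)))) * h2
  have hQ : ∀ w (c : F), Q (s w + c • e0) = c ^ 2 + Q (s w) := fun w c => by
    simp [Q, H7.qOdd_apply, s, e0]
  have hsq : ∀ c d : F, c ^ 2 = d ^ 2 → c = d := fun c d h => by
    have : (c - d) ^ 2 = 0 := by linear_combination h + (d ^ 2 - c * d) * h2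
    exact sub_eq_zero.1 (pow_eq_zero_iff two_ne_zero |>.1 this)
  have hg0 : ∀ g : (ofQuad Q).Isom, g.1 e0 = e0 := fun g => by
    have h1 : π (g.1 e0) = 0 := spForm_nondeg m F _ fun w => by
      rw [← hπs w, hB, ← Form.Isom.apply_inv_apply g (s w), Form.Isom.map_pol, ← hB, hπe]
      simp
    have h3 := Form.Isom.map_quad g e0
    have h4 := hdec (g.1 e0)
    have h5 := hQ 0 1
    rw [h4, h1, hQ] at h3
    rw [map_zero, zero_add, one_smul] at h5
    rw [h5, map_zero, add_left_inj] at h3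
    rw [h4, h1, hsq _ _ h3]; simp
  have hπg : ∀ (g : (ofQuad Q).Isom) x, π (g.1 (s (π x))) = π (g.1 x) := fun g x => by
    conv_rhs => rw [hdec x, map_add, map_smul, hg0, map_add, map_smul, hπe]
    simp
  let φ : (ofQuad Q).Isom →* (spForm m F).Isom := MonoidHom.mk' (fun g =>
    (spForm m F).mkIsom (spForm_nondeg m F) (π ∘ₗ g.1.toLinearMap ∘ₗ s) (fun x y => by
      change (spForm m F).B (π (g.1 (s x))) (π (g.1 (s y))) = _
      rw [hB, Form.Isom.map_pol, ← hB, hπs, hπs]) fun _ => rfl) fun g h =>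
        Form.Isom.ext fun x => (hπg g (h.1 (s x))).symm
  have hφ : ∀ g x, (φ g).1 x = π (g.1 (s x)) := fun _ _ => rfl
  refine ⟨MulEquiv.ofBijective φ ⟨?_, ?_⟩⟩
  · rw [injective_iff_map_eq_one]
    intro g hg
    have h1 : ∀ w, g.1 (s w) = s w := fun w => by
      have h3 : π (g.1 (s w)) = w := by rw [← hφ, hg]; rfl
      have h4 := hdec (g.1 (s w))
      have h5 := Form.Isom.map_quad g (s w)
      rw [h3] at h4
      rw [h4, hQ, add_eq_right] at h5
      rw [h4, pow_eq_zero_iff two_ne_zero |>.1 h5]; simp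
    refine Form.Isom.ext fun x => ?_
    rw [hdec x, map_add, map_smul, h1, hg0]; rfl
  · rw [← MonoidHom.range_eq_top, eq_top_iff,
      ← (spForm_isAlt m).closure_transvSet (spForm_nondeg m F), Subgroup.closure_le]
    rintro g ⟨p, c, -, hg⟩
    by_cases hc : c = 0
    · exact ⟨1, Form.Isom.ext fun x => by simp [hg, hc]⟩
    obtain ⟨d, hd⟩ := H15.isSquare_of_two_eq_zero h2 (-c⁻¹ - Q (s p))
    refine ⟨H15.refl Q (s p + d • e0), Form.Isom.ext fun x => ?_⟩
    rw [hφ, hg, refl_apply, hQ, ← hB, sq, ← hd]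
    simp [hπs, hπe]

/-- In characteristic 2, O_{2m+1}(q) is isomorphic to Sp_{2m}(q). -/
theorem result {F : Type*} [Field F] [Fintype F] [CharP F 2] (m : ℕ) : Nonempty (Cfsg.isometryGroup F (Cfsg.quadFormOdd m F) ≃* Matrix.symplecticGroup (Fin m) F) := by
  obtain ⟨e⟩ := aux (F := F) CharTwo.two_eq_zero m
  exact ⟨(H15.orthEquiv (H7.qOdd m F)).trans (e.trans (H15.spEquiv m F).symm)⟩

end Cfsg.Agent.S0304
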