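import Mathlib
import Cfsg.Statements.S0310
import Cfsg.Agent.H8.BNPair

set_option autoImplicit false
open Cfsg

namespace Cfsg.Agent.S0310

/-- For a set `J` of distinguished generators, the subgroup generated by `B` and `J` is exactly the union of
the double cosets `B n B` with `n` in the subgroup generated by `J` (so `B W_J B` is a subgroup). -/
theorem result {G : Type*} [Group G] (P : Cfsg.BNPair G) {J : Set G}
    (hJ : J ⊆ P.S) (g : G) :
    g ∈ P.parabolic J ↔ ∃ n ∈ Subgroup.closure J, g ∈ DoubleCoset.doubleCoset n (P.B : Set G) P.B := by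
  constructor
  · intro hg
    rw [← H8.BN.image_preimage_of_subset hJ, H8.BN.mem_parabolic_iff_δ] at hg
    obtain ⟨l, hl, h⟩ := ((H8.BN.gens P).mem_closure_iff _ _).mp hg
    rw [← H8.BN.δ_prod, eq_comm, H8.BN.δ_eq_δ_iff] at h
    refine ⟨(l.map Subtype.val).prod, ?_, DoubleCoset.mem_doubleCoset.mpr h⟩
    apply Subgroup.list_prod_mem
    intro x hx
    obtain ⟨s, hs, rfl⟩ := List.mem_map.mp hx
    exact Subgroup.subset_closure (hl s hs)
  · rintro ⟨n, hn, hg⟩
    obtain ⟨b₁, h₁, b₂, h₂, rfl⟩ := DoubleCoset.mem_doubleCoset.mp hg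
    have hB := H8.BN.B_le_parabolic (P := P) J
    exact Subgroup.mul_mem _ (Subgroup.mul_mem _ (hB h₁)
      ((le_sup_right : Subgroup.closure J ≤ P.parabolic J) hn)) (hB h₂)

end Cfsg.Agent.S0310
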