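import Mathlib
import Cfsg.Statements.S0321
import Cfsg.Agent.H8.BNPair

set_option autoImplicit false
open Cfsg

namespace Cfsg.Agent.S0321

/-- For `n ∈ N` not in `B`, the union `B ∪ B n B` is (the underlying set of) a subgroup exactly when `n` agrees
modulo `B ⊓ N` with one of the distinguished representatives; thus the distinguished involutions are
determined by `B` and `N`. -/
theorem result {G : Type*} [Group G] (P : Cfsg.BNPair G) {n : G}
    (hn : n ∈ P.N) (hnB : n ∉ P.B) :
    (∃ H : Subgroup G, (H : Set G) = (P.B : Set G) ∪ DoubleCoset.doubleCoset n (P.B : Set G) P.B) ↔ ∃ s ∈ P.S, s⁻¹ * n ∈ P.B := by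
  constructor
  · rintro ⟨H, hH⟩
    have hB : P.B ≤ H := fun b hb => by
      show b ∈ (H : Set G)
      rw [hH]; exact Or.inl hb
    have hnH : n ∈ H := by
      show n ∈ (H : Set G)
      rw [hH]; exact Or.inr (DoubleCoset.mem_doubleCoset_self _ _ _)
    rcases (P.S ∩ H).eq_empty_or_nonempty with h | ⟨s, hs, hsH⟩
    · have := H8.BN.eq_parabolic hB
      rw [h, H8.BN.parabolic_empty] at this
      exact absurd (this ▸ hnH) hnB
    · refine ⟨s, hs, ?_⟩
      rw [hH] at hsH
      rcases hsH with h | h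
      · exact absurd h (H8.BN.notMem_B_of_mem_S P hs)
      · rw [← H8.BN.δ_eq_δ_iff_of_mem (P.subset hs) hn, H8.BN.δ_eq_δ_iff]
        exact DoubleCoset.mem_doubleCoset.mp h
  · rintro ⟨s, hs, h⟩
    rw [← H8.BN.δ_eq_δ_iff_of_mem (P.subset hs) hn] at h
    refine ⟨P.parabolic (Subtype.val '' ({⟨s, hs⟩} : Set P.S)), ?_⟩
    ext g
    rw [SetLike.mem_coe, H8.BN.mem_parabolic_iff_δ, Set.mem_union, SetLike.mem_coe,
      ← H8.BN.δ_eq_one_iff, DoubleCoset.mem_doubleCoset]
    have h2 : (∃ x ∈ (P.B : Set G), ∃ y ∈ (P.B : Set G), g = x * n * y) ↔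
        H8.BN.δ P g = H8.BN.δ P n := H8.BN.δ_eq_δ_iff.symm
    have h3 : H8.BN.δ P s = (H8.BN.gens P).σ ⟨s, hs⟩ := H8.BN.δ_simple ⟨s, hs⟩
    rw [h2, ← h, h3, Set.image_singleton]
    generalize H8.BN.δ P g = w
    constructor
    · intro hw
      induction hw using Subgroup.closure_induction_left with
      | one => exact Or.inl rfl
      | mul_left x hx y _ ih =>
        rw [hx]
        rcases ih with rfl | rfl
        · right; simp
        · left; exact (H8.BN.gens P).sq _
      | inv_mul_cancel x hx y _ ih =>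
        rw [hx, (H8.BN.gens P).σ_inv]
        rcases ih with rfl | rfl
        · right; simp
        · left; exact (H8.BN.gens P).sq _
    · rintro (rfl | rfl)
      · exact Subgroup.one_mem _
      · exact Subgroup.subset_closure rfl

end Cfsg.Agent.S0321
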