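import Mathlib
import Cfsg.Statements.S0322
import Cfsg.Agent.H8.BNPair

set_option autoImplicit false
open Cfsg

namespace Cfsg.Agent.S0322

/-- A group with a (B,N)-pair of rank one acts doubly transitively on the left cosets of `B`. -/
theorem result {G : Type*} [Group G] (P : Cfsg.BNPair G) (h : P.rank = 1) : MulAction.IsMultiplyPretransitive G (G ⧸ P.B) 2 := by
  obtain ⟨s, hs⟩ := Nat.card_eq_one_iff_exists.mp h
  have hW : ∀ w : H8.BN.W P, w = 1 ∨ w = (H8.BN.gens P).σ s := by
    intro w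
    obtain ⟨l, rfl⟩ := (H8.BN.gens P).gen w
    induction l with
    | nil => left; rfl
    | cons t l ih =>
      rw [List.map_cons, List.prod_cons, hs t]
      rcases ih with ih | ih <;> rw [ih]
      · right; simp
      · left; exact (H8.BN.gens P).sq s
  rw [MulAction.is_two_pretransitive_iff]
  intro a b c d hab hcd
  obtain ⟨a, rfl⟩ := QuotientGroup.mk_surjective a
  obtain ⟨b, rfl⟩ := QuotientGroup.mk_surjective b
  obtain ⟨c, rfl⟩ := QuotientGroup.mk_surjective c
  obtain ⟨d, rfl⟩ := QuotientGroup.mk_surjective d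
  rw [Ne, QuotientGroup.eq, ← H8.BN.δ_eq_one_iff] at hab hcd
  have h1 := (hW _).resolve_left hab
  have h2 := (hW _).resolve_left hcd
  obtain ⟨b₁, h₁, b₂, h₂, e⟩ := H8.BN.δ_eq_δ_iff.mp (h2.trans h1.symm)
  refine ⟨c * b₁ * a⁻¹, ?_, ?_⟩
  · rw [MulAction.Quotient.smul_mk, QuotientGroup.eq]
    simpa using h₁
  · rw [MulAction.Quotient.smul_mk, QuotientGroup.eq]
    have : d = c * (b₁ * (a⁻¹ * b) * b₂) := by rw [← e]; group
    rw [this]
    convert h₂ using 1
    simp only [smul_eq_mul]
    group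

end Cfsg.Agent.S0322
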