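import Mathlib
import Cfsg.Statements.S0323

set_option autoImplicit false
open scoped Pointwise
open Cfsg

namespace Cfsg.Agent.S0323

/-- A doubly transitive action on a set with at least three points yields a (B,N)-pair of rank one:
`B` is the stabiliser of a point `x`, `N` the setwise stabiliser of a pair `{x, y}`. -/
theorem result {G Ω : Type*} [Group G] [MulAction G Ω]
    (h2 : MulAction.IsMultiplyPretransitive G Ω 2) {x y z : Ω} (hxy : x ≠ y) (hyz : y ≠ z) (hxz : x ≠ z) :
    ∃ P : Cfsg.BNPair G, P.B = MulAction.stabilizer G x ∧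
      P.N = MulAction.stabilizer G ({x, y} : Set Ω) ∧ P.rank = 1 := by
  have h2' : ∀ {a b c d : Ω}, a ≠ b → c ≠ d → ∃ g : G, g • a = c ∧ g • b = d :=
    MulAction.is_two_pretransitive_iff.mp h2
  obtain ⟨s, hsx, hsy⟩ := h2' hxy hxy.symm
  have hN : ∀ n : G, n ∈ MulAction.stabilizer G ({x, y} : Set Ω) ↔
      (n • x = x ∧ n • y = y) ∨ (n • x = y ∧ n • y = x) := by
    intro n
    rw [MulAction.mem_stabilizer_iff, Set.smul_set_insert, Set.smul_set_singleton,
      Set.pair_eq_pair_iff]
  have hsN : s ∈ MulAction.stabilizer G ({x, y} : Set Ω) := (hN s).mpr (Or.inr ⟨hsx, hsy⟩)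
  have hdc : ∀ g n : G, (g • x = x ↔ n • x = x) →
      g ∈ DoubleCoset.doubleCoset n (MulAction.stabilizer G x : Set G)
        (MulAction.stabilizer G x) := by
    intro g n h
    rw [DoubleCoset.mem_doubleCoset]
    by_cases hg : g • x = x
    · refine ⟨g * n⁻¹, ?_, 1, Subgroup.one_mem _, by group⟩
      have hn : n ∈ MulAction.stabilizer G x := h.mp hg
      exact Subgroup.mul_mem _ hg (Subgroup.inv_mem _ hn)
    · have hn : ¬ n • x = x := fun h' => hg (h.mpr h')
      obtain ⟨b, hb1, hb2⟩ := h2' (Ne.symm hn) (Ne.symm hg)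
      refine ⟨b, hb1, (b * n)⁻¹ * g, ?_, by group⟩
      show ((b * n)⁻¹ * g) • x = x
      rw [mul_smul, inv_smul_eq_iff, mul_smul, hb2]
  refine ⟨
    { B := MulAction.stabilizer G x
      N := MulAction.stabilizer G ({x, y} : Set Ω)
      S := {s}
      sup_eq_top := ?_
      conj_mem := ?_
      subset := by simpa using hsN
      sq_mem := ?_
      inj := ?_
      closure_sup := ?_
      mul_mem_union := ?_
      conj_ne := ?_ }, rfl, rfl, by simp [BNPair.rank]⟩
  · rw [eq_top_iff]
    intro g _
    by_cases hg : g • x = x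
    · exact Subgroup.mem_sup_left hg
    · obtain ⟨b₁, h₁, b₂, h₂, rfl⟩ := DoubleCoset.mem_doubleCoset.mp (hdc g s (by
        simp only [hg, false_iff, hsx]; exact hxy.symm))
      exact Subgroup.mul_mem _ (Subgroup.mul_mem _ (Subgroup.mem_sup_left h₁)
        (Subgroup.mem_sup_right hsN)) (Subgroup.mem_sup_left h₂)
  · intro n hn t ht
    have ht1 : t • x = x := ht.1
    have ht2 : t • y = y := by
      rcases (hN t).mp ht.2 with h | h
      · exact h.2
      · exact absurd (ht1.symm.trans h.1) hxy
    rw [MulAction.mem_stabilizer_iff]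
    rcases (hN n).mp hn with h | h
    · rw [mul_smul, mul_smul, show n⁻¹ • x = x from inv_smul_eq_iff.mpr h.1.symm, ht1, h.1]
    · rw [mul_smul, mul_smul, show n⁻¹ • x = y from inv_smul_eq_iff.mpr h.2.symm, ht2, h.2]
  · rintro _ rfl
    rw [MulAction.mem_stabilizer_iff, mul_smul, hsx, hsy]
  · rintro _ rfl _ rfl _
    rfl
  · apply le_antisymm
    · exact sup_le (by simpa using hsN) inf_le_right
    · intro n hn
      rcases (hN n).mp hn with h | h
      · exact Subgroup.mem_sup_right ⟨h.1, hn⟩
      · have : n = s * (s⁻¹ * n) := by group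
        rw [this]
        refine Subgroup.mul_mem _ (Subgroup.mem_sup_left (Subgroup.subset_closure rfl))
          (Subgroup.mem_sup_right ⟨?_, Subgroup.mul_mem _ (Subgroup.inv_mem _ hsN) hn⟩)
        show (s⁻¹ * n) • x = x
        rw [mul_smul, h.1, inv_smul_eq_iff, hsx]
  · intro s' hs' n hn b hb
    obtain rfl : s = s' := hs'.symm
    have hb' : b • x = x := hb
    rcases (hN n).mp hn with h | h
    · left
      apply hdc
      simp only [mul_smul, h.1, hb']
    · by_cases h3 : (s * b * n) • x = x
      · left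
        apply hdc
        simp only [h3, true_iff, mul_smul, h.1, hsy]
      · right
        apply hdc
        simp only [h3, false_iff, h.1]
        exact hxy.symm
  · intro s' hs' h
    obtain rfl : s = s' := hs'.symm
    obtain ⟨b, hb1, hb2⟩ := h2' hxy hxz
    have : s * b * s ∈ (MulAction.stabilizer G x : Set G) := by
      rw [← h]; exact ⟨b, hb1, rfl⟩
    have h3 : (s * b * s) • x = x := this
    rw [mul_smul, mul_smul, hsx, hb2, ← hsy] at h3
    exact hyz (smul_left_cancel s h3).symm

end Cfsg.Agent.S0323
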