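import Mathlib
import Cfsg.Statements.S0333
import Cfsg.Agent.H8.SzCount

set_option autoImplicit false
open Cfsg

namespace Cfsg.Agent.S0333

/-- With `q = 2^(2m+1)` and `r = 2^m`, the Suzuki group has cyclic subgroups of orders `q + 2r + 1` and
`q - 2r + 1`; each is the centraliser of each of its non-identity elements and has index `4` in its normaliser. -/
theorem result {F : Type*} [Field F] [Fintype F] {m : ℕ} (hm : 1 ≤ m)
    (hF : Fintype.card F = 2 ^ (2 * m + 1)) :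
    ∀ k ∈ ({2 ^ (2 * m + 1) + 2 ^ (m + 1) + 1, 2 ^ (2 * m + 1) - 2 ^ (m + 1) + 1} : Set ℕ),
      ∃ U : Subgroup (Cfsg.Sz F m), IsCyclic U ∧ Nat.card U = k ∧
        (∀ u ∈ U, u ≠ 1 → Subgroup.centralizer {u} = U) ∧ Nat.card (Subgroup.normalizer (U : Set (Cfsg.Sz F m))) = 4 * k := by
  obtain ⟨T⟩ := H8.Sz.nonempty_ctx hm hF
  rw [← Nat.card_eq_fintype_card] at hF
  have hq : 4 ≤ Nat.card F := by
    rw [hF]
    exact (Nat.pow_le_pow_right (by norm_num) (by omega) : 2 ^ 2 ≤ 2 ^ (2 * m + 1))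
  obtain ⟨g, g', hg, hg', hN, hN', hsum, hprod, -⟩ :=
    T.exists_tori (H8.Sz.not_three_dvd T hF) hq
  have key : ∀ g : Cfsg.Sz F m, H8.Sz.Fpf g → ∀ k,
      Nat.card (Subgroup.normalizer
        (Subgroup.centralizer ({g} : Set (Cfsg.Sz F m)) : Set (Cfsg.Sz F m))) =
        4 * Nat.card (Subgroup.centralizer ({g} : Set (Cfsg.Sz F m))) →
      Nat.card (Subgroup.centralizer ({g} : Set (Cfsg.Sz F m))) = k →
      ∃ U : Subgroup (Cfsg.Sz F m), IsCyclic U ∧ Nat.card U = k ∧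
        (∀ u ∈ U, u ≠ 1 → Subgroup.centralizer {u} = U) ∧
        Nat.card (Subgroup.normalizer (U : Set (Cfsg.Sz F m))) = 4 * k := by
    rintro g hg k h1 rfl
    exact ⟨_, T.isCyclic_centralizer_of_fpf hg, rfl,
      fun u hu h => T.centralizer_eq_of_fpf hg hu h, h1⟩
  rw [hF] at hsum hprod
  have hr : (2 ^ (m + 1)) ^ 2 = 2 * 2 ^ (2 * m + 1) := by ring
  have hle : 2 ^ (m + 1) ≤ 2 ^ (2 * m + 1) := Nat.pow_le_pow_right (by norm_num) (by omega)
  generalize 2 ^ (m + 1) = r at *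
  generalize 2 ^ (2 * m + 1) = q at *
  set a := Nat.card (Subgroup.centralizer ({g} : Set (Cfsg.Sz F m)))
  set a' := Nat.card (Subgroup.centralizer ({g'} : Set (Cfsg.Sz F m)))
  have h1 : ((a : ℤ) - (q + r + 1)) * (a - (q - r + 1)) = 0 := by
    zify at hsum hprod hr
    linear_combination (a : ℤ) * hsum - hprod - hr
  intro k hk
  rcases mul_eq_zero.mp h1 with h | h <;> rcases hk with rfl | rfl
  · exact key g hg _ hN (by omega)
  · exact key g' hg' _ hN' (by omega)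
  · exact key g' hg' _ hN' (by omega)
  · exact key g hg _ hN (by omega)

end Cfsg.Agent.S0333
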