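import Mathlib
import Cfsg.Statements.S0335
import Cfsg.Agent.H8.SzGroup

set_option autoImplicit false
open Cfsg

namespace Cfsg.Agent.S0335

/-- The Suzuki–Tits point set is an ovoid: any three distinct points of it are projectively independent
(no line of projective 3-space meets it in more than two points). -/
theorem result {F : Type*} [Field F] [Fintype F] {m : ℕ} (hm : 1 ≤ m)
    (hF : Fintype.card F = 2 ^ (2 * m + 1)) (p : Fin 3 ↪ Cfsg.suzukiOvoid F m) :
    Projectivization.Independent (fun i => (p i : Projectivization F (Fin 4 → F))) := by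
  obtain ⟨T⟩ := H8.Sz.nonempty_ctx hm hF
  have hne : ∀ i j : Fin 3, i ≠ j → (p i : Projectivization F (Fin 4 → F)) ≠ p j :=
    fun i j hij h => hij (p.injective (Subtype.ext h))
  obtain ⟨g, h0, h1⟩ := T.exists_smul_pair (p 0).2 (p 1).2 (hne 0 1 (by decide))
  obtain ⟨x, y, h2⟩ := ((T.mem_ovoid_iff _).mp (H8.Sz.smul_mem g⁻¹ (p 2).2)).resolve_left (by
    rw [inv_smul_eq_iff, h0]
    exact hne 2 0 (by decide))
  rw [inv_smul_eq_iff] at h2
  have hxy : ¬ (x = 0 ∧ y = 0) := by
    rintro ⟨rfl, rfl⟩
    rw [h1] at h2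
    exact hne 2 1 (by decide) h2
  let v : Fin 3 → Fin 4 → F := ![![1, 0, 0, 0], T.vec 0 0, T.vec x y]
  have hv : LinearIndependent F v := by
    rw [Fintype.linearIndependent_iff]
    intro c hc
    have e0 := congrFun hc 0
    have e1 := congrFun hc 1
    have e2 := congrFun hc 2
    have e3 := congrFun hc 3
    simp [v, Fin.sum_univ_three, H8.Sz.Ctx.vec] at e0 e1 e2 e3
    have hc2 : c 2 = 0 := by
      by_contra h
      exact hxy ⟨e2.resolve_left h, e1.resolve_left h⟩
    intro i
    fin_cases i
    · simpa [hc2] using e0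
    · simpa [hc2] using e3
    · exact hc2
  let L : (Fin 4 → F) ≃ₗ[F] (Fin 4 → F) :=
    DistribMulAction.toLinearEquiv F (Fin 4 → F) (g : Matrix.SpecialLinearGroup (Fin 4) F)
  have hv' : LinearIndependent F (L ∘ v) := hv.map' L.toLinearMap L.ker
  have := Projectivization.Independent.mk (L ∘ v) (fun i => hv'.ne_zero i) hv'
  convert this using 2 with i
  fin_cases i
  · exact h0.symm
  · exact h1.symm
  · exact h2

end Cfsg.Agent.S0335
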