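import Mathlib
import Cfsg.Statements.S0349
import Cfsg.Agent.H8.BNPair
import Cfsg.Agent.H2.MinNormal
import Cfsg.Agent.H2.Cores
import Cfsg.Agent.S1175
import Cfsg.Agent.S0222

set_option autoImplicit false
open Cfsg

namespace Cfsg.Agent.S0349

/-- Let a finite simple group have a (B,N)-pair of rank one which is strongly split (`B = U (B ⊓ N)` with `U` nilpotent,
normal in `B` and meeting `N` trivially), with `[G : B]` and `|B ⊓ N|` odd. Then the group is isomorphic to `PSL₂(F)` with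
`|F|` a power of `2`, or is simple of Suzuki order, or is isomorphic to `PSU₃` realised over a field with `q²` elements,
`q = 2^n`, `n ≥ 2`. -/
theorem result {G : Type*} [Group G] [Finite G] [IsSimpleGroup G]
    (P : Cfsg.BNPair G) (hrank : P.rank = 1) (U : Subgroup G) (hUB : U ≤ P.B)
    (hUn : (U.subgroupOf P.B).Normal) (hUnil : Group.IsNilpotent U) (hsplit : U ⊔ (P.B ⊓ P.N) = P.B)
    (hdisj : U ⊓ P.N = ⊥) (hind : Odd P.B.index) (hH : Odd (Nat.card ↥(P.B ⊓ P.N))) :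
    (∃ (F : Type) (_ : Field F) (_ : Fintype F), (∃ n : ℕ, Fintype.card F = 2 ^ n) ∧ Nonempty (G ≃* Matrix.ProjectiveSpecialLinearGroup (Fin 2) F)) ∨
      Cfsg.IsSuzuki G ∨
      (∃ (F : Type) (_ : Field F) (_ : Fintype F) (n : ℕ), 2 ≤ n ∧ Fintype.card F = (2 ^ n) ^ 2 ∧
        Nonempty (G ≃* Cfsg.PSU 3 F (2 ^ n))) := by
  obtain ⟨s, hS⟩ : ∃ s, P.S = {s} := Set.ncard_eq_one.mp hrank
  have hs : s ∈ P.S := hS ▸ rfl
  have hsB := H8.BN.notMem_B_of_mem_S P hs
  have hB : P.B ≠ ⊤ := fun e => hsB (e ▸ Subgroup.mem_top s)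
  have hUc : ∀ b ∈ P.B, ∀ u ∈ U, b * u * b⁻¹ ∈ U := fun b hb u hu =>
    hUn.conj_mem ⟨u, hUB hu⟩ hu ⟨b, hb⟩
  have hN : P.B ⊓ P.N ≤ Subgroup.normalizer (U : Set G) := fun b hb =>
    Subgroup.mem_normalizer_fintype (hUc b hb.1)
  have hUH : ∀ b ∈ P.B, ∃ u ∈ U, ∃ h ∈ P.B ⊓ P.N, u * h = b := fun b hb => by
    rwa [← hsplit, ← SetLike.mem_coe, Subgroup.coe_mul_of_right_le_normalizer_left _ _ hN] at hb
  have hbr : ∀ g, g ∉ P.B → ∃ u ∈ U, ∃ b ∈ P.B, g = u * s * b := fun g hg => by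
    obtain ⟨w, n, -, b₁, h₁, b₂, h₂, rfl⟩ := H8.BN.exists_cell P g
    have hn : (n : G) ∈ P.B ∨ s⁻¹ * n ∈ P.B := by
      let X : Subgroup G :=
        { carrier := {n | n ∈ P.N ∧ (n ∈ P.B ∨ s⁻¹ * n ∈ P.B)}
          one_mem' := ⟨P.N.one_mem, Or.inl P.B.one_mem⟩
          mul_mem' := fun {x y} hx hy => ⟨P.N.mul_mem hx.1 hy.1, by
            have hsN := P.subset hs
            rcases hx.2 with h1 | h1 <;> rcases hy.2 with h2 | h2
            · exact Or.inl (P.B.mul_mem h1 h2)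
            · refine Or.inr ?_
              have := P.B.mul_mem (P.conj_mem _ (P.N.inv_mem hsN) x ⟨h1, hx.1⟩) h2
              simpa [mul_assoc] using this
            · exact Or.inr (by rw [← mul_assoc]; exact P.B.mul_mem h1 h2)
            · refine Or.inl ?_
              have := P.B.mul_mem (P.B.mul_mem (P.sq_mem s hs) (P.conj_mem _ (P.N.inv_mem hsN) _
                ⟨h1, P.N.mul_mem (P.N.inv_mem hsN) hx.1⟩)) h2
              simpa [mul_assoc] using this⟩
          inv_mem' := fun {x} hx => ⟨P.N.inv_mem hx.1, by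
            have hsN := P.subset hs
            rcases hx.2 with h1 | h1
            · exact Or.inl (P.B.inv_mem h1)
            · refine Or.inr ?_
              have := P.B.mul_mem (P.conj_mem _ (P.N.inv_mem hsN) _
                ⟨P.B.inv_mem h1, P.N.inv_mem (P.N.mul_mem (P.N.inv_mem hsN) hx.1)⟩)
                (P.B.inv_mem (P.sq_mem s hs))
              simpa [mul_assoc] using this⟩ }
      have : P.N ≤ X := by
        rw [← P.closure_sup, hS]
        exact sup_le ((Subgroup.closure_le _).mpr (by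
          rintro _ rfl
          exact ⟨P.subset hs, Or.inr (by simp)⟩)) fun x hx => ⟨hx.2, Or.inl hx.1⟩
      exact (this n.2).2
    rcases hn with hn | hn
    · exact absurd (P.B.mul_mem (P.B.mul_mem h₁ hn) h₂) hg
    · obtain ⟨u, hu, h, hh, rfl⟩ := hUH b₁ h₁
      refine ⟨u, hu, _, P.B.mul_mem (P.B.mul_mem (P.conj_mem _ (P.N.inv_mem (P.subset hs)) h hh) hn) h₂,
        by group⟩
  have key : ∀ z ∈ P.B, z ≠ 1 → (∀ u ∈ U, u * z = z * u) → ∀ g, g * z * g⁻¹ ∈ P.B → g ∈ P.B := by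
    intro z hz hz1 hc g hg
    by_contra hgB
    have h1 : ∀ u ∈ U, ∀ b ∈ P.B, (u * s * b)⁻¹ * z * (u * s * b) = b⁻¹ * (s⁻¹ * z * s) * b :=
      fun u hu b _ => by
        calc _ = b⁻¹ * s⁻¹ * u⁻¹ * (z * u) * s * b := by group
          _ = _ := by rw [← hc u hu]; group
    obtain ⟨u, hu, b, hb, e⟩ := hbr g⁻¹ fun h => hgB (by simpa using P.B.inv_mem h)
    have h2 := h1 u hu b hb
    rw [← e, inv_inv] at h2
    rw [h2, P.B.mul_mem_cancel_right hb, P.B.mul_mem_cancel_left (P.B.inv_mem hb)] at hg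
    refine P.B.normalCore_normal.eq_bot_or_eq_top.elim (fun e => hz1 (e.le fun x => ?_))
      fun e => hB (eq_top_iff.mpr (e ▸ P.B.normalCore_le))
    by_cases hx : x⁻¹ ∈ P.B
    · simpa using P.B.mul_mem (P.B.mul_mem (P.B.inv_mem hx) hz) hx
    · obtain ⟨u, hu, b, hb, e⟩ := hbr _ hx
      have h3 := h1 u hu b hb
      rw [← e, inv_inv] at h3
      rw [h3]
      exact P.B.mul_mem (P.B.mul_mem (P.B.inv_mem hb) hg) hb
  have hidx : Odd U.index := by
    rw [← Subgroup.relIndex_mul_index hUB]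
    refine Odd.mul (hH.of_dvd_nat ?_) hind
    have h1 := H2.card_sup_dvd_of_le_normalizer hN
    rw [sup_comm, hsplit, ← (U.subgroupOf P.B).index_mul_card,
      Nat.card_congr (Subgroup.subgroupOfEquivOfLe hUB).toEquiv] at h1
    exact Nat.dvd_of_mul_dvd_mul_right Nat.card_pos h1
  obtain ⟨T⟩ : Nonempty (Sylow 2 U) := inferInstance
  have hT : ¬ 2 ∣ ((T : Subgroup U).map U.subtype).index := by
    rw [Subgroup.index_map_subtype]
    exact fun h => (Nat.prime_two.dvd_mul.mp h).elim T.not_dvd_index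
      (Nat.two_dvd_ne_zero.mpr (Nat.odd_iff.mp hidx))
  have hT1 : (T : Subgroup U) ≠ ⊥ := fun e => by
    rw [e, Subgroup.map_bot, Subgroup.index_bot] at hT
    have ho : Odd (orderOf s) := (Nat.odd_iff.mpr (Nat.two_dvd_ne_zero.mp hT)).of_dvd_nat
      (orderOf_dvd_natCard s)
    obtain ⟨m, hm⟩ := ho
    have : s = (s * s) ^ (m + 1) := by
      rw [← pow_two, ← pow_mul, show 2 * (m + 1) = 2 * m + 1 + 1 by ring, pow_succ, ← hm,
        pow_orderOf_eq_one, one_mul]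
    exact hsB (this ▸ P.B.pow_mem (P.sq_mem s hs) _)
  have : (T : Subgroup U).Normal := inferInstance
  obtain ⟨z, hz, ho⟩ : ∃ z ∈ (T : Subgroup U) ⊓ Subgroup.center U, orderOf z = 2 := by
    have h1 := H2.inf_center_ne_bot hT1
    obtain ⟨n, hn⟩ := IsPGroup.iff_card.mp (T.isPGroup'.to_le
      (inf_le_left : (T : Subgroup U) ⊓ Subgroup.center U ≤ T))
    obtain ⟨z, hz⟩ := exists_prime_orderOf_dvd_card' (G := ↥((T : Subgroup U) ⊓ Subgroup.center U)) 2 (by
      rw [hn]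
      exact dvd_pow_self 2 fun e => h1 (Subgroup.card_eq_one.mp (by rw [hn, e, pow_zero])))
    exact ⟨z, z.2, by rwa [Subgroup.orderOf_coe]⟩
  have hzc : ∀ u ∈ U, u * z = z * u := fun u hu =>
    congrArg Subtype.val (Subgroup.mem_center_iff.mp hz.2 ⟨u, hu⟩)
  have ho' : orderOf (z : G) = 2 := by rwa [Subgroup.orderOf_coe]
  have hz1 : (z : G) ≠ 1 := fun e => by rw [e, orderOf_one] at ho'; omega
  have h2 := key z (hUB z.2) hz1 hzc
  obtain ⟨H, hH'⟩ := Cfsg.Agent.S1175.result P.B hB z ho' (hUB z.2)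
    ⟨(T.isPGroup'.map U.subtype).toSylow hT, ⟨z, hz.1, rfl⟩, by
      rintro _ ⟨u, -, rfl⟩
      exact hzc u u.2⟩ h2 (fun g hc hne c hcc => by
    have h3 := h2 _ (by rw [← hc.eq, mul_inv_cancel_right]; exact hUB z.2)
    have h4 := h2 g h3
    refine key _ (P.B.mul_mem (hUB z.2) h3) (fun e => hne ?_) (fun u hu => ?_) c ?_
    · rw [← mul_right_inj (z : G), e, ← pow_two, ← ho', pow_orderOf_eq_one]
    · have h5 := hzc _ (hUc _ (P.B.inv_mem h4) u hu)
      calc _ = z * g * (g⁻¹ * u * g⁻¹⁻¹ * z) * g⁻¹ := by rw [← mul_assoc, hzc u hu]; group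
        _ = _ := by rw [h5]; group
    · rw [Subgroup.mem_centralizer_singleton_iff.mp hcc, mul_inv_cancel_right]
      exact P.B.mul_mem (hUB z.2) h3)
  rcases Cfsg.Agent.S0222.result (by
    by_contra h
    push Not at h
    exact hsB (h2 s (by rw [h s, mul_inv_cancel_right]; exact hUB z.2))) H hH' with
    ⟨F, _, _, hF, -, e⟩ | h | ⟨F, _, _, q, hF, hq, h4, e⟩
  · obtain ⟨n, -, hn⟩ := FiniteField.card F 2
    exact Or.inl ⟨F, inferInstance, inferInstance, ⟨n, hn⟩, e⟩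
  · exact Or.inr (Or.inl h)
  · obtain ⟨p, hp⟩ := CharP.exists F
    obtain ⟨k, hpp, hk⟩ := FiniteField.card F p
    obtain rfl : 2 = p := (Nat.prime_dvd_prime_iff_eq Nat.prime_two hpp).mp
      (Nat.prime_two.dvd_of_dvd_pow (hk ▸ hF ▸ hq.two_dvd.trans (dvd_pow_self q two_ne_zero)))
    obtain ⟨n, -, rfl⟩ := (Nat.dvd_prime_pow Nat.prime_two).mp
      (hk ▸ hF ▸ dvd_pow_self q two_ne_zero : q ∣ 2 ^ (k : ℕ))
    exact Or.inr (Or.inr ⟨F, inferInstance, inferInstance, n,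
      (Nat.pow_le_pow_iff_right (by norm_num)).mp (show 2 ^ 2 ≤ 2 ^ n from h4), hF, e⟩)

end Cfsg.Agent.S0349
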