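import Cfsg.Statements.S0436
import Mathlib
import Cfsg.Agent.H0.TT

set_option autoImplicit false
open Cfsg

namespace Cfsg.Agent.S0436

open H0


/-- For distinct commuting members a, b of a set of 3-transpositions E, a member e of E centralises the product a * b if and only if it centralises both a and b. -/
theorem result {G : Type*} [Group G] {E : Set G} (hE : Cfsg.IsThreeTranspositionSet E) {a b e : G} (ha : a ∈ E) (hb : b ∈ E) (he : e ∈ E) (hab : a ≠ b) (hcomm : Commute a b) : Commute e (a * b) ↔ (Commute e a ∧ Commute e b) := by
  refine ⟨fun h => ?_, fun h => h.1.mul_right h.2⟩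
  have a2 := sq_of_set hE ha
  have b2 := sq_of_set hE hb
  have e2 := sq_of_set hE he
  have key : Commute e a ↔ Commute e b := by
    constructor
    · intro h1
      have := h1.mul_right h
      rwa [← mul_assoc, a2, one_mul] at this
    · intro h1
      have := h.mul_right h1
      rwa [mul_assoc, b2, mul_one] at this
  by_cases h1 : Commute e a
  · exact ⟨h1, key.1 h1⟩
  exfalso
  have h2 : ¬ Commute e b := fun h => h1 (key.2 h)
  have k1 := (dich_of_set hE he ha).resolve_left h1
  have k2 := (dich_of_set hE he hb).resolve_left h2
  have k3 : cj a e = cj b e := by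
    have := cj_of_commute h.symm
    rw [← cj_cj] at this
    have h4 := congrArg (cj a) this
    rw [cj_cj, a2, cj_one] at h4
    exact h4.symm
  rw [← k1, ← k2, cj_inj] at k3
  exact hab k3

end Cfsg.Agent.S0436
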