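import Cfsg.Statements.S0437
import Mathlib
import Cfsg.Agent.H0.TT
import Cfsg.Agent.S0436

set_option autoImplicit false
open Cfsg

namespace Cfsg.Agent.S0437

open H0


/-- For three distinct, pairwise commuting members a, b, c of a set of 3-transpositions E, a member e of E centralises a * b * c if and only if it centralises each of a, b and c. -/
theorem result {G : Type*} [Group G] {E : Set G} (hE : Cfsg.IsThreeTranspositionSet E) {a b c e : G} (ha : a ∈ E) (hb : b ∈ E) (hc : c ∈ E) (he : e ∈ E) (hab : a ≠ b) (hac : a ≠ c) (hbc : b ≠ c) (h₁ : Commute a b) (h₂ : Commute a c) (h₃ : Commute b c) : Commute e (a * b * c) ↔ (Commute e a ∧ Commute e b ∧ Commute e c) := by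
  refine ⟨fun h => ?_, fun h => (h.1.mul_right h.2.1).mul_right h.2.2⟩
  have a2 := sq_of_set hE ha
  have b2 := sq_of_set hE hb
  have c2 := sq_of_set hE hc
  have e2 := sq_of_set hE he
  by_cases h1 : Commute e a
  · have := h1.mul_right h
    rw [mul_assoc a b c, ← mul_assoc, a2, one_mul] at this
    exact ⟨h1, (Cfsg.Agent.S0436.result hE hb hc he hbc h₃).1 this⟩
  by_cases h2 : Commute e b
  · have := h2.mul_right h
    rw [h₁.eq, mul_assoc b a c, ← mul_assoc, b2, one_mul] at this
    exact absurd ((Cfsg.Agent.S0436.result hE ha hc he hac h₂).1 this).1 h1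
  by_cases h3 : Commute e c
  · have := h.mul_right h3
    rw [mul_assoc, c2, mul_one] at this
    exact absurd ((Cfsg.Agent.S0436.result hE ha hb he hab h₁).1 this).1 h1
  exfalso
  have k1 := (dich_of_set hE he ha).resolve_left h1
  have k2 := (dich_of_set hE he hb).resolve_left h2
  have k3 := (dich_of_set hE he hc).resolve_left h3
  -- `e^c = e^(ab)` commutes with `e`, so `c^e` commutes with `e`
  have k4 : cj c e = cj a (cj b e) := by
    have h5 : cj (a * b * c) e = e := cj_of_commute h.symm
    have h6 := congrArg (cj c) h5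
    rw [cj_cj, ← mul_assoc, ← ((h₂.mul_left h₃).eq), mul_assoc, mul_assoc, c2, mul_one,
      ← cj_cj] at h6
    exact h6.symm
  have k5 : Commute (cj a (cj b e)) e := by
    rw [← commute_cj (g := a), cj_cj a a, a2, cj_one, ← k1, ← k2, commute_cj]
    exact h₁.symm
  rw [← k4, ← k3, commute_cj_left (Commute.refl e)] at k5
  exact h3 k5.symm

end Cfsg.Agent.S0437
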