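import Cfsg.Statements.S0439
import Mathlib


set_option autoImplicit false
open Cfsg

namespace Cfsg.Agent.S0439

/-- In the symmetric group of degree n ≥ 2, the set of transpositions is a conjugacy class of 3-transpositions which generates the group. -/
theorem result (n : ℕ) (hn : 2 ≤ n) : Cfsg.IsThreeTranspositionClass {σ : Equiv.Perm (Fin n) | σ.IsSwap} := by
  refine ⟨⟨fun d hd => ?_, ?_⟩, ?_, Equiv.Perm.closure_isSwap⟩
  · obtain ⟨x, y, hxy, rfl⟩ := hd
    have : Fact (Nat.Prime 2) := ⟨Nat.prime_two⟩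
    refine orderOf_eq_prime (by rw [pow_two, Equiv.swap_mul_self]) ?_
    simpa using hxy
  · rintro _ ⟨a, b, hab, rfl⟩ _ ⟨c, d, hcd, rfl⟩
    have key : ∀ x y z : Fin n, x ≠ y → x ≠ z → y ≠ z →
        (Equiv.swap x y * Equiv.swap x z) ^ 3 = 1 := by
      intro x y z h1 h2 h3
      have := (Equiv.Perm.isThreeCycle_swap_mul_swap_same h1 h2 h3).orderOf
      rw [← this]; exact pow_orderOf_eq_one _
    have k2 : ∀ x y : Fin n, (Equiv.swap x y * Equiv.swap x y) ^ 2 = 1 := by
      intro x y; rw [Equiv.swap_mul_self, one_pow]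
    by_cases h1 : a = c
    · subst h1
      by_cases h2 : b = d
      · subst h2; exact Or.inl (k2 _ _)
      · exact Or.inr (key _ _ _ hab hcd h2)
    by_cases h2 : a = d
    · subst h2
      rw [Equiv.swap_comm c a]
      by_cases h3 : b = c
      · subst h3; exact Or.inl (k2 _ _)
      · exact Or.inr (key _ _ _ hab h1 h3)
    by_cases h3 : b = c
    · subst h3
      rw [Equiv.swap_comm a b]
      exact Or.inr (key _ _ _ hab.symm hcd h2)
    by_cases h4 : b = d
    · subst h4
      rw [Equiv.swap_comm a b, Equiv.swap_comm c b]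
      exact Or.inr (key _ _ _ hab.symm h3 h1)
    left
    have : Commute (Equiv.swap a b) (Equiv.swap c d) := by
      apply Equiv.Perm.Disjoint.commute
      intro x
      by_cases hx : x = a ∨ x = b
      · right
        rcases hx with rfl | rfl
        · exact Equiv.swap_apply_of_ne_of_ne h1 h2
        · exact Equiv.swap_apply_of_ne_of_ne h3 h4
      · left
        push Not at hx
        exact Equiv.swap_apply_of_ne_of_ne hx.1 hx.2
    rw [this.mul_pow, pow_two, pow_two, Equiv.swap_mul_self, Equiv.swap_mul_self, one_mul]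
  · have h01 : (⟨0, by omega⟩ : Fin n) ≠ ⟨1, by omega⟩ := by simp
    refine ⟨Equiv.swap ⟨0, by omega⟩ ⟨1, by omega⟩, ⟨_, _, h01, rfl⟩, ?_⟩
    ext σ
    constructor
    · rintro ⟨x, y, hxy, rfl⟩
      exact Equiv.Perm.isConj_swap h01 hxy
    · intro h
      obtain ⟨g, rfl⟩ := isConj_iff.1 h
      refine ⟨g _, g _, g.injective.ne h01, ?_⟩
      rw [Equiv.swap_apply_apply]

end Cfsg.Agent.S0439
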