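import Cfsg.Statements.S0444
import Mathlib
import Cfsg.Agent.H0.TT
import Cfsg.Agent.H6.Dihedral

set_option autoImplicit false
open Cfsg

namespace Cfsg.Agent.S0444

open H0

theorem ord3 {G : Type*} [Group G] {x : G} (h3 : x ^ 3 = 1) (h1 : x ≠ 1) : orderOf x = 3 :=
  haveI : Fact (Nat.Prime 3) := ⟨by norm_num⟩
  orderOf_eq_prime h3 h1


/-- Two members of a set of 3-transpositions which do not commute generate a subgroup isomorphic to the symmetric group on three letters. -/
theorem result {G : Type*} [Group G] {E : Set G} (hE : Cfsg.IsThreeTranspositionSet E) {d e : G} (hd : d ∈ E) (he : e ∈ E) (h : ¬ Commute d e) : Nonempty (Subgroup.closure ({d, e} : Set G) ≃* Equiv.Perm (Fin 3)) := by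
  have k := (dich_of_set hE hd he).resolve_left h
  have d2 := sq_of_set hE hd
  have e2 := sq_of_set hE he
  have h3 : (d * e) ^ 3 = 1 := by
    simp only [cj, inv_eq_of_sq d2, inv_eq_of_sq e2] at k
    calc (d * e) ^ 3 = (d * e * d) * (e * d * e) := by simp only [pow_succ, pow_zero]; group
      _ = e * d * (e * e) * d * e := by rw [k]; group
      _ = 1 := by rw [e2, mul_one, mul_assoc e d d, d2, mul_one, e2]
  have h1 : d * e ≠ 1 := fun h1 => h (by
    rw [eq_inv_of_mul_eq_one_left h1]; exact (Commute.refl e).inv_left)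
  have hne : d ≠ e := fun h' => h (h' ▸ Commute.refl d)
  let H := Subgroup.closure ({d, e} : Set G)
  have hfin : (H : Set G).Finite := by
    have hz : (Subgroup.zpowers (d * e) : Set G).Finite :=
      finite_zpowers.2 (isOfFinOrder_iff_pow_eq_one.2 ⟨3, by norm_num, h3⟩)
    refine (hz.union (hz.image (d * ·))).subset fun g hg => ?_
    rcases (H6.mem_closure_pair_iff d2 e2).1 hg with ⟨k, hk | hk⟩
    · exact Or.inl ⟨k, hk.symm⟩
    · exact Or.inr ⟨_, ⟨k, rfl⟩, hk.symm⟩
  have : Finite H := hfin
  let d' : H := ⟨d, Subgroup.subset_closure (by simp)⟩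
  let e' : H := ⟨e, Subgroup.subset_closure (by simp)⟩
  obtain ⟨f0⟩ := H6.closure_pair_dihedral d' e'
    (by rw [← Subgroup.orderOf_coe]; exact hE.1 d hd)
    (by rw [← Subgroup.orderOf_coe]; exact hE.1 e he) (fun h => hne (congrArg Subtype.val h))
  rw [ord3 (x := d' * e') (Subtype.ext h3) (fun h => h1 (congrArg Subtype.val h))] at f0
  have htop : Subgroup.closure ({d', e'} : Set H) = ⊤ := by
    apply Subgroup.map_injective H.subtype_injective
    rw [MonoidHom.map_closure, Set.image_pair, ← MonoidHom.range_eq_map, Subgroup.range_subtype]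
    rfl
  rw [htop] at f0
  let f := Subgroup.topEquiv.symm.trans f0
  have : Fact (Nat.Prime 2) := ⟨Nat.prime_two⟩
  obtain ⟨g⟩ := H6.closure_pair_dihedral
    (Equiv.swap 0 1 : Equiv.Perm (Fin 3)) (Equiv.swap 1 2)
    (orderOf_eq_prime (by decide) (by decide)) (orderOf_eq_prime (by decide) (by decide))
    (by decide)
  rw [ord3 (by decide) (by decide)] at g
  have ht : Subgroup.closure ({Equiv.swap 0 1, Equiv.swap 1 2} : Set (Equiv.Perm (Fin 3))) = ⊤ := by
    apply Subgroup.eq_top_of_card_eq
    rw [Nat.card_congr g.toEquiv, DihedralGroup.nat_card, Nat.card_perm]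
    simp [Nat.factorial]
  rw [ht] at g
  exact ⟨f.trans (g.symm.trans Subgroup.topEquiv)⟩

end Cfsg.Agent.S0444
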