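import Cfsg.Statements.S0454
import Mathlib
import Cfsg.Agent.H19.Ly.Cent

set_option autoImplicit false
open Cfsg

namespace Cfsg.Agent.S0454

/-- Existence of the Lyons group: there is a transitive permutation group of degree 8835156, simple of order 51765179004000000, whose point stabiliser is simple of the order of a group of type G2, and which has an involution whose centraliser is a non-split double cover of the alternating group of degree 11. -/
theorem result : ∃ H : Subgroup (Equiv.Perm (Fin 8835156)), Cfsg.IsLy H ∧ MulAction.IsPretransitive H (Fin 8835156) ∧ Cfsg.IsG2 (MulAction.stabilizer H (0 : Fin 8835156)) ∧ ∃ t : H, orderOf t = 2 ∧ Cfsg.IsNonsplitDoubleCover (Subgroup.centralizer ({t} : Set H)) (alternatingGroup (Fin 11)) := by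
  have hs := H19.Ly.simple
  have : Finite H19.Ly.P.G := Nat.finite_of_card_ne_zero (by rw [H19.Ly.card]; norm_num)
  have hc : H19.Ly.G2.φ.range.normalCore = ⊥ :=
    (Subgroup.Normal.eq_bot_or_eq_top inferInstance).resolve_right fun h => by
      have h1 := H19.Ly.index
      rw [show H19.Ly.G2.φ.range = ⊤ from top_unique (h ▸ Subgroup.normalCore_le _),
        Subgroup.index_top] at h1
      exact absurd h1 (by norm_num)
  obtain ⟨P, f, h1, ⟨g⟩⟩ := H19.exists_perm_group H19.Ly.G2.φ.range H19.Ly.index hc
  have hi : Function.Injective H19.Ly.G2.φ := Function.Injective.of_comp (f := H19.Ly.ρ) H19.Ly.ρφ_inj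
  have e := (MonoidHom.ofInjective hi).trans g
  have := H19.Ly.G2.simple
  refine ⟨P, ⟨f.symm.isSimpleGroup, by rw [← Nat.card_congr f.toEquiv, H19.Ly.card]⟩, h1,
    ⟨e.symm.isSimpleGroup, 5, (by norm_num : Nat.Prime 5).isPrimePow, by norm_num, ?_⟩,
    f _, (f.orderOf_eq _).trans H19.Ly.cent_t.1,
    H19.nonsplit_congr (H19.centEquiv f _) H19.Ly.cent_t.2.2⟩
  rw [← Nat.card_congr e.toEquiv, H19.Ly.G2.card]
  norm_num

end Cfsg.Agent.S0454
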