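import Mathlib
import Cfsg.Statements.S0459
import Cfsg.Agent.H10.RuMain

set_option autoImplicit false
open Cfsg

namespace Cfsg.Agent.S0459

/-- The Rudvalis group exists as a transitive permutation group of degree 4060: simple of order 145926144000, with point stabiliser of order 35942400 containing a simple subgroup of order 17971200 (the order of the Tits group). -/
theorem result : ∃ H : Subgroup (Equiv.Perm (Fin 4060)), Cfsg.IsRu H ∧ MulAction.IsPretransitive H (Fin 4060) ∧ Nat.card (MulAction.stabilizer H (0 : Fin 4060)) = 35942400 ∧ ∃ T : Subgroup (MulAction.stabilizer H (0 : Fin 4060)), Cfsg.IsTits T := by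
  open H10.Ru H20.Tits in (
  have key : ∀ {X Y : Type} [Group X] [Group Y] (K : Subgroup Y), Cfsg.IsTits K → Y ≃* X →
      ∃ T : Subgroup X, Cfsg.IsTits T := fun K h m =>
    have := h.1
    ⟨_, (m.subgroupMap K).symm.isSimpleGroup, by rw [← Nat.card_congr (m.subgroupMap K).toEquiv, h.2]⟩
  obtain ⟨H, f, h1, ⟨g⟩⟩ := ρ_trans.exists_fin faith
  obtain ⟨k⟩ := stab_iso
  have := simple_Ru
  exact ⟨H, ⟨f.symm.isSimpleGroup, by rw [← Nat.card_congr f.toEquiv, card_Ru]⟩, h1,
    by rw [← Nat.card_congr g.toEquiv, card_H],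
    key _ ⟨simple, card_comm.trans (by norm_num)⟩ (k.symm.trans g)⟩)

end Cfsg.Agent.S0459
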