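import Cfsg.Statements.S0460
import Cfsg.Agent.H29.ON
import Cfsg.Agent.H29.ONS
import Cfsg.Agent.H29.J1s
import Cfsg.Agent.H29.M11s
import Cfsg.Agent.H29.Relabel
-- import your own Cfsg.Agent.* helpers here

set_option autoImplicit false
open Cfsg

namespace Cfsg.Agent.S0460

/-- The O'Nan group exists as a transitive permutation group of degree 122760: simple of order 460815505920, point stabiliser of order 3753792, and containing simple subgroups of orders 175560 and 7920. -/
theorem result : ∃ H : Subgroup (Equiv.Perm (Fin 122760)), Cfsg.IsON H ∧ MulAction.IsPretransitive H (Fin 122760) ∧ Nat.card (MulAction.stabilizer H (0 : Fin 122760)) = 3753792 ∧ (∃ K : Subgroup H, Cfsg.IsJ1 K) ∧ (∃ K : Subgroup H, Cfsg.IsM11 K) := by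
  open H29 H29.ON in
  obtain ⟨H, f, ht, ⟨g⟩⟩ := cm.toTrans.exists_fin card.2
  have := simple
  have hi := ivOK_extE hiv0 ONS.hext
  have hz := rels_of_faithful card.2 (ONS.map hρ) ONS.hz
  have hne := ne_one_of_pt ONS.hn (ONS.map hρ) ONS.mv (by decide)
  exact ⟨H, ⟨f.symm.isSimpleGroup, by rw [← Nat.card_congr f.toEquiv, card.1]⟩, ht,
    by rw [← Nat.card_congr g.toEquiv, ← cm.eq_stab, cardH],
    simple_sub_map f (J1s.sub (e := fun c => extE P.e 8 ONS.defs (nth 0 [0, 8, 9, 10, 11, 12, 13] c))
      (ivOK_relabel hi rfl (by decide) (by decide +kernel)) (rels_relabel hz (by decide +kernel)) hne),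
    simple_sub_map f (M11s.sub (e := fun c => extE P.e 8 ONS.defs (nth 0 [0, 14, 15, 16, 17, 18, 19] c))
      (ivOK_relabel hi rfl (by decide) (by decide +kernel)) (rels_relabel hz (by decide +kernel)) hne)⟩

end Cfsg.Agent.S0460
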