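import Cfsg.Statements.S0462
import Cfsg.Agent.H9.S44M
-- import your own Cfsg.Agent.* helpers here

set_option autoImplicit false
open Cfsg

namespace Cfsg.Agent.S0462

/-- The Held group exists as a transitive permutation group of degree 2058: simple of order 4030387200, with point stabiliser containing, with index 2, a copy of the 4-dimensional symplectic group over the field with four elements. -/
theorem result : ∃ H : Subgroup (Equiv.Perm (Fin 2058)), Cfsg.IsHe H ∧ MulAction.IsPretransitive H (Fin 2058) ∧ ∃ (F : Type) (_ : Field F) (_ : Fintype F), Fintype.card F = 4 ∧ ∃ N : Subgroup (MulAction.stabilizer H (0 : Fin 2058)), N.index = 2 ∧ Nonempty (N ≃* Matrix.symplecticGroup (Fin 2) F) := by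
  open H29 H29.He in
  obtain ⟨H, f, h1, ⟨g⟩⟩ := cm.toTrans.exists_fin card.2
  obtain ⟨N, h2, h3⟩ := H9.MX.index_two_congr ((MulEquiv.subgroupCongr cm.eq_stab).trans g) H9.S44M.main
  have := simple
  exact ⟨H, ⟨f.symm.isSimpleGroup, by rw [← Nat.card_congr f.toEquiv, card.1]⟩, h1, H9.F4, inferInstance,
    inferInstance, H9.F4.card, N, h2, h3⟩

end Cfsg.Agent.S0462
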