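import Cfsg.Statements.S0464
import Mathlib
import Cfsg.Agent.H19.Th.Ord

set_option autoImplicit false
open Cfsg

namespace Cfsg.Agent.S0464

/-- The Thompson group exists as a group of 248 × 248 matrices over the field with three elements: a simple subgroup of GL(248, 3) of order 90745943887872000, possessing a subgroup of index 143127000 which contains a simple subgroup of the order of a triality-twisted D4 group. -/
theorem result : ∃ H : Subgroup (GL (Fin 248) (ZMod 3)), Cfsg.IsTh H ∧ ∃ K : Subgroup H, K.index = 143127000 ∧ ∃ L : Subgroup H, L ≤ K ∧ Cfsg.Is3D4 L := by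
  have key : ∀ {G K J : Type} [Group G] [Group K] [Group J] (ρ : G →* J) (φ : K →* G) (L : Subgroup K),
      Function.Injective ρ → Function.Injective φ → IsSimpleGroup G → IsSimpleGroup L →
      ∃ H : Subgroup J, (IsSimpleGroup H ∧ Nat.card H = Nat.card G) ∧ ∃ K' : Subgroup H,
        K'.index = φ.range.index ∧ ∃ L' : Subgroup H, L' ≤ K' ∧ IsSimpleGroup L' ∧
          Nat.card L' = Nat.card L := by
    intro G K J _ _ _ ρ φ L h1 h2 _ _
    let f := MonoidHom.ofInjective h1
    have e := L.equivMapOfInjective (f.toMonoidHom.comp φ) (f.injective.comp h2)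
    refine ⟨ρ.range, ⟨f.symm.isSimpleGroup, (Nat.card_congr f.toEquiv).symm⟩,
      φ.range.map f.toMonoidHom, Subgroup.index_map_equiv _ f, L.map (f.toMonoidHom.comp φ), ?_,
      e.symm.isSimpleGroup, (Nat.card_congr e.toEquiv).symm⟩
    rintro _ ⟨x, -, rfl⟩
    exact ⟨_, ⟨x, rfl⟩, rfl⟩
  obtain ⟨H, h1, K, h2, L, h3, h4, h5⟩ := key H19.Th.ρ H19.Th.K.φ H19.Th.K.L H19.Th.ρ_inj
    H19.Th.φ_inj H19.Th.simple H19.Th.K.simpleL.1
  refine ⟨H, ⟨h1.1, h1.2.trans H19.Th.card⟩, K, h2.trans H19.Th.index, L, h3, h4, 2,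
    Nat.prime_two.isPrimePow, ?_⟩
  rw [h5, H19.Th.K.simpleL.2]
  norm_num

end Cfsg.Agent.S0464
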