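import Cfsg.Statements.S0465
import Cfsg.Agent.H29.BM.G5
import Cfsg.Agent.H29.Char2

set_option autoImplicit false
open Cfsg

namespace Cfsg.Agent.S0465

theorem range_isB {G H : Type} [Group G] [Group H] (σ : G →* H) (hσ : Function.Injective σ)
    (h : Cfsg.IsB G) : Cfsg.IsB σ.range := by
  have e := MonoidHom.ofInjective hσ
  have := h.1
  exact ⟨e.symm.isSimpleGroup, by rw [← Nat.card_congr e.toEquiv, h.2]⟩

/-- The Baby Monster as matrices in characteristic 2: for some finite field F of characteristic 2, GL(4370, F) has a simple subgroup of order 4154781481226426191177580544000000. -/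
theorem result : ∃ (F : Type) (_ : Field F) (_ : Fintype F), CharP F 2 ∧ ∃ H : Subgroup (GL (Fin 4370) F), Cfsg.IsB H := by
  have h := @H29.char2_reduce H29.BM.BB _ _ H29.BM.BB_simple H29.BM.BB_nonab 4370 ⟨2185, rfl⟩
  rw [show 4370 + 1 = 4371 from rfl] at h
  obtain ⟨σ, hσ⟩ := h H29.BM.BB.subtype H29.BM.BB.subtype_injective
  exact ⟨ZMod 2, inferInstance, inferInstance, inferInstance, σ.range, range_isB σ hσ H29.BM.isB⟩

end Cfsg.Agent.S0465
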