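import Cfsg.Statements.S0466
import Cfsg.Agent.H29.BM.G5

set_option autoImplicit false
open Cfsg

namespace Cfsg.Agent.S0466

/-- The Baby Monster as a 4-transposition group: there is a simple group of its order with a conjugacy class of 13571955000 involutions such that the product of any two of them has order at most 4, the centraliser of each having order 4 · 76532479683774853939200. -/
theorem result : ∃ (G : Type) (_ : Group G) (_ : Finite G), Cfsg.IsB G ∧ ∃ D : Set G, (∃ d ∈ D, D = conjugatesOf d) ∧ Nat.card D = 13571955000 ∧ (∀ d ∈ D, orderOf d = 2) ∧ (∀ d ∈ D, ∀ e ∈ D, orderOf (d * e) ≤ 4) ∧ ∀ d ∈ D, Nat.card (Subgroup.centralizer ({d} : Set G)) = 306129918735099415756800 := by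
  open H29.BM in
  refine ⟨BB, inferInstance, inferInstance, isB, conjugatesOf dB, ⟨dB, IsConj.refl _, rfl⟩,
    card_class, fun e he => ?_, fun e he f hf => ?_, fun e he => ?_⟩
  · obtain ⟨x, hx, h⟩ := mem_class.1 he
    refine orderOf_eq_prime (Subtype.ext (by simpa [sq, h] using dl_sq hx)) ?_
    rintro rfl
    have h1 : conjugatesOf dB = {1} := by
      rw [(isConj_one_left.1 he)]; ext x; simp [conjugatesOf]
    have h2 := card_class
    rw [h1] at h2
    simp at h2
  · obtain ⟨x, hx, h⟩ := mem_class.1 he
    obtain ⟨y, hy, h'⟩ := mem_class.1 hf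
    rcases four hx hy with a | a <;> rw [h, h'] at a
    · exact (orderOf_le_of_pow_eq_one (by omega) (Subtype.ext a : (e * f) ^ 3 = 1)).trans (by omega)
    · exact orderOf_le_of_pow_eq_one (by omega) (Subtype.ext a : (e * f) ^ 4 = 1)
  · have h := card_conj e
    rw [← (show IsConj dB e from he).conjugatesOf_eq, card_class, card_BB] at h
    omega

end Cfsg.Agent.S0466
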