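import Cfsg.Statements.S0470
import Mathlib
import Cfsg.Agent.H10.MMain
import Cfsg.Agent.H19.MSHN
import Cfsg.Agent.H19.MSHe
import Cfsg.Agent.H19.MS6

set_option autoImplicit false
open Cfsg

namespace Cfsg.Agent.S0470

/-- In some simple group of the Monster's order there are elements of orders 3, 5 and 7 whose centralisers contain simple subgroups of the Thompson, Harada–Norton and Held orders respectively; the centraliser of the element of order 3 has order 3 · 90745943887872000. -/
theorem result : ∃ (G : Type) (_ : Group G) (_ : Finite G), Cfsg.IsM G ∧ (∃ x : G, orderOf x = 3 ∧ Nat.card (Subgroup.centralizer ({x} : Set G)) = 272237831663616000 ∧ ∃ K : Subgroup G, K ≤ Subgroup.centralizer ({x} : Set G) ∧ Cfsg.IsTh K) ∧ (∃ x : G, orderOf x = 5 ∧ ∃ K : Subgroup G, K ≤ Subgroup.centralizer ({x} : Set G) ∧ Cfsg.IsHN K) ∧ (∃ x : G, orderOf x = 7 ∧ ∃ K : Subgroup G, K ≤ Subgroup.centralizer ({x} : Set G) ∧ Cfsg.IsHe K) := by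
  have : Finite (H10.Mon.MM H10.Mon.tau) :=
    Nat.finite_of_card_ne_zero (by rw [H10.Mon.card_M]; norm_num)
  exact ⟨H10.Mon.MM H10.Mon.tau, inferInstance, inferInstance,
    ⟨H10.Mon.simple_MM H10.Mon.tri_tau, H10.Mon.card_M⟩, H10.Mon.MS.exists_Th,
    H10.Mon.MS.exists_HN, H10.Mon.MS.exists_He⟩

end Cfsg.Agent.S0470
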