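import Cfsg.Statements.S0471
import Cfsg.Agent.H9.U62M
import Cfsg.Agent.H9.TT
-- import your own Cfsg.Agent.* helpers here

set_option autoImplicit false
open Cfsg

namespace Cfsg.Agent.S0471

/-- The Fischer group of order 64561751654400 exists as a 3-transposition group: a simple group of that order generated by a conjugacy class of 3510 3-transpositions, the centraliser of each being a non-split double cover of PSU(6, 2). -/
theorem result : ∃ (G : Type) (_ : Group G) (_ : Finite G), Cfsg.IsFi22 G ∧ ∃ D : Set G, Cfsg.IsThreeTranspositionClass D ∧ Nat.card D = 3510 ∧ ∀ d ∈ D, ∃ (F : Type) (_ : Field F) (_ : Fintype F), Fintype.card F = 4 ∧ Cfsg.IsNonsplitDoubleCover (Subgroup.centralizer ({d} : Set G)) (Cfsg.PSU 6 F 2) := by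
  open H29 H29.Fi22 in
  have := simple
  have h0 : gen (extE e1 11 Fi22X.defs) Fi22U.hcols = gen e1 Fi22U.hcols := gen_extE _ _ (by decide)
  obtain ⟨h1, h2, h3⟩ := H9.threeTransp_of_chk Fi22X.hn Fi22X.prim (h0 ▸ cm) (Fi22X.map hρ) (by norm_num)
    (ivOK_extE hiv1 Fi22X.hext) (by rw [card.1]; norm_num) (a := 0)
    (H9.MX.ev_ne_one_of_chk Fi22X.hn (fun c _ => Fi22X.map hρ c) (b := 1) (by decide +kernel))
    (fun x => Nat.beq x 31) (rels_of_faithful card.2 (Fi22X.map hρ)
      (rels_of_chk (k := 12) Fi22X.hn (by decide) Fi22X.hiv (allN_true.1 (by decide +kernel))))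
  refine ⟨P.G, inferInstance, bd.1, ⟨simple, card.1⟩, _, h2, h3, fun d hd =>
    ⟨H9.F4, inferInstance, inferInstance, H9.F4.card, ?_⟩⟩
  obtain ⟨f⟩ := H9.centralizer_equiv_of_conj hd
  exact H9.nonsplit_congr ((MulEquiv.subgroupCongr (h1.trans h0)).symm.trans f) H9.U62M.cover

end Cfsg.Agent.S0471
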