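import Cfsg.Statements.S0472
import Cfsg.Agent.H29.Fi23C
import Cfsg.Agent.H29.Fi23Z
import Cfsg.Agent.H9.TT
import Cfsg.Agent.H9.CG
-- import your own Cfsg.Agent.* helpers here

set_option autoImplicit false
open Cfsg

namespace Cfsg.Agent.S0472

/-- The Fischer group of order 4089470473293004800 exists as a 3-transposition group: a simple group of that order generated by a conjugacy class of 31671 3-transpositions, the centraliser of each being a non-split double cover of a simple group of order 64561751654400. -/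
theorem result : ∃ (G : Type) (_ : Group G) (_ : Finite G), Cfsg.IsFi23 G ∧ ∃ D : Set G, Cfsg.IsThreeTranspositionClass D ∧ Nat.card D = 31671 ∧ ∀ d ∈ D, ∃ (K : Type) (_ : Group K), Cfsg.IsFi22 K ∧ Cfsg.IsNonsplitDoubleCover (Subgroup.centralizer ({d} : Set G)) K := by
  open H29 H29.Fi23 in
  have := simple
  have h0 : gen (extE P.e 10 Fi23Z.defs) Fi23T.hcols = gen P.e Fi23T.hcols := gen_extE _ _ (by decide)
  obtain ⟨h1, h2, h3⟩ := H9.threeTransp_of_chk Fi23Z.hn Fi23Z.prim (h0 ▸ cm) (Fi23Z.map hρ) (by norm_num)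
    (ivOK_extE hiv0 Fi23Z.hext) (by rw [card.1]; norm_num) (a := 10)
    (H9.MX.ev_ne_one_of_chk Fi23Z.hn (fun c _ => Fi23Z.map hρ c) (b := 1) (by decide +kernel))
    (fun x => Nat.beq x 12) (rels_of_faithful card.2 (Fi23Z.map hρ)
      (rels_sub Fi23Z.hz (by decide +kernel)))
  refine ⟨P.G, inferInstance, bd.1, ⟨simple, card.1⟩, _, h2, h3, fun d hd =>
    ⟨Fi22.P.G, inferInstance, ⟨Fi22.simple, Fi22.card.1⟩, ?_⟩⟩
  obtain ⟨f⟩ := H9.centralizer_equiv_of_conj hd
  exact H9.nonsplit_congr ((MulEquiv.subgroupCongr (h1.trans h0)).symm.trans f) Fi23C.cover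

end Cfsg.Agent.S0472
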