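import Cfsg.Statements.S0492
import Mathlib
import Cfsg.Agent.H12.NGFin
import Cfsg.Agent.H12.NGE2

set_option autoImplicit false
open Cfsg

namespace Cfsg.Agent.S0492

/-- If a non-abelian finite simple group has order divisible by exactly three primes, these primes are 2, 3 and one of
5, 7, 13 or 17. -/
theorem result {G : Type*} [Group G] [Finite G] [IsSimpleGroup G]
    (hG : ¬ IsMulCommutative G) (h3 : (Nat.card G).primeFactors.card = 3) :
    (Nat.card G).primeFactors = {2, 3, 5} ∨ (Nat.card G).primeFactors = {2, 3, 7} ∨
      (Nat.card G).primeFactors = {2, 3, 13} ∨ (Nat.card G).primeFactors = {2, 3, 17} := by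
  exact H12.NG.s0492 H12.NG.main_thirty hG h3

end Cfsg.Agent.S0492
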