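import Cfsg.Statements.S0509
import Mathlib
import Cfsg.Agent.H20.PFin

set_option autoImplicit false
open Cfsg

namespace Cfsg.Agent.S0509

/-- A finite simple group whose Sylow 2-subgroups are isomorphic to a Sylow 2-subgroup of a projective symplectic
group of dimension 4 over a field of odd order is isomorphic to such a symplectic group (possibly over a different field
of odd order) or to the alternating group of degree 8 or 9. -/
theorem result {G : Type*} [Group G] [Finite G] [IsSimpleGroup G]
    {F : Type*} [Field F] [Fintype F] (hF : Odd (Fintype.card F)) (S : Sylow 2 G) (P : Sylow 2 (Cfsg.PSp 2 F))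
    (hS : Nonempty ((S : Subgroup G) ≃* (P : Subgroup (Cfsg.PSp 2 F)))) :
    (∃ (K : Type) (_ : Field K) (_ : Fintype K), Odd (Fintype.card K) ∧ Nonempty (G ≃* Cfsg.PSp 2 K)) ∨
      Nonempty (G ≃* alternatingGroup (Fin 8)) ∨ Nonempty (G ≃* alternatingGroup (Fin 9)) := by
  exact H20.P4.s0509 hF S P hS

end Cfsg.Agent.S0509
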