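import Cfsg.Statements.S0513
import Cfsg.Agent.H25.U5E

set_option autoImplicit false
open Cfsg

namespace Cfsg.Agent.S0513

/-- A finite simple group whose Sylow 2-subgroups are isomorphic to a Sylow 2-subgroup of the projective special
unitary group of dimension 5 over the field with 4 elements (q = 2) is isomorphic to that unitary group. -/
theorem result {G : Type*} [Group G] [Finite G] [IsSimpleGroup G]
    {F : Type*} [Field F] [Fintype F] (hF : Fintype.card F = 4) (S : Sylow 2 G) (P : Sylow 2 (Cfsg.PSU 5 F 2))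
    (hS : Nonempty ((S : Subgroup G) ≃* (P : Subgroup (Cfsg.PSU 5 F 2)))) :
    Nonempty (G ≃* Cfsg.PSU 5 F 2) := by
  have : Fact (Nat.Prime 2) := ⟨Nat.prime_two⟩
  let e := H7.quotCenterCongr (H16.suCongr (FiniteField.ringEquivOfCardEq (hF.trans H0.F4.card.symm)) 5 2)
  obtain ⟨a⟩ := hS
  obtain ⟨b⟩ := H25.U5.exists_equiv (P.mapSurjective (f := e.toMonoidHom) e.surjective)
  obtain ⟨φ, h⟩ := H25.Sy.exists_Emb S (b.trans (((P : Subgroup _).equivMapOfInjective e.toMonoidHom
    e.injective).symm.trans a.symm))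
  exact H25.U5.main h hF

end Cfsg.Agent.S0513
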