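import Cfsg.Statements.S0515
import Mathlib
import Cfsg.Agent.H23.SSFT

set_option autoImplicit false
open Cfsg

namespace Cfsg.Agent.S0515

/-- Inside a finite group, let A be an elementary abelian p-subgroup of order at least p^3 normalizing a subgroup K of
order prime to p. If the centralizer in K of every non-identity element of A is solvable, then K is solvable. -/
theorem result {X : Type*} [Group X] [Finite X]
    (p : ℕ) [Fact p.Prime] (A K : Subgroup X) (hA : IsMulCommutative A) (hAp : ∀ a ∈ A, a ^ p = 1)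
    (hA3 : p ^ 3 ≤ Nat.card A) (hK : (Nat.card K).Coprime p) (hAK : A ≤ Subgroup.normalizer (K : Set X))
    (hC : ∀ a ∈ A, a ≠ 1 → Group.IsSolvable ((K ⊓ Subgroup.centralizer ({a} : Set X) : Subgroup X))) :
    Group.IsSolvable K := by
    have hp : p.Prime := Fact.out
    have hKp : H24.IsPi {p}ᶜ K := (H24.piNat_compl_iff_coprime hp).2 hK.symm
    have hAe : IsElementaryAbelian p A := ⟨hA, hAp⟩
    have hθ : H23.SF p A fun a => K ⊓ Subgroup.centralizer {a} := ⟨hp, hAe,
      fun a _ _ => inf_le_right, fun a _ _ => hKp.inf_left _,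
      fun a ha _ => H24.norm_inf hAK (H24.norm_C1 ((H24.Abl.le_C hA).trans (H24.C_le_C1 ha))),
      fun a _ _ b _ _ => inf_le_inf_right _ inf_le_left, hC⟩
    obtain ⟨M, hM, hle⟩ := H23.ssft hθ hA3
    exact hM.sol.of_le (H23.le_of_cent1 hp hAe
      ((Nat.pow_le_pow_right hp.pos (by norm_num)).trans hA3) hAK hKp hle)

end Cfsg.Agent.S0515
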