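import Mathlib
import Cfsg.Statements.S0522
import Cfsg.Agent.H13.Transitivity
-- import your own Cfsg.Agent.* helpers here

set_option autoImplicit false
open Cfsg

namespace Cfsg.Agent.S0522

/-- Transitivity Theorem (odd-order setting). Let X be a finite group of odd order in which the normalizer of every
nontrivial p-subgroup is solvable, P a Sylow p-subgroup, and B an abelian subgroup of P, normalized by P, with
C_P(B) = B and containing an elementary abelian subgroup of order p^3. Then for every prime q ≠ p, any two q-subgroups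
that are maximal among the q-subgroups normalized by B are conjugate by an element of the centralizer of B. -/
theorem result {X : Type*} [Group X] [Finite X] (hX : Odd (Nat.card X)) (p : ℕ)
    [Fact p.Prime] (hloc : ∀ T : Subgroup X, IsPGroup p T → T ≠ ⊥ → Group.IsSolvable (Subgroup.normalizer (T : Set X)))
    (P : Sylow p X) (B : Subgroup X) (hBP : B ≤ (P : Subgroup X))
    (hBn : ∀ x ∈ (P : Subgroup X), ∀ b ∈ B, x * b * x⁻¹ ∈ B) (hBa : IsMulCommutative B)
    (hBc : (P : Subgroup X) ⊓ Subgroup.centralizer (B : Set X) = B)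
    (hB3 : ∃ E : Subgroup X, E ≤ B ∧ (∀ e ∈ E, e ^ p = 1) ∧ p ^ 3 ≤ Nat.card E)
    (q : ℕ) [Fact q.Prime] (hqp : q ≠ p) (Q₁ Q₂ : Subgroup X)
    (h₁ : IsPGroup q Q₁ ∧ B ≤ Subgroup.normalizer (Q₁ : Set X) ∧
      ∀ R : Subgroup X, IsPGroup q R → B ≤ Subgroup.normalizer (R : Set X) → Q₁ ≤ R → R = Q₁)
    (h₂ : IsPGroup q Q₂ ∧ B ≤ Subgroup.normalizer (Q₂ : Set X) ∧
      ∀ R : Subgroup X, IsPGroup q R → B ≤ Subgroup.normalizer (R : Set X) → Q₂ ≤ R → R = Q₂) :
    ∃ c ∈ Subgroup.centralizer (B : Set X), Q₂ = Q₁.map (MulAut.conj c).toMonoidHom := by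
  obtain ⟨E, hEB, hE, hc⟩ := hB3
  have hp : p.Prime := Fact.out
  have hBp : IsPGroup p B := P.isPGroup'.to_le hBP
  have hc' : p ^ 2 < Nat.card E := lt_of_lt_of_le (Nat.pow_lt_pow_right hp.one_lt (by norm_num)) hc
  have hp2 : p ≠ 2 := by
    rintro rfl
    obtain ⟨n, hn⟩ := (hBp.to_le hEB).exists_card_eq
    have h1 : 2 ∣ Nat.card E := by
      rw [hn]
      refine dvd_pow_self 2 fun h0 => ?_
      rw [hn, h0] at hc
      norm_num at hc
    exact (Nat.not_even_iff_odd.mpr hX) (even_iff_two_dvd.mpr (h1.trans E.card_subgroup_dvd_card))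
  have hs : H22.SylIn p B (Subgroup.centralizer (B : Set X)) := by
    have := (H22.sylIn_of_sylow_le P (fun x hx => H13.mem_normalizer_of_finite (hBn x hx))).inf_normal
      (Subgroup.centralizer_le_normalizer _) (H13.normalizer_le_normalizer_centralizer B)
    rwa [hBc] at this
  obtain ⟨k, hk, h⟩ := H13.thompson_transitivity hqp
    (fun T hT hT1 => have := hloc T hT hT1; H13.isPConstrained_of_isSolvable)
    (fun h => absurd h hp2) hBp hBa hEB hE hc'
    (fun x hx k hk => by
      have := hs.2.2 (B ⊔ Subgroup.zpowers x) (sup_le hs.le (Subgroup.zpowers_le.mpr hx))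
        (by
          rw [sup_comm]
          exact H13.isPGroup_sup_of_le_normalizer (H13.isPGroup_zpowers hk) hBp
            (H13.le_normalizer_of_le_centralizer (Subgroup.zpowers_le.mpr hx))) le_sup_left
      exact this ▸ Subgroup.mem_sup_right (Subgroup.mem_zpowers x))
    h₁ h₂
  exact ⟨k, Subgroup.map_subtype_le _ hk, h⟩

end Cfsg.Agent.S0522
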