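import Cfsg.Statements.S0529
import Mathlib
import Cfsg.Agent.H11.Supersolvable

set_option autoImplicit false
open Cfsg

namespace Cfsg.Agent.S0529

theorem aux {G : Type*} [Group G] [Finite G] (h : H11.SS G) (N : Subgroup G) (hN : N.Normal) :
    ∃ (n : ℕ) (H : ℕ → Subgroup G), H 0 = N ∧ H n = ⊤ ∧ (∀ i, (H i).Normal) ∧
      (∀ i < n, H i ≤ H (i + 1) ∧ ((H i).relIndex (H (i + 1))).Prime ∧
        (H i).relIndex (H (i + 1)) ∣ N.index) ∧
      ∀ i j, i ≤ j → j < n → (H j).relIndex (H (j + 1)) ≤ (H i).relIndex (H (i + 1)) := by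
  induction N using WellFoundedGT.induction with
  | ind N ih =>
    by_cases hNt : N = ⊤
    · exact ⟨0, fun _ => N, rfl, hNt, fun _ => hN, fun i hi => absurd hi (Nat.not_lt_zero i),
        fun i j _ hj => absurd hj (Nat.not_lt_zero j)⟩
    · have h1 : N.index ≠ 1 := fun e => hNt (Subgroup.index_eq_one.1 e)
      have h0 : N.index ≠ 0 := Subgroup.index_ne_zero_of_finite
      have hne : N.index.primeFactors.Nonempty := Nat.nonempty_primeFactors.2 (by omega)
      set p := N.index.primeFactors.max' hne with hp
      have hpm : p ∈ N.index.primeFactors := Finset.max'_mem _ _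
      have hpp : p.Prime := Nat.prime_of_mem_primeFactors hpm
      have hmax : ∀ q : ℕ, q.Prime → q ∣ N.index → q ≤ p := fun q hq hd =>
        Finset.le_max' _ q (Nat.mem_primeFactors.2 ⟨hq, hd, h0⟩)
      obtain ⟨L, hL, hLc⟩ := (h.quotient N).exists_normal_largest hpp
        (Nat.dvd_of_mem_primeFactors hpm) hmax
      set K := L.comap (QuotientGroup.mk' N) with hK
      have hNK : N ≤ K := H2.le_comap_mk' N L
      have hrel : N.relIndex K = p := by
        rw [H2.relIndex_eq_card_map_mk', hK, H2.map_comap_mk', hLc]
      have hlt : N < K := by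
        refine lt_of_le_of_ne hNK fun e => hpp.ne_one ?_
        rw [← hrel, ← e, Subgroup.relIndex_self]
      obtain ⟨n, H, h0', hl, hnn, hs, hmono⟩ := ih K hlt (hL.comap _)
      have hdK : K.index ∣ N.index := Subgroup.index_dvd_of_le hNK
      refine ⟨n + 1, fun i => Nat.casesOn i N H, rfl, hl, ?_, ?_, ?_⟩
      · intro i; cases i with
        | zero => exact hN
        | succ i => exact hnn i
      · intro i hi; cases i with
        | zero =>
          change N ≤ H 0 ∧ (N.relIndex (H 0)).Prime ∧ N.relIndex (H 0) ∣ N.index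
          rw [h0', hrel]
          exact ⟨hNK, hpp, Nat.dvd_of_mem_primeFactors hpm⟩
        | succ i =>
          obtain ⟨a, b, c⟩ := hs i (by omega)
          exact ⟨a, b, c.trans hdK⟩
      · intro i j hij hj
        cases j with
        | zero => obtain rfl : i = 0 := by omega
                  exact le_rfl
        | succ j =>
          cases i with
          | zero =>
            change (H j).relIndex (H (j + 1)) ≤ N.relIndex (H 0)
            rw [h0', hrel]
            obtain ⟨a, b, c⟩ := hs j (by omega)
            exact hmax _ b (c.trans hdK)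
          | succ i => exact hmono i j (by omega) (by omega)

/-- A finite supersolvable group has a chain of normal subgroups, from the trivial subgroup to the whole group, in which every step has prime index and the primes occurring are non-increasing as one goes up the chain. -/
theorem result {G : Type*} [Group G] [Finite G] (hG : Cfsg.IsSupersolvable G) : ∃ (n : ℕ) (H : Fin (n + 1) → Subgroup G), H 0 = ⊥ ∧ H (Fin.last n) = ⊤ ∧ (∀ i, (H i).Normal) ∧ (∀ i : Fin n, H i.castSucc ≤ H i.succ ∧ ((H i.castSucc).relIndex (H i.succ)).Prime) ∧ ∀ i j : Fin n, i ≤ j → (H j.castSucc).relIndex (H j.succ) ≤ (H i.castSucc).relIndex (H i.succ) := by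
  obtain ⟨n, H, h0, hl, hn, hs, hm⟩ := aux (H11.SS.of_isSupersolvable hG) ⊥ inferInstance
  exact ⟨n, fun i => H i, h0, hl, fun i => hn i, fun i => ⟨(hs i i.2).1, (hs i i.2).2.1⟩,
    fun i j hij => hm i j hij j.2⟩

end Cfsg.Agent.S0529
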