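import Cfsg.Statements.S0530
import Mathlib
import Cfsg.Agent.H11.Supersolvable

set_option autoImplicit false
open Cfsg

namespace Cfsg.Agent.S0530

open Subgroup in
theorem aux {Q : Type*} [Group Q] [Finite Q] [Nontrivial Q] {p : ℕ} [Fact p.Prime]
    (P : Subgroup Q) (hP : IsPGroup p P) (hi : P.index ∣ 2) :
    ∃ g : Q, g ≠ 1 ∧ (zpowers g).Normal := by
  by_cases hb : P = ⊥
  · subst hb
    rw [index_bot] at hi
    have h2 : Nat.card Q = 2 := by
      rcases (Nat.dvd_prime Nat.prime_two).1 hi with h | h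
      · exact absurd h Finite.one_lt_card.ne'
      · exact h
    have : Fact (Nat.Prime 2) := ⟨Nat.prime_two⟩
    obtain ⟨g, hg⟩ := exists_ne (1 : Q)
    refine ⟨g, hg, ?_⟩
    rw [zpowers_eq_top_of_prime_card h2 hg]; infer_instance
  obtain ⟨z, hz, hz1⟩ := (Subgroup.bot_or_exists_ne_one _).resolve_left
    (H2.inf_centralizer_ne_bot_of_isPGroup hP hP le_normalizer hb)
  have hzc : ∀ x ∈ P, x * z = z * x := fun x hx => mem_centralizer_iff.1 hz.2 x hx
  rcases (Nat.dvd_prime Nat.prime_two).1 hi with h | h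
  · rw [index_eq_one] at h
    refine ⟨z, hz1, H2.normal_of_le_center (zpowers_le.2 ?_)⟩
    rw [mem_center_iff]
    intro x; exact hzc x (h ▸ mem_top x)
  · have hPn : P.Normal := normal_of_index_eq_two h
    obtain ⟨t, ht⟩ := index_eq_two_iff'.1 h
    have htP : t ∉ P := by
      have := ht 1
      simp only [mul_one, P.one_mem] at this
      intro h'
      rcases this with ⟨-, h2⟩ | ⟨-, h2⟩
      · exact h2 trivial
      · exact h2 h'
    have hall : ∀ x : Q, x ∈ P ∨ ∃ y ∈ P, x = t * y := by
      intro x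
      by_cases hx : x ∈ P
      · exact Or.inl hx
      · right
        refine ⟨t⁻¹ * x, ?_, by group⟩
        rw [mul_mem_iff_of_index_two h]
        simp [htP, hx]
    have htt : t * t ∈ P := mul_self_mem_of_index_two h t
    have hzt : ∀ x ∈ P, x * (t * z * t⁻¹) = (t * z * t⁻¹) * x := by
      intro x hx
      have := hzc (t⁻¹ * x * t) (hPn.conj_mem' x hx t)
      calc x * (t * z * t⁻¹) = t * ((t⁻¹ * x * t) * z) * t⁻¹ := by group
        _ = t * (z * (t⁻¹ * x * t)) * t⁻¹ := by rw [this]
        _ = _ := by group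
    have key : ∀ w : Q, (∀ x ∈ P, x * w = w * x) → t * w * t⁻¹ ∈ zpowers w →
        (zpowers w).Normal := by
      intro w hw hwt
      refine ⟨fun y hy x => ?_⟩
      obtain ⟨k, rfl⟩ := mem_zpowers_iff.1 hy
      rw [← conj_zpow]
      apply zpow_mem
      rcases hall x with hx | ⟨y, hy, rfl⟩
      · rw [hw x hx]; simp
      · have : t * y * w * (t * y)⁻¹ = t * w * t⁻¹ := by
          calc t * y * w * (t * y)⁻¹ = t * (y * w) * y⁻¹ * t⁻¹ := by group
            _ = t * (w * y) * y⁻¹ * t⁻¹ := by rw [hw y hy]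
            _ = _ := by group
        rwa [this]
    by_cases hw : z * (t * z * t⁻¹) = 1
    · refine ⟨z, hz1, key z hzc ?_⟩
      rw [← eq_inv_of_mul_eq_one_right hw |>.symm]
      exact inv_mem (mem_zpowers z)
    · refine ⟨_, hw, key _ ?_ ?_⟩
      · intro x hx
        rw [← mul_assoc, hzc x hx, mul_assoc, hzt x hx, mul_assoc z]
      · have : t * (z * (t * z * t⁻¹)) * t⁻¹ = z * (t * z * t⁻¹) := by
          calc t * (z * (t * z * t⁻¹)) * t⁻¹
              = (t * z * t⁻¹) * ((t * t * z) * (t * t)⁻¹) := by group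
            _ = (t * z * t⁻¹) * ((z * (t * t)) * (t * t)⁻¹) := by rw [hzc _ htt]
            _ = (t * z * t⁻¹) * z := by group
            _ = z * (t * z * t⁻¹) := (hzt z hz.1).symm
        rw [this]; exact mem_zpowers _

/-- A finite group whose order is twice a prime power is supersolvable. -/
theorem result {G : Type*} [Group G] [Finite G] (p n : ℕ) (hp : p.Prime) (hG : Nat.card G = 2 * p ^ n) : Cfsg.IsSupersolvable G := by
  have := Fact.mk hp
  obtain ⟨P⟩ : Nonempty (Sylow p G) := inferInstance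
  have hi : (P : Subgroup G).index ∣ 2 := by
    have h1 : (P : Subgroup G).index ∣ 2 * p ^ n := hG ▸ Subgroup.index_dvd_card _
    exact (((Nat.Prime.coprime_iff_not_dvd hp).2 P.not_dvd_index).symm.pow_right n).dvd_of_dvd_mul_right h1
  refine (H11.SS.of_quotient ?_).isSupersolvable
  intro N _ hN
  have : Nontrivial (G ⧸ N) := QuotientGroup.nontrivial_iff.2 hN
  exact aux ((P : Subgroup G).map (QuotientGroup.mk' N)) (P.isPGroup'.map _)
    ((Subgroup.index_map_dvd _ (QuotientGroup.mk'_surjective N)).trans hi)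

end Cfsg.Agent.S0530
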