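import Cfsg.Statements.S0532
import Mathlib
import Cfsg.Agent.H11.Supersolvable

set_option autoImplicit false
open Cfsg

namespace Cfsg.Agent.S0532

universe u

theorem hered {G : Type*} [Group G] (h : ∀ H : Subgroup G, Cfsg.HasSubgroupOfEveryOrder H)
    (K : Subgroup G) (H : Subgroup K) : Cfsg.HasSubgroupOfEveryOrder H := by
  intro d hd
  rw [← H2.card_map_subtype] at hd
  obtain ⟨L, hL⟩ := h _ d hd
  let e := H.equivMapOfInjective K.subtype K.subtype_injective
  refine ⟨L.map e.symm.toMonoidHom, ?_⟩
  rw [Subgroup.card_map_of_injective e.symm.injective, hL]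

theorem top {G : Type*} [Group G] (h : ∀ H : Subgroup G, Cfsg.HasSubgroupOfEveryOrder H) :
    Cfsg.HasSubgroupOfEveryOrder G := by
  intro d hd
  rw [← Subgroup.card_top] at hd
  obtain ⟨L, hL⟩ := h _ d hd
  exact ⟨L.map (⊤ : Subgroup G).subtype, by rw [H2.card_map_subtype, hL]⟩

theorem aux {G : Type u} [Group G] [Finite G]
    (h : ∀ H : Subgroup G, Cfsg.HasSubgroupOfEveryOrder H) (p : ℕ) [hp : Fact p.Prime]
    (hmax : ∀ q : ℕ, q.Prime → q ∣ Nat.card G → q ≤ p) (P : Sylow p G) :
    (P : Subgroup G).Normal := by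
  induction hn : Nat.card G using Nat.strong_induction_on generalizing G with
  | _ n ih =>
    by_cases hi : (P : Subgroup G).index = 1
    · rw [Subgroup.index_eq_one.1 hi]; infer_instance
    have hq := Nat.minFac_prime hi
    have hG1 : Nat.card G ≠ 1 := fun e => hi (Nat.dvd_one.1 (e ▸ Subgroup.index_dvd_card _))
    set r := (Nat.card G).minFac with hr
    have hrp : r.Prime := Nat.minFac_prime hG1
    have hrne : r ≠ p := by
      intro e
      have h1 : (P : Subgroup G).index.minFac ∣ Nat.card G :=
        (Nat.minFac_dvd _).trans (Subgroup.index_dvd_card _)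
      have h2 := hmax _ hq h1
      have h3 : r ≤ (P : Subgroup G).index.minFac := Nat.minFac_le_of_dvd hq.two_le h1
      have h4 : (P : Subgroup G).index.minFac = p := by omega
      exact P.not_dvd_index (h4.symm.dvd.trans (Nat.minFac_dvd _))
    obtain ⟨m, hm⟩ : r ∣ Nat.card G := Nat.minFac_dvd _
    obtain ⟨K, hK⟩ := top h m ⟨r, by rw [hm, mul_comm]⟩
    have hKi : K.index = r := by
      have := K.card_mul_index
      rw [hK, hm, mul_comm] at this
      exact Nat.eq_of_mul_eq_mul_right (by rw [← hK]; exact Nat.card_pos) this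
    have hKn : K.Normal := Subgroup.normal_of_index_eq_minFac_card hKi
    have hPK : (P : Subgroup G) ≤ K := by
      apply H2.le_of_card_coprime_index
      rw [hKi]
      have := Fact.mk hrp
      exact H2.IsPGroup.card_coprime_of_ne P.isPGroup' hrne.symm
    have hKt : K ≠ ⊤ := fun e => hrp.ne_one (by rw [← hKi, e, Subgroup.index_top])
    have := ih _ (hn ▸ H2.card_lt_of_ne_top hKt) (hered h K)
      (fun q hq hd => hmax q hq (hd.trans (Subgroup.card_subgroup_dvd_card K))) (P.subtype hPK) rfl
    have h2 := H11.map_subtype_sylow_normal _ this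
    rwa [Sylow.coe_subtype, Subgroup.subgroupOf_map_subtype, inf_eq_left.2 hPK] at h2

/-- If each subgroup of a finite group satisfies the converse of Lagrange's theorem, then a Sylow subgroup for the largest prime dividing the group order is normal. -/
theorem result {G : Type*} [Group G] [Finite G] (h : ∀ H : Subgroup G, Cfsg.HasSubgroupOfEveryOrder H) (p : ℕ) [Fact p.Prime] (hdvd : p ∣ Nat.card G) (hmax : ∀ q : ℕ, q.Prime → q ∣ Nat.card G → q ≤ p) (P : Sylow p G) : (P : Subgroup G).Normal := by
  exact aux h p hmax P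

end Cfsg.Agent.S0532
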