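import Cfsg.Statements.S0533
import Mathlib
import Cfsg.Agent.H11.Supersolvable
import Cfsg.Agent.S0532
import Cfsg.Agent.H1.Coprime

set_option autoImplicit false
open Cfsg

namespace Cfsg.Agent.S0533

universe u

open Subgroup in
theorem step {G : Type*} [Group G] [Finite G]
    (h : ∀ H : Subgroup G, Cfsg.HasSubgroupOfEveryOrder H) {p : ℕ} [hp : Fact p.Prime]
    (Q H : Subgroup G) (hQ : IsPGroup p Q) (hne : Q ≠ ⊥) (hH : (Nat.card H).Coprime p)
    (hn : H ≤ normalizer (Q : Set G)) :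
    ∃ Q₁ : Subgroup G, Q₁ ≤ Q ∧ Q₁.relIndex Q = p ∧ H ≤ normalizer (Q₁ : Set G) := by
  obtain ⟨k, hk⟩ := IsPGroup.iff_card.1 hQ
  have hk0 : k ≠ 0 := by
    rintro rfl
    exact hne (card_eq_one.1 (by simpa using hk))
  obtain ⟨j, rfl⟩ := Nat.exists_eq_succ_of_ne_zero hk0
  have hcop : (Nat.card H).Coprime (Nat.card Q) := by rw [hk]; exact hH.pow_right _
  have hR : Nat.card ↥(H ⊔ Q) = Nat.card H * Nat.card Q :=
    H2.card_sup_of_disjoint hn (disjoint_iff.1 (disjoint_of_coprime_natCard hcop))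
  obtain ⟨L, hL⟩ := h (H ⊔ Q) (Nat.card H * p ^ j)
    (by rw [hR, hk]; exact mul_dvd_mul_left _ (pow_dvd_pow _ (Nat.le_succ j)))
  set L' := L.map (H ⊔ Q).subtype with hL'
  have hLc : Nat.card L' = Nat.card H * p ^ j := by rw [hL', H2.card_map_subtype, hL]
  have hLR : L' ≤ H ⊔ Q := map_subtype_le _
  have hRn : H ⊔ Q ≤ normalizer (Q : Set G) := sup_le hn le_normalizer
  have h1 := H2.card_sup_mul_card_inf (hLR.trans hRn)
  obtain ⟨m, hm⟩ : Nat.card Q ∣ Nat.card ↥(L' ⊔ Q) := card_dvd_of_le le_sup_right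
  have hmH : m ∣ Nat.card H := by
    have : Nat.card ↥(L' ⊔ Q) ∣ Nat.card ↥(H ⊔ Q) := card_dvd_of_le (sup_le hLR le_sup_right)
    rw [hm, hR, mul_comm] at this
    exact Nat.dvd_of_mul_dvd_mul_right Nat.card_pos this
  have h2 : m * Nat.card ↥(L' ⊓ Q) = Nat.card H * p ^ j := by
    rw [hm, hLc, mul_assoc, mul_comm] at h1
    exact Nat.eq_of_mul_eq_mul_right Nat.card_pos h1
  have hcop2 : (Nat.card H).Coprime (Nat.card ↥(L' ⊓ Q)) :=
    hcop.coprime_dvd_right (card_dvd_of_le inf_le_right)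
  have hHm : Nat.card H ∣ m := hcop2.dvd_of_dvd_mul_right ⟨_, h2⟩
  have hmeq : m = Nat.card H := Nat.dvd_antisymm hmH hHm
  have h3 : Nat.card ↥(L' ⊓ Q) = p ^ j := by
    rw [hmeq] at h2
    exact Nat.eq_of_mul_eq_mul_left Nat.card_pos h2
  have h4 : L' ⊔ Q = H ⊔ Q :=
    eq_of_le_of_card_ge (sup_le hLR le_sup_right) (by rw [hR, hm, hmeq, mul_comm])
  have h5 : (L' ⊓ Q).relIndex Q = p := by
    have := H2.card_mul_relIndex (inf_le_right : L' ⊓ Q ≤ Q)
    rw [h3, hk, pow_succ] at this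
    exact Nat.eq_of_mul_eq_mul_left (pow_pos hp.out.pos _) this
  refine ⟨L' ⊓ Q, inf_le_right, h5, ?_⟩
  refine le_sup_left.trans (h4.symm.le.trans (sup_le ?_ ?_))
  · exact H1.le_normalizer_inf le_normalizer (hLR.trans hRn)
  · rw [← normal_subgroupOf_iff_le_normalizer inf_le_right]
    apply normal_of_index_eq_minFac_card
    rw [hk, Nat.Prime.pow_minFac hp.out (Nat.succ_ne_zero j)]
    exact h5

open Subgroup in
theorem aux {G : Type u} [Group G] [Finite G]
    (h : ∀ H : Subgroup G, Cfsg.HasSubgroupOfEveryOrder H) : H11.SS G := by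
  induction hn : Nat.card G using Nat.strong_induction_on generalizing G with
  | _ n ih =>
    intro N hN hNt
    have hG1 : 1 < Nat.card G := lt_of_le_of_lt Nat.card_pos (H2.card_lt_of_ne_top hNt)
    have hne : (Nat.card G).primeFactors.Nonempty := Nat.nonempty_primeFactors.2 hG1
    set p := (Nat.card G).primeFactors.max' hne with hp
    have hpm : p ∈ (Nat.card G).primeFactors := Finset.max'_mem _ _
    have hpp : p.Prime := Nat.prime_of_mem_primeFactors hpm
    have hmax : ∀ q : ℕ, q.Prime → q ∣ Nat.card G → q ≤ p := fun q hq hd =>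
      Finset.le_max' _ q (Nat.mem_primeFactors.2 ⟨hq, hd, by omega⟩)
    have := Fact.mk hpp
    obtain ⟨P⟩ : Nonempty (Sylow p G) := inferInstance
    have hPn : (P : Subgroup G).Normal := Cfsg.Agent.S0532.aux h p hmax P
    obtain ⟨H, hH⟩ := exists_right_complement'_of_coprime (N := (P : Subgroup G)) P.card_coprime_index
    have hHc : Nat.card H = (P : Subgroup G).index := hH.symm.index_eq_card.symm
    have hsup : (P : Subgroup G) ⊔ H = ⊤ := hH.sup_eq_top
    by_cases hPN : (P : Subgroup G) ≤ N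
    · have hHt : H ≠ ⊤ := by
        rintro rfl
        rw [card_top] at hHc
        exact P.not_dvd_index (hHc ▸ Nat.dvd_of_mem_primeFactors hpm)
      have hS := ih _ (hn ▸ H2.card_lt_of_ne_top hHt) (Cfsg.Agent.S0532.hered h H) rfl
      have hS' : H11.SS (G ⧸ (P : Subgroup G)) := by
        refine hS.of_surjective ((QuotientGroup.mk' _).comp H.subtype) ?_
        intro y
        obtain ⟨y, rfl⟩ := QuotientGroup.mk'_surjective _ y
        obtain ⟨x, hx, n, hn, rfl⟩ := H11.exists_mul_of_sup_eq_top' ((sup_comm _ _).trans hsup) y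
        refine ⟨⟨x, hx⟩, ?_⟩
        simp [hn]
      exact hS'.exists_of_ker_le (QuotientGroup.mk' _) N hN (by rwa [QuotientGroup.ker_mk']) hNt
    set f := QuotientGroup.mk' N with hf
    set Pb := (P : Subgroup G).map f with hPb
    have hPbn : Pb.Normal := hPn.map f (QuotientGroup.mk'_surjective N)
    have hPbp : IsPGroup p Pb := P.isPGroup'.map f
    have hPb0 : Pb ≠ ⊥ := fun e => hPN (H2.map_mk'_eq_bot_iff.1 e)
    set Z := (centralizer (Pb : Set (G ⧸ N))).comap f ⊓ P with hZ
    have hZn : Z.Normal := by rw [hZ]; infer_instance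
    have hZN : ¬ Z ≤ N := by
      intro hle
      apply H2.inf_centralizer_ne_bot_of_isPGroup hPbp hPbp le_normalizer hPb0
      rw [eq_bot_iff]
      rintro _ ⟨⟨x, hx, rfl⟩, hx2⟩
      exact (QuotientGroup.eq_one_iff x).2 (hle ⟨hx2, hx⟩)
    obtain ⟨Q, ⟨hQZ, hQH, hQN⟩, hmin⟩ := exists_minimal_of_wellFoundedLT
      (fun Q : Subgroup G => Q ≤ Z ∧ H ≤ normalizer (Q : Set G) ∧ ¬ Q ≤ N)
      ⟨Z, le_rfl, le_normalizer_of_normal, hZN⟩
    have hQp : IsPGroup p Q := P.isPGroup'.to_le (hQZ.trans inf_le_right)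
    obtain ⟨Q₁, hle, hrel, hn1⟩ := step h Q H hQp (by rintro rfl; exact hQN bot_le)
      (by rw [hHc]; exact ((Nat.Prime.coprime_iff_not_dvd hpp).2 P.not_dvd_index).symm) hQH
    have hQ1N : Q₁ ≤ N := by
      by_contra hc
      have := hmin ⟨hle.trans hQZ, hn1, hc⟩ hle
      rw [relIndex_eq_one.2 this] at hrel
      exact hpp.ne_one hrel.symm
    obtain ⟨g, hgQ, hgN⟩ := SetLike.not_le_iff_exists.1 hQN
    refine ⟨g, hgN, ?_⟩
    have hco : IsCoatom (Q₁.subgroupOf Q) := H2.isCoatom_of_index_prime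
      (by rw [show (Q₁.subgroupOf Q).index = p from hrel]; exact hpp)
    have heq : N ⊔ zpowers g = Q ⊔ N := by
      apply le_antisymm (sup_le le_sup_right ((zpowers_le.2 hgQ).trans le_sup_left))
      refine sup_le ?_ le_sup_left
      have h1 : (N ⊔ zpowers g).subgroupOf Q = ⊤ := by
        apply hco.2
        refine lt_of_le_of_ne (comap_mono (hQ1N.trans le_sup_left)) fun e => hgN (hQ1N ?_)
        have : (⟨g, hgQ⟩ : Q) ∈ (N ⊔ zpowers g).subgroupOf Q :=
          (le_sup_right : zpowers g ≤ N ⊔ zpowers g) (mem_zpowers g)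
        rw [← e] at this
        exact this
      exact subgroupOf_eq_top.1 h1
    rw [heq, ← H2.comap_map_mk']
    apply Normal.comap
    refine H11.normal_of_sup_eq_top (A := Pb) (B := H.map f) ?_ ?_ ?_
    · rw [hPb, ← Subgroup.map_sup, hsup]
      exact map_top_of_surjective f (QuotientGroup.mk'_surjective N)
    · refine H11.le_normalizer_of_le_centralizer ?_ le_rfl
      rw [le_centralizer_iff]
      rintro _ ⟨x, hx, rfl⟩
      exact (hQZ hx).1
    · exact (map_mono hQH).trans (le_normalizer_map f)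

/-- If every subgroup of a finite group has subgroups of all orders dividing its order, then the group is supersolvable. -/
theorem result {G : Type*} [Group G] [Finite G] (h : ∀ H : Subgroup G, Cfsg.HasSubgroupOfEveryOrder H) : Cfsg.IsSupersolvable G := by
  exact (aux h).isSupersolvable

end Cfsg.Agent.S0533
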