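import Cfsg.Statements.S0535
import Mathlib
import Cfsg.Agent.S0006
import Cfsg.Agent.H24.Base5
import Cfsg.Agent.H1.SylowSystem

set_option autoImplicit false
open Cfsg

namespace Cfsg.Agent.S0535

open H24 Subgroup

/-- Suppose that for every nontrivial subgroup H of a finite group and every prime p dividing the order of H there is a proper subgroup of H whose index in H is a power of p. Then the group is solvable. -/
theorem result {G : Type*} [Group G] [Finite G] (h : ∀ H : Subgroup G, H ≠ ⊥ → ∀ p : ℕ, p.Prime → p ∣ Nat.card H → ∃ K : Subgroup H, K ≠ ⊤ ∧ ∃ k : ℕ, K.index = p ^ k) : Group.IsSolvable G := by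
  apply Cfsg.Agent.S0006.result
  intro p hp
  obtain ⟨K, -, hK, hmin⟩ := exists_min (P := fun K : Subgroup G => PiNat {p} K.index) (H := ⊤)
    (by rw [index_top]; exact piNat_one _)
  refine ⟨K, H1.index_eq_pow_factorization hp K ?_ (fun q hq hd => hK q hq hd)⟩
  intro hd
  obtain ⟨L, hL, k, hk⟩ := h K (ne_bot_of_prime_dvd hp hd) p hp hd
  apply hL
  have := hmin (L.map K.subtype) (by
    rw [index_map_subtype, hk]; exact (piNat_self_pow hp k).mul hK) (map_subtype_le L)
  rw [← subgroupOf_map_subtype' L, this, subgroupOf_self]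

end Cfsg.Agent.S0535
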