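import Cfsg.Statements.S0537
import Mathlib
import Cfsg.Agent.H11.Schmidt

set_option autoImplicit false
open Cfsg

namespace Cfsg.Agent.S0537

open H24 H26 Subgroup

/-- A finite non-abelian group in which every proper subgroup is abelian is either of prime-power order, or is generated by a cyclic Sylow p-subgroup and a normal Sylow q-subgroup that is elementary abelian, for distinct primes p and q. -/
theorem result {G : Type*} [Group G] [Finite G] (hna : ¬ IsMulCommutative G) (h : ∀ H : Subgroup G, H ≠ ⊤ → IsMulCommutative H) : (∃ p : ℕ, p.Prime ∧ IsPGroup p G) ∨ ∃ p q : ℕ, p.Prime ∧ q.Prime ∧ p ≠ q ∧ ∃ (P : Sylow p G) (Q : Sylow q G), IsCyclic P ∧ (Q : Subgroup G).Normal ∧ Cfsg.IsElementaryAbelian q (Q : Subgroup G) ∧ (P : Subgroup G) ⊔ Q = ⊤ := by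
  by_cases hn : Group.IsNilpotent G
  · left
    by_contra hc
    push Not at hc
    have hG : (⊤ : Subgroup G) ≠ ⊥ := by
      intro e
      apply hna
      rw [← abl_top_iff, e]; exact abl_bot
    obtain ⟨p, hp, hd⟩ := exists_prime_dvd_card hG
    have hdp := (nil_top_iff.2 hn).pcoreC {p}
    apply hna
    rw [← abl_top_iff]
    refine hdp.cp.abl (h _ fun e => hc p hp ?_) (h _ fun e => ?_)
    · have := (isPi_of_pcore_eq e).isPGroup hp
      exact this.of_surjective (Subgroup.subtype ⊤) (fun x => ⟨⟨x, trivial⟩, rfl⟩)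
    · exact (isPi_of_pcore_eq e).not_dvd' hp rfl hd
  right
  obtain ⟨p, q, x, Q, hp, hq, hpq, hQ, hx, hsd, hxQ⟩ := H11.schmidt (M := (⊤ : Subgroup G))
    (fun h => hn (H24.nil_top_iff.1 h)) (fun K hK => Abl.nil (h K hK.ne))
  obtain ⟨P, hP⟩ := hx.exists_sylow_top hp
  obtain ⟨Q', rfl⟩ := hQ.exists_sylow_top hq
  have hQt : (Q' : Subgroup G) ≠ ⊤ := fun e => hn (nil_top_iff.1 (e ▸ hQ.pi.nil hq))
  have hQa : Abl (Q' : Subgroup G) := h _ hQt
  have hQn : (Q' : Subgroup G).Normal := H24.nml_top_iff.1 hsd.nml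
  refine ⟨p, q, hp, hq, hpq, P, Q', ?_, hQn, ⟨hQa, ?_⟩, ?_⟩
  · change IsCyclic (P : Subgroup G)
    rw [hP]; infer_instance
  · set W := H2.powKer (Q' : Subgroup G) q with hW
    have hWn : W.Normal := H2.powKer_normal _ _
    have htop : W ⊔ zpowers x = ⊤ := by
      by_contra hne
      apply hxQ
      refine coprime_abelian_faithful_Ohm1 hsd.norm (hQ.pi.coprime_of_ne hx.pi hpq.symm) hQa ?_
        (mem_zpowers x)
      intro y hy hyp
      have hyq : orderOf y = q := (hQ.pi.piElt hy) _ hyp dvd_rfl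
      have hyW : y ∈ W := H2.mem_powKer.2 ⟨hy, hyq ▸ pow_orderOf_eq_one y⟩
      exact Abl.cents (h _ hne) le_sup_left le_sup_right hyW
    have := group_modl (norm_of_normal (zpowers x) W) (H2.powKer_le (Q' : Subgroup G) q)
    rw [htop, top_inf_eq, inf_comm, hsd.inf, sup_bot_eq] at this
    intro a ha
    exact (H2.mem_powKer.1 (this.ge ha)).2
  · rw [hP, sup_comm, hsd.sup]

end Cfsg.Agent.S0537
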