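import Cfsg.Statements.S0540
import Mathlib
import Cfsg.Agent.H11.Subnormal

set_option autoImplicit false
open Pointwise
open Cfsg

namespace Cfsg.Agent.S0540

/-- A uniqueness lemma of zipper type. Let A be a subgroup of a finite group G and U a nonempty family of subgroups. For V in U write S(V) for the set of conjugates of A that lie in V and are subnormal in V. Assume: A belongs to S(V) for every V in U; a member of some S(W) that lies in V belongs to S(V); and for all V, W in U the normalizer of the join of S(V) ∩ S(W) lies in some member of U. Then U has a greatest element. -/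
theorem result {G : Type*} [Group G] [Finite G] (A : Subgroup G) (U : Set (Subgroup G)) (hU : U.Nonempty) (S : Subgroup G → Set (Subgroup G)) (hS : ∀ V B : Subgroup G, B ∈ S V ↔ (∃ g : G, B = MulAut.conj g • A) ∧ B ≤ V ∧ (B.subgroupOf V).IsSubnormal) (h1 : ∀ V ∈ U, A ∈ S V) (h2 : ∀ V ∈ U, ∀ W ∈ U, ∀ B ∈ S W, B ≤ V → B ∈ S V) (h3 : ∀ V ∈ U, ∀ W ∈ U, ∃ X ∈ U, Subgroup.normalizer ((sSup (S V ∩ S W) : Subgroup G) : Set G) ≤ X) : ∃ M ∈ U, ∀ V ∈ U, V ≤ M := by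
  classical
  -- maximal elements
  have hmax : ∀ V ∈ U, ∃ M, V ≤ M ∧ Maximal (· ∈ U) M := fun V hV =>
    exists_maximal_ge_of_wellFoundedGT (· ∈ U) V hV
  have hSconj : ∀ V : Subgroup G, ∀ B ∈ S V, ∀ g ∈ V, MulAut.conj g • B ∈ S V := by
    intro V B hB g hg
    obtain ⟨⟨x, rfl⟩, h2, h3⟩ := (hS V B).1 hB
    have h4 : H11.SN (MulAut.conj g • MulAut.conj x • A) V := by
      have := (H11.sn_iff.2 ⟨h2, h3⟩).conj g
      rwa [H1.conj_smul_eq_iff_mem_normalizer.2 (Subgroup.le_normalizer hg)] at this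
    exact (hS V _).2 ⟨⟨g * x, (H1.conj_mul_smul g x A).symm⟩, h4.le, h4.isSubnormal_subgroupOf⟩
  have huniq : ∀ M₁ M₂, Maximal (· ∈ U) M₁ → Maximal (· ∈ U) M₂ → M₁ = M₂ := by
    by_contra hcon
    push Not at hcon
    obtain ⟨T, ⟨M₁, M₂, h₁, h₂, hne, rfl⟩, hT⟩ := exists_maximal_of_wellFoundedGT
      (fun T : Set (Subgroup G) => ∃ M₁ M₂, Maximal (· ∈ U) M₁ ∧ Maximal (· ∈ U) M₂ ∧ M₁ ≠ M₂ ∧
        T = S M₁ ∩ S M₂) (by
          obtain ⟨M₁, M₂, h₁, h₂, hne⟩ := hcon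
          exact ⟨_, M₁, M₂, h₁, h₂, hne, rfl⟩)
    obtain ⟨X, hX, hXle⟩ := h3 M₁ h₁.prop M₂ h₂.prop
    obtain ⟨M₃, hXM, h₃⟩ := hmax X hX
    have hN := hXle.trans hXM
    have key : ∀ M, Maximal (· ∈ U) M → S M₁ ∩ S M₂ ⊆ S M → M = M₃ := by
      intro M hM hsub
      by_cases heq : S M ⊆ S M₁ ∩ S M₂
      · have : M ≤ M₃ := by
          refine le_trans ?_ hN
          exact H11.le_normalizer_sSup fun x hx B hB => le_sSup (heq (hSconj M B (hsub hB) x hx))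
        exact le_antisymm this (hM.le_of_ge h₃.prop this)
      · obtain ⟨Y, hY, hY0, hYn⟩ := H11.exists_le_normalizer_sSup M (S M) (S M₁ ∩ S M₂)
          (fun B hB => H11.sn_iff.2 ((hS M B).1 hB).2) (hSconj M) ⟨hsub, heq⟩
        by_contra hne'
        have hY3 : Y ∈ S M₃ := h2 M₃ h₃.prop M hM.prop Y hY (hYn.trans hN)
        have hsub3 : S M₁ ∩ S M₂ ⊆ S M ∩ S M₃ := fun B hB =>
          ⟨hsub hB, h2 M₃ h₃.prop M hM.prop B (hsub hB)
            (((le_sSup hB).trans Subgroup.le_normalizer).trans hN)⟩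
        exact hY0 (hT ⟨M, M₃, hM, h₃, hne', rfl⟩ hsub3 ⟨hY, hY3⟩)
    exact hne ((key M₁ h₁ Set.inter_subset_left).trans (key M₂ h₂ Set.inter_subset_right).symm)
  obtain ⟨V₀, hV₀⟩ := hU
  obtain ⟨M, -, hM⟩ := hmax V₀ hV₀
  refine ⟨M, hM.prop, fun V hV => ?_⟩
  obtain ⟨M', hVM, hM'⟩ := hmax V hV
  exact huniq M' M hM' hM ▸ hVM

end Cfsg.Agent.S0540
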