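import Cfsg.Statements.S0541
import Mathlib
import Cfsg.Agent.H11.Subnormal

set_option autoImplicit false
open Pointwise
open Cfsg

namespace Cfsg.Agent.S0541

/-- Let Z and Y be subgroups of a finite group G and p a prime. Suppose that for every g in G the subgroup generated by the conjugates of g Z g⁻¹ under Y is a p-group. Then there is a Sylow p-subgroup P of G such that Y normalizes the subgroup generated by all conjugates of Z contained in P. -/
theorem result {G : Type*} [Group G] [Finite G] (p : ℕ) [Fact p.Prime] (Z Y : Subgroup G) (h : ∀ g : G, IsPGroup p ↥(⨆ y ∈ Y, MulAut.conj (y * g) • Z)) : ∃ P : Sylow p G, Y ≤ Subgroup.normalizer ((⨆ g ∈ {g : G | MulAut.conj g • Z ≤ (P : Subgroup G)}, MulAut.conj g • Z : Subgroup G) : Set G) := by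
  classical
  -- maximal `Y`-invariant `p`-subgroup generated by conjugates of `Z`
  obtain ⟨U, ⟨hUp, hUY, T, hT, rfl⟩, hmax⟩ := exists_maximal_of_wellFoundedGT
    (fun U : Subgroup G => IsPGroup p U ∧ Y ≤ Subgroup.normalizer (U : Set G) ∧
      ∃ T : Set (Subgroup G), (∀ B ∈ T, ∃ g : G, B = MulAut.conj g • Z) ∧ U = sSup T)
    ⟨⊥, IsPGroup.of_bot, Subgroup.le_normalizer_of_normal, ∅, by simp, by simp⟩
  obtain ⟨P, hP⟩ := hUp.exists_le_sylow
  refine ⟨P, ?_⟩
  let S : Set (Subgroup G) := {B | (∃ g : G, B = MulAut.conj g • Z) ∧ B ≤ P}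
  let S₀ : Set (Subgroup G) := {B | (∃ g : G, B = MulAut.conj g • Z) ∧ B ≤ sSup T}
  have hS₀ : sSup S₀ = sSup T :=
    le_antisymm (sSup_le fun B hB => hB.2) (sSup_le_sSup fun B hB => ⟨hT B hB, le_sSup hB⟩)
  have hsub : S₀ ⊆ S := fun B hB => ⟨hB.1, hB.2.trans hP⟩
  by_cases heq : S ⊆ S₀
  · have : (⨆ g ∈ {g : G | MulAut.conj g • Z ≤ (P : Subgroup G)}, MulAut.conj g • Z : Subgroup G)
        = sSup T := by
      apply le_antisymm
      · exact iSup₂_le fun g hg => (heq ⟨⟨g, rfl⟩, hg⟩).2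
      · refine sSup_le fun B hB => ?_
        obtain ⟨g, rfl⟩ := hT B hB
        exact le_iSup₂_of_le (f := fun g (_ : g ∈ {g : G | MulAut.conj g • Z ≤ (P : Subgroup G)}) =>
          MulAut.conj g • Z) g ((le_sSup hB).trans hP) le_rfl
    rw [this]; exact hUY
  exfalso
  have hPn : Group.IsNilpotent (P : Subgroup G) := P.isPGroup'.isNilpotent
  obtain ⟨X, ⟨⟨g, rfl⟩, -⟩, hX0, hXn⟩ := H11.exists_le_normalizer_sSup (P : Subgroup G) S S₀
    (fun B hB => H11.sn_of_isNilpotent hPn hB.2)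
    (by
      rintro B ⟨⟨x, rfl⟩, hB⟩ y hy
      exact ⟨⟨y * x, (H1.conj_mul_smul y x Z).symm⟩,
        H1.conj_smul_le_of_mem_normalizer hB (Subgroup.le_normalizer hy)⟩) ⟨hsub, heq⟩
  rw [hS₀] at hXn
  set W : Subgroup G := ⨆ y ∈ Y, MulAut.conj (y * g) • Z with hW
  have hWn : W ≤ Subgroup.normalizer ((sSup T : Subgroup G) : Set G) := by
    refine iSup₂_le fun y hy => ?_
    rw [H1.conj_mul_smul]
    exact H1.conj_smul_le_of_mem_normalizer hXn (Subgroup.le_normalizer (hUY hy))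
  have hWeq : W = sSup {B | ∃ y ∈ Y, B = MulAut.conj (y * g) • Z} := by
    apply le_antisymm
    · exact iSup₂_le fun y hy => le_sSup ⟨y, hy, rfl⟩
    · refine sSup_le ?_
      rintro B ⟨y, hy, rfl⟩
      exact le_iSup₂_of_le (f := fun y (_ : y ∈ Y) => MulAut.conj (y * g) • Z) y hy le_rfl
  have hYW : Y ≤ Subgroup.normalizer (W : Set G) := by
    rw [hWeq]
    refine H11.le_normalizer_sSup ?_
    rintro x hx B ⟨y, hy, rfl⟩
    refine le_sSup ⟨x * y, Y.mul_mem hx hy, ?_⟩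
    rw [mul_assoc, H1.conj_mul_smul x]
  have hbig := hmax (y := sSup T ⊔ W) ⟨hUp.to_sup_of_normal_left' (h g) hWn,
    H1.le_normalizer_sup hUY hYW, T ∪ {B | ∃ y ∈ Y, B = MulAut.conj (y * g) • Z}, by
      rintro B (hB | ⟨y, -, rfl⟩)
      · exact hT B hB
      · exact ⟨_, rfl⟩, by rw [sSup_union, ← hWeq]⟩ le_sup_left
  apply hX0
  refine ⟨⟨g, rfl⟩, le_trans ?_ (le_sup_right.trans hbig)⟩
  rw [hWeq]
  exact le_sSup ⟨1, Y.one_mem, by rw [one_mul]⟩

end Cfsg.Agent.S0541
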