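import Cfsg.Statements.S0546
import Mathlib
import Cfsg.Agent.H11.SysNorm

set_option autoImplicit false
open Cfsg

namespace Cfsg.Agent.S0546

open H24 Subgroup

/-- The normal closure of a system normalizer of a finite solvable group is the whole group. -/
theorem result {G : Type*} [Group G] [Finite G] [Group.IsSolvable G] (K : Nat.Primes → Subgroup G) (hK : Cfsg.IsComplementSystem K) : Subgroup.normalClosure ((Cfsg.systemNormalizer K : Subgroup G) : Set G) = ⊤ := by
  set N := normalClosure ((Cfsg.systemNormalizer K : Subgroup G) : Set G) with hN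
  by_contra hne
  have : Nontrivial (G ⧸ N) := QuotientGroup.nontrivial_iff.2 hne
  have h1 : commutator G ⊔ N ≠ ⊤ := by
    intro e
    have h2 := congrArg (Subgroup.map (QuotientGroup.mk' N)) e
    rw [Subgroup.map_sup, H2.map_mk'_eq_bot_iff.2 le_rfl, sup_bot_eq, _root_.commutator_def,
      map_commutator, map_top_of_surjective _ (QuotientGroup.mk'_surjective N)] at h2
    exact (Sol.der1_lt sol_top top_ne_bot).ne h2
  apply h1
  rw [eq_top_iff]
  intro g _
  have := (H11.cs_iff.1 hK).mem_sup (commutator G ⊔ N) (g := g) fun p =>
    norm_of_der1_le (H := ⊤) (le_sup_left.trans le_sup_right) le_top trivial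
  exact (sup_le le_rfl (le_normalClosure.trans le_sup_right)) this

end Cfsg.Agent.S0546
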