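import Cfsg.Statements.S0547
import Mathlib
import Cfsg.Agent.H11.Primitive

set_option autoImplicit false
open Cfsg

namespace Cfsg.Agent.S0547

/-- Let a finite solvable group G act faithfully and primitively on a set, and let M be a minimal normal subgroup of G. Then M is transitive with trivial point stabilizers, and the number of points equals the order of M, which is a prime power p ^ d with d ≥ 1. -/
theorem result {G : Type*} [Group G] [Finite G] [Group.IsSolvable G] {Ω : Type*} [Nonempty Ω] [MulAction G Ω] [FaithfulSMul G Ω] (hprim : MulAction.IsPreprimitive G Ω) (M : Subgroup G) [M.Normal] (hM : M ≠ ⊥) (hmin : ∀ K : Subgroup G, K.Normal → K ≤ M → K = ⊥ ∨ K = M) : MulAction.IsPretransitive M Ω ∧ (∀ ω : Ω, MulAction.stabilizer M ω = ⊥) ∧ ∃ p d : ℕ, p.Prime ∧ 0 < d ∧ Nat.card Ω = p ^ d ∧ Nat.card M = p ^ d := by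
  have hmn : H2.IsMinNormal M := ⟨inferInstance, hM, hmin⟩
  have := hmn.isMulCommutative inferInstance
  have key : ∀ ω : Ω, M ⊓ MulAction.stabilizer G ω = ⊥ ∧ M ⊔ MulAction.stabilizer G ω = ⊤ := by
    intro ω
    have hco := H11.isCoatom_stabilizer_of_ne_bot hprim hM ω
    have hcore := H11.normalCore_stabilizer_eq_bot (G := G) ω
    obtain ⟨-, h2, h3, -⟩ := H11.abelian_normal_of_corefree hco hcore hM
    exact ⟨h2, h3⟩
  refine ⟨⟨fun x y => ?_⟩, fun ω => ?_, ?_⟩
  · obtain ⟨g, rfl⟩ := MulAction.exists_smul_eq G x y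
    obtain ⟨n, hn, s, hs, rfl⟩ := H11.exists_mul_of_sup_eq_top (key x).2 g
    refine ⟨⟨n, hn⟩, ?_⟩
    rw [mul_smul, MulAction.mem_stabilizer_iff.1 hs]
    rfl
  · rw [eq_bot_iff]
    intro m hm
    have : (m : G) ∈ M ⊓ MulAction.stabilizer G ω := ⟨m.2, hm⟩
    rw [(key ω).1, Subgroup.mem_bot] at this
    exact Subgroup.mem_bot.2 (Subtype.ext this)
  · obtain ⟨p, hp, hpM⟩ := hmn.exists_isPGroup inferInstance
    have := Fact.mk hp
    have hnt : Nontrivial M := (Subgroup.nontrivial_iff_ne_bot M).2 hM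
    obtain ⟨d, hd, hd'⟩ := hpM.nontrivial_iff_card.1 hnt
    obtain ⟨ω⟩ := ‹Nonempty Ω›
    refine ⟨p, d, hp, hd, ?_, hd'⟩
    rw [← hd', ← (H11.isComplement'_of_normal (key ω).1 (key ω).2).index_eq_card,
      MulAction.index_stabilizer_of_transitive]

end Cfsg.Agent.S0547
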