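import Cfsg.Statements.S0550
import Mathlib
import Cfsg.Agent.H11.Basic

set_option autoImplicit false
open Cfsg

namespace Cfsg.Agent.S0550

/-- Let U be a maximal subgroup with trivial normal core in a finite group G, and A ≠ B two minimal normal subgroups. Then A is the centralizer of B and B that of A, U complements each of them, A and B are non-abelian, and A, B and (A ⊔ B) ∩ U are pairwise isomorphic. -/
theorem result {G : Type*} [Group G] [Finite G] (U : Subgroup G) (hU : IsCoatom U) (hcore : U.normalCore = ⊥) (A B : Subgroup G) [A.Normal] [B.Normal] (hA : A ≠ ⊥) (hB : B ≠ ⊥) (hAmin : ∀ K : Subgroup G, K.Normal → K ≤ A → K = ⊥ ∨ K = A) (hBmin : ∀ K : Subgroup G, K.Normal → K ≤ B → K = ⊥ ∨ K = B) (hAB : A ≠ B) : Subgroup.centralizer (B : Set G) = A ∧ Subgroup.centralizer (A : Set G) = B ∧ Subgroup.IsComplement' A U ∧ Subgroup.IsComplement' B U ∧ ¬ IsMulCommutative A ∧ Nonempty (A ≃* B) ∧ Nonempty (A ≃* ↥((A ⊔ B) ⊓ U)) := by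
  have hinf : A ⊓ B = ⊥ := by
    rcases hAmin (A ⊓ B) inferInstance inf_le_left with h | h
    · exact h
    · rcases hBmin A inferInstance (inf_eq_left.1 h) with h' | h'
      · exact absurd h' hA
      · exact absurd h' hAB
  have h1 : A ≤ Subgroup.centralizer (B : Set G) :=
    H11.le_centralizer_of_inf_eq_bot Subgroup.le_normalizer_of_normal
      Subgroup.le_normalizer_of_normal hinf
  have h2 : B ≤ Subgroup.centralizer (A : Set G) := Subgroup.le_centralizer_iff.1 h1
  have e1 := H11.eq_centralizer_of_corefree hU hcore hB inferInstance h1 hA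
  have e2 := H11.eq_centralizer_of_corefree hU hcore hA inferInstance h2 hB
  have hAU : A ⊓ U = ⊥ := by
    rw [e1]; exact H11.centralizer_inf_eq_bot_of_corefree hU hcore hB
  have hBU : B ⊓ U = ⊥ := by
    rw [e2]; exact H11.centralizer_inf_eq_bot_of_corefree hU hcore hA
  have hAU' := H11.sup_eq_top_of_corefree hU hcore (inferInstance : A.Normal) hA
  have hBU' := H11.sup_eq_top_of_corefree hU hcore (inferInstance : B.Normal) hB
  have dA : A ⊓ ((A ⊔ B) ⊓ U) = ⊥ := by
    rw [eq_bot_iff, ← hAU]; exact inf_le_inf_left _ inf_le_right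
  have dB : B ⊓ ((A ⊔ B) ⊓ U) = ⊥ := by
    rw [eq_bot_iff, ← hBU]; exact inf_le_inf_left _ inf_le_right
  obtain ⟨i1⟩ := H11.nonempty_equiv_of_sup_eq (A := A) (B := B) (D := (A ⊔ B) ⊓ U) hinf dA (by
    rw [inf_comm (A ⊔ B)]; exact H11.eq_sup_inf_of_sup_eq_top hAU' le_sup_left)
  obtain ⟨i2⟩ := H11.nonempty_equiv_of_sup_eq (A := B) (B := A) (D := (A ⊔ B) ⊓ U)
    (by rw [inf_comm, hinf]) dB (by
    rw [inf_comm (A ⊔ B), sup_comm B A]; exact H11.eq_sup_inf_of_sup_eq_top hBU' le_sup_right)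
  refine ⟨e1.symm, e2.symm, H11.isComplement'_of_normal hAU hAU',
    H11.isComplement'_of_normal hBU hBU', fun hc => hA ?_, ⟨i2.trans i1.symm⟩, ⟨i2⟩⟩
  rw [← hinf, eq_comm, inf_eq_left, e2]
  exact H11.le_centralizer_self

end Cfsg.Agent.S0550
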