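import Cfsg.Statements.S0553
import Mathlib
import Cfsg.Agent.H11.Supersolvable
import Cfsg.Agent.H2.Carter
import Cfsg.Agent.H2.Frattini

set_option autoImplicit false
open Cfsg

namespace Cfsg.Agent.S0553

universe u

open Subgroup in
theorem aux {G : Type u} [Group G] [Finite G] [Group.IsSolvable G] [Nontrivial G]
    (h : ∀ M : Subgroup G, IsCoatom M → (Nat.card M).Coprime M.index) :
    ∃ p : ℕ, p.Prime ∧ p ∣ Nat.card G ∧ ∀ P : Sylow p G, (P : Subgroup G).Normal := by
  induction hn : Nat.card G using Nat.strong_induction_on generalizing G with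
  | _ n ih =>
    rw [← hn]
    obtain ⟨N, p, hp, hN, -, hNc, hNp, -⟩ := H2.exists_elementary_abelian_normal_le
      (N := (⊤ : Subgroup G)) inferInstance inferInstance top_ne_bot
    have hNn := hN.1
    by_cases hΦ : N ≤ frattini G
    · have hNt : N ≠ ⊤ := fun e => H2.frattini_ne_top G (top_le_iff.1 (e ▸ hΦ))
      have : Nontrivial (G ⧸ N) := QuotientGroup.nontrivial_iff.2 hNt
      obtain ⟨q, hq, hd, hnorm⟩ := ih _ (hn ▸ H2.card_quotient_lt hN.2.1) (G := G ⧸ N) (by
        intro M hM
        have := h _ (Subgroup.isCoatom_comap_of_surjective (QuotientGroup.mk'_surjective N) hM)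
        rw [index_comap_of_surjective _ (QuotientGroup.mk'_surjective N), H2.card_comap_mk'] at this
        exact this.coprime_dvd_left (dvd_mul_left _ _)) rfl
      refine ⟨q, hq, hd.trans (card_quotient_dvd_card N), fun P => ?_⟩
      have := Fact.mk hq
      have h1 := (hnorm (P.mapSurjective (QuotientGroup.mk'_surjective N))).comap
        (QuotientGroup.mk' N)
      rw [Sylow.coe_mapSurjective, H2.comap_map_mk'] at h1
      have h2 := Sylow.normalizer_sup_eq_top' P (N := (P : Subgroup G) ⊔ N) le_sup_left
      rw [← sup_assoc, ← Sylow.coe_coe, sup_eq_left.2 le_normalizer] at h2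
      exact normalizer_eq_top_iff.1 (H2.eq_top_of_sup_le_frattini hΦ h2)
    · rw [H2.le_frattini_iff] at hΦ
      push Not at hΦ
      obtain ⟨M, hM, hNM⟩ := hΦ
      have hs := H11.sup_eq_top_of_coatom hM hNM
      have hi := (hN.inf_eq_bot_or_le ((sup_comm _ _).trans hs)).resolve_right hNM
      have hc := H11.isComplement'_of_normal ((inf_comm _ _).trans hi) hs
      have := Fact.mk hp
      have hpd : p ∣ Nat.card N := by
        obtain ⟨k, hk⟩ := IsPGroup.iff_card.1 hNp
        rw [hk]
        apply dvd_pow_self
        rintro rfl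
        exact hN.2.1 (card_eq_one.1 (by simpa using hk))
      refine ⟨p, hp, hpd.trans (card_subgroup_dvd_card N), fun P => ?_⟩
      have hnd : ¬ p ∣ N.index := by
        intro hd
        have := h M hM
        rw [hc.index_eq_card, ← hc.symm.index_eq_card] at this
        exact hp.ne_one (Nat.eq_one_of_dvd_coprimes this hd hpd)
      have h1 : N ≤ P := hNp.le_sylow_of_normal P
      have h2 := (hNp.toSylow hnd).is_maximal' P.isPGroup' h1
      rw [h2]; exact hNn

/-- Let G be a nontrivial finite solvable group in which every maximal subgroup has order coprime to its index. Then for some prime p dividing the order of G the Sylow p-subgroups of G are normal. -/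
theorem result {G : Type*} [Group G] [Finite G] [Group.IsSolvable G] [Nontrivial G] (h : ∀ M : Subgroup G, IsCoatom M → (Nat.card M).Coprime M.index) : ∃ p : ℕ, p.Prime ∧ p ∣ Nat.card G ∧ ∀ P : Sylow p G, (P : Subgroup G).Normal := by
  exact aux h

end Cfsg.Agent.S0553
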