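import Cfsg.Statements.S0554
import Mathlib
import Cfsg.Agent.H11.Supersolvable

set_option autoImplicit false
open Cfsg

namespace Cfsg.Agent.S0554

universe u

theorem move {G : Type*} [Group G] (N : Subgroup G) [hN : N.Normal] (t : ℕ) (s : Fin t → G)
    (j : Fin t) (n : G) (hn : n ∈ N) :
    ∃ m ∈ N, n * (List.ofFn s).prod = (List.ofFn (Function.update s j (m * s j))).prod := by
  induction t generalizing n with
  | zero => exact j.elim0
  | succ t ih =>
    cases j using Fin.cases with
    | zero =>
      refine ⟨n, hn, ?_⟩
      simp [List.ofFn_succ, mul_assoc]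
    | succ j =>
      obtain ⟨m, hm, e⟩ := ih (fun i => s i.succ) j ((s 0)⁻¹ * n * s 0) (hN.conj_mem' n hn _)
      refine ⟨m, hm, ?_⟩
      rw [List.ofFn_succ, List.ofFn_succ, List.prod_cons, List.prod_cons,
        Function.update_of_ne (Fin.succ_ne_zero j).symm]
      have : (fun i : Fin t => Function.update s j.succ (m * s j.succ) i.succ) =
          Function.update (fun i => s i.succ) j (m * s j.succ) := by
        funext i
        by_cases hij : i = j
        · subst hij; simp
        · rw [Function.update_of_ne hij, Function.update_of_ne (by simpa using hij)]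
      rw [this, ← e]; group

open Subgroup in
theorem aux {G : Type u} [Group G] [Finite G] [Group.IsSolvable G] (t : ℕ) (p : Fin t → ℕ)
    (hp : ∀ i, (p i).Prime) (hall : ∀ q : ℕ, q.Prime → q ∣ Nat.card G → ∃ i, p i = q)
    (S : (i : Fin t) → Sylow (p i) G) :
    ∀ g : G, ∃ s : (i : Fin t) → G, (∀ i, s i ∈ (S i : Subgroup G)) ∧ g = (List.ofFn s).prod := by
  induction hn : Nat.card G using Nat.strong_induction_on generalizing G with
  | _ n ih =>
    intro g
    rcases subsingleton_or_nontrivial G with hG | hG
    · exact ⟨fun _ => 1, fun i => one_mem _, Subsingleton.elim _ _⟩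
    obtain ⟨N, q, hq, hN, -, hNc, hNp, -⟩ := H2.exists_elementary_abelian_normal_le
      (N := (⊤ : Subgroup G)) inferInstance inferInstance top_ne_bot
    have hNn := hN.1
    have := Fact.mk hq
    have hpd : q ∣ Nat.card N := by
      obtain ⟨k, hk⟩ := IsPGroup.iff_card.1 hNp
      rw [hk]
      apply dvd_pow_self
      rintro rfl
      exact hN.2.1 (card_eq_one.1 (by simpa using hk))
    obtain ⟨j, rfl⟩ := hall q hq (hpd.trans (card_subgroup_dvd_card N))
    have hle : N ≤ S j := hNp.le_sylow_of_normal _
    obtain ⟨s, hs, e⟩ := ih _ (hn ▸ H2.card_quotient_lt hN.2.1) (G := G ⧸ N)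
      (fun r hr hd => hall r hr (hd.trans (card_quotient_dvd_card N)))
      (fun i => haveI := Fact.mk (hp i); (S i).mapSurjective (QuotientGroup.mk'_surjective N))
      rfl (QuotientGroup.mk' N g)
    choose s' hs' hs'' using hs
    have h1 : QuotientGroup.mk' N g = QuotientGroup.mk' N (List.ofFn s').prod := by
      rw [e, map_list_prod, List.map_ofFn]
      congr 2
      funext i
      exact (hs'' i).symm
    have h2 : g * ((List.ofFn s').prod)⁻¹ ∈ N := by
      rw [← QuotientGroup.eq_one_iff]
      change QuotientGroup.mk' N _ = 1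
      rw [map_mul, map_inv, h1, mul_inv_cancel]
    obtain ⟨m, hm, e'⟩ := move N t s' j _ h2
    refine ⟨_, fun i => ?_, by rw [← e']; group⟩
    by_cases hij : i = j
    · subst hij
      rw [Function.update_self]
      exact mul_mem (hle hm) (hs' i)
    · rw [Function.update_of_ne hij]; exact hs' i

/-- Let G be a finite solvable group and let S assign to each of t distinct primes, including every prime divisor of the order of G, a Sylow subgroup of G. Then every element of G is a product s_0 s_1 ⋯ s_(t-1) with s_i in S i, the factors taken in the given order. -/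
theorem result {G : Type*} [Group G] [Finite G] [Group.IsSolvable G] (t : ℕ) (p : Fin t → ℕ) (hp : ∀ i, (p i).Prime) (hinj : Function.Injective p) (hall : ∀ q : ℕ, q.Prime → q ∣ Nat.card G → ∃ i, p i = q) (S : (i : Fin t) → Sylow (p i) G) : ∀ g : G, ∃ s : (i : Fin t) → G, (∀ i, s i ∈ (S i : Subgroup G)) ∧ g = (List.ofFn s).prod := by
  exact aux t p hp hall S

end Cfsg.Agent.S0554
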