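import Cfsg.Statements.S0555
import Mathlib
import Cfsg.Agent.H11.Basic

set_option autoImplicit false
open Cfsg

namespace Cfsg.Agent.S0555

/-- Let i ≥ 1. If in the derived series of a group the quotient of the i-th term by the (i+1)-st and the quotient of the (i+1)-st by the (i+2)-nd are both cyclic, then the (i+1)-st and (i+2)-nd terms coincide. -/
theorem result {G : Type*} [Group G] (i : ℕ) (hi : 1 ≤ i) (h₁ : IsCyclic (↥(derivedSeries G i) ⧸ (derivedSeries G (i + 1)).subgroupOf (derivedSeries G i))) (h₂ : IsCyclic (↥(derivedSeries G (i + 1)) ⧸ (derivedSeries G (i + 2)).subgroupOf (derivedSeries G (i + 1)))) : derivedSeries G (i + 1) = derivedSeries G (i + 2) := by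
  have hN : (derivedSeries G (i + 2)).Normal := derivedSeries_normal G _
  set N := derivedSeries G (i + 2) with hNdef
  let π := QuotientGroup.mk' N
  have hπ : Function.Surjective π := QuotientGroup.mk'_surjective N
  set A := (derivedSeries G (i + 1)).map π with hA
  have hAn : A.Normal := (derivedSeries_normal G _).map π hπ
  have hAc : IsCyclic A := by
    let f : derivedSeries G (i + 1) →* A := π.subgroupMap _
    have hk : N.subgroupOf (derivedSeries G (i + 1)) ≤ f.ker := by
      intro x hx
      rw [MonoidHom.mem_ker]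
      apply Subtype.ext
      exact (QuotientGroup.eq_one_iff (x : G)).2 hx
    refine isCyclic_of_surjective (QuotientGroup.lift _ f hk) ?_
    intro y
    obtain ⟨x, rfl⟩ := MonoidHom.subgroupMap_surjective π _ y
    exact ⟨x, rfl⟩
  have hc : commutator (G ⧸ N) ≤ Subgroup.centralizer (A : Set (G ⧸ N)) := by
    have hcomm : IsMulCommutative (MulAut A) :=
      ⟨⟨fun a b => (IsCyclic.mulAutMulEquiv A).injective (by rw [map_mul, map_mul, mul_comm])⟩⟩
    intro x hx y hy
    have : x ∈ (MulAut.conjNormal : (G ⧸ N) →* MulAut A).ker := by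
      refine (?_ : commutator (G ⧸ N) ≤ _) hx
      rw [commutator_def, Subgroup.commutator_le]
      intro a _ b _
      rw [MonoidHom.mem_ker, map_commutatorElement, commutatorElement_eq_one_iff_mul_comm]
      exact hcomm.is_comm.comm _ _
    have h2 := congrArg Subtype.val (DFunLike.congr_fun (MonoidHom.mem_ker.1 this) ⟨y, hy⟩)
    change x * y * x⁻¹ = y at h2
    rw [mul_inv_eq_iff_eq_mul] at h2
    exact h2.symm
  have hle : (derivedSeries G i).map π ≤ Subgroup.centralizer (A : Set (G ⧸ N)) := by
    refine le_trans ?_ hc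
    rw [map_derivedSeries_eq hπ]
    exact derivedSeries_antitone _ hi
  -- the image of `G^(i)` is abelian
  obtain ⟨b, hb⟩ := h₁.exists_generator
  obtain ⟨b, rfl⟩ := QuotientGroup.mk_surjective b
  have hdec : ∀ x ∈ derivedSeries G i, ∃ k : ℤ, ∃ a ∈ derivedSeries G (i + 1),
      x = (b : G) ^ k * a := by
    intro x hx
    obtain ⟨k, hk⟩ := Subgroup.mem_zpowers_iff.1 (hb ((⟨x, hx⟩ : derivedSeries G i) : _ ⧸ _))
    rw [← QuotientGroup.mk_zpow, QuotientGroup.eq] at hk
    exact ⟨k, ((b : G) ^ k)⁻¹ * x, hk, by group⟩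
  refine le_antisymm ?_ (derivedSeries_antitone G (Nat.le_succ _))
  rw [derivedSeries_succ, Subgroup.commutator_le]
  intro x hx y hy
  rw [← QuotientGroup.eq_one_iff]
  change π _ = 1
  rw [map_commutatorElement, commutatorElement_eq_one_iff_commute]
  have c1 : ∀ u ∈ derivedSeries G i, ∀ a ∈ derivedSeries G (i + 1), Commute (π a) (π u) :=
    fun u hu a ha => hle (Subgroup.mem_map_of_mem π hu) _ (Subgroup.mem_map_of_mem π ha)
  obtain ⟨k, a, ha, rfl⟩ := hdec x hx
  rw [map_mul]
  refine Commute.mul_left ?_ (c1 y hy a ha)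
  obtain ⟨l, a', ha', rfl⟩ := hdec y hy
  rw [map_mul]
  refine Commute.mul_right ?_ (c1 _ (Subgroup.zpow_mem _ b.2 k) a' ha').symm
  rw [map_zpow, map_zpow]
  exact Commute.zpow_zpow_self _ _ _

end Cfsg.Agent.S0555
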