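import Cfsg.Statements.S0556
import Mathlib
import Cfsg.Agent.H11.NilHall
import Cfsg.Agent.H11.Supersolvable
import Cfsg.Agent.H2.Frobenius
import Cfsg.Agent.H3.Frobenius

set_option autoImplicit false
open Cfsg

namespace Cfsg.Agent.S0556

open H24 H26 Subgroup

theorem core {G : Type*} [Group G] [Finite G] (A : Subgroup G) (hA : IsCoatom A) (hAa : Abl A)
    (hM : H2.Malnormal A) (h0 : A ≠ ⊥) : derivedSeries G 2 = ⊥ := by
  have hc := H3.isComplement'_of_hall_normalizer_le_centralizer hM.coprime_card_index
    ((hM.normalizer_eq h0).le.trans hAa.le_C)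
  set K := Cfsg.pResidual (Nat.card A) G with hK
  have hK0 : K ≠ ⊥ := by
    intro e
    have := hc.sup_eq_top
    rw [e, bot_sup_eq] at this
    exact hA.1 this
  obtain ⟨q, hq, hd⟩ := exists_prime_dvd_card hK0
  obtain ⟨Q, hQ, hAQ⟩ := sol_coprime_Sylow_exists hq (norm_of_normal A K)
    (by rw [← hc.index_eq_card]; exact hM.coprime_card_index.symm) (Or.inl hAa.sol)
  have hZ := (hQ.pi.nil hq).center_ne_bot (hQ.ne_bot hq rfl hd)
  have hnle : ¬ Z[Q] ≤ A := fun h => hZ (eq_bot_iff.2
    ((le_inf (inf_le_left.trans hQ.le) h).trans hc.disjoint.le_bot))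
  have hp := isProd_sup (norm_Z hAQ)
  rw [H11.sup_eq_top_of_coatom hA hnle] at hp
  have := abl_center Q
  exact H11.ito (H11.isProd_top_iff.1 hp)

/-- If a finite group has a maximal subgroup that is abelian, then the third term of its derived series is trivial (so the group is solvable of derived length at most three). -/
theorem result {G : Type*} [Group G] [Finite G] (A : Subgroup G) (hA : IsCoatom A) [IsMulCommutative A] : derivedSeries G 3 = ⊥ := by
  have hAa : Abl A := inferInstance
  suffices h : derivedSeries G 2 ≤ center G by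
    rw [derivedSeries_succ, der1_eq_bot]
    exact Abl.of_le (inferInstance : IsMulCommutative (center G)) h
  by_cases hn : A.Normal
  · have h1 := H2.commutator_le_of_prime_index (H2.prime_index_of_isCoatom_of_normal hA)
    have : derivedSeries G 2 = ⊥ := by
      rw [derivedSeries_succ, der1_eq_bot]
      exact hAa.of_le h1
    rw [this]; exact bot_le
  have hN : N[A] = A := by
    by_contra hne
    exact hn (normalizer_eq_top_iff.1 (hA.2 _ (lt_of_le_of_ne (norm_self A) (Ne.symm hne))))
  have hZA : center G ≤ A := ((center_le_centralizer _).trans (C_le_N A)).trans hN.le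
  have hTI : ∀ g x, x ∈ A → g * x * g⁻¹ ∈ A → g ∉ A → x ∈ center G := by
    intro g x hx hy hg
    have h1 : ¬ cj g⁻¹ A ≤ A := fun h => hg (hN.le (by simpa using inv_mem (mem_N_of_cj_le h)))
    have h2 : C{x} = ⊤ := by
      rw [eq_top_iff, ← H11.sup_eq_top_of_coatom hA h1]
      refine sup_le ((hAa.cj g⁻¹).le_C.trans (C_le_C1 ?_)) (hAa.le_C.trans (C_le_C1 hx))
      rw [mem_cj]; simpa using hy
    rw [mem_center_iff]
    intro y
    exact mem_C1.1 (h2.ge (mem_top y))
  set f := QuotientGroup.mk' (center G) with hf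
  have hsurj : Function.Surjective f := QuotientGroup.mk'_surjective _
  have hmem : ∀ x, f x ∈ A.map f → x ∈ A := by
    intro x hx
    have : x ∈ (A.map f).comap f := hx
    rwa [hf, H2.comap_map_mk', sup_eq_left.2 hZA] at this
  have := core (A.map f) (H11.isCoatom_map_mk' hA hZA) (hAa.map f) (by
    intro g x hx hx1 hy
    obtain ⟨g, rfl⟩ := hsurj g
    obtain ⟨x, rfl⟩ := hsurj x
    by_contra hg
    rw [← map_inv, ← map_mul, ← map_mul] at hy
    exact hx1 ((QuotientGroup.eq_one_iff x).2 (hTI g x (hmem _ hx) (hmem _ hy)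
      fun h => hg (mem_map_of_mem f h)))) (by
    intro e
    exact hn (H2.normal_of_le_center (H2.map_mk'_eq_bot_iff.1 e)))
  rw [← map_derivedSeries_eq hsurj, hf, H2.map_mk'_eq_bot_iff] at this
  exact this

end Cfsg.Agent.S0556
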