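import Cfsg.Statements.S0557
import Mathlib
import Cfsg.Agent.H3.Transfer

set_option autoImplicit false
open Cfsg

namespace Cfsg.Agent.S0557

open Subgroup in
theorem mono {G : Type*} [Group G] {H K : Subgroup G} (h : H ≤ K) :
    focalSubgroup H ≤ focalSubgroup K := by
  rw [focalSubgroup_def, focalSubgroup_def]
  apply Subgroup.closure_mono
  rintro g ⟨hg, x, hx, u, e⟩
  exact ⟨h hg, x, h hx, u, e⟩

/-- Let H be a subgroup of a finite group G with order coprime to its index. If iterating the focal-subgroup construction starting from H reaches the trivial subgroup after finitely many steps, then H has a normal complement in G. -/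
theorem result {G : Type*} [Group G] [Finite G] (H : Subgroup G) (hHall : (Nat.card H).Coprime H.index) (n : ℕ) (hfoc : (fun K : Subgroup G => Subgroup.focalSubgroup K)^[n] H = ⊥) : ∃ N : Subgroup G, N.Normal ∧ Subgroup.IsComplement' N H := by
  have hP : IsPGroup (Nat.card H) H := fun g => ⟨1, by rw [pow_one]; exact pow_card_eq_one'⟩
  have key : ∀ k : ℕ, Cfsg.pResidual (Nat.card H) G ⊓ H ≤
      (fun K : Subgroup G => Subgroup.focalSubgroup K)^[k] H := by
    intro k
    induction k with
    | zero => exact inf_le_right
    | succ k ih =>
      rw [Function.iterate_succ_apply']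
      exact (H3.pResidual_inf_le_focal_self hP hHall.symm).trans (mono ih)
  exact ⟨_, inferInstance, H3.isComplement'_of_inf_eq_bot_of_sup_eq_top
    (eq_bot_iff.2 ((key n).trans hfoc.le)) (H3.pResidual_sup_eq_top_of_coprime hHall.symm)⟩

end Cfsg.Agent.S0557
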