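import Cfsg.Statements.S0558
import Mathlib
import Cfsg.Agent.H11.NilHall

set_option autoImplicit false
open Cfsg

namespace Cfsg.Agent.S0558

open H24 H26 Subgroup

/-- Let H be a subgroup of a finite group G that is not a Sylow subgroup of G for any prime, and suppose that for every prime p dividing the order of H and every Sylow p-subgroup P of H the normalizer of P in G is exactly H. Then some normal subgroup of G is a complement to H. -/
theorem result {G : Type*} [Group G] [Finite G] (H : Subgroup G) (hnot : ∀ p : ℕ, p.Prime → ∀ P : Sylow p G, (P : Subgroup G) ≠ H) (hnorm : ∀ p : ℕ, p.Prime → p ∣ Nat.card H → ∀ P : Sylow p H, Subgroup.normalizer (((P : Subgroup H).map H.subtype : Subgroup G) : Set G) = H) : ∃ N : Subgroup G, N.Normal ∧ Subgroup.IsComplement' N H := by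
  have hN : ∀ p P, p.Prime → p ∣ ♯H → Syl p H P → N[P] = H := by
    intro p P hp hd hP
    obtain ⟨S, rfl⟩ := hP.exists_sylow hp
    exact hnorm p hp hd S
  have hnil : Nil H := nil_of_exists_syl_nml fun p hp hd => by
    obtain ⟨P, hP⟩ := Sylow_exists hp H
    exact ⟨P, hP, (hN p P hp hd hP).ge⟩
  have hsyl : ∀ p P, p.Prime → p ∣ ♯H → Syl p H P → Syl p ⊤ P := fun p P hp hd hP =>
    hP.of_norm_le hp le_top (inf_le_right.trans (hN p P hp hd hP).le)
  have hH : Hall (primesOf H) ⊤ H := by
    refine hall_of_syl le_top (isPi_primesOf H) fun p hp hπ _ => ?_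
    obtain ⟨P, hP⟩ := Sylow_exists hp H
    exact ⟨P, hsyl p P hp hπ.2 hP, hP.le⟩
  have hc := H11.ncompl_of_nil_hall hnil hH.isHall (by
    intro p hp hd
    by_contra hcon
    push Not at hcon
    have hpi : IsPi {p} H := by
      intro q hq hqd
      by_contra hqp
      exact hcon q hq hqp hqd (inf_le_right.trans (hN q _ hq hqd (hnil.pcore_hall _)).le)
    obtain ⟨S, hS⟩ := (hsyl p H hp hd (hall_self hpi)).exists_sylow_top hp
    exact hnot p hp S hS)
  have hsd := (ncompl_iff hH).1 hc
  have := nml_top_iff.1 hsd.nml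
  exact ⟨_, this, H11.isComplement'_of_normal hsd.inf hsd.sup⟩

end Cfsg.Agent.S0558
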