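import Cfsg.Statements.S0561
import Mathlib
import Cfsg.Agent.H11.NilHall

set_option autoImplicit false
open Pointwise
open Cfsg

namespace Cfsg.Agent.S0561

open H24 H26 Subgroup

/-- Let the finite solvable group G be the product HK of subgroups, and let A be normal in H and B normal in K, where A and B are Hall subgroups of G (order coprime to index). Then for all x, y the product set of xAx⁻¹ and yBy⁻¹ is a subgroup of G. -/
theorem result {G : Type*} [Group G] [Finite G] [Group.IsSolvable G] (H K A B : Subgroup G) (hHK : ∀ g : G, ∃ h ∈ H, ∃ k ∈ K, g = h * k) (hA : A ≤ H) (hAn : (A.subgroupOf H).Normal) (hB : B ≤ K) (hBn : (B.subgroupOf K).Normal) (hAh : (Nat.card A).Coprime A.index) (hBh : (Nat.card B).Coprime B.index) (x y : G) : ∃ S : Subgroup G, (S : Set G) = ((MulAut.conj x • A : Subgroup G) : Set G) * ((MulAut.conj y • B : Subgroup G) : Set G) := by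
  obtain ⟨R, hR, -⟩ := H11.exists_isProd_of_hall sol_top (H11.isProd_top_iff.2 hHK)
    (nml_of_normal hA hAn) (nml_of_normal hB hBn) ⟨le_top, by rwa [relIndex_top_right]⟩
    ⟨le_top, by rwa [relIndex_top_right]⟩
  obtain ⟨g, -, -, ⟨h, hh, e1⟩, ⟨k, hk, e2⟩⟩ := H11.exists_conj_conj hHK x y
  refine ⟨cj g R, ?_⟩
  have h1 : cj g A = cj x A := by
    rw [e1, cj_mul, cj_of_mem_N ((nml_of_normal hA hAn).norm hh)]
  have h2 : cj g B = cj y B := by
    rw [e2, cj_mul, cj_of_mem_N ((nml_of_normal hB hBn).norm hk)]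
  have := H11.IsProd.coe_eq (H11.IsProd.cj' hR g)
  rw [h1, h2] at this
  exact this

end Cfsg.Agent.S0561
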