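import Cfsg.Statements.S0568
import Mathlib
import Cfsg.Agent.H11.SysNorm

set_option autoImplicit false
open Cfsg

namespace Cfsg.Agent.S0568

open H24 Subgroup
open scoped commutatorElement

/-- Let D be the system normalizer of a Hall complement system of a finite solvable group G, and let A < B be normal subgroups with no normal subgroup of G strictly between them (a chief factor). If G centralizes B modulo A then B ≤ A ⊔ D (D covers the factor); otherwise B ∩ D ≤ A (D avoids it). -/
theorem result {G : Type*} [Group G] [Finite G] [Group.IsSolvable G] (K : Nat.Primes → Subgroup G) (hK : Cfsg.IsComplementSystem K) (A B : Subgroup G) [A.Normal] [B.Normal] (hAB : A < B) (hchief : ∀ N : Subgroup G, N.Normal → A ≤ N → N ≤ B → N = A ∨ N = B) : (⁅B, (⊤ : Subgroup G)⁆ ≤ A → B ≤ A ⊔ Cfsg.systemNormalizer K) ∧ (¬ ⁅B, (⊤ : Subgroup G)⁆ ≤ A → B ⊓ Cfsg.systemNormalizer K ≤ A) := by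
  have hK' := H11.cs_iff.1 hK
  constructor
  · intro h g hg
    refine hK'.mem_sup A fun p => ?_
    exact norm_of_comm_le_right ((comm_mono_right le_top).trans (h.trans le_sup_right)) hg
  · intro h
    have hsurj := QuotientGroup.mk'_surjective A
    set f := QuotientGroup.mk' A with hf
    have hV : MinNml (B.map f) ⊤ := by
      refine ⟨fun e => hAB.not_ge (H2.map_mk'_eq_bot_iff.1 e), ?_, fun W hW h0 hn => ?_⟩
      · exact (nml_top_iff.2 (Normal.map inferInstance f hsurj)).norm
      · have hWn : W.Normal := nml_top_iff.1 ⟨le_top, hn⟩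
        have hle : W.comap f ≤ B := by
          have := comap_mono (f := f) hW
          rwa [hf, H2.comap_map_mk', sup_eq_left.2 hAB.le] at this
        rcases hchief _ (hWn.comap f) (H2.le_comap_mk' A W) hle with e | e
        · exact absurd (by rw [← H2.map_comap_mk' A W, e, H2.map_mk'_eq_bot_iff]) h0
        · rw [← e, hf, H2.map_comap_mk']
    have := (hK'.map hsurj).inf_eq_bot hV (by
      intro hc
      apply h
      rw [← H2.map_mk'_eq_bot_iff, map_commutator, comm_eq_bot']
      exact le_top.trans hc)
    rw [hK'.sysNorm_map] at this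
    rw [← H2.map_mk'_eq_bot_iff, eq_bot_iff, ← this]
    exact map_inf_le _ _ _

end Cfsg.Agent.S0568
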