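import Cfsg.Statements.S0569
import Mathlib
import Cfsg.Agent.H11.SysNorm

set_option autoImplicit false
open Cfsg

namespace Cfsg.Agent.S0569

/-- In a finite solvable group: each nilpotent self-normalizing subgroup contains the system normalizer of some Hall complement system, and the system normalizer of any Hall complement system lies in some nilpotent self-normalizing subgroup. -/
theorem result {G : Type*} [Group G] [Finite G] [Group.IsSolvable G] : (∀ C : Subgroup G, Cfsg.IsCarterSubgroup C → ∃ K : Nat.Primes → Subgroup G, Cfsg.IsComplementSystem K ∧ Cfsg.systemNormalizer K ≤ C) ∧ ∀ K : Nat.Primes → Subgroup G, Cfsg.IsComplementSystem K → ∃ C : Subgroup G, Cfsg.IsCarterSubgroup C ∧ Cfsg.systemNormalizer K ≤ C := by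
  constructor
  · intro C hC
    obtain ⟨K, hK, h⟩ := H11.exists_cs_le_carter hC
    exact ⟨K, H11.cs_iff.2 hK, h⟩
  · intro K hK
    obtain ⟨C, hC⟩ := H2.exists_carter G
    obtain ⟨L, hL, h⟩ := H11.exists_cs_le_carter hC
    obtain ⟨g, -, hg⟩ := H11.CS.exists_conj (⊤ : Subgroup G) inferInstance hL (H11.cs_iff.1 hK)
      (fun p => by simp)
    refine ⟨H24.cj g C, H2.IsCarterSubgroup.conj hC g, ?_⟩
    rw [← funext hg, H11.sysNorm_cj]
    exact H24.cj_mono g h

end Cfsg.Agent.S0569
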