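import Cfsg.Statements.S0570
import Mathlib
import Cfsg.Agent.H11.SysNorm

set_option autoImplicit false
open Cfsg

namespace Cfsg.Agent.S0570

open H24 Subgroup

/-- Let G be a finite group with a nilpotent normal subgroup F such that G modulo F is nilpotent (nilpotent length at most two). Then a subgroup of G is a Carter subgroup if and only if it is the system normalizer of some Hall complement system. -/
theorem result {G : Type*} [Group G] [Finite G] (F : Subgroup G) [F.Normal] (hF : Group.IsNilpotent F) (hGF : Group.IsNilpotent (G ⧸ F)) (C : Subgroup G) : Cfsg.IsCarterSubgroup C ↔ ∃ K : Nat.Primes → Subgroup G, Cfsg.IsComplementSystem K ∧ C = Cfsg.systemNormalizer K := by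
  have : Group.IsSolvable G := H2.isSolvable_of_normal_quotient F inferInstance inferInstance
  have key : ∀ K : Nat.Primes → Subgroup G, H11.CS K →
      N[Cfsg.systemNormalizer K] ≤ Cfsg.systemNormalizer K := by
    intro K hK
    refine hK.norm_le inferInstance hF ?_
    rw [eq_top_iff]
    intro g _
    refine hK.mem_sup F fun p => ?_
    rw [← H2.comap_map_mk']
    exact H11.mem_N_comap _ (((nil_top_iff.2 hGF).hall_nml
      (hK.map (QuotientGroup.mk'_surjective F) p)).norm trivial)
  constructor
  · intro hC
    obtain ⟨K, hK, h⟩ := H11.exists_cs_le_carter hC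
    exact ⟨K, H11.cs_iff.2 hK, (Nil.eq_of_norm_le hC.1 h (inf_le_right.trans (key K hK))).symm⟩
  · rintro ⟨K, hK, rfl⟩
    exact ⟨(H11.cs_iff.1 hK).nil, le_antisymm (key K (H11.cs_iff.1 hK)) (norm_self _)⟩

end Cfsg.Agent.S0570
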