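import Cfsg.Statements.S0571
import Mathlib
import Cfsg.Agent.H11.KW2

set_option autoImplicit false
open Cfsg

namespace Cfsg.Agent.S0571

open H24 Subgroup

/-- If a finite group G is the product AB of two cyclic subgroups (every element is a product ab), then G is supersolvable. -/
theorem result {G : Type*} [Group G] [Finite G] (A B : Subgroup G) [IsCyclic A] [IsCyclic B] (hAB : ∀ g : G, ∃ a ∈ A, ∃ b ∈ B, g = a * b) : Cfsg.IsSupersolvable G := by
  refine (H11.SS.of_quotient fun N _ hN => ?_).isSupersolvable
  have : Nontrivial (G ⧸ N) := QuotientGroup.nontrivial_iff.2 hN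
  have hA : Cyc A := inferInstance
  have hB : Cyc B := inferInstance
  have hp := H11.IsProd.map' (H11.isProd_top_iff.2 hAB) (QuotientGroup.mk' N)
  rw [map_top_of_surjective _ (QuotientGroup.mk'_surjective N)] at hp
  obtain ⟨K, hK, h0, hor⟩ := H11.exists_normal_le (hA.map _).abl (hB.map _).abl hp
  have hc : Cyc K := hor.elim (hA.map _).of_le (hB.map _).of_le
  obtain ⟨g, rfl⟩ := cyc_iff.1 hc
  exact ⟨g, by simpa using h0, hK⟩

end Cfsg.Agent.S0571
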