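import Cfsg.Statements.S0574
import Mathlib
import Cfsg.Agent.H11.KW2

set_option autoImplicit false
open Cfsg

namespace Cfsg.Agent.S0574

open H24 Subgroup

/-- Let the finite group G be the product AB of an abelian subgroup A and a subgroup B of nilpotency class at most two, and let Ω be the number of prime factors, with multiplicity, of the order of the commutator subgroup of B. Then the term of index 2(1 + Ω) of the derived series of G is trivial. -/
theorem result {G : Type*} [Group G] [Finite G] (A B : Subgroup G) [IsMulCommutative A] (hB : commutator ↥B ≤ Subgroup.center ↥B) (hAB : ∀ g : G, ∃ a ∈ A, ∃ b ∈ B, g = a * b) : derivedSeries G (2 * (1 + (Nat.card ↥(commutator ↥B)).primeFactorsList.length)) = ⊥ := by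
  rw [← der_top]
  refine H11.der_eq_bot_of_class_two _ (A := A) (B := B) inferInstance ?_
    (H11.isProd_top_iff.2 hAB) ?_
  · rw [der1_eq_map]
    rintro _ ⟨x, hx, rfl⟩
    rw [mem_C]
    intro y hy
    exact congrArg Subtype.val (mem_center_iff.1 (hB hx) ⟨y, hy⟩)
  · rw [der1_eq_map, H2.card_map_subtype]

end Cfsg.Agent.S0574
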