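import Cfsg.Statements.S0577
import Mathlib
import Cfsg.Agent.H11.Schmidt

set_option autoImplicit false
open Cfsg

namespace Cfsg.Agent.S0577

open H24 H26 Subgroup

/-- Let G be a finite minimal non-nilpotent group and Q a normal Sylow q-subgroup of G, and let D be the commutator subgroup of Q regarded in G (a normal subgroup). Then G modulo D is non-abelian and all its proper subgroups are abelian. -/
theorem result {G : Type*} [Group G] [Finite G] (hG : Cfsg.IsMinimalNonNilpotent G) (q : ℕ) [Fact q.Prime] (hq : q ∣ Nat.card G) (Q : Sylow q G) (hQ : (Q : Subgroup G).Normal) (D : Subgroup G) [D.Normal] (hD : D = (commutator ↥(Q : Subgroup G)).map (Q : Subgroup G).subtype) : ¬ IsMulCommutative (G ⧸ D) ∧ ∀ K : Subgroup (G ⧸ D), K ≠ ⊤ → IsMulCommutative K := by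
  have hq' : q.Prime := Fact.out
  obtain ⟨p, r, x, R, hp, hr, hpr, hR, hx, hsd, hxR⟩ := H11.schmidt (M := (⊤ : Subgroup G))
    (fun h => hG.1 (H24.nil_top_iff.1 h)) (fun K hK => hG.2 K hK.ne)
  have hQs : Syl q ⊤ (Q : Subgroup G) := syl_top_of_sylow hq' Q
  have hQn : (Q : Subgroup G) ⊴ ⊤ := nml_top_iff.2 hQ
  have hprimes : ∀ s, s.Prime → s ∣ Nat.card G → s = r ∨ s = p := by
    intro s hs hd
    rw [← card_top, hsd.card] at hd
    rcases (Nat.Prime.dvd_mul hs).1 hd with h | h
    · exact Or.inl (hR.pi.mem hs h)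
    · exact Or.inr (hx.pi.mem hs h)
  have hqr : q = r := by
    refine (hprimes q hq' hq).resolve_right fun e => hxR ?_
    subst e
    have := hQs.eq_of_nml hQn.norm hx
    exact cents_of_coprime_nml (this ▸ hQn) hsd.nml (hx.pi.coprime_of_ne hR.pi hpr) (mem_zpowers x)
  subst hqr
  rw [← der1_eq_map] at hD
  constructor
  · intro hc
    apply hG.1
    apply H2.isNilpotent_of_commutator_le_frattini
    refine (Normal.quotient_commutative_iff_commutator_le.1 hc).trans ?_
    rw [hD, ← Phi_top]
    exact (hQs.pi.der1_le_Phi hq').trans hQn.Phi_le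
  · intro K hK
    set L := K.comap (QuotientGroup.mk' D) with hL
    have hLt : L ≠ ⊤ := by
      intro e; apply hK
      rw [← H2.map_comap_mk' D K, ← hL, e]
      exact map_top_of_surjective _ (QuotientGroup.mk'_surjective D)
    have hLn : Nil L := hG.2 L hLt
    have hdp := hLn.pcoreC {q}
    have hpi : IsPi {p} O[{q}ᶜ, L] := by
      intro s hs hd
      exact (hprimes s hs (hd.trans (card_subgroup_dvd_card _))).resolve_left
        ((pcore_pi _ _).mem hs hd)
    obtain ⟨g, -, hg⟩ := Sylow_subJ hp hx hpi le_top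
    have hab : Abl O[{q}ᶜ, L] := ((abl_zpowers x).cj g).of_le hg
    have hder : ⁅L, L⁆ ≤ D := by
      rw [hdp.cp.der1, der1_eq_bot.2 hab, sup_bot_eq, hD]
      exact der1_mono (hQs.le_of_nml hQn.norm (pcore_pi _ _) le_top)
    rw [← H2.map_comap_mk' D K, ← hL]
    change Abl _
    rw [← der1_eq_bot, ← map_commutator, H2.map_mk'_eq_bot_iff]
    exact hder

end Cfsg.Agent.S0577
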