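import Cfsg.Statements.S0578
import Mathlib
import Cfsg.Agent.H11.Schmidt

set_option autoImplicit false
open Cfsg

namespace Cfsg.Agent.S0578

open H24 H26 Subgroup

/-- If in a finite group the normalizer of each abelian subgroup coincides with its centralizer, then the group is abelian. -/
theorem result {G : Type*} [Group G] [Finite G] (h : ∀ A : Subgroup G, IsMulCommutative A → Subgroup.normalizer (A : Set G) = Subgroup.centralizer (A : Set G)) : IsMulCommutative G := by
  have key : ∀ M : Subgroup G, Abl M := by
    intro M
    induction M using subgroup_ind with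
    | h M ih =>
      by_cases hn : Nil M
      · by_cases hM : M = ⊥
        · exact hM ▸ abl_bot
        obtain ⟨L, -, hL⟩ := exists_covBy (bot_lt_iff_ne_bot.2 hM)
        exact H11.abl_of_covBy_of_cent hL
          ((hn.nml_of_covBy hL).norm.trans (h L (ih L hL.lt)).le)
      · obtain ⟨p, q, x, Q, -, hq, -, hQ, -, hsd, hx⟩ := H11.schmidt hn (fun K hK => (ih K hK).nil)
        have hlt : Q < M := lt_of_le_of_ne hQ.le fun e => hn (e ▸ hQ.pi.nil hq)
        exact absurd ((h Q (ih Q hlt)).le (hsd.norm (mem_zpowers x))) hx
  exact abl_top_iff.1 (key ⊤)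

end Cfsg.Agent.S0578
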