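import Cfsg.Statements.S0582
import Mathlib
import Cfsg.Agent.H11.Huppert

set_option autoImplicit false
open Pointwise
open Cfsg

namespace Cfsg.Agent.S0582

universe u

open Subgroup Pointwise in
theorem aux (n : ℕ) : ∀ {G : Type u} [Group G] [Finite G] (H K : Subgroup G), H11.SS H → H11.SS K →
    Nat.card H = n → Nat.card K = n → (Nat.card H).Coprime H.index →
    ∃ x : G, MulAut.conj x • H = K := by
  induction n using Nat.strong_induction_on with
  | _ n ih =>
    intro G _ _ H K hH hK hHn hKn hHall
    by_cases h1 : n = 1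
    · subst h1
      rw [card_eq_one.1 hHn, card_eq_one.1 hKn]
      exact ⟨1, by simp⟩
    have hn1 : 1 < n := by
      have : 0 < n := hHn ▸ Nat.card_pos
      omega
    obtain ⟨p, hp, hd, hmax⟩ := H11.exists_largest_prime hn1
    have := Fact.mk hp
    have key : ∀ L : Subgroup G, H11.SS L → Nat.card L = n →
        ∃ P : Sylow p G, (P : Subgroup G) ≤ L ∧ L ≤ normalizer ((P : Subgroup G) : Set G) := by
      intro L hL hLn
      obtain ⟨Q⟩ : Nonempty (Sylow p L) := inferInstance
      have hQn := hL.sylow_normal (by rw [hLn]; exact hmax) Q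
      have hLi : L.index = H.index := by
        have h1 := L.card_mul_index
        rw [← H.card_mul_index, hLn, hHn] at h1
        exact Nat.eq_of_mul_eq_mul_left (by omega) h1
      have hnd : ¬ p ∣ ((Q : Subgroup L).map L.subtype).index := by
        rw [index_map_subtype, hLi]
        intro hdd
        rcases (Nat.Prime.dvd_mul hp).1 hdd with h | h
        · exact Q.not_dvd_index h
        · exact hp.ne_one (Nat.eq_one_of_dvd_coprimes hHall (hHn ▸ hd) h)
      refine ⟨(Q.isPGroup'.map L.subtype).toSylow hnd, map_subtype_le _, ?_⟩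
      have := Q.characteristic_of_normal hQn
      exact H1.le_normalizer_map_subtype le_normalizer _
    obtain ⟨P, hPH, hHP⟩ := key H hH hHn
    obtain ⟨Q, hQK, hKQ⟩ := key K hK hKn
    obtain ⟨g, hg⟩ := MulAction.exists_smul_eq G P Q
    have hg' : MulAut.conj g • (P : Subgroup G) = Q := by rw [← hg]; rfl
    set H' := MulAut.conj g • H with hH'
    have hQH' : (Q : Subgroup G) ≤ H' := hg'.symm.le.trans (pointwise_smul_le_pointwise_smul_iff.2 hPH)
    have hH'Q : H' ≤ normalizer ((Q : Subgroup G) : Set G) := by
      refine (pointwise_smul_le_pointwise_smul_iff.2 hHP).trans ?_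
      rw [← H1.normalizer_conj_smul, hg']
    have hH'c : Nat.card H' = n := by rw [hH', H1.card_conj_smul, hHn]
    have hH'i : H'.index = H.index := by
      have h1 := H'.card_mul_index
      rw [← H.card_mul_index, hH'c, hHn] at h1
      exact Nat.eq_of_mul_eq_mul_left (by omega) h1
    have hH's : H11.SS H' := hH.map (MulAut.conj g).toMonoidHom
    set L := normalizer ((Q : Subgroup G) : Set G) with hL
    set Q' := (Q : Subgroup G).subgroupOf L with hQ'
    have hQ'n : Q'.Normal := normal_in_normalizer
    set f := QuotientGroup.mk' Q' with hf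
    have hQc : Nat.card Q' = Nat.card Q := H2.card_subgroupOf_of_le le_normalizer
    have hQ1 : 1 < Nat.card Q :=
      (one_lt_card_iff_ne_bot _).2 (Q.ne_bot_of_dvd_card ((hHn ▸ hd).trans (card_subgroup_dvd_card H)))
    have hcard : ∀ X : Subgroup G, X ≤ L → (Q : Subgroup G) ≤ X → Nat.card X = n →
        Nat.card Q * Nat.card ((X.subgroupOf L).map f) = n := by
      intro X hXL hQX hXn
      have := H2.card_map_mk'_mul Q' (X.subgroupOf L)
      rwa [inf_eq_left.2 (show Q' ≤ X.subgroupOf L from comap_mono hQX), hQc, H2.card_subgroupOf_of_le hXL, hXn] at this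
    have c1 := hcard H' hH'Q hQH' hH'c
    have c2 := hcard K hKQ hQK hKn
    have hss : ∀ X : Subgroup G, X ≤ L → H11.SS X → H11.SS ((X.subgroupOf L).map f) := by
      intro X hXL hX
      exact (hX.of_injective (subgroupOfEquivOfLe hXL).toMonoidHom
        (subgroupOfEquivOfLe hXL).injective).map f
    obtain ⟨x, hx⟩ := ih (Nat.card ((H'.subgroupOf L).map f))
      (by rw [← c1]; exact lt_mul_left Nat.card_pos hQ1) _ _ (hss H' hH'Q hH's) (hss K hKQ hK) rfl
      (Nat.eq_of_mul_eq_mul_left (by omega) (c2.trans c1.symm)) (by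
        have h1 : Nat.card ((H'.subgroupOf L).map f) ∣ Nat.card H := by
          rw [hHn]; exact Dvd.intro_left _ c1
        have h2 : ((H'.subgroupOf L).map f).index ∣ H.index := by
          refine (index_map_dvd _ (QuotientGroup.mk'_surjective _)).trans ?_
          rw [← hH'i]
          exact relIndex_dvd_index_of_le hH'Q
        exact (hHall.coprime_dvd_left h1).coprime_dvd_right h2)
    obtain ⟨y, rfl⟩ := QuotientGroup.mk'_surjective _ x
    refine ⟨y * g, ?_⟩
    rw [H1.conj_mul_smul, ← hH']
    refine eq_of_le_of_card_ge ?_ (by rw [H1.card_conj_smul, hH'c, hKn])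
    intro z hz
    rw [H1.mem_conj_smul] at hz
    have hzL : z ∈ L := by
      have := L.mul_mem (L.mul_mem y.2 (hH'Q hz)) (L.inv_mem y.2)
      simpa [mul_assoc] using this
    have h1 : f ⟨z, hzL⟩ ∈ (K.subgroupOf L).map f := by
      rw [← hx, H1.mem_conj_smul, ← map_inv, ← map_mul, ← map_mul]
      exact mem_map_of_mem f hz
    have h2 : (⟨z, hzL⟩ : L) ∈ ((K.subgroupOf L).map f).comap f := h1
    rw [H2.comap_map_mk', sup_eq_left.2 (show Q' ≤ K.subgroupOf L from comap_mono hQK)] at h2
    exact h2

/-- Let H and K be supersolvable subgroups of a finite group G of the same order, that order being coprime to their index. Then H and K are conjugate in G. -/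
theorem result {G : Type*} [Group G] [Finite G] (H K : Subgroup G) (hH : Cfsg.IsSupersolvable H) (hK : Cfsg.IsSupersolvable K) (hcard : Nat.card H = Nat.card K) (hHall : (Nat.card H).Coprime H.index) : ∃ x : G, MulAut.conj x • H = K := by
  exact aux _ H K (H11.SS.of_isSupersolvable hH) (H11.SS.of_isSupersolvable hK) rfl hcard.symm hHall

end Cfsg.Agent.S0582
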