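import Cfsg.Statements.S0585
import Mathlib
import Cfsg.Agent.H11.Basic

set_option autoImplicit false
open Cfsg

namespace Cfsg.Agent.S0585

/-- If the Frattini subgroup of a finite group G is trivial, then every abelian normal subgroup of G has a complement in G. -/
theorem result {G : Type*} [Group G] [Finite G] (hΦ : frattini G = ⊥) (A : Subgroup G) [A.Normal] [IsMulCommutative A] : ∃ H : Subgroup G, Subgroup.IsComplement' A H := by
  obtain ⟨H, hH, hmin⟩ := exists_minimal_of_wellFoundedLT (fun H : Subgroup G => A ⊔ H = ⊤)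
    ⟨⊤, sup_top_eq A⟩
  refine ⟨H, H11.isComplement'_of_normal ?_ hH⟩
  have hn : (A ⊓ H).Normal := H11.normal_of_sup_eq_top hH
    (H11.le_normalizer_of_le_centralizer H11.le_centralizer_self inf_le_left)
    (H1.le_normalizer_inf Subgroup.le_normalizer_of_normal Subgroup.le_normalizer)
  rw [eq_bot_iff, ← hΦ]
  apply H2.le_frattini_of_normal_of_le_map_frattini (H := H)
  rw [← Subgroup.map_subgroupOf_eq_of_le (inf_le_right : A ⊓ H ≤ H)]
  apply Subgroup.map_mono
  rw [H2.le_frattini_iff]
  intro M hM
  by_contra hle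
  have h1 := H11.sup_eq_top_of_coatom hM hle
  have h2 : (A ⊓ H) ⊔ M.map H.subtype = H := by
    have := congrArg (Subgroup.map H.subtype) h1
    rwa [Subgroup.map_sup, Subgroup.map_subgroupOf_eq_of_le inf_le_right,
      ← MonoidHom.range_eq_map, Subgroup.range_subtype] at this
  have h3 : A ⊔ M.map H.subtype = ⊤ := by
    rw [eq_top_iff, ← hH]
    refine sup_le le_sup_left (h2.symm.le.trans (sup_le_sup_right inf_le_left _))
  have h4 := hmin h3 (Subgroup.map_subtype_le M)
  apply hM.1
  rw [eq_top_iff]
  intro x _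
  obtain ⟨y, hy, e⟩ := h4 x.2
  rwa [← Subtype.ext (p := fun g => g ∈ H) e]

end Cfsg.Agent.S0585
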