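import Cfsg.Statements.S0586
import Mathlib
import Cfsg.Agent.H11.Basic
import Cfsg.Agent.S0585

set_option autoImplicit false
open Cfsg

namespace Cfsg.Agent.S0586

/-- If the Frattini subgroup of a finite group G is trivial, then the Fitting subgroup of G equals the join of all abelian minimal normal subgroups of G. -/
theorem result {G : Type*} [Group G] [Finite G] (hΦ : frattini G = ⊥) : Cfsg.fittingSubgroup G = sSup {N : Subgroup G | N.Normal ∧ N ≠ ⊥ ∧ IsMulCommutative N ∧ ∀ K : Subgroup G, K.Normal → K ≤ N → K = ⊥ ∨ K = N} := by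
  apply le_antisymm
  · have key : ∀ N : Subgroup G, N.Normal → IsMulCommutative N → N ≤ sSup {N : Subgroup G |
        N.Normal ∧ N ≠ ⊥ ∧ IsMulCommutative N ∧
          ∀ K : Subgroup G, K.Normal → K ≤ N → K = ⊥ ∨ K = N} := by
      intro N
      induction N using WellFoundedLT.induction with
      | ind N ih =>
        intro hN hc
        by_cases h0 : N = ⊥
        · rw [h0]; exact bot_le
        obtain ⟨M, hM, hMN⟩ := H2.exists_isMinNormal_le hN h0
        have := hM.1
        have hMc := H2.isMulCommutative_of_le hc hMN
        obtain ⟨H, hH⟩ := Cfsg.Agent.S0585.result hΦ M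
        rw [H11.eq_sup_inf_of_sup_eq_top hH.sup_eq_top hMN]
        refine sup_le (le_sSup ⟨hM.1, hM.2.1, hMc, hM.2.2⟩) (ih _ ?_ ?_ ?_)
        · refine lt_of_le_of_ne inf_le_right fun h => hM.2.1 ?_
          exact hH.disjoint.eq_bot_of_le (hMN.trans (inf_eq_right.1 h))
        · exact H11.normal_of_sup_eq_top hH.sup_eq_top
            (H11.le_normalizer_of_le_centralizer (hMN.trans H11.le_centralizer_self) inf_le_right)
            (H1.le_normalizer_inf Subgroup.le_normalizer Subgroup.le_normalizer_of_normal)
        · exact H2.isMulCommutative_of_le hc inf_le_right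
    refine key _ inferInstance ?_
    rw [← commutator_eq_bot_iff, eq_bot_iff]
    refine H2.commutator_le_frattini.trans ?_
    have := H2.map_subtype_frattini_le (Cfsg.fittingSubgroup G)
    rw [hΦ, le_bot_iff, Subgroup.map_eq_bot_iff_of_injective _ (Subgroup.subtype_injective _)] at this
    exact this.le
  · refine sSup_le fun N hN => ?_
    have := hN.2.2.1
    exact H2.le_fitting_of_isMulCommutative hN.1

end Cfsg.Agent.S0586
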