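import Cfsg.Statements.S0587
import Mathlib
import Cfsg.Agent.H11.Basic

set_option autoImplicit false
open Cfsg

namespace Cfsg.Agent.S0587

/-- Let G be a finite group whose largest normal p-subgroup L is nontrivial, and M a maximal subgroup of G with trivial normal core. Then L is elementary abelian, M is a complement to L, L is a minimal normal subgroup of G, the centralizer of L is L, and for every prime q such that the largest normal q-subgroup of M is nontrivial, the order of L is congruent to 1 modulo q and q ≠ p. -/
theorem result {G : Type*} [Group G] [Finite G] (p : ℕ) [Fact p.Prime] (hL : Cfsg.pCore p G ≠ ⊥) (M : Subgroup G) (hM : IsCoatom M) (hcore : M.normalCore = ⊥) : Cfsg.IsElementaryAbelian p (Cfsg.pCore p G) ∧ Subgroup.IsComplement' (Cfsg.pCore p G) M ∧ (∀ K : Subgroup G, K.Normal → K ≤ Cfsg.pCore p G → K = ⊥ ∨ K = Cfsg.pCore p G) ∧ Subgroup.centralizer ((Cfsg.pCore p G : Subgroup G) : Set G) = Cfsg.pCore p G ∧ ∀ (q : ℕ) [Fact q.Prime], Cfsg.pCore q ↥M ≠ ⊥ → Nat.card (Cfsg.pCore p G) % q = 1 % q ∧ q ≠ p := by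
  set L := Cfsg.pCore p G with hLdef
  have hLp : IsPGroup p L := H2.pCore_isPGroup p G
  have hLn : L.Normal := inferInstance
  have hV := H2.inf_centralizer_ne_bot_of_isPGroup hLp hLp Subgroup.le_normalizer hL
  have hVn : (L ⊓ Subgroup.centralizer (L : Set G)).Normal := inferInstance
  have hVc : IsMulCommutative ↥(L ⊓ Subgroup.centralizer (L : Set G)) :=
    H11.isMulCommutative_of_comm fun a ha b hb => hb.2 a ha.1
  obtain ⟨h1, -, -, -⟩ := H11.abelian_normal_of_corefree hM hcore hV
  have hLc : IsMulCommutative L := by
    apply H11.isMulCommutative_of_le_centralizer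
    refine le_trans ?_ (h1.le.trans inf_le_right)
    exact Subgroup.le_centralizer_iff.1 inf_le_right
  obtain ⟨h1, h2, h3, h4⟩ := H11.abelian_normal_of_corefree hM hcore hL
  have hpL : p ∣ Nat.card L := (hLp.card_eq_or_dvd).resolve_left fun h =>
    hL (Subgroup.card_eq_one.1 h)
  refine ⟨⟨hLc, ?_⟩, H11.isComplement'_of_normal h2 h3, h4.2.2, h1, ?_⟩
  · rcases h4.2.2 (H2.powKer L p) (H2.powKer_normal L p) (H2.powKer_le L p) with h | h
    · obtain ⟨x, hx, hx'⟩ := H2.exists_mem_orderOf_eq_prime (Fact.out : p.Prime) hpL
      have : x ∈ H2.powKer L p := H2.mem_powKer.2 ⟨hx, hx' ▸ pow_orderOf_eq_one x⟩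
      rw [h, Subgroup.mem_bot] at this
      rw [this, orderOf_one] at hx'
      exact absurd hx'.symm (Fact.out : p.Prime).ne_one
    · intro a ha
      exact (H2.mem_powKer.1 (h.symm ▸ ha : a ∈ H2.powKer L p)).2
  · intro q _ hq
    set Q := (Cfsg.pCore q M).map M.subtype with hQ
    have hQq : IsPGroup q Q := (H2.pCore_isPGroup q M).map _
    have hQM : Q ≤ M := Subgroup.map_subtype_le _
    have hQ0 : Q ≠ ⊥ := fun h => hq ((Subgroup.map_eq_bot_iff_of_injective _ M.subtype_injective).1 h)
    have hMQ : M ≤ Subgroup.normalizer (Q : Set G) :=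
      H1.le_normalizer_map_subtype Subgroup.le_normalizer _
    have hC : L ⊓ Subgroup.centralizer (Q : Set G) = ⊥ := by
      refine (h4.2.2 _ ?_ inf_le_left).resolve_right fun h => hQ0 ?_
      · exact H11.normal_of_sup_eq_top h3
          (H11.le_normalizer_of_le_centralizer H11.le_centralizer_self inf_le_left)
          (H1.le_normalizer_inf Subgroup.le_normalizer_of_normal (H1.le_normalizer_centralizer hMQ))
      · rw [eq_bot_iff, ← h2]
        refine le_inf ?_ hQM
        rw [← h1]
        exact Subgroup.le_centralizer_iff.1 (inf_eq_left.1 h)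
    have hmod : Nat.card L % q = 1 % q := by
      letI : MulAction Q L := MulAction.compHom L
        ((MulAut.conjNormal : G →* MulAut L).comp Q.subtype)
      have := hQq.card_modEq_card_fixedPoints L
      have e : MulAction.fixedPoints Q L = {1} := by
        ext x
        simp only [MulAction.mem_fixedPoints, Set.mem_singleton_iff]
        constructor
        · intro hx
          have : (x : G) ∈ L ⊓ Subgroup.centralizer (Q : Set G) := by
            refine ⟨x.2, fun y hy => ?_⟩
            have := congrArg Subtype.val (hx ⟨y, hy⟩)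
            change y * x * y⁻¹ = x at this
            rw [mul_inv_eq_iff_eq_mul] at this
            exact this
          rw [hC, Subgroup.mem_bot] at this
          exact Subtype.ext this
        · rintro rfl y
          exact map_one ((MulAut.conjNormal : G →* MulAut L) y)
      rw [e, Nat.card_unique (α := ({1} : Set L))] at this
      exact this
    refine ⟨hmod, ?_⟩
    rintro rfl
    have h1 : 1 < q := (Fact.out : q.Prime).one_lt
    rw [Nat.mod_eq_of_lt h1, Nat.mod_eq_zero_of_dvd hpL] at hmod
    exact zero_ne_one hmod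

end Cfsg.Agent.S0587
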