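import Cfsg.Statements.S0588
import Mathlib
import Cfsg.Agent.H2.MinNormal

set_option autoImplicit false
open Cfsg

namespace Cfsg.Agent.S0588

/-- If a subgroup H of a finite group G contains the centralizer of every non-identity element of H, then the order of H is coprime to its index. -/
theorem result {G : Type*} [Group G] [Finite G] (H : Subgroup G) (h : ∀ x ∈ H, x ≠ 1 → Subgroup.centralizer ({x} : Set G) ≤ H) : (Nat.card H).Coprime H.index := by
  by_contra hc
  obtain ⟨p, hp, h1, h2⟩ := Nat.Prime.not_coprime_iff_dvd.1 hc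
  haveI := Fact.mk hp
  obtain ⟨x, hxH, hx⟩ := H2.exists_mem_orderOf_eq_prime hp h1
  have hx1 : x ≠ 1 := by
    rintro rfl
    rw [orderOf_one] at hx
    exact hp.one_lt.ne hx
  have hP : IsPGroup p (Subgroup.zpowers x) := IsPGroup.of_card (n := 1) (by
    rw [Nat.card_zpowers, hx, pow_one])
  obtain ⟨S, hS⟩ := hP.exists_le_sylow
  have hxS : x ∈ (S : Subgroup G) := hS (Subgroup.mem_zpowers x)
  have hS0 : (S : Subgroup G) ≠ ⊥ := fun h0 => hx1 (by rwa [h0, Subgroup.mem_bot] at hxS)
  have := H2.inf_centralizer_ne_bot_of_isPGroup S.isPGroup' S.isPGroup' Subgroup.le_normalizer hS0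
  obtain ⟨⟨z, hz⟩, hz1⟩ := (Subgroup.ne_bot_iff_exists_ne_one).1 this
  have hz1' : z ≠ 1 := fun h => hz1 (Subtype.ext h)
  have hzH : z ∈ H := h x hxH hx1 (Subgroup.mem_centralizer_singleton_iff.2 (hz.2 x hxS).symm)
  have hSH : (S : Subgroup G) ≤ H := fun s hs =>
    h z hzH hz1' (Subgroup.mem_centralizer_singleton_iff.2 (hz.2 s hs))
  exact S.not_dvd_index (h2.trans (Subgroup.index_dvd_of_le hSH))

end Cfsg.Agent.S0588
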