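import Cfsg.Statements.S0589
import Mathlib
import Cfsg.Agent.H2.Frobenius
import Cfsg.Agent.H24.Base5

set_option autoImplicit false
open Pointwise
open Cfsg

namespace Cfsg.Agent.S0589

open H24 Subgroup

/-- Let H be a Frobenius complement in a finite group G and L a subgroup of G whose order divides the order of H. Then L is contained in some conjugate of H. -/
theorem result {G : Type*} [Group G] [Finite G] (H : Subgroup G) (hH : Cfsg.IsFrobeniusComplement H) (L : Subgroup G) (hL : Nat.card L ∣ Nat.card H) : ∃ x : G, L ≤ MulAut.conj x • H := by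
  have hM := H2.IsFrobeniusComplement.malnormal hH
  apply hM.exists_le_conj_of_inter_kernel
  intro x hx hk
  by_contra hx1
  obtain ⟨y, hy, hp⟩ := H2.exists_mem_prime_orderOf (H := zpowers x) (by simpa using hx1)
  have hd : orderOf y ∣ Nat.card H := (orderOf_dvd_card' (zpowers_le.2 hx hy)).trans hL
  have hHall : IsHall ⊤ H := ⟨le_top, by rw [relIndex_top_right]; exact hM.coprime_card_index⟩
  obtain ⟨P, hP⟩ := Sylow_exists hp H
  obtain ⟨g, -, hg⟩ := Sylow_Jsub hp (hHall.syl hP hp hd) (piElt_of_orderOf_prime hp rfl).isPi le_top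
  have h1 : g * y * g⁻¹ ∈ H := hP.le (hg (conj_mem_cj g (mem_zpowers y)))
  have h2 : g * x * g⁻¹ ∈ H := by
    apply hM.centralizer_le h1 (by simpa using ne_one_of_orderOf_prime hp)
    rw [← cj_C1]
    exact conj_mem_cj g (C1_le_C1_of_mem_zpowers hy (self_mem_C1 x))
  rcases H2.mem_frobeniusKernel.1 hk with e | e
  · exact hx1 e
  · exact e g⁻¹ (by simpa using h2)

end Cfsg.Agent.S0589
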