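import Cfsg.Statements.S0592
import Mathlib
import Cfsg.Agent.H12.QuadLinear

set_option autoImplicit false
open Cfsg

namespace Cfsg.Agent.S0592

/-- Two quadratically acting generators of a linear group that is not a p-group, with the p'-part of the order of their product dividing q - 1, give a homomorphism onto a subgroup of SL(2, q) that is not a p-group. -/
theorem result {K : Type*} [Field K] [Fintype K] {p : ℕ} [Fact p.Prime] [CharP K p] {W : Type*} [AddCommGroup W] [Module K W] [FiniteDimensional K W] [Finite W] [Nontrivial W] (H : Subgroup (W ≃ₗ[K] W)) (a b : W ≃ₗ[K] W) (hH : H = Subgroup.closure {a, b}) (ha : ∀ w : W, a (a w - w) = a w - w) (hb : ∀ w : W, b (b w - w) = b w - w) (hnp : ¬ IsPGroup p H) (hk : ∃ e k : ℕ, orderOf (a * b) = p ^ e * k ∧ k ∣ Fintype.card K - 1) : ∃ φ : H →* Matrix.SpecialLinearGroup (Fin 2) K, ¬ IsPGroup p φ.range := by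
  classical
  obtain ⟨e, k, hek, hkd⟩ := hk
  have haH : a ∈ H := hH ▸ Subgroup.subset_closure (by simp)
  have hbH : b ∈ H := hH ▸ Subgroup.subset_closure (by simp)
  let ρ : Representation K H W := (LinearEquiv.automorphismGroup.toLinearMapMonoidHom).comp H.subtype
  have hρ : ∀ (h : H) (w : W), ρ h w = (h : W ≃ₗ[K] W) w := fun _ _ => rfl
  have hgen : Subgroup.closure {(⟨a, haH⟩ : H), ⟨b, hbH⟩} = ⊤ := by
    apply Subgroup.map_injective H.subtype_injective
    rw [MonoidHom.map_closure, ← MonoidHom.range_eq_map, Subgroup.range_subtype]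
    conv_rhs => rw [hH]
    congr 1
    simp [Set.image_pair]
  have hq1 : 0 < Fintype.card K - 1 := Nat.sub_pos_of_lt Fintype.one_lt_card
  have hk0 : k ≠ 0 := by rintro rfl; simp at hkd; omega
  have hsp : ((Polynomial.X : Polynomial K) ^ k - 1).Splits := by
    have h1 : ((Polynomial.X : Polynomial K) ^ Fintype.card K - Polynomial.X).Splits := by
      simpa using Polynomial.splits_X_pow_nat_card_sub_X (K := K)
    refine h1.of_dvd (FiniteField.X_pow_card_sub_X_ne_zero K Fintype.one_lt_card) ?_
    obtain ⟨m, hm⟩ := hkd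
    have : (Polynomial.X : Polynomial K) ^ Fintype.card K - Polynomial.X =
        Polynomial.X * ((Polynomial.X ^ k) ^ m - 1 ^ m) := by
      rw [← pow_mul, ← hm, one_pow, mul_sub, ← pow_succ', Nat.sub_add_cancel Fintype.card_pos,
        mul_one]
    rw [this]
    exact Dvd.dvd.mul_left (sub_dvd_pow_sub_pow _ _ _) _
  obtain ⟨φ, h1, -⟩ := H12.exists_sl_two_of_quadratic_pair (p := p) hgen
    (q := ((Polynomial.X : Polynomial K) ^ k - 1) ^ p ^ e)
    (pow_ne_zero _ (by simpa using Polynomial.X_pow_sub_C_ne_zero (Nat.pos_of_ne_zero hk0) (1 : K)))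
    (hsp.pow _) _ W ρ rfl (by ext w; simp [hρ, ← map_sub, ha]) (by ext w; simp [hρ, ← map_sub, hb])
    (by
      rw [sub_pow_char_pow, one_pow, ← pow_mul, map_sub, map_pow, Polynomial.aeval_X, map_one,
        ← map_pow, sub_eq_zero]
      have : ((⟨a, haH⟩ : H) * ⟨b, hbH⟩) ^ (k * p ^ e) = 1 := by
        ext1
        show (a * b) ^ (k * p ^ e) = 1
        rw [mul_comm k, ← hek, pow_orderOf_eq_one]
      rw [this, map_one])
    (by
      by_contra hcon
      push Not at hcon
      apply hnp
      intro h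
      obtain ⟨k, hk⟩ := hcon h
      refine ⟨k, ?_⟩
      rw [← map_pow] at hk
      ext w
      rw [← hρ, hk]; rfl)
  exact ⟨φ, h1⟩

end Cfsg.Agent.S0592
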