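import Cfsg.Statements.S0594
import Mathlib
import Cfsg.Agent.H12.PStable

set_option autoImplicit false
open Cfsg

namespace Cfsg.Agent.S0594

/-- For odd p, two quadratic generators of a faithful group that is not a p-group, one of which acts nontrivially on a normal subgroup of order prime to p, force p = 3 and a section isomorphic to SL(2,3). -/
theorem result {G : Type*} [Group G] [Finite G] {p : ℕ} [Fact p.Prime] (hp : p ≠ 2) (V H : Subgroup G) (hV : Cfsg.IsElementaryAbelian p V) (hHV : H ≤ Subgroup.normalizer (V : Set G)) (hf : H ⊓ Subgroup.centralizer (V : Set G) = ⊥) (a b : G) (hab : H = Subgroup.closure {a, b}) (ha : ⁅⁅V, Subgroup.zpowers a⁆, Subgroup.zpowers a⁆ = ⊥) (hb : ⁅⁅V, Subgroup.zpowers b⁆, Subgroup.zpowers b⁆ = ⊥) (hnp : ¬ IsPGroup p H) (Q : Subgroup G) (hQH : Q ≤ H) (hQn : H ≤ Subgroup.normalizer (Q : Set G)) (hQ : (Nat.card Q).Coprime p) (hQa : ⁅Q, Subgroup.zpowers a⁆ ≠ ⊥) : p = 3 ∧ ∃ (K L : Subgroup G) (hL : (L.subgroupOf K).Normal), K ≤ H ∧ Nonempty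 ((K ⧸ L.subgroupOf K) ≃* Matrix.SpecialLinearGroup (Fin 2) (ZMod 3)) := by
  have haH : a ∈ H := hab ▸ Subgroup.subset_closure (by simp)
  have hap : a ^ p = 1 := by
    have : a ^ p ∈ H ⊓ Subgroup.centralizer (V : Set G) :=
      ⟨H.pow_mem haH p,
        H12.pow_mem_centralizer_of_quadratic hV.2 (hHV haH) (Subgroup.mem_zpowers a) ha⟩
    rwa [hf] at this
  obtain ⟨x, hx, hxa⟩ : ∃ x ∈ Q, x * a ≠ a * x := by
    by_contra hcon
    push Not at hcon
    apply hQa
    rw [Subgroup.commutator_eq_bot_iff_le_centralizer, H12.centralizer_zpowers]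
    exact fun x hx => Subgroup.mem_centralizer_singleton_iff.mpr (hcon x hx)
  have haQ : a ∈ Subgroup.normalizer (Q : Set G) := hQn haH
  have hle : Subgroup.closure {a, x * a * x⁻¹} ≤ Subgroup.zpowers a ⊔ Q := by
    rw [Subgroup.closure_le]
    rintro y (rfl | rfl)
    · exact Subgroup.mem_sup_left (Subgroup.mem_zpowers _)
    · exact Subgroup.mul_mem _ (Subgroup.mul_mem _ (Subgroup.mem_sup_right hx)
        (Subgroup.mem_sup_left (Subgroup.mem_zpowers _))) (Subgroup.mem_sup_right (Q.inv_mem hx))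
  have hle' : Subgroup.zpowers a ⊔ Q ≤ H := sup_le (Subgroup.zpowers_le.mpr haH) hQH
  have hq : H12.QuadInvolved p (Subgroup.closure ({a, x * a * x⁻¹} : Set G)) := by
    refine H12.quadInvolved_of_pair hV (hle.trans (hle'.trans hHV)) ?_ ha ?_ ?_
    · rw [eq_bot_iff, ← hf]
      exact inf_le_inf_right _ (hle.trans hle')
    · have hxV : V.map (MulAut.conj x).toMonoidHom = V :=
        H1.conj_smul_eq_iff_mem_normalizer.mpr (hHV (hQH hx))
      have := congrArg (Subgroup.map (MulAut.conj x).toMonoidHom) ha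
      rw [Subgroup.map_commutator, Subgroup.map_commutator, hxV, MonoidHom.map_zpowers,
        Subgroup.map_bot] at this
      exact this
    · intro hP
      have h1 : a * (x * a * x⁻¹)⁻¹ ∈ Subgroup.closure ({a, x * a * x⁻¹} : Set G) :=
        Subgroup.mul_mem _ (Subgroup.subset_closure (by simp))
          (Subgroup.inv_mem _ (Subgroup.subset_closure (by simp)))
      have h2 : a * (x * a * x⁻¹)⁻¹ ∈ Q := by
        have : a * (x * a * x⁻¹)⁻¹ = a * x * a⁻¹ * x⁻¹ := by group
        rw [this]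
        exact Q.mul_mem ((Subgroup.mem_normalizer_iff.mp haQ x).mp hx) (Q.inv_mem hx)
      have h3 := H3.eq_one_of_mem_of_coprime hP h1 (H3.orderOf_coprime_of_mem hQ h2)
      apply hxa
      rw [mul_inv_eq_one] at h3
      conv_rhs => rw [h3]
      group
  have hs : H12.PSep p (Subgroup.zpowers a ⊔ Q : Subgroup G) := by
    have hn : (Q.subgroupOf (Subgroup.zpowers a ⊔ Q)).Normal :=
      Subgroup.normal_subgroupOf_sup_of_le_normalizer (Subgroup.zpowers_le.mpr haQ)
    refine H12.PSep.of_normal_quotient (Q.subgroupOf _) (H12.pSep_of_coprime ?_)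
      (H12.pSep_of_isPGroup ?_)
    · rwa [H2.card_subgroupOf_of_le le_sup_right]
    · rw [isPGroup_iff_card_dvd_pow]
      refine ⟨1, ?_⟩
      change Q.relIndex (Subgroup.zpowers a ⊔ Q) ∣ _
      rw [H2.relIndex_sup_of_le_normalizer (Subgroup.zpowers_le.mpr haQ), pow_one]
      refine (Subgroup.relIndex_dvd_card _ _).trans ?_
      rw [Nat.card_zpowers]
      exact orderOf_dvd_of_pow_eq_one hap
  obtain ⟨h1, h2⟩ := (hq.of_involves ((H12.involves_self _).of_le hle)).three_of_pSep hp hs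
  exact ⟨h1, (h2.of_le hle').exists_section_le⟩

end Cfsg.Agent.S0594
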