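import Cfsg.Statements.S0633
import Cfsg.Agent.H1.HH3
import Cfsg.Agent.H13.PSolvable

set_option autoImplicit false
open Cfsg

namespace Cfsg.Agent.S0633

/-- Theorem B of Hall and Higman on the minimal polynomial of a p-element of order p^n in a p-solvable linear group on a nonzero vector space in characteristic p with no nontrivial normal p-subgroup: its degree is p^n, except when some p^n₀ - 1 (n₀ ≤ n) is a power of a prime q for which the Sylow q-subgroups are non-abelian, in which case the degree is at least p^(n-n₀)(p^n₀ - 1). -/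
theorem result {F : Type*} [Field F] {p : ℕ} [Fact p.Prime] [CharP F p] {V : Type*} [AddCommGroup V] [Module F V] [FiniteDimensional F V] [Nontrivial V] (H : Subgroup (V ≃ₗ[F] V)) [Finite H] (hsol : Cfsg.IsPSolvable p H) (hOp : Cfsg.pCore p H = ⊥) (x : V ≃ₗ[F] V) (hx : x ∈ H) (n : ℕ) (hn : orderOf x = p ^ n) (r : ℕ) (hr : minpoly F (x : Module.End F V) = (Polynomial.X - 1) ^ r) : r = p ^ n ∨ ∃ n₀ q m : ℕ, 1 ≤ n₀ ∧ n₀ ≤ n ∧ q.Prime ∧ 1 ≤ m ∧ p ^ n₀ - 1 = q ^ m ∧ (∀ Q : Sylow q H, ¬ IsMulCommutative Q) ∧ p ^ (n - n₀) * (p ^ n₀ - 1) ≤ r := by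
  classical
  have hp : p.Prime := Fact.out
  have hdvd : ∀ j, ((x : Module.End F V) - 1) ^ j = 0 ↔ r ≤ j := fun j => by
    constructor
    · intro h
      have h1 : minpoly F (x : Module.End F V) ∣ (Polynomial.X - 1) ^ j :=
        minpoly.dvd _ _ (by simpa using h)
      rw [hr] at h1
      have h2 := Polynomial.natDegree_le_of_dvd h1 (pow_ne_zero _ (Polynomial.X_sub_C_ne_zero 1))
      have h3 : (Polynomial.X - 1 : Polynomial F).natDegree = 1 := Polynomial.natDegree_X_sub_C 1
      simpa [Polynomial.natDegree_pow, h3] using h2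
    · intro h
      have h1 := minpoly.aeval F (x : Module.End F V)
      rw [hr] at h1
      exact pow_eq_zero_of_le h (by simpa using h1)
  let π : H →* Module.End F V := (LinearEquiv.automorphismGroup.toLinearMapMonoidHom).comp H.subtype
  have hπ : Function.Injective π := fun a b e => Subtype.ext (LinearEquiv.toLinearMap_injective e)
  let y : H := ⟨x, hx⟩
  have hy : orderOf y = p ^ n := by rw [← hn, Subgroup.orderOf_mk]
  have hyp : y ^ p ^ n = 1 := by rw [← hy, pow_orderOf_eq_one]
  have hxy : π y = (x : Module.End F V) := rfl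
  have h1 : r ≤ p ^ n := (hdvd _).1 (by
    rw [(H1.HH.sub_one_pow hp _ n).1, ← hxy, ← map_pow, hyp, map_one, sub_self])
  refine or_iff_not_imp_left.2 fun h2 => ?_
  have h3 := (hdvd (p ^ n - 1)).2 (by omega)
  obtain rfl | hn0 := Nat.eq_zero_or_pos n
  · simp at h3
  let K := Cfsg.pPrimeCore p H
  have hK : (Nat.card K).Coprime p := by
    have := H13.coprime_card_ker_mk'_pPrimeCore (G := H) p
    rwa [QuotientGroup.ker_mk'] at this
  have hK' : ¬ p ∣ Nat.card K := (Nat.Prime.coprime_iff_not_dvd hp).1 hK.symm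
  have e1 : p ^ (n - 1) * p = p ^ n := by rw [← pow_succ]; congr 1; omega
  obtain ⟨Q, _, _, ι, τ, q, hι, hτ, hτ1, hc⟩ := H1.HH.exists_crit (n := n) (m := p ^ (n - 1)) hp _ K
    rfl hK' (MulAut.conjNormal y) (by rw [← map_pow, hyp, map_one])
    (by rw [← pow_mul, e1, ← map_pow, hyp, map_one]) (fun e => by
      have h4 : y ^ p ^ (n - 1) ∈ K := H13.centralizer_pPrimeCore_le_of_isPSolvable hsol hOp
        fun g hg => by
          have := congrArg Subtype.val (MulEquiv.congr_fun e ⟨g, hg⟩)
          rw [← map_pow, MulAut.conjNormal_apply, mul_inv_eq_iff_eq_mul] at this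
          exact this.symm
      have h5 : orderOf (y ^ p ^ (n - 1)) = p := by
        rw [orderOf_pow_of_dvd (pow_pos hp.pos _).ne' (hy ▸ pow_dvd_pow p (by omega)), hy, ← e1,
          Nat.mul_div_cancel_left _ (pow_pos hp.pos _)]
      exact hK' (h5 ▸ K.orderOf_dvd_natCard h4))
  have := Fintype.ofFinite Q
  have := Fact.mk hc.prime
  let k := AlgebraicClosure F
  let β := Module.End.baseChangeHom F k V
  have hβ : Function.Injective β := fun a b e =>
    LinearMap.baseChangeHom_injective (R := F) (S := k) (M := V) (N := V) e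
  have hβ1 : ∀ i : ℕ, (β (π y) - 1) ^ i = β (((x : Module.End F V) - 1) ^ i) := fun i => by
    rw [map_pow, map_sub, map_one, hxy]
  let j : Q →* H := K.subtype.comp ι
  have hj : Function.Injective j := K.subtype_injective.comp hι
  have hnt : ∃ g : Q, g ≠ 1 := by
    by_contra! h
    exact hc.ne (MulEquiv.ext fun g => (h _).trans (h _).symm)
  obtain ⟨n₀, m, a1, a2, a3, a4, a5, a6⟩ := H1.HH.rep_main (n := n) (q := q) hp
    ((β : _ →* _).comp (π.comp j))
    (hnt.imp fun g hg e => hg (hj (hπ (hβ (by rw [map_one, map_one, map_one]; exact e)))))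
    (fun e => hK' (((CharP.cast_eq_zero_iff k p _).1 e).trans (Subgroup.card_dvd_of_injective ι hι)))
    (X := β (π y)) τ (fun g => by
      show β (π (j (τ g))) * _ = _ * β (π (j g))
      rw [← map_mul, ← map_mul, ← map_mul, ← map_mul]
      congr 2
      show ((ι (τ g) : K) : H) * y = y * (ι g : K)
      rw [hτ, MulAut.conjNormal_apply, inv_mul_cancel_right])
    (by rw [← map_pow, ← map_pow, hyp, map_one, map_one]) hτ1 hc
    (by rw [hβ1, h3, map_zero])
  refine ⟨n₀, q, m, a1, a2, hc.prime, a3, a4, fun S hS => a5 ?_, ?_⟩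
  · obtain ⟨T, hT⟩ := (hc.pg.of_equiv (MonoidHom.ofInjective hj)).exists_le_sylow
    obtain ⟨g, rfl⟩ := MulAction.exists_smul_eq H S T
    refine ⟨⟨fun a b => hj ?_⟩⟩
    have h4 : ∀ c, g⁻¹ * j c * g ∈ (S : Subgroup H) := fun c => by
      have := hT ⟨c, rfl⟩
      rw [Sylow.smul_def, Sylow.pointwise_smul_def, Subgroup.mem_pointwise_smul_iff_inv_smul_mem]
        at this
      simpa using this
    have := congrArg Subtype.val (hS.is_comm.comm ⟨_, h4 a⟩ ⟨_, h4 b⟩)
    simp only [← mul_assoc, Subgroup.coe_mul, mul_left_inj, mul_inv_cancel_right] at this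
    simpa [mul_assoc] using this
  · by_contra h4
    refine a6 ?_
    rw [hβ1, (hdvd _).2 (by omega), map_zero]

end Cfsg.Agent.S0633
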