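import Mathlib
import Cfsg.Statements.S0647
import Cfsg.Agent.H13.Thompson
-- import your own Cfsg.Agent.* helpers here

set_option autoImplicit false
open Cfsg

namespace Cfsg.Agent.S0647

/-- For a nonempty family of maximal abelian subgroups of a finite group, the intersection of the family is the centre of the subgroup it generates, which is also the full centralizer of that subgroup. -/
theorem result {S : Type*} [Group S] [Finite S] (𝒜 : Set (Subgroup S)) (hne : 𝒜.Nonempty) (hab : ∀ A ∈ 𝒜, IsMulCommutative A) (hmax : ∀ A ∈ 𝒜, ∀ B : Subgroup S, IsMulCommutative B → A ≤ B → B = A) : sInf 𝒜 = sSup 𝒜 ⊓ Subgroup.centralizer ((sSup 𝒜 : Subgroup S) : Set S) ∧ sInf 𝒜 = Subgroup.centralizer ((sSup 𝒜 : Subgroup S) : Set S) := by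
  have key : sInf 𝒜 = Subgroup.centralizer ((sSup 𝒜 : Subgroup S) : Set S) := by
    apply le_antisymm
    · rw [Subgroup.le_centralizer_iff, sSup_le_iff]
      intro A hA x hx y hy
      exact H13.isMulCommutative_iff_forall_mem.mp (hab A hA) y (sInf_le hA hy) x hx
    · refine le_sInf fun A hA x hx => ?_
      have h1 : Cfsg.IsElementaryAbelian 0 (A ⊔ Subgroup.zpowers x) :=
        H13.isElementaryAbelian_sup (H13.isElementaryAbelian_zero.mpr (hab A hA))
          (H13.isElementaryAbelian_zpowers (pow_zero x))
          (Subgroup.zpowers_le.mpr (H13.centralizer_anti (le_sSup hA) hx))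
      rw [← hmax A hA _ h1.1 le_sup_left]
      exact Subgroup.mem_sup_right (Subgroup.mem_zpowers x)
  obtain ⟨A, hA⟩ := hne
  exact ⟨le_antisymm (le_inf ((sInf_le hA).trans (le_sSup hA)) key.le) (inf_le_right.trans key.ge), key⟩

end Cfsg.Agent.S0647
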