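import Mathlib
import Cfsg.Statements.S0650
import Cfsg.Agent.H13.Replacement
-- import your own Cfsg.Agent.* helpers here

set_option autoImplicit false
open Cfsg

namespace Cfsg.Agent.S0650

/-- The Glauberman replacement Theorem: from an abelian A ⊇ [B, B] not normalized by the normal subgroup B and a suitable b ∈ B one gets the abelian subgroup A* = (A ∩ b⁻¹Ab)[A, b] of the same order, containing [B, B], meeting B strictly more than A does but not containing B, mutually normalizing with A, with strictly larger normalizer containing b, and (p odd) of no larger exponent. -/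
theorem result {S : Type*} [Group S] [Finite S] {p : ℕ} [Fact p.Prime] (hS : IsPGroup p S) (B : Subgroup S) [B.Normal] (hB2 : p = 2 → IsMulCommutative B) (A : Subgroup S) (hA : IsMulCommutative A) (hBA : ⁅B, B⁆ ≤ A) (hnot : ¬ B ≤ Subgroup.normalizer (A : Set S)) (b : S) (hb : b ∈ B) (hbN : b ∈ Subgroup.normalizer ((Subgroup.normalizer (A : Set S)) : Set S)) (hbA : b ∉ Subgroup.normalizer (A : Set S)) : Nat.card ↥((A ⊓ A.map (MulAut.conj (b⁻¹)).toMonoidHom) ⊔ Subgroup.closure {g : S | ∃ a ∈ A, g = a * b⁻¹ * a⁻¹ * b}) = Nat.card A ∧ IsMulCommutative ↥((A ⊓ A.map (MulAut.conj (b⁻¹)).toMonoidHom) ⊔ Subgroup.closure {g : S | ∃ a ∈ A, g = a * b⁻¹ * a⁻¹ * b}) ∧ ⁅B, B⁆ ≤ ((A ⊓ A.map (MulAut.conj (b⁻¹)).toMonoidHom) ⊔ Subgroup.closure {g : S | ∃ a ∈ A, g = a * b⁻¹ * a⁻¹ * b}) ∧ A ⊓ B < ((A ⊓ A.map (MulAut.conj (b⁻¹)).toMonoidHom) ⊔ Subgroup.closure {g : S | ∃ a ∈ A, g = a * b⁻¹ * a⁻¹ * b})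 ⊓ B ∧ ((A ⊓ A.map (MulAut.conj (b⁻¹)).toMonoidHom) ⊔ Subgroup.closure {g : S | ∃ a ∈ A, g = a * b⁻¹ * a⁻¹ * b}) ⊓ B < B ∧ A ≤ Subgroup.normalizer (((A ⊓ A.map (MulAut.conj (b⁻¹)).toMonoidHom) ⊔ Subgroup.closure {g : S | ∃ a ∈ A, g = a * b⁻¹ * a⁻¹ * b} : Subgroup S) : Set S) ∧ ((A ⊓ A.map (MulAut.conj (b⁻¹)).toMonoidHom) ⊔ Subgroup.closure {g : S | ∃ a ∈ A, g = a * b⁻¹ * a⁻¹ * b}) ≤ Subgroup.normalizer (A : Set S) ∧ b ∈ Subgroup.normalizer (((A ⊓ A.map (MulAut.conj (b⁻¹)).toMonoidHom) ⊔ Subgroup.closure {g : S | ∃ a ∈ A, g = a * b⁻¹ * a⁻¹ * b} : Subgroup S) : Set S) ∧ Subgroup.normalizer (A : Set S) < Subgroup.normalizer (((A ⊓ A.map (MulAut.conj (b⁻¹)).toMonoidHom) ⊔ Subgroup.closure {g : S | ∃ a ∈ A, g = a * b⁻¹ * a⁻¹ * b} : Subgroup S) : Set S) ∧ (p ≠ 2 → Monoid.exponent ↥((A ⊓ A.map (MulAut.conj (b⁻¹)).toMonoidHom) ⊔ Subgroup.closure {g : S | ∃ a ∈ A, g = a * b⁻¹ * a⁻¹ * b}) ∣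 Monoid.exponent A) := by
  have h2 : ∀ w ∈ ⁅B, B⁆, w ^ 2 = 1 → w = 1 := by
    intro w hw h
    by_cases hp : p = 2
    · rwa [H13.isMulCommutative_iff_commutator_eq_bot.mp (hB2 hp), Subgroup.mem_bot] at hw
    · exact H13.eq_one_of_sq_eq_one_of_isPGroup hp (hS.to_subgroup ⊤) (Subgroup.mem_top w) h
  obtain ⟨h1, h3, h4, h5, h6, h7, h8, h9⟩ := H13.replacement hA hBA Subgroup.le_normalizer le_rfl
    (le_top.trans (Subgroup.normalizer_eq_top B).ge) hb hbN h2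
  rw [H13.commElt_eq]
  change Nat.card (H13.repl b A) = _ ∧ IsMulCommutative (H13.repl b A) ∧ _ ≤ H13.repl b A ∧
    _ < H13.repl b A ⊓ B ∧ H13.repl b A ⊓ B < B ∧ A ≤ Subgroup.normalizer (H13.repl b A : Set S) ∧
    H13.repl b A ≤ _ ∧ b ∈ Subgroup.normalizer (H13.repl b A : Set S) ∧
    _ < Subgroup.normalizer (H13.repl b A : Set S) ∧ (_ → Monoid.exponent (H13.repl b A) ∣ _)
  refine ⟨h1, h3, (le_inf hBA (Subgroup.commutator_le_self B)).trans h4,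
    lt_of_le_of_ne (le_inf h4 inf_le_right) fun h => hbA ?_,
    lt_of_le_of_ne inf_le_right fun h => hbA (h6 (h.ge hb).1), Subgroup.le_normalizer.trans h7, h6, h8,
    lt_of_le_of_ne h7 fun h => hbA (h ▸ h8), fun hp => ?_⟩
  · exact H13.mem_normalizer_of_commElt_le (((le_inf le_sup_right h5).trans h.ge).trans inf_le_left)
  · rw [Monoid.exponent_dvd_iff_forall_pow_eq_one]
    rintro ⟨x, hx⟩
    obtain ⟨n, hn⟩ := (hS.to_subgroup A).exists_card_eq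
    obtain ⟨k, -, hk⟩ := (Nat.dvd_prime_pow (Fact.out : p.Prime)).mp
      (hn ▸ Group.exponent_dvd_nat_card (G := A))
    refine Subtype.ext (h9 _ ?_ (fun a ha => ?_) x hx)
    · rw [hk]
      exact ((Fact.out : p.Prime).odd_of_ne_two hp).pow
    · exact congrArg Subtype.val (Monoid.pow_exponent_eq_one (⟨a, ha⟩ : A))

end Cfsg.Agent.S0650
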