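import Mathlib
import Cfsg.Statements.S0655
import Cfsg.Agent.H13.Thompson
-- import your own Cfsg.Agent.* helpers here

set_option autoImplicit false
open Cfsg

namespace Cfsg.Agent.S0655

/-- In a p-group the intersection of all elementary abelian subgroups of largest order is the subgroup generated by the elements of order dividing p in the centre (equivalently the centralizer) of the elementary-version Thompson subgroup. -/
theorem result {S : Type*} [Group S] [Finite S] {p : ℕ} [Fact p.Prime] (hS : IsPGroup p S) : sInf (Cfsg.maxElementaryAbelianSubgroups p S) = Cfsg.omegaCenterThompson p S ∧ Cfsg.omegaCenterThompson p S = Cfsg.omegaOne p (Subgroup.centralizer (Cfsg.thompsonSubgroup p S : Set S)) := by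
  have h1 : sInf (Cfsg.maxElementaryAbelianSubgroups p S) ≤ Cfsg.omegaCenterThompson p S := by
    intro x hx
    obtain ⟨A, hA⟩ := H13.fam_nonempty p (⊤ : Subgroup S)
    rw [H13.fam_top] at hA
    refine Subgroup.subset_closure ⟨⟨le_sSup hA (sInf_le hA hx), ?_⟩, hA.1.2 x (sInf_le hA hx)⟩
    have : Cfsg.thompsonSubgroup p S ≤ Subgroup.centralizer {x} := by
      refine sSup_le fun B hB y hy => Subgroup.mem_centralizer_singleton_iff.mpr ?_
      exact H13.isMulCommutative_iff_forall_mem.mp hB.1.1 y hy x (sInf_le hB hx)
    exact fun y hy => Subgroup.mem_centralizer_singleton_iff.mp (this hy)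
  have h2 : Cfsg.omegaCenterThompson p S ≤
      Cfsg.omegaOne p (Subgroup.centralizer (Cfsg.thompsonSubgroup p S : Set S)) :=
    Subgroup.closure_mono fun x hx => ⟨hx.1.2, hx.2⟩
  have h3 : Cfsg.omegaOne p (Subgroup.centralizer (Cfsg.thompsonSubgroup p S : Set S)) ≤
      sInf (Cfsg.maxElementaryAbelianSubgroups p S) := by
    refine (Subgroup.closure_le _).mpr fun x hx => Subgroup.mem_sInf.mpr fun A hA => ?_
    refine H13.mem_of_mem_fam_of_centralizes ((H13.fam_top p S).symm ▸ hA) (Subgroup.mem_top x) hx.2 ?_
    exact H13.centralizer_anti (le_sSup hA) hx.1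
  exact ⟨le_antisymm h1 (h2.trans h3), le_antisymm h2 (h3.trans h1)⟩

end Cfsg.Agent.S0655
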