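import Mathlib
import Cfsg.Statements.S0657
import Cfsg.Agent.H12.QuadSL
-- import your own Cfsg.Agent.* helpers here

set_option autoImplicit false
open Cfsg

namespace Cfsg.Agent.S0657

/-- For odd p, a group that fails to be p-stable modulo its largest normal subgroup of order prime to p, and whose upper p-series does not stop there, has a section isomorphic to SL(2, p). -/
theorem result {G : Type*} [Group G] [Finite G] {p : ℕ} [Fact p.Prime] (hp : p ≠ 2) (hO : Cfsg.pPrimeCore p G < Cfsg.pPrimePCore p G) (hns : ¬ Cfsg.IsPStable p (G ⧸ Cfsg.pPrimeCore p G)) : ∃ (K L : Subgroup G) (hL : (L.subgroupOf K).Normal), K ≤ ⊤ ∧ Nonempty ((K ⧸ L.subgroupOf K) ≃* Matrix.SpecialLinearGroup (Fin 2) (ZMod p)) := by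
  have h1 : Cfsg.pCore p (G ⧸ Cfsg.pPrimeCore p G) ≠ ⊥ := by
    intro h
    rw [Cfsg.pPrimePCore, h, MonoidHom.comap_bot, QuotientGroup.ker_mk'] at hO
    exact lt_irrefl _ hO
  have h2 : H12.QuadInvolved p (G ⧸ Cfsg.pPrimeCore p G) := by
    by_contra h
    exact hns (H12.isPStable_of_not_quadInvolved hp h1 h)
  obtain ⟨K, L, hL, e⟩ := ((H12.involves_quotient _).trans (h2.involves_sl hp)).exists_section
  exact ⟨K, L, hL, le_top, e⟩

end Cfsg.Agent.S0657
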