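import Cfsg.Statements.S0683
import Mathlib
import Cfsg.Agent.H14.Sharp2

set_option autoImplicit false
open Cfsg

namespace Cfsg.Agent.S0683

/-- A finite sharply doubly transitive permutation group is the affine group of a near-field: the permuted set carries a near-field structure for which the group consists exactly of the maps `x ↦ x * a + b` with `a ≠ 0`. -/
theorem result {α : Type*} [Fintype α] [DecidableEq α] (H : Subgroup (Equiv.Perm α)) [MulAction.IsMultiplyPretransitive H α 2] (hsharp : ∀ x : Fin 2 ↪ α, MulAction.stabilizer H x = ⊥) (h2 : 2 ≤ Fintype.card α) : ∃ _ : Cfsg.NearField α, ∀ σ : Equiv.Perm α, σ ∈ H ↔ ∃ a b : α, a ≠ 0 ∧ ∀ x : α, σ x = x * a + b := by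
  have : Nontrivial α := Fintype.one_lt_card_iff_nontrivial.1 h2
  obtain ⟨N, h1, h2⟩ := (H14.sharp2_of inferInstance hsharp).exists_nearField
  refine ⟨N, fun σ => ⟨fun h => h1 ⟨σ, h⟩, fun ⟨a, b, ha, h⟩ => ?_⟩⟩
  obtain ⟨g, hg⟩ := h2 a b ha
  have : σ = g := Equiv.ext fun x => (h x).trans (hg x).symm
  rw [this]; exact g.2

end Cfsg.Agent.S0683
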