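import Cfsg.Statements.S0691
import Mathlib
import Cfsg.Agent.H14.RegCert

set_option autoImplicit false
open Cfsg

namespace Cfsg.Agent.S0691

def T₁ : ℕ := 0x31010800c40420031010800c40420010c2100

def T₂ : ℕ := 0x20820840410410841041030c30c3040000000

def R : ℕ := 0x40821020430c30421040c30c30c20010820c0

theorem okA : H14.genOK 5 T₁ T₂ 6 2 0 0 (-2) := by decide +kernel

theorem okB : H14.genOK 5 T₁ T₂ 6 0 (-1) 1 0 := by decide +kernel

theorem okC : H14.genOK 5 T₁ T₂ 6 1 2 1 (-2) := by decide +kernel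

theorem okR : ∀ x y : ZMod 5, ¬ (x = 0 ∧ y = 0) → ¬ (x = 1 ∧ y = 0) →
    H14.tab 5 R 6 (2 * x + 0 * y) (0 * x + (-2) * y) < H14.tab 5 R 6 x y ∨ H14.tab 5 R 6 (0 * x + (-1) * y) (1 * x + 0 * y) < H14.tab 5 R 6 x y ∨ H14.tab 5 R 6 (1 * x + 2 * y) (1 * x + (-2) * y) < H14.tab 5 R 6 x y := by decide +kernel

theorem ok0 : (H14.tab 5 T₁ 6 1 0 : ZMod 5) = 0 ∧ (H14.tab 5 T₂ 6 1 0 : ZMod 5) = 1 := by decide +kernel

/-- An exceptional sharply doubly transitive group of degree 5^2: the listed matrices generate a subgroup of GL(2,5) of order 24 acting regularly on the non-zero vectors. -/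
theorem result (A : Matrix.GeneralLinearGroup (Fin 2) (ZMod 5)) (B : Matrix.GeneralLinearGroup (Fin 2) (ZMod 5)) (C : Matrix.GeneralLinearGroup (Fin 2) (ZMod 5)) (hA : (A : Matrix (Fin 2) (Fin 2) (ZMod 5)) = !![2, 0; 0, -2]) (hB : (B : Matrix (Fin 2) (Fin 2) (ZMod 5)) = !![0, -1; 1, 0]) (hC : (C : Matrix (Fin 2) (Fin 2) (ZMod 5)) = !![1, 2; 1, -2]) : Nat.card (Subgroup.closure ({A, B, C} : Set (Matrix.GeneralLinearGroup (Fin 2) (ZMod 5)))) = 24 ∧ ∀ v w : Fin 2 → ZMod 5, v ≠ 0 → w ≠ 0 → ∃! h : Subgroup.closure ({A, B, C} : Set (Matrix.GeneralLinearGroup (Fin 2) (ZMod 5))), Matrix.mulVec ((h : Matrix.GeneralLinearGroup (Fin 2) (ZMod 5)) : Matrix (Fin 2) (Fin 2) (ZMod 5)) v = w := by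
  have : Fact (Nat.Prime 5) := ⟨by norm_num⟩
  have h := H14.regular_of_cert ({A, B, C} : Set (Matrix.GeneralLinearGroup (Fin 2) (ZMod 5)))
    (fun v => ![H14.tab 5 T₁ 6 (v 0) (v 1), H14.tab 5 T₂ 6 (v 0) (v 1)])
    (fun v => H14.tab 5 R 6 (v 0) (v 1)) (by simp [ok0.1, ok0.2]) (by
      rintro X (rfl | rfl | rfl) v -
      · rw [hA]; exact okA.apply v
      · rw [hB]; exact okB.apply v
      · rw [hC]; exact okC.apply v
      ) (by
      intro v h0 h1
      rcases okR (v 0) (v 1) (fun h => h0 (by ext i; fin_cases i <;> simp [h.1, h.2]))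
        (fun h => h1 ((H14.vec_ne_iff v 1 0).2 h)) with h | h | h
      · exact ⟨A, by simp, by rw [hA, H14.mulVec_two]; exact h⟩
      · exact ⟨B, by simp, by rw [hB, H14.mulVec_two]; exact h⟩
      · exact ⟨C, by simp, by rw [hC, H14.mulVec_two]; exact h⟩
      )
  rw [Nat.card_zmod] at h
  exact h

end Cfsg.Agent.S0691
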