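import Cfsg.Statements.S0692
import Mathlib
import Cfsg.Agent.H14.RegCert

set_option autoImplicit false
open Cfsg

namespace Cfsg.Agent.S0692

def T₁ : ℕ := 0xa0441c51880832401c920a1460020c11072482821431060010062072411020c52892851c62000c108424a2000c51060421c62091ca0840c50010051c818904308428a2090051810c21070882431461072810011840c90881c5280

def T₂ : ℕ := 0x904014208010404a0c318304114208a1420840831830c31c72000c400410104420618504814224618214508918328614524728a1c70072000c310820814824724910124918a2881482062871c02491802820401012841c1287000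

def R : ℕ := 0x71882ca1c908510210a2c32481492c714130a18b1492c924820420c18b30310c24a1c82851873061c724828510730624814b08530920b28618a1cb24b1cc10c28328524b0c61c528808718310724828a20500120720610a2460c0

theorem okA : H14.genOK 11 T₁ T₂ 6 0 (-1) 1 0 := by decide +kernel

theorem okB : H14.genOK 11 T₁ T₂ 6 2 4 1 (-3) := by decide +kernel

theorem okR : ∀ x y : ZMod 11, ¬ (x = 0 ∧ y = 0) → ¬ (x = 1 ∧ y = 0) →
    H14.tab 11 R 6 (0 * x + (-1) * y) (1 * x + 0 * y) < H14.tab 11 R 6 x y ∨ H14.tab 11 R 6 (2 * x + 4 * y) (1 * x + (-3) * y) < H14.tab 11 R 6 x y := by decide +kernel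

theorem ok0 : (H14.tab 11 T₁ 6 1 0 : ZMod 11) = 0 ∧ (H14.tab 11 T₂ 6 1 0 : ZMod 11) = 1 := by decide +kernel

/-- An exceptional sharply doubly transitive group of degree 11^2: the listed matrices generate a subgroup of GL(2,11) of order 120 acting regularly on the non-zero vectors. -/
theorem result (A : Matrix.GeneralLinearGroup (Fin 2) (ZMod 11)) (B : Matrix.GeneralLinearGroup (Fin 2) (ZMod 11)) (hA : (A : Matrix (Fin 2) (Fin 2) (ZMod 11)) = !![0, -1; 1, 0]) (hB : (B : Matrix (Fin 2) (Fin 2) (ZMod 11)) = !![2, 4; 1, -3]) : Nat.card (Subgroup.closure ({A, B} : Set (Matrix.GeneralLinearGroup (Fin 2) (ZMod 11)))) = 120 ∧ ∀ v w : Fin 2 → ZMod 11, v ≠ 0 → w ≠ 0 → ∃! h : Subgroup.closure ({A, B} : Set (Matrix.GeneralLinearGroup (Fin 2) (ZMod 11))), Matrix.mulVec ((h : Matrix.GeneralLinearGroup (Fin 2) (ZMod 11)) : Matrix (Fin 2) (Fin 2) (ZMod 11)) v = w := by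
  have : Fact (Nat.Prime 11) := ⟨by norm_num⟩
  have h := H14.regular_of_cert ({A, B} : Set (Matrix.GeneralLinearGroup (Fin 2) (ZMod 11)))
    (fun v => ![H14.tab 11 T₁ 6 (v 0) (v 1), H14.tab 11 T₂ 6 (v 0) (v 1)])
    (fun v => H14.tab 11 R 6 (v 0) (v 1)) (by simp [ok0.1, ok0.2]) (by
      rintro X (rfl | rfl) v -
      · rw [hA]; exact okA.apply v
      · rw [hB]; exact okB.apply v
      ) (by
      intro v h0 h1
      rcases okR (v 0) (v 1) (fun h => h0 (by ext i; fin_cases i <;> simp [h.1, h.2]))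
        (fun h => h1 ((H14.vec_ne_iff v 1 0).2 h)) with h | h
      · exact ⟨A, by simp, by rw [hA, H14.mulVec_two]; exact h⟩
      · exact ⟨B, by simp, by rw [hB, H14.mulVec_two]; exact h⟩
      )
  rw [Nat.card_zmod] at h
  exact h

end Cfsg.Agent.S0692
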