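import Cfsg.Statements.S0703
import Mathlib
import Cfsg.Agent.H14.Cent
import Cfsg.Agent.H2.MinNormal

set_option autoImplicit false
open Cfsg

namespace Cfsg.Agent.S0703

/-- An abelian transitive minimal normal subgroup `M` of a permutation group on a finite set is self-centralising in the symmetric group, regular, elementary abelian, and is the unique minimal normal subgroup. -/
theorem result {α : Type*} [Finite α] (G : Subgroup (Equiv.Perm α)) (M : Subgroup G) [M.Normal] (hM : M ≠ ⊥) (hmin : ∀ L : Subgroup G, L.Normal → L ≤ M → L = ⊥ ∨ L = M) (hab : IsMulCommutative M) (htrans : MulAction.IsPretransitive M α) : Subgroup.centralizer ((M.map G.subtype : Subgroup (Equiv.Perm α)) : Set (Equiv.Perm α)) = M.map G.subtype ∧ (∀ a : α, MulAction.stabilizer M a = ⊥) ∧ (∃ p : ℕ, p.Prime ∧ ∀ m ∈ M, m ^ p = 1) ∧ ∀ L : Subgroup G, L.Normal → L ≠ ⊥ → (∀ L' : Subgroup G, L'.Normal → L' ≤ L → L' = ⊥ ∨ L' = L) → L = M := by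
  have hfin : Finite G := inferInstance
  have hne : Nonempty α := by
    by_contra h
    rw [not_nonempty_iff] at h
    exact hM (Subsingleton.elim _ _)
  have hcomm : ∀ m ∈ M, ∀ n ∈ M, m * n = n * m := fun m hm n hn =>
    congrArg Subtype.val (hab.is_comm.comm (⟨m, hm⟩ : M) ⟨n, hn⟩)
  obtain ⟨hreg, -, hcent⟩ := H14.commuting_transitive (α := α) M M hcomm
  refine ⟨?_, hreg, ?_, fun L hL hL0 hLmin => ?_⟩
  · ext c
    rw [H14.mem_centralizer_map_iff]
    constructor
    · intro h
      obtain ⟨n, hn⟩ := hcent c h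
      exact ⟨n, n.2, Equiv.ext fun x => (hn x).symm⟩
    · rintro ⟨n, hn, rfl⟩ m x
      show n • (m : G) • x = (m : G) • n • x
      rw [← mul_smul, ← mul_smul, hcomm n hn m m.2]
  · exact H2.IsMinNormal.exists_prime (N := M) ⟨inferInstance, hM, hmin⟩
      (Group.isSolvable_of_comm hab.is_comm.comm)
  · by_contra hLM
    have hc := H14.commute_of_minimal_normal hLmin hmin hLM
    have hle : L ≤ M := fun l hl => H14.mem_of_centralizes_abelian (α := α) M hcomm (hc l hl)
    rcases hmin L hL hle with h | h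
    · exact hL0 h
    · exact hLM h

end Cfsg.Agent.S0703
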