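import Cfsg.Statements.S0704
import Mathlib
import Cfsg.Agent.H14.Cent

set_option autoImplicit false
open Cfsg

namespace Cfsg.Agent.S0704

/-- Two distinct transitive minimal normal subgroups `M`, `N` of a permutation group are regular, non-abelian, isomorphic, each other's centraliser in the symmetric group, and the only minimal normal subgroups. -/
theorem result {α : Type*} (G : Subgroup (Equiv.Perm α)) (M N : Subgroup G) [M.Normal] [N.Normal] (hM : M ≠ ⊥) (hN : N ≠ ⊥) (hMmin : ∀ L : Subgroup G, L.Normal → L ≤ M → L = ⊥ ∨ L = M) (hNmin : ∀ L : Subgroup G, L.Normal → L ≤ N → L = ⊥ ∨ L = N) (hMN : M ≠ N) (hMt : MulAction.IsPretransitive M α) (hNt : MulAction.IsPretransitive N α) : (∀ a : α, MulAction.stabilizer M a = ⊥) ∧ (∀ a : α, MulAction.stabilizer N a = ⊥) ∧ ¬ IsMulCommutative M ∧ Nonempty (M ≃* N) ∧ Subgroup.centralizer ((M.map G.subtype : Subgroup (Equiv.Perm α)) : Set (Equiv.Perm α)) = N.map G.subtype ∧ Subgroup.centralizer ((N.map G.subtype : Subgroup (Equiv.Perm α)) : Set (Equiv.Perm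 α)) = M.map G.subtype ∧ ∀ L : Subgroup G, L.Normal → L ≠ ⊥ → (∀ L' : Subgroup G, L'.Normal → L' ≤ L → L' = ⊥ ∨ L' = L) → L = M ∨ L = N := by
  have hne : Nonempty α := by
    by_contra h
    rw [not_nonempty_iff] at h
    exact hM (Subsingleton.elim _ _)
  have hcomm := H14.commute_of_minimal_normal hMmin hNmin hMN
  have hcomm' : ∀ n ∈ N, ∀ m ∈ M, n * m = m * n := fun n hn m hm => (hcomm m hm n hn).symm
  obtain ⟨hreg, hiso, hcent⟩ := H14.commuting_transitive (α := α) M N hcomm
  obtain ⟨hreg', -, hcent'⟩ := H14.commuting_transitive (α := α) N M hcomm'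
  have key : ∀ (M N : Subgroup G), (∀ m ∈ M, ∀ n ∈ N, m * n = n * m) →
      (∀ c : Equiv.Perm α, (∀ (m : M) (x : α), c (m • x) = m • c x) → ∃ n : N, ∀ x, c x = n • x) →
      Subgroup.centralizer ((M.map G.subtype : Subgroup (Equiv.Perm α)) : Set (Equiv.Perm α)) =
        N.map G.subtype := by
    intro M N hcomm hcent
    ext c
    rw [H14.mem_centralizer_map_iff]
    constructor
    · intro h
      obtain ⟨n, hn⟩ := hcent c h
      exact ⟨n, n.2, Equiv.ext fun x => (hn x).symm⟩
    · rintro ⟨n, hn, rfl⟩ m x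
      show n • (m : G) • x = (m : G) • n • x
      rw [← mul_smul, ← mul_smul, hcomm m m.2 n hn]
  have hle : ∀ L : Subgroup G, (∀ l ∈ L, ∀ m ∈ M, l * m = m * l) → L ≤ N := by
    intro L hL l hl
    obtain ⟨n, hn⟩ := hcent (l : Equiv.Perm α) (fun m x => by
      show l • (m : G) • x = (m : G) • l • x
      rw [← mul_smul, ← mul_smul, hL l hl m m.2])
    have : l = n := Subtype.ext (Equiv.ext hn)
    rw [this]; exact n.2
  refine ⟨hreg, hreg', fun hab => ?_, hiso, key M N hcomm hcent, key N M hcomm' hcent',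
    fun L hL hL0 hLmin => ?_⟩
  · have := hle M fun m hm n hn => congrArg Subtype.val (hab.is_comm.comm (⟨m, hm⟩ : M) ⟨n, hn⟩)
    rcases hNmin M inferInstance this with h | h
    · exact hM h
    · exact hMN h
  · by_cases hLM : L = M
    · exact Or.inl hLM
    · right
      rcases hNmin L hL (hle L (H14.commute_of_minimal_normal hLmin hMmin hLM)) with h | h
      · exact absurd h hL0
      · exact h

end Cfsg.Agent.S0704
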