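import Cfsg.Statements.S0707
import Mathlib
import Cfsg.Agent.H14.Fix

set_option autoImplicit false
open Cfsg

namespace Cfsg.Agent.S0707

/-- In a primitive permutation group, distinct points have distinct stabilisers unless the group is regular of prime degree. -/
theorem result {α : Type*} (G : Subgroup (Equiv.Perm α)) [MulAction.IsPreprimitive G α] (h : ¬ (Nat.card α).Prime ∨ ∃ a : α, MulAction.stabilizer G a ≠ ⊥) {a b : α} (hab : a ≠ b) : MulAction.stabilizer G a ≠ MulAction.stabilizer G b := by
  intro heq
  have : Nontrivial α := ⟨a, b, hab⟩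
  have hle : MulAction.stabilizer G a ≤
      Subgroup.normalizer ((MulAction.stabilizer G a : Subgroup G) : Set G) := Subgroup.le_normalizer
  have hco := MulAction.IsPreprimitive.isCoatom_stabilizer_of_isPreprimitive G a
  obtain ⟨g, hg⟩ := MulAction.exists_smul_eq G a b
  have hgN : g ∈ Subgroup.normalizer ((MulAction.stabilizer G a : Subgroup G) : Set G) := by
    rw [Subgroup.mem_normalizer_iff]
    intro x
    conv_rhs => rw [heq, ← hg]
    simp [mul_smul]
  have hN : Subgroup.normalizer ((MulAction.stabilizer G a : Subgroup G) : Set G) = ⊤ := by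
    refine hco.2 _ (lt_of_le_of_ne hle fun hh => hab ?_)
    rw [← hh] at hgN
    rw [← hg]; exact hgN.symm
  rw [Subgroup.normalizer_eq_top_iff] at hN
  have hbot : ∀ c : α, MulAction.stabilizer G c = ⊥ := by
    intro c
    rw [eq_bot_iff]
    intro x hx
    obtain ⟨u, rfl⟩ := MulAction.exists_smul_eq G a c
    have h1 : u⁻¹ * x * u ∈ MulAction.stabilizer G a := by
      rw [MulAction.mem_stabilizer_iff, mul_smul, mul_smul, hx, inv_smul_smul]
    have h2 : u⁻¹ * x * u = 1 := by
      refine FaithfulSMul.eq_of_smul_eq_smul (α := α) fun y => ?_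
      obtain ⟨v, rfl⟩ := MulAction.exists_smul_eq G a y
      have := hN.conj_mem' _ h1 v
      rw [MulAction.mem_stabilizer_iff, mul_smul, mul_smul, inv_smul_eq_iff] at this
      rw [this, one_smul]
    rw [Subgroup.mem_bot]
    simpa [mul_assoc] using congrArg (fun z => u * z * u⁻¹) h2
  rcases h with h | ⟨c, hc⟩
  · apply h
    rw [← MulAction.index_stabilizer_of_transitive G a, hbot a, Subgroup.index_bot]
    rw [hbot a] at hco
    have : IsSimpleOrder (Subgroup G) := isSimpleOrder_iff_isCoatom_bot.2 hco
    have hnt : Nontrivial G := Subgroup.nontrivial_iff.1 inferInstance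
    obtain ⟨x, hx⟩ := exists_ne (1 : G)
    have hz : Subgroup.zpowers x = ⊤ :=
      (eq_bot_or_eq_top _).resolve_left (by simpa using hx)
    have hcyc : IsCyclic G := ⟨x, fun y => by
      show y ∈ Subgroup.zpowers x
      rw [hz]; trivial⟩
    have : IsSimpleGroup G := { eq_bot_or_eq_top_of_normal := fun H _ => eq_bot_or_eq_top H }
    letI := hcyc.commGroup
    exact IsSimpleGroup.prime_card
  · exact hc (hbot c)

end Cfsg.Agent.S0707
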