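import Cfsg.Statements.S0712
import Mathlib
import Cfsg.Agent.H14.Fix

set_option autoImplicit false
open Cfsg

namespace Cfsg.Agent.S0712

/-- Jordan: a primitive group in which the pointwise stabiliser of a set `s` is doubly transitive on the complement of `s` (which has at least 2 points) is `(|s| + 2)`-transitive. -/
theorem result {α : Type*} [Fintype α] [DecidableEq α] (G : Subgroup (Equiv.Perm α)) (hG : MulAction.IsPreprimitive G α) (s : Set α) {m : ℕ} (hsm : s.ncard = m) (hm : m + 2 ≤ Fintype.card α) (h2 : MulAction.IsMultiplyPretransitive (fixingSubgroup G s) (SubMulAction.ofFixingSubgroup G s) 2) : MulAction.IsMultiplyPretransitive G α (m + 2) := by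
  classical
  have hc : Nat.card α = Fintype.card α := Nat.card_eq_fintype_card
  have hcs : Nat.card (SubMulAction.ofFixingSubgroup G s) = Fintype.card α - m := by
    have h1 := Set.ncard_add_ncard_compl s
    have h2 : Nat.card (SubMulAction.ofFixingSubgroup G s) = (sᶜ).ncard := Nat.card_coe_set_eq sᶜ
    omega
  have hm1 : H14.MT (⊤ : Subgroup G) (Set.univ : Set α) m := by
    rcases m with _ | m
    · exact H14.MT.zero _ _
    · have := hG.isMultiplyPreprimitive (n := m) hsm (by omega)
        (MulAction.isPreprimitive_of_is_two_pretransitive h2)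
      exact (H14.MT_top_of_isMultiplyPretransitive (by omega) this.isMultiplyPretransitive).mono
        (by omega)
  apply H14.MT.isMultiplyPretransitive_top
  refine hm1.add (H14.Pres.univ _) s.toFinset (Set.subset_univ _)
    (by rw [← Set.ncard_eq_toFinset_card', hsm]) ?_
  rw [Set.coe_toFinset]
  rw [MulAction.is_two_pretransitive_iff] at h2
  refine H14.MT_of_exact' ?_ fun t f ht htc hi hmaps => ?_
  · rw [← Set.compl_eq_univ_diff]
    have h1 := Set.ncard_add_ncard_compl s
    omega
  obtain ⟨a, b, hab, rfl⟩ := Finset.card_eq_two.1 htc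
  have ha : a ∈ (({a, b} : Finset α) : Set α) := by simp
  have hb : b ∈ (({a, b} : Finset α) : Set α) := by simp
  obtain ⟨g, hga, hgb⟩ := h2 (a := ⟨a, (ht ha).2⟩) (b := ⟨b, (ht hb).2⟩) (c := ⟨f a, (hmaps ha).2⟩)
    (d := ⟨f b, (hmaps hb).2⟩) (fun hh => hab (congrArg Subtype.val hh))
    (fun hh => hab (hi ha hb (congrArg Subtype.val hh)))
  refine ⟨g, ⟨trivial, g.2⟩, fun x hx => ?_⟩
  rcases Finset.mem_insert.1 hx with rfl | hx
  · exact congrArg Subtype.val hga
  · rw [Finset.mem_singleton.1 hx]; exact congrArg Subtype.val hgb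

end Cfsg.Agent.S0712
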