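import Cfsg.Statements.S0714
import Mathlib
import Cfsg.Agent.H14.PermMod

set_option autoImplicit false
open Cfsg

namespace Cfsg.Agent.S0714

/-- Over any field, the permutation module of the alternating group of degree at least 5 has exactly four invariant subspaces: zero, the constant functions, the functions with coordinate sum zero, and everything. -/
theorem result {α : Type*} [Fintype α] [DecidableEq α] (hα : 5 ≤ Fintype.card α) {K : Type*} [Field K] (W : Subrepresentation (Cfsg.permRep K (alternatingGroup α) α)) : W.toSubmodule = ⊥ ∨ W = Cfsg.permConstants K (alternatingGroup α) α ∨ W = Cfsg.permSumZero K (alternatingGroup α) α ∨ W.toSubmodule = ⊤ := by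
  by_cases hc : ∀ v ∈ W.toSubmodule, ∀ a b, v a = v b
  · by_cases h0 : W.toSubmodule = ⊥
    · exact Or.inl h0
    right; left
    obtain ⟨v, hv, hv0⟩ := Submodule.exists_mem_ne_zero_of_ne_bot h0
    obtain ⟨a, ha⟩ := Function.ne_iff.1 hv0
    ext u
    rw [H14.mem_permConstants]
    refine ⟨fun hu => ⟨u a, fun x => hc u hu x a⟩, fun ⟨c, hc'⟩ => ?_⟩
    have : u = (c / v a) • v := by
      funext x
      have ha' : v a ≠ 0 := ha
      simp only [hc', Pi.smul_apply, hc v hv x a, smul_eq_mul]
      field_simp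
    rw [this]
    exact W.toSubmodule.smul_mem _ hv
  right; right
  push Not at hc
  obtain ⟨v, hv, a, b, hab⟩ := hc
  have hab' : a ≠ b := fun h => hab (h ▸ rfl)
  obtain ⟨s, hs, hs3⟩ := Finset.exists_subset_card_eq (s := Finset.univ \ {a, b}) (n := 3) (by
    rw [Finset.card_sdiff_of_subset (Finset.subset_univ _), Finset.card_univ, Finset.card_pair hab']
    omega)
  obtain ⟨c, d, e, hcd, hce, hde, rfl⟩ := Finset.card_eq_three.1 hs3
  have hc : c ≠ a ∧ c ≠ b := by simpa [not_or] using hs (show c ∈ _ by simp)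
  have hd : d ≠ a ∧ d ≠ b := by simpa [not_or] using hs (show d ∈ _ by simp)
  have he : e ≠ a ∧ e ≠ b := by simpa [not_or] using hs (show e ∈ _ by simp)
  have key : ∀ (u : α → K), u ∈ W.toSubmodule → ∀ x y z : α, x ≠ y → x ≠ z → y ≠ z →
      (fun t => u ((Equiv.swap x y * Equiv.swap x z) t) - u t) ∈ W.toSubmodule := by
    intro u hu x y z h1 h2 h3
    have := W.toSubmodule.sub_mem (W.apply_mem_toSubmodule (⟨_,
      (Equiv.Perm.isThreeCycle_swap_mul_swap_same h1 h2 h3).mem_alternatingGroup⟩⁻¹) hu) hu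
    convert this using 1
    funext t
    rw [Pi.sub_apply, H14.permRep_apply, inv_inv]
    rfl
  obtain ⟨w, hw, hwa, hw0⟩ : ∃ w ∈ W.toSubmodule, w a ≠ 0 ∧ w d = 0 ∧ w e = 0 := by
    refine ⟨_, key v hv a c b hc.1.symm hab' hc.2, ?_, ?_, ?_⟩
    · simp only [Equiv.Perm.mul_apply, Equiv.swap_apply_left]
      rw [Equiv.swap_apply_of_ne_of_ne hab'.symm hc.2.symm]
      exact sub_ne_zero.2 hab.symm
    · simp only [Equiv.Perm.mul_apply]
      rw [Equiv.swap_apply_of_ne_of_ne hd.1 hd.2, Equiv.swap_apply_of_ne_of_ne hd.1 hcd.symm,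
        sub_self]
    · simp only [Equiv.Perm.mul_apply]
      rw [Equiv.swap_apply_of_ne_of_ne he.1 he.2, Equiv.swap_apply_of_ne_of_ne he.1 hce.symm,
        sub_self]
  have h1 := key w hw a e d he.1.symm hd.1.symm hde.symm
  have h2 : (Pi.single e 1 - Pi.single a 1 : α → K) ∈ W.toSubmodule := by
    have := W.toSubmodule.smul_mem (w a)⁻¹ h1
    convert this using 1
    funext t
    simp only [Pi.sub_apply, Pi.smul_apply, smul_eq_mul, Equiv.Perm.mul_apply, Pi.single_apply]
    rw [eq_inv_mul_iff_mul_eq₀ hwa]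
    by_cases hta : t = a
    · subst hta
      simp [Equiv.swap_apply_of_ne_of_ne hd.1 hde, hw0.1, he.1.symm]
    by_cases hte : t = e
    · subst hte
      simp [Equiv.swap_apply_of_ne_of_ne he.1 hde.symm, hw0.2, he.1]
    by_cases htd : t = d
    · subst htd
      simp [hw0.1, hw0.2, hta, hte]
    simp [Equiv.swap_apply_of_ne_of_ne hta hte, Equiv.swap_apply_of_ne_of_ne hta htd, hta, hte]
  have hMT := H14.MT_top_of_isMultiplyPretransitive (by omega)
    (alternatingGroup.isMultiplyPretransitive α)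
  have hZ : ∀ f : α → K, ∑ x, f x = 0 → f ∈ W.toSubmodule := by
    intro f hf
    refine H14.sumZero_le_of_single a (fun i => ?_) hf
    by_cases hi : i = a
    · simp [hi]
    obtain ⟨g, -, h3, h4⟩ := hMT.two (by rw [Nat.card_eq_fintype_card]; omega) (Set.mem_univ e)
      (Set.mem_univ a) (Set.mem_univ i) (Set.mem_univ a) he.1 hi
    have := W.apply_mem_toSubmodule g h2
    rwa [map_sub, H14.permRep_single, H14.permRep_single, h3, h4] at this
  by_cases hs : ∀ u ∈ W.toSubmodule, ∑ x, u x = 0
  · left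
    ext u
    exact ⟨hs u, hZ u⟩
  · push Not at hs
    obtain ⟨u, hu, hu0⟩ := hs
    exact Or.inr (H14.eq_top_of_sumZero_le hZ hu hu0)

end Cfsg.Agent.S0714
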