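import Cfsg.Statements.S0723
import Mathlib
import Cfsg.Agent.H14.Scott
import Cfsg.Agent.H14.MinNorm
import Cfsg.Agent.S0722

set_option autoImplicit false
open Cfsg

namespace Cfsg.Agent.S0723

/-- The core of the O'Nan–Scott Theorem. Let `H` be a primitive permutation group on a finite set whose unique minimal normal subgroup `N` is non-abelian, and `K` a point stabiliser. Then there are a non-abelian simple group `T` and an isomorphism `N ≃* T^m` (`m ≥ 1`) under which `K ⊓ N` becomes either a product `∏ K_i` of proper subgroups `K_i < T`, or the set of functions constant on each block of a partition of the index set into blocks of one common size `k ≥ 2`. -/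
theorem result {α : Type*} [Finite α] (H : Subgroup (Equiv.Perm α)) [MulAction.IsPreprimitive H α] (N : Subgroup H) [N.Normal] (hN : N ≠ ⊥) (hmin : ∀ M : Subgroup H, M.Normal → M ≤ N → M = ⊥ ∨ M = N) (huniq : ∀ L : Subgroup H, L.Normal → L ≠ ⊥ → (∀ M : Subgroup H, M.Normal → M ≤ L → M = ⊥ ∨ M = L) → L = N) (hnab : ¬ IsMulCommutative N) (a : α) : ∃ (T : Type) (_ : Group T) (m : ℕ) (e : N ≃* (Fin m → T)), IsSimpleGroup T ∧ ¬ IsMulCommutative T ∧ 0 < m ∧ ((∃ K : Fin m → Subgroup T, (∀ i, K i ≠ ⊤) ∧ ∀ n : N, (n : H) ∈ MulAction.stabilizer H a ↔ ∀ i, e n i ∈ K i) ∨ (∃ (k : ℕ) (c : Fin m → Fin m), 2 ≤ k ∧ (∀ j : Fin m, Nat.card {i : Fin m // c i = j} = k ∨ Nat.card {i : Fin m // c i = j} = 0) ∧ ∀ n : N, (n : H) ∈ MulAction.stabilizer H a ↔ ∀ i j : Fin m, c i = c j → e n i = e n j)) := by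
  obtain ⟨T, _, m, hT, hm, ⟨e⟩⟩ := H14.exists_pi_of_minimal_normal N hN hmin
  have : Nonempty (Fin m) := ⟨⟨0, hm⟩⟩
  have : Finite T := Finite.of_surjective (fun n : N => e n ⟨0, hm⟩)
    ((Function.surjective_eval _).comp e.surjective)
  have hTc : ¬ IsMulCommutative T := fun h => hnab ⟨⟨fun x y => e.injective (by
    rw [map_mul, map_mul]; exact funext fun i => mul_comm' _ _)⟩⟩
  have htr := H14.isPretransitive_of_normal (α := α) N hN
  obtain ⟨e', h⟩ := H14.onan_scott N (MulAction.stabilizer H a) hmin (fun g => by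
      obtain ⟨n, hn⟩ := MulAction.exists_smul_eq N a (g⁻¹ • a)
      refine ⟨g * n, ?_, (n : H)⁻¹, N.inv_mem n.2, by simp⟩
      rw [MulAction.mem_stabilizer_iff, mul_smul, show (n : H) • a = g⁻¹ • a from hn, smul_inv_smul])
    (fun X h1 h2 h3 => Cfsg.Agent.S0722.result H N hN hmin a X h1 h2 h3) (fun hle => hN (by
      have hsub : ∀ x : α, x = a := fun x => by
        obtain ⟨n, rfl⟩ := MulAction.exists_smul_eq N a x
        exact hle n.2
      exact eq_bot_iff.2 fun g _ => Subtype.ext (Equiv.ext fun x => (hsub _).trans (hsub _).symm)))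
    hTc e
  exact ⟨T, inferInstance, m, e', hT, hTc, hm, h⟩

end Cfsg.Agent.S0723
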