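import Cfsg.Statements.S0724
import Mathlib


set_option autoImplicit false
open Cfsg

namespace Cfsg.Agent.S0724

/-- Blichfeldt's Theorem: if a finite set `L` of natural numbers contains the number of fixed points of every non-identity element of a permutation group `G` of degree `n`, then the order of `G` divides `∏ (n - l)` over `l ∈ L`. -/
theorem result {α : Type*} [Fintype α] [DecidableEq α] (G : Subgroup (Equiv.Perm α)) (L : Finset ℕ) (hL : ∀ g ∈ G, g ≠ 1 → Nat.card (MulAction.fixedBy α g) ∈ L) : Nat.card G ∣ ∏ l ∈ L, (Fintype.card α - l) := by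
  classical
  have h1 : ∀ j : ℕ, (Nat.card G : ℤ) ∣ ∑ g : G, (Nat.card (MulAction.fixedBy α (g : Equiv.Perm α)) : ℤ) ^ j := by
    intro j
    have := MulAction.sum_card_fixedBy_eq_card_orbits_mul_card_group G (Fin j → α)
    have h2 : ∀ g : G, Fintype.card (MulAction.fixedBy (Fin j → α) g) =
        Nat.card (MulAction.fixedBy α (g : Equiv.Perm α)) ^ j := by
      intro g
      rw [← Nat.card_eq_fintype_card, ← Nat.card_fin j, ← Nat.card_fun, Nat.card_fin]
      exact Nat.card_congr ⟨fun f i => ⟨f.1 i, congrFun f.2 i⟩,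
        fun f => ⟨fun i => f i, funext fun i => (f i).2⟩, fun _ => rfl, fun _ => rfl⟩
    simp only [h2] at this
    rw [Nat.card_eq_fintype_card]
    exact_mod_cast Dvd.intro_left _ this.symm
  have h2 : ∀ P : Polynomial ℤ, (Nat.card G : ℤ) ∣
      ∑ g : G, P.eval (Nat.card (MulAction.fixedBy α (g : Equiv.Perm α)) : ℤ) := by
    intro P
    induction P using Polynomial.induction_on' with
    | add P Q hP hQ => simpa [Finset.sum_add_distrib] using dvd_add hP hQ
    | monomial n c => simpa [← Finset.mul_sum] using (h1 n).mul_left c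
  have h3 := h2 (∏ l ∈ L, (Polynomial.X - Polynomial.C (l : ℤ)))
  rw [Finset.sum_eq_single (1 : G)] at h3
  · by_cases hl : ∀ l ∈ L, l ≤ Fintype.card α
    · rw [← Int.natCast_dvd_natCast, Nat.cast_prod]
      convert h3 using 1
      rw [Polynomial.eval_prod]
      refine Finset.prod_congr rfl fun l hl' => ?_
      simp [Nat.cast_sub (hl l hl'), MulAction.fixedBy_one_eq_univ]
    · push Not at hl
      obtain ⟨l, hl, hl'⟩ := hl
      rw [Finset.prod_eq_zero hl (by omega)]
      exact dvd_zero _
  · intro g _ hg
    rw [Polynomial.eval_prod]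
    exact Finset.prod_eq_zero (hL g g.2 fun h => hg (Subtype.ext h)) (by simp)
  · simp

end Cfsg.Agent.S0724
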