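import Cfsg.Statements.S0725
import Cfsg.Agent.H14.PSM
import Cfsg.Agent.H14.PSK0
import Cfsg.Agent.H14.PSK1
import Cfsg.Agent.H14.PSK2

set_option autoImplicit false
open Cfsg

namespace Cfsg.Agent.S0725

/-- The Praeger–Saxl bound: a primitive permutation group of degree `n` not containing the alternating group has order at most `4 ^ n`. -/
theorem result {α : Type*} [Fintype α] [DecidableEq α] (G : Subgroup (Equiv.Perm α)) (hG : MulAction.IsPreprimitive G α) (hA : ¬ alternatingGroup α ≤ G) : Nat.card G ≤ 4 ^ Fintype.card α := by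
  classical
  rcases le_or_gt (Fintype.card α) 8 with h8 | h8
  · refine (Subgroup.card_le_card_group G).trans ?_
    rw [Nat.card_eq_fintype_card, Fintype.card_perm]
    generalize Fintype.card α = n at h8
    interval_cases n <;> decide
  have hF : H14.PS.Fn (Fintype.card α) := by
    generalize Fintype.card α = n at h8
    have h0 : 0 < n := by omega
    have c := fun {l lo hi} (e : H14.PS.chC lo l = hi) (h1 : lo ≤ n) (h2 : n < hi) =>
      H14.PS.chC_ok l lo n h0 h1 (e ▸ h2)
    by_cases k0 : n < 72
    · exact H14.PS.chS_ok _ _ _ h8 (H14.PS.ck0 ▸ k0)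
    by_cases k1 : n < 423
    · exact c H14.PS.ck1 (by omega) k1
    by_cases k2 : n < 3255
    · exact c H14.PS.ck2 (by omega) k2
    by_cases k3 : n < 13192
    · exact c H14.PS.ck3 (by omega) k3
    by_cases k4 : n < 31421
    · exact c H14.PS.ck4 (by omega) k4
    by_cases k5 : n < 56089
    · exact c H14.PS.ck5 (by omega) k5
    by_cases k6 : n < 90666
    · exact c H14.PS.ck6 (by omega) k6
    by_cases k7 : n < 132770
    · exact c H14.PS.ck7 (by omega) k7
    by_cases k8 : n < 176340
    · exact c H14.PS.ck8 (by omega) k8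
    by_cases k9 : n < 212809
    · exact c H14.PS.ck9 (by omega) k9
    by_cases k10 : n < 256561
    · exact c H14.PS.ck10 (by omega) k10
    by_cases k11 : n < 281582
    · exact c H14.PS.ck11 (by omega) k11
    exact H14.PS.large (by omega)
  obtain ⟨k, p, r, hp, p2, hn, k0, kp, h, ok⟩ := hF
  refine H14.PS.depth _ _ _ ok α G rfl hG ?_
  rw [show r - 1 + 2 = r + 1 by omega]
  exact H14.PS.miller G hA hp p2 hn k0 kp h

end Cfsg.Agent.S0725
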