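import Cfsg.Statements.S0733
import Mathlib
import Cfsg.Agent.H14.Homog

set_option autoImplicit false
open Cfsg

namespace Cfsg.Agent.S0733

/-- A permutation group of affine type — generated by the translations of a finite vector space `V` over `ZMod p` together with a group `G₀` of linear automorphisms — is primitive on `V` if and only if `G₀` is irreducible on `V`. -/
theorem result {p : ℕ} [Fact p.Prime] {V : Type*} [AddCommGroup V] [Module (ZMod p) V] [Finite V] [Nontrivial V] (G₀ : Subgroup (V ≃ₗ[ZMod p] V)) (G : Subgroup (Equiv.Perm V)) (hG : ∀ σ : Equiv.Perm V, σ ∈ G ↔ ∃ g ∈ G₀, ∃ b : V, ∀ x : V, σ x = (g : V ≃ₗ[ZMod p] V) x + b) : MulAction.IsPreprimitive G V ↔ ∀ W : Submodule (ZMod p) V, (∀ g ∈ G₀, ∀ v ∈ W, (g : V ≃ₗ[ZMod p] V) v ∈ W) → W = ⊥ ∨ W = ⊤ := by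
  have htr : ∀ b : V, Equiv.addRight b ∈ G := fun b => (hG _).2 ⟨1, G₀.one_mem, b, fun x => rfl⟩
  have hlin : ∀ g ∈ G₀, (g : V ≃ₗ[ZMod p] V).toEquiv ∈ G :=
    fun g hg => (hG _).2 ⟨g, hg, 0, fun x => by simp⟩
  have htrans : MulAction.IsPretransitive G V :=
    ⟨fun x y => ⟨⟨Equiv.addRight (y - x), htr _⟩, by
      show x + (y - x) = y
      simp⟩⟩
  constructor
  · intro hP W hW
    have hB : MulAction.IsBlock G (W : Set V) := by
      rw [MulAction.isBlock_iff_smul_eq_of_mem]
      intro g x hx hgx
      obtain ⟨g₀, hg₀, b, hb⟩ := (hG g).1 g.2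
      have hgx' : (g : Equiv.Perm V) x ∈ W := hgx
      have hbW : b ∈ W := by
        rw [hb] at hgx'
        simpa using W.sub_mem hgx' (hW g₀ hg₀ x hx)
      refine Set.eq_of_subset_of_ncard_le ?_ (Set.ncard_smul_set g _).ge
      rintro _ ⟨y, hy, rfl⟩
      show (g : Equiv.Perm V) y ∈ W
      rw [hb]
      exact W.add_mem (hW g₀ hg₀ y hy) hbW
    rcases hP.isTrivialBlock_of_isBlock hB with h | h
    · left
      rw [eq_bot_iff]
      intro x hx
      exact h hx W.zero_mem
    · right
      rw [eq_top_iff]
      intro x _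
      exact h.ge (Set.mem_univ x)
  · intro h
    refine MulAction.IsPreprimitive.of_isTrivialBlock_base (0 : V) fun {B} h0 hB => ?_
    rw [MulAction.isBlock_iff_smul_eq_of_mem] at hB
    let A : AddSubgroup V :=
      { carrier := B
        zero_mem' := h0
        add_mem' := fun {x y} hx hy => by
          have := hB (g := ⟨Equiv.addRight y, htr y⟩) h0 (by
            show 0 + y ∈ B
            simpa using hy)
          rw [← this]
          exact Set.smul_mem_smul_set hx
        neg_mem' := fun {x} hx => by
          have := hB (g := ⟨Equiv.addRight (-x), htr _⟩) hx (by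
            show x + -x ∈ B
            simpa using h0)
          rw [← this]
          exact ⟨0, h0, by
            show 0 + -x = -x
            simp⟩ }
    rcases h (AddSubgroup.toZModSubmodule p A) (fun g hg v hv => by
      have := hB (g := ⟨_, hlin g hg⟩) h0 (by
        show g 0 ∈ B
        simpa using h0)
      show g v ∈ B
      rw [← this]
      exact Set.smul_mem_smul_set hv) with h | h
    · left
      intro x hx y hy
      have hx' : x ∈ AddSubgroup.toZModSubmodule p A := hx
      have hy' : y ∈ AddSubgroup.toZModSubmodule p A := hy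
      rw [h, Submodule.mem_bot] at hx' hy'
      rw [hx', hy']
    · right
      rw [Set.eq_univ_iff_forall]
      intro x
      have : x ∈ AddSubgroup.toZModSubmodule p A := by rw [h]; trivial
      exact this

end Cfsg.Agent.S0733
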