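import Cfsg.Statements.S0734
import Mathlib
import Cfsg.Agent.H14.Homog

set_option autoImplicit false
open Cfsg

namespace Cfsg.Agent.S0734

/-- Higman's criterion for primitivity: a transitive action on a finite set is primitive if and only if every non-trivial orbital graph (edges = images of a fixed pair of distinct points) is connected. -/
theorem result {G : Type*} [Group G] {Ω : Type*} [Finite Ω] [MulAction G Ω] [MulAction.IsPretransitive G Ω] [Nontrivial Ω] : MulAction.IsPreprimitive G Ω ↔ ∀ a b : Ω, a ≠ b → (SimpleGraph.fromRel fun x y : Ω => ∃ g : G, g • a = x ∧ g • b = y).Connected := by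
  constructor
  · intro hG a b hab
    set Γ := SimpleGraph.fromRel fun x y : Ω => ∃ g : G, g • a = x ∧ g • b = y with hΓ
    have hadj : ∀ (g : G) (x y : Ω), Γ.Adj x y → Γ.Adj (g • x) (g • y) := by
      intro g x y h
      rw [hΓ, SimpleGraph.fromRel_adj] at h ⊢
      refine ⟨fun hh => h.1 (MulAction.injective g hh), h.2.imp ?_ ?_⟩ <;>
      · rintro ⟨u, rfl, rfl⟩
        exact ⟨g * u, mul_smul _ _ _, mul_smul _ _ _⟩
    have hreach : ∀ (g : G) (x y : Ω), Γ.Reachable x y → Γ.Reachable (g • x) (g • y) :=
      fun g x y h => h.map (⟨fun x => g • x, fun {x y} => hadj g x y⟩ : Γ →g Γ)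
    have hB : MulAction.IsBlock G {x | Γ.Reachable a x} := by
      rw [MulAction.isBlock_iff_smul_eq_of_mem]
      intro g x hx hgx
      have h1 : Γ.Reachable a (g • a) := hgx.trans (hreach g a x hx).symm
      ext y
      rw [Set.mem_smul_set_iff_inv_smul_mem]
      constructor
      · intro hy
        simpa using h1.trans (hreach g _ _ hy)
      · intro hy
        simpa using hreach g⁻¹ _ _ (h1.symm.trans hy)
    rcases hG.isTrivialBlock_of_isBlock hB with h | h
    · exact absurd (h (SimpleGraph.Reachable.refl a) (SimpleGraph.Adj.reachable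
        ((SimpleGraph.fromRel_adj _ _ _).2 ⟨hab, Or.inl ⟨1, one_smul _ _, one_smul _ _⟩⟩))) hab
    · have : Nonempty Ω := ⟨a⟩
      exact ⟨fun x y => (h.ge (Set.mem_univ x)).symm.trans (h.ge (Set.mem_univ y))⟩
  · intro h
    refine ⟨fun {B} hB => ?_⟩
    rcases B.subsingleton_or_nontrivial with h1 | ⟨a, ha, b, hb, hab⟩
    · exact Or.inl h1
    right
    rw [Set.eq_univ_iff_forall]
    intro z
    have := (h a b hab).preconnected a z
    rw [SimpleGraph.reachable_iff_reflTransGen] at this
    induction this with
    | refl => exact ha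
    | tail _ hadj ih =>
      rw [SimpleGraph.fromRel_adj] at hadj
      rcases hadj.2 with ⟨g, rfl, rfl⟩ | ⟨g, rfl, rfl⟩
      · rw [← MulAction.isBlock_iff_smul_eq_of_mem.1 hB ha ih]; exact Set.smul_mem_smul_set hb
      · rw [← MulAction.isBlock_iff_smul_eq_of_mem.1 hB hb ih]; exact Set.smul_mem_smul_set ha

end Cfsg.Agent.S0734
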