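import Cfsg.Statements.S0735
import Mathlib
import Cfsg.Agent.H14.Homog

set_option autoImplicit false
open Cfsg

namespace Cfsg.Agent.S0735

/-- A 2-homogeneous permutation group (transitive on 2-subsets) of even order is doubly transitive; a non-trivial 2-homogeneous group is primitive. -/
theorem result {α : Type*} [Fintype α] [DecidableEq α] (G : Subgroup (Equiv.Perm α)) (h2 : MulAction.IsPretransitive G (Set.powersetCard α 2)) (hα : 3 ≤ Fintype.card α) : (Even (Nat.card G) → MulAction.IsMultiplyPretransitive G α 2) ∧ (G ≠ ⊥ → MulAction.IsPreprimitive G α) := by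
  replace h2 : H14.Hom G α 2 := H14.hom_iff.2 ⟨h2.1⟩
  constructor
  · intro he
    obtain ⟨t, ht⟩ := exists_prime_orderOf_dvd_card' (G := G) 2 he.two_dvd
    obtain ⟨x, hx⟩ := H14.exists_smul_ne (α := α) (g := t) (by rintro rfl; simp at ht)
    refine h2.two_trans_of_swap hx ?_
    rw [← mul_smul, ← pow_two, ← ht, pow_orderOf_eq_one, one_smul]
  · intro hG
    have := (Subgroup.nontrivial_iff_ne_bot G).2 hG
    obtain ⟨t, ht⟩ := exists_ne (1 : G)
    obtain ⟨x, hx⟩ := H14.exists_smul_ne (α := α) ht
    exact h2.isPreprimitive hx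

end Cfsg.Agent.S0735
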