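import Cfsg.Statements.S0737
import Mathlib
import Cfsg.Agent.H14.Kantor
import Cfsg.Agent.S0205

set_option autoImplicit false
open Cfsg

namespace Cfsg.Agent.S0737

/-- A non-trivial 2-homogeneous permutation group that is not doubly transitive has odd order and degree `p^f ≡ 3 (mod 4)`, and is permutation-isomorphic to a group of semi-affine transformations `x ↦ a φ(x) + b` of the field with `p^f` elements containing all translations. -/
theorem result {α : Type*} [Fintype α] [DecidableEq α] (G : Subgroup (Equiv.Perm α)) (hne : G ≠ ⊥) (h2 : MulAction.IsPretransitive G (Set.powersetCard α 2)) (hn2 : ¬ MulAction.IsMultiplyPretransitive G α 2) : Odd (Nat.card G) ∧ ∃ (p f : ℕ) (_ : Fact p.Prime), p ≠ 2 ∧ Fintype.card α = p ^ f ∧ p ^ f % 4 = 3 ∧ ∃ e : α ≃ GaloisField p f, (∀ g : G, e.symm.trans (((g : Equiv.Perm α)).trans e) ∈ Cfsg.semiaffineGroup (GaloisField p f)) ∧ ∀ b : GaloisField p f, ∃ g : G, ∀ x : α, e ((g : Equiv.Perm α) x) = e x + b := by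
  replace h2 : H14.Hom G α 2 := H14.hom_iff.2 ⟨h2.1⟩
  have hodd : Odd (Nat.card G) := by
    refine Nat.not_even_iff_odd.1 fun he => hn2 ?_
    obtain ⟨t, ht⟩ := exists_prime_orderOf_dvd_card' (G := G) 2 he.two_dvd
    obtain ⟨x, hx⟩ := H14.exists_smul_ne (α := α) (g := t) (by rintro rfl; simp at ht)
    refine h2.two_trans_of_swap hx ?_
    rw [← mul_smul, ← pow_two, ← ht, pow_orderOf_eq_one, one_smul]
  have := Cfsg.Agent.S0205.result hodd
  have := (Subgroup.nontrivial_iff_ne_bot G).2 hne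
  obtain ⟨p, f, hp, h3, h4, h5, e, h6, h7⟩ := H14.kantor_solvable hodd h2
  refine ⟨hodd, p, f, hp, h3, by rw [← h4, Nat.card_eq_fintype_card], h5, e, fun g => ?_, h7⟩
  obtain ⟨a, b, φ, h⟩ := h6 g
  exact ⟨a, b, φ, fun x => (h (e.symm x)).trans (by rw [e.apply_symm_apply])⟩

end Cfsg.Agent.S0737
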