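import Cfsg.Statements.S0752
import Mathlib
import Cfsg.Agent.H15.Bases

set_option autoImplicit false
open Cfsg

namespace Cfsg.Agent.S0752

/-- Classification of alternating forms: for an alternating bilinear form B on a finite-dimensional space over any field there is a basis indexed by (Fin m ⊕ Fin m) ⊕ Fin k such that B (e_i, f_j) = δ_ij, the e's are pairwise orthogonal, the f's are pairwise orthogonal, and the last k basis vectors are orthogonal to everything (they span the radical). -/
theorem result {F V : Type*} [Field F] [AddCommGroup V] [Module F V] [FiniteDimensional F V] (B : LinearMap.BilinForm F V) (hA : B.IsAlt) : ∃ (m k : ℕ) (b : Module.Basis ((Fin m ⊕ Fin m) ⊕ Fin k) F V), (∀ i j : Fin m, B (b (Sum.inl (Sum.inl i))) (b (Sum.inl (Sum.inr j))) = if i = j then 1 else 0) ∧ (∀ i j : Fin m, B (b (Sum.inl (Sum.inl i))) (b (Sum.inl (Sum.inl j))) = 0) ∧ (∀ i j : Fin m, B (b (Sum.inl (Sum.inr i))) (b (Sum.inl (Sum.inr j))) = 0) ∧ (∀ (j : Fin k) (v : V), B (b (Sum.inr j)) v = 0) :=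 by
  obtain ⟨W, hc⟩ := Submodule.exists_isCompl (LinearMap.ker B)
  let Φ := H15.ofAlt B hA
  have hR : ∀ r : LinearMap.ker B, ∀ v, B r v = 0 := fun r v => by
    rw [LinearMap.mem_ker.1 r.2]; rfl
  have hnd : (Φ.restrict W).Nondeg := by
    intro x hx
    have : (x : V) ∈ LinearMap.ker B := by
      rw [LinearMap.mem_ker]
      ext v
      obtain ⟨a, ha, b, hb, rfl⟩ := Submodule.mem_sup.1
        (show v ∈ LinearMap.ker B ⊔ W by rw [hc.sup_eq_top]; trivial)
      have h1 : B x a = 0 := by rw [← hA.neg_eq, hR ⟨a, ha⟩, neg_zero]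
      have h2 : B x b = 0 := hx ⟨b, hb⟩
      simp [h1, h2]
    exact Subtype.ext (Submodule.disjoint_def.1 hc.disjoint _ this x.2)
  obtain ⟨k, e, f, H, hk⟩ := ((H15.ofAlt_isAlt B hA).comap W.subtype).exists_hyp hnd
  let bW := H.basis (by simpa using hk)
  let bR := Module.finBasis F (LinearMap.ker B)
  let b := (bW.prod bR).map (Submodule.prodEquivOfIsCompl W (LinearMap.ker B) hc.symm)
  have h1 : ∀ i, b (Sum.inl i) = (Sum.elim e f i : W) := fun i => by
    simp [b, bW]
  have h2 : ∀ i, b (Sum.inr i) = bR i := fun i => by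
    simp [b]
  refine ⟨k, _, b, fun i j => ?_, fun i j => ?_, fun i j => ?_, fun j v => ?_⟩
  · rw [h1, h1]; exact H.ef i j
  · rw [h1, h1]; exact H.ee i j
  · rw [h1, h1]; exact H.ff i j
  · rw [h2]; exact hR _ v

end Cfsg.Agent.S0752
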