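import Cfsg.Statements.S0757
import Mathlib
import Cfsg.Agent.H15.Disc

set_option autoImplicit false
open Cfsg

namespace Cfsg.Agent.S0757

/-- The two diagonal forms Σ x_i^2 and Σ_(i<n) x_i^2 + α x_n^2 on F^(n+1), with α a non-square and 2 ≠ 0 in F, are inequivalent quadratic forms (so over a finite field of odd order there are exactly two classes of non-singular symmetric bilinear forms in each dimension). -/
theorem result {F : Type*} [Field F] (h2 : (2 : F) ≠ 0) (n : ℕ) (α : F) (hα : ¬ IsSquare α) : ¬ (QuadraticMap.weightedSumSquares F (fun _ : Fin (n + 1) => (1 : F))).Equivalent (QuadraticMap.weightedSumSquares F (fun i : Fin (n + 1) => if i = Fin.last n then α else (1 : F))) := by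
  rintro ⟨e⟩
  have key : ∀ (w : Fin (n + 1) → F) (i j : Fin (n + 1)),
      QuadraticMap.polar (QuadraticMap.weightedSumSquares F w) (Pi.single i 1) (Pi.single j 1) =
        if i = j then 2 * w i else 0 := by
    intro w i j
    simp only [QuadraticMap.polar, QuadraticMap.weightedSumSquares_apply, ← Finset.sum_sub_distrib,
      smul_eq_mul, Pi.add_apply]
    rw [Finset.sum_eq_single i]
    · by_cases hij : i = j
      · subst hij; simp; ring
      · simp [hij]
    · intro k _ hk
      simp [hk]
    · simp
  let Φ := H15.ofQuad (QuadraticMap.weightedSumSquares F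
    (fun i : Fin (n + 1) => if i = Fin.last n then α else (1 : F)))
  have hB : ∀ i j, Φ.B (e (Pi.single i 1)) (e (Pi.single j 1)) = if i = j then 2 else 0 := by
    intro i j
    have := key (fun _ => 1) i j
    rw [mul_one] at this
    rw [← this]
    simp only [Φ, H15.ofQuad_B, QuadraticMap.polar, ← map_add, e.map_app]
  obtain ⟨d, hd⟩ := Φ.exists_prod_orth_eq (Pi.basisFun F (Fin (n + 1)))
    (fun i => e (Pi.single i 1)) rfl (fun i j hij => by rw [hB, if_neg hij])
  rw [Φ.det_gram_orth _ (fun i j hij => by simp [Φ, key, hij])] at hd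
  simp only [hB, if_true, Φ, H15.ofQuad_B, Pi.basisFun_apply, key, Finset.prod_mul_distrib,
    Finset.prod_ite_eq', Finset.mem_univ, RingHom.id_apply] at hd
  have h3 : (∏ _i : Fin (n + 1), (2 : F)) ≠ 0 := Finset.prod_ne_zero_iff.2 fun _ _ => h2
  have h4 : d * d * α = 1 := by
    apply mul_left_cancel₀ h3
    linear_combination -hd
  have hd0 : d ≠ 0 := by rintro rfl; simp at h4
  exact hα ⟨1 / d, by field_simp; linear_combination h4⟩

end Cfsg.Agent.S0757
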