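import Cfsg.Statements.S0758
import Mathlib
import Cfsg.Agent.H15.Finite

set_option autoImplicit false
open Cfsg

namespace Cfsg.Agent.S0758

/-- For a finite field F of odd order q and a non-square α: the form x² + y² is isotropic iff q ≡ 1 mod 4, and the form x² + α y² is isotropic iff q ≡ 3 mod 4. -/
theorem result {F : Type*} [Field F] [Fintype F] (h2 : (2 : F) ≠ 0) (α : F) (hα : ¬ IsSquare α) : ((∃ x y : F, (x ≠ 0 ∨ y ≠ 0) ∧ x ^ 2 + y ^ 2 = 0) ↔ Fintype.card F % 4 = 1) ∧ ((∃ x y : F, (x ≠ 0 ∨ y ≠ 0) ∧ x ^ 2 + α * y ^ 2 = 0) ↔ Fintype.card F % 4 = 3) := by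
  have hodd := Nat.odd_iff.1 (H15.card_odd_iff.2 h2)
  have h1 := H15.isSquare_neg_one_iff' h2
  have hα0 : α ≠ 0 := by rintro rfl; exact hα IsSquare.zero
  have key : ∀ β : F, β ≠ 0 →
      ((∃ x y : F, (x ≠ 0 ∨ y ≠ 0) ∧ x ^ 2 + β * y ^ 2 = 0) ↔ IsSquare (-β)) := by
    intro β hβ
    constructor
    · rintro ⟨x, y, hxy, h⟩
      have hy : y ≠ 0 := by
        rintro rfl
        have : x = 0 := by simpa using h
        simp [this] at hxy
      exact ⟨x / y, by field_simp; linear_combination -h⟩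
    · rintro ⟨c, hc⟩
      exact ⟨c, 1, Or.inr one_ne_zero, by linear_combination -hc⟩
  constructor
  · rw [← h1, ← key 1 one_ne_zero]
    simp
  · rw [key α hα0]
    constructor
    · intro h
      by_contra h3
      have h4 : IsSquare (-1 : F) := h1.2 (by omega)
      exact hα (by simpa using h.mul h4)
    · intro h
      have h4 : ¬ IsSquare (-1 : F) := fun h5 => by have := h1.1 h5; omega
      simpa using H15.isSquare_mul_of_not h4 hα

end Cfsg.Agent.S0758
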