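import Cfsg.Statements.S0759
import Mathlib
import Cfsg.Agent.H15.Disc

set_option autoImplicit false
open Cfsg

namespace Cfsg.Agent.S0759

/-- Type of the orthonormal form: over a finite field of odd order q and for m ≥ 1, the quadratic form Σ_(i<2m) x_i² on F^(2m) admits an m-dimensional subspace on which it vanishes identically if and only if it is not the case that q ≡ 3 (mod 4) and m is odd. -/
theorem result {F : Type*} [Field F] [Fintype F] (h2 : (2 : F) ≠ 0) (m : ℕ) (hm : 1 ≤ m) : (∃ W : Submodule F (Fin (2 * m) → F), Module.finrank F W = m ∧ ∀ w ∈ W, ∑ i, w i ^ 2 = 0) ↔ ¬ (Fintype.card F % 4 = 3 ∧ Odd m) := by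
  let B : LinearMap.BilinForm F (Fin (2 * m) → F) := Matrix.toBilin' 1
  have hB : ∀ x y, B x y = ∑ i, x i * y i := fun x y => by
    simp [B, Matrix.toBilin'_apply', dotProduct]
  have hS : B.IsSymm := ⟨fun x y => by simp [hB, mul_comm]⟩
  let Φ := H15.ofSymm h2 B hS
  have hG : (Φ.gram (Pi.basisFun F (Fin (2 * m)))).det = 1 := by
    rw [Φ.det_gram_orth _ (fun i j hij => by simp [Φ, hB, Pi.single_apply, hij.symm])]
    simp [Φ, hB, Pi.single_apply]
  have hnd : Φ.Nondeg := Φ.nondeg_of_det_gram_ne_zero _ (by rw [hG]; exact one_ne_zero)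
  have key := hnd.plus_iff h2 rfl (fun _ _ => rfl) (Pi.basisFun F (Fin (2 * m))) (m := m) (by simp)
  rw [hG, mul_one] at key
  have h1 : (∃ W : Submodule F (Fin (2 * m) → F), Module.finrank F W = m ∧
      ∀ w ∈ W, ∑ i, w i ^ 2 = 0) ↔ ∃ U : Submodule F (Fin (2 * m) → F),
        Module.finrank F U = m ∧ Φ.TotSing U := by
    refine exists_congr fun W => and_congr_right fun _ => ⟨fun h => ⟨fun x hx y hy => ?_,
      fun _ _ => rfl⟩, fun h w hw => ?_⟩
    · have e1 := h x hx
      have e2 := h y hy
      have e3 := h _ (W.add_mem hx hy)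
      simp only [Pi.add_apply, add_sq, Finset.sum_add_distrib, e1, e2, mul_assoc,
        ← Finset.mul_sum] at e3
      change B x y = 0
      rw [hB]
      simpa [h2] using e3
    · have := h.1 w hw w hw
      change B w w = 0 at this
      rw [hB] at this
      simpa [sq] using this
  rw [h1, key]
  have hodd := Nat.odd_iff.1 (H15.card_odd_iff.2 h2)
  rcases Nat.even_or_odd m with he | ho
  · rw [he.neg_one_pow]
    simp [Nat.not_odd_iff_even.2 he]
  · rw [ho.neg_one_pow, H15.isSquare_neg_one_iff' h2]
    simp only [ho, and_true]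
    omega

end Cfsg.Agent.S0759
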