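import Cfsg.Statements.S0760
import Mathlib
import Cfsg.Agent.H15.Bases

set_option autoImplicit false
open Cfsg

namespace Cfsg.Agent.S0760

/-- Witt index is well defined: if Q is a quadratic form on a finite-dimensional space V over a finite field with non-degenerate polar form, and W₁, W₂ are subspaces on which Q vanishes that are maximal with this property, then W₁ and W₂ have the same dimension, and twice this dimension is at most dim V. -/
theorem result {F V : Type*} [Field F] [Finite F] [AddCommGroup V] [Module F V] [FiniteDimensional F V] (Q : QuadraticForm F V) (hQ : (QuadraticMap.polarBilin Q).Nondegenerate) (W₁ W₂ : Submodule F V) (h₁ : ∀ w ∈ W₁, Q w = 0) (h₂ : ∀ w ∈ W₂, Q w = 0) (hmax₁ : ∀ W : Submodule F V, W₁ ≤ W → (∀ w ∈ W, Q w = 0) → W = W₁) (hmax₂ : ∀ W : Submodule F V, W₂ ≤ W → (∀ w ∈ W, Q w = 0) → W = W₂) : Module.finrank F W₁ = Module.finrank F W₂ ∧ 2 * Module.finrank F W₁ ≤ Module.finrank F V := by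
  let Φ := H15.ofQuad Q
  have hT : ∀ W : Submodule F V, Φ.TotSing W ↔ ∀ w ∈ W, Q w = 0 := fun W =>
    ⟨fun h => h.2, fun h => ⟨fun x hx y hy => by
      simp [Φ, QuadraticMap.polar, h x hx, h y hy, h _ (W.add_mem hx hy)], h⟩⟩
  have hnd : Φ.Nondeg := hQ.1
  refine ⟨le_antisymm ?_ ?_, ((hT _).2 h₁).two_mul_finrank_le hnd⟩
  · exact hnd.finrank_le_of_maximal ((hT _).2 h₂) (fun X h1 h2 => hmax₂ X h1 ((hT _).1 h2))
      ((hT _).2 h₁)
  · exact hnd.finrank_le_of_maximal ((hT _).2 h₁) (fun X h1 h2 => hmax₁ X h1 ((hT _).1 h2))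
      ((hT _).2 h₂)

end Cfsg.Agent.S0760
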