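import Cfsg.Statements.S0763
import Mathlib
import Cfsg.Agent.H15.Bases

set_option autoImplicit false
open Cfsg

namespace Cfsg.Agent.S0763

/-- Binary quadratic forms in characteristic two over a finite field: if Q is a quadratic form on a 2-dimensional space whose polar form is non-degenerate, then either there are vectors v, w with Q v = Q w = 0 and polar value 1 (Q is xy in these coordinates), or there are v, w and μ with Q v = 1, Q w = μ, polar value 1 and x² + x + μ without roots in F (Q is x² + xy + μy²). -/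
theorem result {F V : Type*} [Field F] [Finite F] [CharP F 2] [AddCommGroup V] [Module F V] (Q : QuadraticForm F V) (h2 : Module.finrank F V = 2) (hQ : (QuadraticMap.polarBilin Q).Nondegenerate) : (∃ v w : V, LinearIndependent F ![v, w] ∧ Q v = 0 ∧ Q w = 0 ∧ QuadraticMap.polar Q v w = 1) ∨ (∃ (v w : V) (μ : F), LinearIndependent F ![v, w] ∧ (∀ x : F, x ^ 2 + x + μ ≠ 0) ∧ Q v = 1 ∧ Q w = μ ∧ QuadraticMap.polar Q v w = 1) := by
  have : FiniteDimensional F V := Module.finite_of_finrank_pos (by omega)
  have h20 : (2 : F) = 0 := CharTwo.two_eq_zero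
  let Φ := H15.ofQuad Q
  have hnd : Φ.Nondeg := hQ.1
  have hxx : ∀ x, Φ.B x x = 0 := fun x => by
    simp [Φ, h20]
  have hli : ∀ v w : V, v ≠ 0 → Φ.B v w = 1 → LinearIndependent F ![v, w] := fun v w hv hvw => by
    rw [LinearIndependent.pair_iff]
    intro s t hst
    have := congrArg (Φ.B v) hst
    simp only [map_add, map_smul, hxx, hvw, smul_eq_mul, mul_zero, zero_add, mul_one,
      map_zero] at this
    subst this
    simpa [hv] using hst
  by_cases hs : ∃ v : V, v ≠ 0 ∧ Q v = 0
  · obtain ⟨v, hv, hQv⟩ := hs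
    obtain ⟨w, -, h1, -, h3⟩ := hnd.exists_hyp_partner (H := ⊥) (p := v) (by simpa using hv)
      (hxx v) hQv (by simp)
    exact Or.inl ⟨v, w, hli v w hv h1, hQv, h3, h1⟩
  · push Not at hs
    right
    have : Nontrivial V := Module.nontrivial_of_finrank_pos (R := F) (by omega)
    obtain ⟨u, hu⟩ := exists_ne (0 : V)
    obtain ⟨c, hc⟩ := H15.isSquare_of_two_eq_zero h20 (Q u)⁻¹
    have hv1 : Q (c • u) = 1 := by
      rw [QuadraticMap.map_smul, ← hc, smul_eq_mul, inv_mul_cancel₀ (hs u hu)]
    have hv0 : c • u ≠ 0 := by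
      intro h0; rw [h0, map_zero] at hv1; exact zero_ne_one hv1
    obtain ⟨w, hw⟩ := hnd.exists_B_eq_one hv0
    refine ⟨c • u, w, Q w, hli _ _ hv0 hw, fun x hx => ?_, hv1, rfl, hw⟩
    have h1 := Φ.Q_add_smul w (c • u) x
    have h3 : Φ.B w (c • u) = 1 := Φ.B_symm_one hw
    rw [h3] at h1
    simp only [Φ, H15.ofQuad_Q, hv1, H15.ofQuad_tau] at h1
    refine hs (w + x • c • u) (fun h0 => ?_) (by rw [h1]; linear_combination hx)
    have := congrArg (Φ.B (c • u)) h0
    rw [map_add, hw, LinearMap.map_smul, hxx] at this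
    simp at this

end Cfsg.Agent.S0763
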