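import Cfsg.Statements.S0764
import Mathlib
import Cfsg.Agent.H15.Mat

set_option autoImplicit false
open Cfsg

namespace Cfsg.Agent.S0764

/-- Symplectic transvections are isometries: for every vector v and scalar c the matrix of x ↦ x + c f(x, v) v lies in the symplectic group. -/
theorem result {F : Type*} [Field F] (m : ℕ) (v : Fin m ⊕ Fin m → F) (c : F) : Cfsg.sympTransvection m v c ∈ Matrix.symplecticGroup (Fin m) F := by
  rw [H15.mem_symplecticGroup_iff]
  intro x y
  rw [H15.sympTransvection_mulVec, H15.sympTransvection_mulVec]
  simp only [← H15.sympB_apply, map_add, map_smul, LinearMap.add_apply, LinearMap.smul_apply,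
    smul_eq_mul, (H15.sympB_isAlt m F).self_eq_zero, ← (H15.sympB_isAlt m F).neg_eq y v]
  ring

end Cfsg.Agent.S0764
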