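import Cfsg.Statements.S0766
import Mathlib
import Cfsg.Agent.H15.Transv
import Cfsg.Agent.S0765

set_option autoImplicit false
open Cfsg

namespace Cfsg.Agent.S0766

/-- The subgroup generated by the symplectic transvections acts transitively on ordered pairs (u, v) with f(u, v) = 1. -/
theorem result {F : Type*} [Field F] (m : ℕ) (u v u' v' : Fin m ⊕ Fin m → F) (h : Cfsg.sympForm m F u v = 1) (h' : Cfsg.sympForm m F u' v' = 1) : ∃ A ∈ Subgroup.closure {A : Matrix.symplecticGroup (Fin m) F | ∃ (w : Fin m ⊕ Fin m → F) (c : F), (A : Matrix (Fin m ⊕ Fin m) (Fin m ⊕ Fin m) F) = Cfsg.sympTransvection m w c}, (A : Matrix (Fin m ⊕ Fin m) (Fin m ⊕ Fin m) F).mulVec u = u' ∧ (A : Matrix (Fin m ⊕ Fin m) (Fin m ⊕ Fin m) F).mulVec v = v' := by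
  rw [Cfsg.Agent.S0765.result]
  have hA := H15.spForm_isAlt (F := F) m
  have key : ∀ u v, Cfsg.sympForm m F u v = 1 →
      (H15.spForm m F).Hyp (fun _ : Unit => u) (fun _ : Unit => v) := fun u v h =>
    ⟨fun _ _ => hA.1 _, fun _ _ => hA.1 _, fun _ _ => (H15.spForm_B u v).trans h,
      fun _ => rfl, fun _ => rfl⟩
  have H := key u v h
  have H' := key u' v' h'
  obtain ⟨g, hg⟩ := (H15.spForm_nondeg m F).witt_family _ _ H.linearIndependent
    H'.linearIndependent (by
      rintro (i | i) (j | j)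
      · exact (H'.ee i j).trans (H.ee i j).symm
      · exact (H'.ef i j).trans (H.ef i j).symm
      · exact (H'.fe i j).trans (H.fe i j).symm
      · exact (H'.ff i j).trans (H.ff i j).symm) (fun _ => rfl)
  refine ⟨(H15.spEquiv m F).symm g, trivial, ?_, ?_⟩
  · rw [← H15.spEquiv_apply, MulEquiv.apply_symm_apply]; exact hg (Sum.inl ())
  · rw [← H15.spEquiv_apply, MulEquiv.apply_symm_apply]; exact hg (Sum.inr ())

end Cfsg.Agent.S0766
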