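import Cfsg.Statements.S0768
import Mathlib
import Cfsg.Agent.H15.Transv

set_option autoImplicit false
open scoped LinearAlgebra.Projectivization
open Cfsg

namespace Cfsg.Agent.S0768

open H15 H15.Form in
theorem block {F : Type*} [Field F] {V : Type*} [AddCommGroup V] [Module F V]
    [FiniteDimensional F V] {Φ : H15.Form (RingHom.id F) V} (hA : Φ.IsAlt) (h : Φ.Nondeg)
    (S : Set V) (hS : ∀ g : Φ.Isom, ∀ x ∈ S, g.1 x = x → ∀ y ∈ S, g.1 y ∈ S)
    (hsm : ∀ c : F, c ≠ 0 → ∀ x ∈ S, c • x ∈ S) {u v : V} (hu : u ∈ S) (hv : v ∈ S)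
    (huv : v ∉ Submodule.span F {u}) (w : V) (hw : w ≠ 0) : w ∈ S := by
  have step : ∀ a ∈ S, ∀ b ∈ S, ∀ c, b ∉ Submodule.span F {a} → c ∉ Submodule.span F {a} →
      Φ.B a c = Φ.B a b → c ∈ S := by
    intro a ha b hb c h1 h2 h3
    obtain ⟨g, hg1, hg2⟩ := h.key (Submodule.span F {a}) h1 h2 (fun x hx => by
      obtain ⟨t, rfl⟩ := Submodule.mem_span_singleton.1 hx
      simp [h3]) (by rw [hA.1, hA.1]) (by rw [hA.2, hA.2])
    rw [← hg2]
    exact hS g a ha (hg1 a (Submodule.mem_span_singleton_self a)) b hb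
  have notmem : ∀ a b : V, Φ.B a b ≠ 0 → b ∉ Submodule.span F {a} := by
    intro a b h1 h2
    obtain ⟨t, rfl⟩ := Submodule.mem_span_singleton.1 h2
    exact h1 (by simp [hA.1])
  have step2 : ∀ a ∈ S, ∀ b ∈ S, Φ.B a b ≠ 0 → ∀ c, Φ.B a c ≠ 0 → c ∈ S := by
    intro a ha b hb h1 c h2
    have h3 : Φ.B a ((Φ.B a b / Φ.B a c) • c) = Φ.B a b := by
      rw [map_smul, smul_eq_mul, div_mul_cancel₀ _ h2]
    have := hsm _ (inv_ne_zero (div_ne_zero h1 h2)) _
      (step a ha b hb _ (notmem a b h1) (notmem _ _ (by rwa [h3])) h3)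
    rwa [smul_smul, inv_mul_cancel₀ (div_ne_zero h1 h2), one_smul] at this
  have step3 : ∀ a ∈ S, ∀ b ∈ S, Φ.B a b ≠ 0 → w ∈ S := by
    intro a ha b hb h1
    have ha0 : a ≠ 0 := by rintro rfl; simp at h1
    obtain ⟨z, -, hz1, hz2⟩ := h.exists_perp_two (H := ⊥) (u := a) (u' := w) (by simpa using ha0)
      (by simpa using hw)
    have hz3 : Φ.B z a ≠ 0 := by rw [hz1]; exact one_ne_zero
    exact step2 z (step2 a ha b hb h1 z fun h0 => hz3 (Φ.B_eq_zero_comm.1 h0)) a ha hz3 w hz2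
  by_cases h0 : Φ.B u v = 0
  swap
  · exact step3 u hu v hv h0
  obtain ⟨z, hz1, hz2⟩ := h.exists_perp_eq_one' huv
  have hz3 : Φ.B v z ≠ 0 := by rw [hz2]; exact one_ne_zero
  refine step3 v hv z (step u hu v hv z huv (fun hz => ?_) ?_) hz3
  · obtain ⟨t, rfl⟩ := Submodule.mem_span_singleton.1 hz
    exact hz3 (by rw [map_smul, Φ.B_eq_zero_comm.1 h0, smul_zero])
  · rw [h0, hz1 u (Submodule.mem_span_singleton_self u)]


/-- Primitivity: for m ≥ 1 and F finite, the symplectic group of the form sympForm (as a subgroup of the general linear group) acts primitively on the projective space of F^(2m). -/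
theorem result {F : Type*} [Field F] [Finite F] (m : ℕ) (hm : 1 ≤ m) : MulAction.IsPreprimitive ↥(Cfsg.spGL m F) (ℙ F (Fin m ⊕ Fin m → F)) := by
  have hA := H15.spForm_isAlt (F := F) m
  have h := H15.spForm_nondeg m F
  have hsm : ∀ (g : (H15.spForm m F).Isom) (v : Fin m ⊕ Fin m → F) (hv : v ≠ 0)
      (hv' : g.1 v ≠ 0), (H15.spGLEquiv m F).symm g • Projectivization.mk F v hv =
        Projectivization.mk F (g.1 v) hv' := by
    intro g v hv hv'
    obtain ⟨A, rfl⟩ := (H15.spGLEquiv m F).surjective g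
    rw [MulEquiv.symm_apply_apply]
    rfl
  haveI : MulAction.IsPretransitive (Cfsg.spGL m F) (ℙ F (Fin m ⊕ Fin m → F)) := ⟨fun x y => by
    induction x using Projectivization.ind with | h u hu =>
    induction y using Projectivization.ind with | h v hv =>
    obtain ⟨g, rfl⟩ := h.witt_one hu hv (by rw [hA.1, hA.1]) rfl
    exact ⟨_, hsm g u hu hv⟩⟩
  refine ⟨fun {B} hB => ?_⟩
  by_cases hB1 : B.Subsingleton
  · exact Or.inl hB1
  right
  rw [Set.not_subsingleton_iff] at hB1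
  obtain ⟨x, hx, y, hy, hxy⟩ := hB1
  induction x using Projectivization.ind with | h u hu =>
  induction y using Projectivization.ind with | h v hv =>
  rw [Set.eq_univ_iff_forall]
  intro z
  induction z using Projectivization.ind with | h w hw =>
  obtain ⟨_, h1⟩ := block hA h {x | ∃ hx : x ≠ 0, Projectivization.mk F x hx ∈ B} (by
      rintro g a ⟨ha, ha'⟩ hg b ⟨hb, hb'⟩
      have hb2 : g.1 b ≠ 0 := by simpa using hb
      refine ⟨hb2, ?_⟩
      have := hB.smul_eq_of_mem (g := (H15.spGLEquiv m F).symm g) ha' (by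
        rw [hsm g a ha (by rwa [hg])]
        simpa only [hg] using ha')
      rw [← hsm g b hb, ← this]
      exact Set.smul_mem_smul_set hb') (by
      rintro c hc a ⟨ha, ha'⟩
      refine ⟨smul_ne_zero hc ha, ?_⟩
      rwa [(Projectivization.mk_eq_mk_iff' F _ _ _ ha).2 ⟨c, rfl⟩]) (u := u) (v := v) ⟨hu, hx⟩
    ⟨hv, hy⟩ (fun h0 => hxy ((Projectivization.mk_eq_mk_iff' F _ _ _ _).2
      (Submodule.mem_span_singleton.1 h0)).symm) w hw
  exact h1

end Cfsg.Agent.S0768
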