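import Cfsg.Statements.S0770
import Mathlib
import Cfsg.Agent.H15.GL

set_option autoImplicit false
open Cfsg

namespace Cfsg.Agent.S0770

/-- For a field with at least 3 elements, an invertible matrix normalises the subgroup of invertible diagonal matrices of GL_n if and only if it is monomial (exactly one non-zero entry in each row). -/
theorem result {F : Type*} [Field F] (hF : ∃ a : F, a ≠ 0 ∧ a ≠ 1) (n : ℕ) (g : Matrix.GeneralLinearGroup (Fin n) F) : g ∈ Subgroup.normalizer ((Units.map (Matrix.diagonalRingHom (Fin n) F).toMonoidHom).range : Subgroup (Matrix.GeneralLinearGroup (Fin n) F)) ↔ ∀ i : Fin n, ∃! j : Fin n, (g : Matrix (Fin n) (Fin n) F) i j ≠ 0 := by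
  obtain ⟨a, ha0, ha1⟩ := hF
  have hT : ∀ h : Matrix.GeneralLinearGroup (Fin n) F,
      h ∈ (Units.map (Matrix.diagonalRingHom (Fin n) F).toMonoidHom).range ↔
        (Cfsg.glToMat (Fin n) F h).IsDiag := by
    intro h
    constructor
    · rintro ⟨d, rfl⟩
      exact Matrix.isDiag_diagonal _
    · intro hd
      have h1 := h.det_ne_zero
      have h2 : Matrix.diagonal (h : Matrix (Fin n) (Fin n) F).diag = h := hd.diagonal_diag
      rw [← h2, Matrix.det_diagonal, Finset.prod_ne_zero_iff] at h1
      have h3 : IsUnit (h : Matrix (Fin n) (Fin n) F).diag :=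
        Pi.isUnit_iff.2 fun i => Ne.isUnit (h1 i (Finset.mem_univ i))
      exact ⟨h3.unit, Units.ext h2⟩
  have hsep : ∀ j k : Fin n, j ≠ k →
      ∃ t ∈ (Units.map (Matrix.diagonalRingHom (Fin n) F).toMonoidHom).range,
        Cfsg.glToMat (Fin n) F t j j ≠ Cfsg.glToMat (Fin n) F t k k := by
    intro j k hjk
    have h3 : IsUnit (Function.update (1 : Fin n → F) j a) := Pi.isUnit_iff.2 fun i => Ne.isUnit (by
      by_cases hi : i = j
      · simpa [hi] using ha0
      · simp [hi])
    refine ⟨_, ⟨h3.unit, rfl⟩, ?_⟩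
    change Matrix.diagonal (Function.update (1 : Fin n → F) j a) j j ≠
      Matrix.diagonal (Function.update (1 : Fin n → F) j a) k k
    simpa [hjk.symm] using ha1
  constructor
  · intro hg i
    obtain ⟨j, hj⟩ := H15.exists_row_ne_zero (Cfsg.glToMat (Fin n) F) g i
    exact ⟨j, hj, fun k hk => H15.row_unique_of_mem_normalizer _ _ hT hsep hg i k j hk hj⟩
  · intro hg
    obtain ⟨π, c, h⟩ := H15.exists_mono_of_row (Cfsg.glToMat (Fin n) F) g
      fun i j k hj hk => (hg i).unique hj hk
    exact H15.mem_normalizer_of_mono _ _ hT h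

end Cfsg.Agent.S0770
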