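import Cfsg.Statements.S0772
import Mathlib
import Cfsg.Agent.H15.GL

set_option autoImplicit false
open Cfsg

namespace Cfsg.Agent.S0772

/-- Maximal parabolics are maximal: over a finite field, for 0 < k < n the stabiliser in GL_n of the span of the first k coordinate vectors is a maximal proper subgroup. -/
theorem result {F : Type*} [Field F] [Finite F] (n k : ℕ) (hk0 : 0 < k) (hkn : k < n) : IsCoatom (Cfsg.stabilizing (Cfsg.glToMat (Fin n) F) {v : Fin n → F | ∀ i : Fin n, k ≤ (i : ℕ) → v i = 0}) := by
  rw [← H15.coe_coordSub]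
  refine ⟨fun h0 => ?_, fun K hK => H15.gl_eq_top_of K (fun g hg => hK.le ?_) ?_⟩
  · have h1 : (⊤ : Submodule F (Fin n → F)) ≤ H15.coordSub F fun i : Fin n => k ≤ (i : ℕ) := by
      refine H15.le_of_stabilizing_le (fun h2 => ?_) (by rw [h0]; exact le_top)
      have := H15.single_mem_coordSub (p := fun i : Fin n => k ≤ (i : ℕ)) (j := ⟨0, by omega⟩)
        (by simpa using hk0.ne') (1 : F)
      rw [h2] at this
      simp at this
    have := h1 (Submodule.mem_top (x := fun _ => 1)) ⟨k, hkn⟩ le_rfl
    simp at this
  · rw [H15.coe_coordSub, H15.mem_stabilizing_coord]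
    intro i j hi hj
    exact hg (by rintro rfl; exact hj hi)
  · intro g i j c _ hg
    refine H15.mem_of_stabilizing_lt hK g (c • LinearMap.proj j) (Pi.single i 1) fun x => ?_
    rw [hg, H15.transvection_mulVec]
    rfl

end Cfsg.Agent.S0772
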