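import Cfsg.Statements.S0773
import Mathlib
import Cfsg.Agent.H15.GL

set_option autoImplicit false
open Cfsg

namespace Cfsg.Agent.S0773

/-- The inverse-transpose automorphism twisted by the reversal of coordinates. -/
def theta {F : Type*} [Field F] (n : ℕ) :
    Matrix.GeneralLinearGroup (Fin n) F →* Matrix.GeneralLinearGroup (Fin n) F :=
  MonoidHom.toHomUnits
    { toFun := fun g => ((g⁻¹ : Matrix.GeneralLinearGroup (Fin n) F) :
        Matrix (Fin n) (Fin n) F).transpose.submatrix Fin.revPerm Fin.revPerm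
      map_one' := by simp
      map_mul' := fun g h => by
        rw [mul_inv_rev, Units.val_mul, Matrix.transpose_mul, Matrix.submatrix_mul_equiv] }

theorem theta_apply {F : Type*} [Field F] (n : ℕ) (g : Matrix.GeneralLinearGroup (Fin n) F)
    (i j : Fin n) : (theta n g : Matrix (Fin n) (Fin n) F) i j =
      ((g⁻¹ : Matrix.GeneralLinearGroup (Fin n) F) : Matrix (Fin n) (Fin n) F) j.rev i.rev := rfl

theorem theta_theta {F : Type*} [Field F] (n : ℕ) (g : Matrix.GeneralLinearGroup (Fin n) F) :
    theta n (theta n g) = g := by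
  ext i j
  rw [theta_apply, ← map_inv, theta_apply, inv_inv, Fin.rev_rev, Fin.rev_rev]


/-- The stabilisers in GL_n(F), F finite, of the coordinate subspaces of dimensions k and n − k are isomorphic groups, but when 2k ≠ n (and 0 < k < n) no element of GL_n conjugates one onto the other. -/
theorem result {F : Type*} [Field F] [Finite F] (n k : ℕ) (hk0 : 0 < k) (hkn : k < n) (h2 : 2 * k ≠ n) : Nonempty (↥(Cfsg.stabilizing (Cfsg.glToMat (Fin n) F) {v : Fin n → F | ∀ i : Fin n, k ≤ (i : ℕ) → v i = 0}) ≃* ↥(Cfsg.stabilizing (Cfsg.glToMat (Fin n) F) {v : Fin n → F | ∀ i : Fin n, n - k ≤ (i : ℕ) → v i = 0})) ∧ ∀ g : Matrix.GeneralLinearGroup (Fin n) F, (Cfsg.stabilizing (Cfsg.glToMat (Fin n) F) {v : Fin n → F | ∀ i : Fin n, k ≤ (i : ℕ) → v i = 0}).map (MulAut.conj g).toMonoidHom ≠ Cfsg.stabilizing (Cfsg.glToMat (Fin n) F) {v : Fin n → F | ∀ i : Fin n, n - k ≤ (i : ℕ) → v i = 0} := by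
  have hr : ∀ l ≤ n, Module.finrank F (H15.coordSub F fun i : Fin n => l ≤ (i : ℕ)) = l := by
    intro l hl
    rw [H15.finrank_coordSub]
    simp only [not_le]
    exact Fintype.card_fin_lt_of_le hl
  constructor
  · refine ⟨H15.subgroupEquivOfMem
      (MulEquiv.ofBijective (theta n) (Function.Involutive.bijective (theta_theta n))) _ _ fun g => ?_⟩
    rw [← Subgroup.inv_mem_iff, H15.mem_stabilizing_coord, H15.mem_stabilizing_coord]
    constructor
    · intro h i j hi hj
      exact h j.rev i.rev (by simp only [Fin.val_rev]; omega) (by simp only [Fin.val_rev]; omega)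
    · intro h i j hi hj
      have := h j.rev i.rev (by simp only [Fin.val_rev]; omega) (by simp only [Fin.val_rev]; omega)
      change (theta n g : Matrix (Fin n) (Fin n) F) _ _ = 0 at this
      rwa [theta_apply, Fin.rev_rev, Fin.rev_rev] at this
  · intro g hg
    rw [← H15.coe_coordSub, ← H15.coe_coordSub] at hg
    have h1 := hr k hkn.le
    have h2 := hr (n - k) (Nat.sub_le _ _)
    generalize (H15.coordSub F fun i : Fin n => k ≤ (i : ℕ)) = U at hg h1
    generalize (H15.coordSub F fun i : Fin n => n - k ≤ (i : ℕ)) = W at hg h2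
    have h3 : Module.finrank F (U.map (H15.glEquiv (Fin n) F g).toLinearMap) = k := by
      rw [LinearEquiv.finrank_map_eq, h1]
    have h4 : Cfsg.stabilizing (Cfsg.glToMat (Fin n) F)
        (U.map (H15.glEquiv (Fin n) F g).toLinearMap : Set (Fin n → F)) =
        Cfsg.stabilizing (Cfsg.glToMat (Fin n) F) (W : Set (Fin n → F)) := by
      rw [← hg]
      ext x
      rw [Subgroup.mem_map_equiv, H15.mem_stabilizing, H15.mem_stabilizing,
        (H15.glEquiv (Fin n) F g).surjective.forall]
      refine forall_congr' fun v => ?_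
      simp only [SetLike.mem_coe, Submodule.mem_map_equiv, LinearEquiv.symm_apply_apply]
      refine iff_congr Iff.rfl (iff_of_eq (congrArg (· ∈ U) ?_))
      rw [LinearEquiv.symm_apply_eq, H15.glEquiv_apply, H15.glEquiv_apply, Matrix.mulVec_mulVec,
        Matrix.mulVec_mulVec]
      congr 1
      change ((x * g : Matrix.GeneralLinearGroup (Fin n) F) : Matrix (Fin n) (Fin n) F) =
        (g * (MulAut.conj g).symm x : Matrix.GeneralLinearGroup (Fin n) F)
      rw [MulAut.conj_symm_apply, ← mul_assoc, mul_inv_cancel_left]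
    have h5 : U.map (H15.glEquiv (Fin n) F g).toLinearMap = W :=
      le_antisymm (H15.le_of_stabilizing_le (by rintro rfl; rw [finrank_bot] at h2; omega) h4.le)
        (H15.le_of_stabilizing_le (fun h0 => by rw [h0, finrank_bot] at h3; omega) h4.ge)
    rw [h5, h2] at h3
    omega

end Cfsg.Agent.S0773
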