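import Cfsg.Statements.S0774
import Mathlib
import Cfsg.Agent.H15.Parab

set_option autoImplicit false
open Cfsg

namespace Cfsg.Agent.S0774

/-- Borel subgroup of the symplectic group: the elements of Sp_2m(q) stabilising each of the totally isotropic coordinate subspaces ⟨e_0, ..., e_k⟩ (k < m) form a subgroup of order q^(m²) (q − 1)^m. -/
theorem result {F : Type*} [Field F] [Fintype F] {q : ℕ} (hF : Fintype.card F = q) (m : ℕ) : Nat.card ↥(⨅ k : Fin m, Cfsg.stabilizing (Cfsg.spToMat m F) {v : Fin m ⊕ Fin m → F | (∀ i : Fin m, (k : ℕ) < (i : ℕ) → v (Sum.inl i) = 0) ∧ ∀ i : Fin m, v (Sum.inr i) = 0}) = q ^ (m ^ 2) * (q - 1) ^ m := by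
  subst hF
  obtain ⟨B, hB⟩ : ∃ B, B = ⨅ k : Fin m, Cfsg.stabilizing (Cfsg.spToMat m F)
    {v : Fin m ⊕ Fin m → F | (∀ i : Fin m, (k : ℕ) < (i : ℕ) → v (Sum.inl i) = 0) ∧
      ∀ i : Fin m, v (Sum.inr i) = 0} := ⟨_, rfl⟩
  rw [← hB]
  have hmem : ∀ g, g ∈ B ↔ (∀ i j, j < i → g.1 (Sum.inl i) (Sum.inl j) = 0) ∧
      ∀ i j, g.1 (Sum.inr i) (Sum.inl j) = 0 := by
    intro g
    have h1 : ∀ k : Fin m, {v : Fin m ⊕ Fin m → F | (∀ i : Fin m, (k : ℕ) < (i : ℕ) →
        v (Sum.inl i) = 0) ∧ ∀ i : Fin m, v (Sum.inr i) = 0} =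
        {v | ∀ j, Sum.elim (fun i => k < i) (fun _ => True) j → v j = 0} := fun k => by
      ext v; simp
    simp only [hB, h1, Subgroup.mem_iInf, H15.mem_stabilizing_coord]
    simp only [Sum.forall, Sum.elim_inl,
      Sum.elim_inr, not_true, false_imp_iff, implies_true, and_true, true_imp_iff, not_lt]
    exact ⟨fun h => ⟨fun i j hij => (h j).1 i j hij le_rfl, fun i j => (h j).2 i j le_rfl⟩,
      fun h k => ⟨fun i j h1 h2 => h.1 i j (h2.trans_lt h1), fun i j _ => h.2 i j⟩⟩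
  have h21 : ∀ g ∈ B, (Cfsg.spToMat m F g).toBlocks₂₁ = 0 := fun g hg => by
    ext i j; exact ((hmem g).1 hg).2 i j
  rw [H15.card_eq_card_ker_mul_card_range (H15.blk11 _ B h21)]
  have hrange : Nat.card (H15.blk11 _ B h21).range =
      Fintype.card F ^ (m * (m - 1) / 2) * (Fintype.card F - 1) ^ m := by
    rw [← H15.card_upper]
    refine Nat.card_congr (Equiv.subtypeEquivRight fun A => ⟨?_, fun hA => ?_⟩)
    · rintro ⟨g, rfl⟩
      exact ((hmem g).1 g.2).1
    · exact ⟨⟨H15.levi m F A, (hmem _).2 ⟨hA, fun _ _ => rfl⟩⟩, Units.ext rfl⟩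
  have H := H15.spForm_hyp (F := F) m
  have hli : LinearIndependent F fun i : Fin m => (Pi.single (Sum.inl i) 1 : Fin m ⊕ Fin m → F) :=
    H.linearIndependent.comp Sum.inr Sum.inr_injective
  have hker := (H15.spForm_isAlt m).card_fixer (H15.spForm_nondeg m F) (H15.finrank_sum_fun m)
    ((H15.spForm m F).totSing_span _ H.ff H.Qf) (k := m)
    (by rw [finrank_span_eq_card hli, Fintype.card_fin])
  rw [← H15.card_eq_of_mem (H15.spEquiv m F) ((H15.blk11 _ B h21).ker.map B.subtype) _ (fun g => ?_),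
    Subgroup.card_map_of_injective B.subtype_injective] at hker
  · rw [hker, hrange]
    simp only [Nat.sub_self, mul_zero, add_zero, Finset.range_zero, Finset.prod_empty, mul_one,
      ne_eq, OfNat.ofNat_ne_zero, not_false_eq_true, zero_pow, pow_zero]
    rw [← mul_assoc, ← pow_add]
    congr 2
    have h2 : 2 * (m * (m + 1) / 2) = m * (m + 1) :=
      Nat.mul_div_cancel' (Nat.even_mul_succ_self m).two_dvd
    have h3 : 2 * (m * (m - 1) / 2) = m * (m - 1) :=
      Nat.mul_div_cancel' (Nat.even_mul_pred_self m).two_dvd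
    rcases m with _ | m
    · simp
    · rw [Nat.add_sub_cancel] at h3 ⊢
      nlinarith
  · rw [H15.Form.mem_fixer_span]
    simp only [Set.forall_mem_range, H15.spEquiv_apply, Matrix.mulVec_single_one]
    constructor
    · rintro ⟨g, hg, rfl⟩ j
      have h1 : g.1.1.toBlocks₁₁ = 1 := congrArg Units.val hg
      ext (i | i)
      · have h2 : g.1.1 (Sum.inl i) (Sum.inl j) = (1 : Matrix (Fin m) (Fin m) F) i j :=
          congrFun (congrFun h1 i) j
        simpa [Matrix.one_apply, Pi.single_apply] using h2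
      · simpa using ((hmem g).1 g.2).2 i j
    · intro h
      have h1 : ∀ i j, g.1 i (Sum.inl j) = (Pi.single (Sum.inl j) 1 : Fin m ⊕ Fin m → F) i :=
        fun i j => congrFun (h j) i
      refine ⟨⟨g, (hmem g).2 ⟨fun i j hij => by simp [h1, hij.ne'], fun i j => by simp [h1]⟩⟩,
        Units.ext ?_, rfl⟩
      ext i j
      change g.1 (Sum.inl i) (Sum.inl j) = (1 : Matrix (Fin m) (Fin m) F) i j
      simp [h1, Matrix.one_apply, Pi.single_apply]

end Cfsg.Agent.S0774
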