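import Cfsg.Statements.S0776
import Mathlib
import Cfsg.Agent.H15.Bases
import Cfsg.Agent.H15.Util

set_option autoImplicit false
open Cfsg

namespace Cfsg.Agent.S0776

/-- If W ≤ F^(2m) is a 2k-dimensional subspace on which the symplectic form is non-degenerate, then the stabiliser of W in Sp_2m(F) is isomorphic to Sp_2k(F) × Sp_(2m−2k)(F). -/
theorem result {F : Type*} [Field F] (m k : ℕ) (hk : k ≤ m) (W : Submodule F (Fin m ⊕ Fin m → F)) (hWk : Module.finrank F W = 2 * k) (hW : ∀ u ∈ W, (∀ v ∈ W, Cfsg.sympForm m F u v = 0) → u = 0) : Nonempty (↥(Cfsg.stabilizing (Cfsg.spToMat m F) (W : Set (Fin m ⊕ Fin m → F))) ≃* Matrix.symplecticGroup (Fin k) F × Matrix.symplecticGroup (Fin (m - k)) F) := by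
  let Φ := H15.spForm m F
  have hnd : Φ.Nondeg := H15.spForm_nondeg m F
  have hd : Disjoint W (Φ.perp W) := by
    rw [Submodule.disjoint_def]
    intro u hu hu'
    exact hW u hu fun v hv => by rw [← H15.spForm_B]; exact Φ.mem_perp'.1 hu' v hv
  have hr := hnd.finrank_perp W
  rw [H15.finrank_sum_fun, hWk] at hr
  obtain ⟨e1⟩ := ((H15.spForm_isAlt m).comap W.subtype).isom_equiv_sp rfl
    ((Φ.restrict_nondeg_iff W).2 hd) hWk
  obtain ⟨e2⟩ := ((H15.spForm_isAlt m).comap (Φ.perp W).subtype).isom_equiv_sp rfl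
    (hnd.restrict_perp hd) (m := m - k) (by omega)
  exact ⟨(H15.subgroupEquivOfMem (H15.spEquiv m F) _ (Φ.stab W) fun _ => Iff.rfl).trans
    ((hnd.stabEquivProd hd).trans (MulEquiv.prodCongr e1 e2))⟩

end Cfsg.Agent.S0776
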