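import Cfsg.Statements.S0777
import Mathlib
import Cfsg.Agent.H15.Parab

set_option autoImplicit false
open Cfsg

namespace Cfsg.Agent.S0777

theorem card_centralizer_swap (m : ℕ) :
    Nat.card (Subgroup.centralizer {(Equiv.sumComm (Fin m) (Fin m) : Equiv.Perm (Fin m ⊕ Fin m))}) =
      2 ^ m * m.factorial := by
  obtain ⟨s, hs⟩ : ∃ s : Equiv.Perm (Fin m ⊕ Fin m), s = Equiv.sumComm (Fin m) (Fin m) := ⟨_, rfl⟩
  rw [← hs]
  have h2 : s ^ 2 = 1 := by
    rw [hs]; ext x; simp [sq]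
  have h3 := Equiv.Perm.cycleType_of_pow_prime_eq_one h2
  have h4 : s.cycleType.sum = 2 * m := by
    rw [Equiv.Perm.sum_cycleType, (Finset.eq_univ_iff_forall (s := s.support)).2]
    · simp [two_mul]
    · rintro (x | x) <;> simp [hs]
  have h5 : s.cycleType.card = m := by
    rw [h3, Multiset.sum_replicate, smul_eq_mul] at h4
    omega
  rw [h5] at h3
  rw [Equiv.Perm.nat_card_centralizer, h4, h3]
  rcases m with _ | m
  · simp
  · rw [Multiset.toFinset_replicate, if_neg (Nat.succ_ne_zero m), Finset.prod_singleton,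
      Multiset.count_replicate_self, Multiset.prod_replicate]
    simp [two_mul]

/-- The signs in `J`. -/
def sg (F : Type*) [Field F] {m : ℕ} : Fin m ⊕ Fin m → Fˣ := Sum.elim (fun _ => -1) fun _ => 1

theorem J_apply {F : Type*} [Field F] {m : ℕ} (a b : Fin m ⊕ Fin m) :
    Matrix.J (Fin m) F a b = if b = a.swap then (sg F a : F) else 0 := by
  rcases a with a | a <;> rcases b with b | b <;>
    simp [Matrix.J, sg, Matrix.one_apply, eq_comm, neg_ite]

theorem sg_swap {F : Type*} [Field F] {m : ℕ} (a : Fin m ⊕ Fin m) : sg F a.swap = -sg F a := by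
  rcases a with a | a <;> simp [sg]

theorem sg_mul_self {F : Type*} [Field F] {m : ℕ} (a : Fin m ⊕ Fin m) : sg F a * sg F a = 1 := by
  rcases a with a | a <;> simp [sg]

theorem mono_mem_iff {F : Type*} [Field F] {m : ℕ} (π : Equiv.Perm (Fin m ⊕ Fin m))
    (c : Fin m ⊕ Fin m → Fˣ) : H15.mono π c ∈ Matrix.symplecticGroup (Fin m) F ↔
      (∀ a, π a.swap = (π a).swap) ∧
        ∀ i, c (Sum.inr i) = (c (Sum.inl i))⁻¹ * -sg F (π (Sum.inl i)) := by
  rw [SymplecticGroup.mem_iff', ← Matrix.ext_iff]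
  simp only [H15.mul_mono_apply, H15.transpose_mono_mul_apply, J_apply]
  constructor
  · intro h
    have h1 : ∀ a, π a.swap = (π a).swap := fun a => by
      have := h a a.swap
      rw [if_pos rfl] at this
      by_contra h0
      rw [if_neg h0, mul_zero, zero_mul] at this
      exact (sg F a).ne_zero this.symm
    refine ⟨h1, fun i => ?_⟩
    have := h (Sum.inl i) (Sum.inl i).swap
    rw [if_pos rfl, if_pos (h1 _), ← Units.val_mul, ← Units.val_mul, Units.val_inj] at this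
    rw [eq_inv_mul_iff_mul_eq, ← one_mul (c (Sum.inl i) * _), ← sg_mul_self (π (Sum.inl i)),
      ← mul_neg_one, ← show sg F (Sum.inl i) = -1 from rfl, ← this]
    simp only [Sum.swap_inl, mul_assoc, mul_left_comm]
  · rintro ⟨h1, h2⟩ a b
    by_cases hb : b = a.swap
    · subst hb
      rw [if_pos rfl, if_pos (h1 _), ← Units.val_mul, ← Units.val_mul, Units.val_inj]
      rcases a with i | i
      · rw [Sum.swap_inl, h2, mul_mul_mul_comm, mul_inv_cancel, one_mul, mul_neg, sg_mul_self]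
        rfl
      · rw [Sum.swap_inr, h2, ← Sum.swap_inl, h1, sg_swap, mul_assoc _ (-_) (-_), neg_mul_neg,
          sg_mul_self, mul_one, inv_mul_cancel]
        rfl
    · rw [if_neg hb, if_neg fun h0 => hb (π.injective (h0.trans (h1 a).symm)), mul_zero, zero_mul]


/-- Weyl group of type C_m: for q ≥ 4 the diagonal matrices of Sp_2m(q) form a torus T ≅ (C_(q−1))^m (the elements stabilising every coordinate axis), and the normaliser of T in Sp_2m(q) has order 2^m · m! · (q − 1)^m. -/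
theorem result {F : Type*} [Field F] [Fintype F] {q : ℕ} (hF : Fintype.card F = q) (hq : 4 ≤ q) (m : ℕ) : Nat.card ↥(Subgroup.normalizer (⨅ i : Fin m ⊕ Fin m, Cfsg.stabilizing (Cfsg.spToMat m F) ((Submodule.span F {(Pi.single i (1 : F) : Fin m ⊕ Fin m → F)} : Submodule F (Fin m ⊕ Fin m → F)) : Set (Fin m ⊕ Fin m → F)) : Set (Matrix.symplecticGroup (Fin m) F))) = 2 ^ m * Nat.factorial m * (q - 1) ^ m := by
  subst hF
  obtain ⟨T, hT⟩ : ∃ T, T = ⨅ i : Fin m ⊕ Fin m, Cfsg.stabilizing (Cfsg.spToMat m F)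
    ((Submodule.span F {(Pi.single i (1 : F) : Fin m ⊕ Fin m → F)} :
      Submodule F (Fin m ⊕ Fin m → F)) : Set (Fin m ⊕ Fin m → F)) := ⟨_, rfl⟩
  have hT' : ∀ h, h ∈ T ↔ (Cfsg.spToMat m F h).IsDiag := fun h => by
    simp only [hT, Subgroup.mem_iInf, H15.mem_stabilizing_axis]
    exact ⟨fun h1 i j hij => h1 j i hij, fun h1 j i hij => h1 hij⟩
  obtain ⟨a, ha⟩ : ∃ a : Fˣ, a * a ≠ 1 := by
    classical
    by_contra hcon
    push Not at hcon
    have h1 := IsCyclic.card_pow_eq_one_le (α := Fˣ) (n := 2) two_pos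
    rw [Finset.filter_true_of_mem fun x _ => by rw [sq, hcon], Finset.card_univ,
      Fintype.card_units] at h1
    omega
  have ha1 : a ≠ 1 := by rintro rfl; simp at ha
  have ha2 : a ≠ a⁻¹ := fun h => ha (by rw [← eq_inv_iff_mul_eq_one]; exact h)
  have hsep : ∀ j k, j ≠ k → ∃ t ∈ T, Cfsg.spToMat m F t j j ≠ Cfsg.spToMat m F t k k := by
    intro j k hjk
    obtain ⟨d, hd1, hd2⟩ : ∃ d : Fin m → Fˣ, d (j.elim id id) = a ∧
        ∀ i, i ≠ j.elim id id → d i = 1 :=
      ⟨Function.update 1 (j.elim id id) a, Function.update_self .., fun i hi => by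
        rw [Function.update_of_ne hi, Pi.one_apply]⟩
    let c : Fin m ⊕ Fin m → Fˣ := Sum.elim d fun i => (d i)⁻¹
    refine ⟨⟨H15.mono 1 c, (mono_mem_iff _ _).2 ⟨fun _ => rfl, fun i => by simp [c, sg]⟩⟩,
      (hT' _).2 fun i j hij => if_neg hij, ?_⟩
    change H15.mono 1 c j j ≠ H15.mono 1 c k k
    rw [H15.mono_apply, H15.mono_apply, Equiv.Perm.one_apply, Equiv.Perm.one_apply, if_pos rfl,
      if_pos rfl, Ne, Units.val_inj]
    rcases j with j | j <;> rcases k with k | k <;>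
      simp only [c, Sum.elim_inl, Sum.elim_inr, id] at hd1 hd2 ⊢ <;> rw [hd1]
    · rwa [hd2 k fun h => hjk (by rw [h])]
    · by_cases h : k = j
      · rwa [h, hd1]
      · rwa [hd2 k h, inv_one]
    · by_cases h : k = j
      · rw [h, hd1]; exact ha2.symm
      · rwa [hd2 k h, inv_eq_one]
    · rwa [hd2 k fun h => hjk (by rw [h]), inv_inj]
  have hN := H15.mem_normalizer_iff_mono _ T hT' hsep
  have hcomm : ∀ π : Equiv.Perm (Fin m ⊕ Fin m), π ∈ Subgroup.centralizer
      {(Equiv.sumComm (Fin m) (Fin m) : Equiv.Perm (Fin m ⊕ Fin m))} ↔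
        ∀ a, π a.swap = (π a).swap := fun π => by
    rw [Subgroup.mem_centralizer_singleton_iff, Equiv.ext_iff]
    rfl
  let f : Subgroup.centralizer {(Equiv.sumComm (Fin m) (Fin m) : Equiv.Perm (Fin m ⊕ Fin m))} ×
      (Fin m → Fˣ) → Subgroup.normalizer (T : Set (Matrix.symplecticGroup (Fin m) F)) := fun x =>
    ⟨⟨H15.mono x.1.1 (Sum.elim x.2 fun i => (x.2 i)⁻¹ * -sg F (x.1.1 (Sum.inl i))),
      (mono_mem_iff _ _).2 ⟨(hcomm _).1 x.1.2, fun _ => rfl⟩⟩, (hN _).2 ⟨_, _, rfl⟩⟩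
  have hf : Function.Bijective f := by
    constructor
    · rintro ⟨π, c⟩ ⟨π', c'⟩ h
      obtain ⟨h1, h2⟩ := H15.mono_injective (congrArg (fun x => x.1.1) h)
      exact Prod.ext (Subtype.ext h1) (funext fun i => congrFun h2 (Sum.inl i))
    · rintro ⟨⟨g, hg⟩, hg'⟩
      obtain ⟨π, c, h⟩ := (hN _).1 hg'
      obtain rfl : g = H15.mono π c := h
      obtain ⟨h1, h2⟩ := (mono_mem_iff _ _).1 hg
      refine ⟨⟨⟨π, (hcomm _).2 h1⟩, c ∘ Sum.inl⟩, Subtype.ext (Subtype.ext ?_)⟩
      refine congrArg (H15.mono π) ?_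
      ext1 (i | i)
      · rfl
      · exact (h2 i).symm
  rw [Set.iInf_eq_iInter, ← Subgroup.coe_iInf, ← hT, ← Nat.card_eq_of_bijective f hf, Nat.card_prod,
    card_centralizer_swap, Nat.card_fun, Nat.card_units]
  simp

end Cfsg.Agent.S0777
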