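import Cfsg.Statements.S0779
import Mathlib
import Cfsg.Agent.H15.Mat

set_option autoImplicit false
open Cfsg

namespace Cfsg.Agent.S0779

/-- Unitary transvections: let |F| = q², h the standard Hermitian form Σ x_i y_i^q and v ≠ 0 with h(v, v) = 0. The linear map x ↦ x + c h(x, v) v is an isometry of h if and only if c = 0 or c^(q−1) = −1. -/
theorem result {F : Type*} [Field F] [Fintype F] {q : ℕ} (hF : Fintype.card F = q ^ 2) (n : ℕ) (v : Fin n → F) (hv : v ≠ 0) (hv0 : Cfsg.hermForm n F q v v = 0) (c : F) : (∀ x y : Fin n → F, Cfsg.hermForm n F q ((Cfsg.unitaryTransvection n q v c).mulVec x) ((Cfsg.unitaryTransvection n q v c).mulVec y) = Cfsg.hermForm n F q x y) ↔ (c = 0 ∨ c ^ (q - 1) = -1) := by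
  have h2 := H15.two_le_of_card_sq hF
  let Φ := H15.unForm hF n
  have hT : ∀ x, (Cfsg.unitaryTransvection n q v c).mulVec x = Φ.dil v c x := fun x => by
    rw [H15.unitaryTransvection_mulVec, H15.Form.dil_apply]; rfl
  have hvv : Φ.B v v = 0 := hv0
  have hB : ∀ x y, Cfsg.hermForm n F q x y = Φ.B y x := fun _ _ => rfl
  have hε : Φ.ε = 1 := rfl
  have hc : c + H15.frob hF c = 0 ↔ (c = 0 ∨ c ^ (q - 1) = -1) := by
    have e : H15.frob hF c = c ^ (q - 1) * c := by
      rw [H15.frob_apply, ← pow_succ, Nat.sub_add_cancel (by omega)]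
    rw [e]
    constructor
    · intro h
      by_cases h0 : c = 0
      · exact Or.inl h0
      · right
        apply mul_right_cancel₀ h0
        linear_combination h
    · rintro (h | h)
      · simp [h]
      · rw [h]; ring
  rw [← hc]
  simp only [hT, hB, H15.Form.dil_B, hvv, hε, mul_zero, add_zero, mul_one]
  constructor
  · intro h
    obtain ⟨r, hr⟩ := (H15.unForm_nondeg hF n).exists_B_eq_one hv
    have := h r r
    rw [hr] at this
    simpa using this
  · intro h x y
    rw [h]; ring

end Cfsg.Agent.S0779
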