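import Cfsg.Statements.S0783
import Mathlib
import Cfsg.Agent.H15.Parab

set_option autoImplicit false
open Cfsg

namespace Cfsg.Agent.S0783

theorem exists_hom_cyclic {N : Type*} [Group N] [IsCyclic N] {M : ℕ} (hM : Nat.card N = M)
    (hM0 : M ≠ 0) (n : ℕ) : ∃ ψ : N →* Multiplicative (ZMod (Nat.gcd n M)),
      Function.Surjective ψ ∧ ∀ x, ψ x = 1 ↔ ∃ y, y ^ n = x := by
  subst hM
  have : NeZero (Nat.card N) := ⟨hM0⟩
  let e := zmodCyclicMulEquiv (G := N) inferInstance
  let c := ZMod.castHom (Nat.gcd_dvd_right n (Nat.card N)) (ZMod (Nat.gcd n (Nat.card N)))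
  refine ⟨(AddMonoidHom.toMultiplicative c.toAddMonoidHom).comp e.symm.toMonoidHom,
    (ZMod.castHom_surjective (Nat.gcd_dvd_right n (Nat.card N))).comp e.symm.surjective, fun x => ?_⟩
  obtain ⟨a, rfl⟩ := e.surjective x
  obtain ⟨a, rfl⟩ := Multiplicative.ofAdd.surjective a
  change c (Multiplicative.toAdd (e.symm (e _))) = 0 ↔ _
  rw [e.symm_apply_apply, toAdd_ofAdd]
  constructor
  · intro h
    obtain ⟨k, rfl⟩ := ZMod.natCast_zmod_surjective a
    rw [map_natCast, ZMod.natCast_eq_zero_iff] at h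
    obtain ⟨t, rfl⟩ := h
    refine ⟨e (Multiplicative.ofAdd ((Nat.gcdA n (Nat.card N) : ZMod (Nat.card N)) * t)), ?_⟩
    rw [← map_pow, ← ofAdd_nsmul]
    congr 2
    have := congrArg (Int.cast : ℤ → ZMod (Nat.card N)) (Nat.gcd_eq_gcd_ab n (Nat.card N))
    simp only [Int.cast_natCast, Int.cast_add, Int.cast_mul, ZMod.natCast_self, zero_mul,
      add_zero] at this
    rw [Nat.cast_mul, this, nsmul_eq_mul, mul_assoc]
  · rintro ⟨y, hy⟩
    obtain ⟨b, rfl⟩ := e.surjective y
    rw [← map_pow] at hy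
    have : a = n • b.toAdd := congrArg Multiplicative.toAdd (e.injective hy).symm
    rw [this, map_nsmul, nsmul_eq_mul,
      (ZMod.natCast_eq_zero_iff _ _).2 (Nat.gcd_dvd_left n (Nat.card N)), zero_mul]

theorem exists_mono {F : Type*} [Field F] [Fintype F] {q : ℕ} (hF : Fintype.card F = q ^ 2) (n : ℕ)
    (π : Equiv.Perm (Fin n)) (c : Fin n → Fˣ) (hc : ∀ i, c i ^ (q + 1) = 1) :
    ∃ g : Cfsg.GU n F q, (g.1 : Matrix (Fin n) (Fin n) F) = H15.mono π c := by
  have h1 : ∀ (x : Fin n → F) j, (H15.mono π c).mulVec x (π j) = c j * x j := fun x j => by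
    simp [Matrix.mulVec, dotProduct, H15.mono_apply]
  refine ⟨(H15.guEquiv hF n).symm ((H15.unForm hF n).mkIsom (H15.unForm_nondeg hF n)
    (H15.mono π c).mulVecLin (fun x y => ?_) fun _ => rfl), H15.matrix_ext_mulVec fun v => ?_⟩
  · rw [H15.unForm_B', H15.unForm_B', ← Equiv.sum_comp π]
    refine Finset.sum_congr rfl fun j _ => ?_
    have h2 : (c j : F) * H15.frob hF (c j) = 1 := by
      rw [H15.mul_frob, ← Units.val_pow_eq_pow_val, hc, Units.val_one]
    rw [Matrix.mulVecLin_apply, Matrix.mulVecLin_apply, h1, h1, map_mul]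
    linear_combination y j * H15.frob hF (x j) * h2
  · rw [← H15.guEquiv_apply hF, MulEquiv.apply_symm_apply]
    rfl


/-- PGU_n(q)/PSU_n(q) is cyclic of order (n, q+1): for n ≥ 2 and |F| = q² there is a surjective homomorphism from GU_n(q) onto the cyclic group of order gcd(n, q + 1) whose kernel is generated by the determinant-one elements together with the centre. -/
theorem result {F : Type*} [Field F] [Fintype F] {q : ℕ} (hF : Fintype.card F = q ^ 2) (n : ℕ) (hn : 2 ≤ n) : ∃ φ : ↥(Cfsg.GU n F q) →* Multiplicative (ZMod (Nat.gcd n (q + 1))), Function.Surjective φ ∧ φ.ker = (Matrix.GeneralLinearGroup.det : Matrix.GeneralLinearGroup (Fin n) F →* Fˣ).ker.subgroupOf (Cfsg.GU n F q) ⊔ Subgroup.center ↥(Cfsg.GU n F q) := by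
  let N := (powMonoidHom (q + 1) : Fˣ →* Fˣ).ker
  have hN : Nat.card N = q + 1 := H15.card_norm_one_units hF
  have hr := H7.range_det_herm hF (H15.unForm_nondeg hF n) (H15.unForm_isHerm hF n)
    (by simp; omega)
  obtain ⟨ψ, hψ1, hψ2⟩ := exists_hom_cyclic hN (by omega) n
  let δ : Cfsg.GU n F q →* N :=
    (Matrix.GeneralLinearGroup.det.comp (Cfsg.GU n F q).subtype).codRestrict N fun g => by
      change Matrix.GeneralLinearGroup.det g.1 ∈ (powMonoidHom (q + 1) : Fˣ →* Fˣ).ker
      rw [← hr, ← H15.det_guEquiv hF]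
      exact ⟨_, rfl⟩
  have hδ : ∀ g, (δ g : Fˣ) = Matrix.GeneralLinearGroup.det g.1 := fun _ => rfl
  have hδs : Function.Surjective δ := by
    rintro ⟨x, hx⟩
    obtain ⟨g, rfl⟩ : x ∈ (H15.unForm hF n).det.range := by rw [hr]; exact hx
    obtain ⟨g, rfl⟩ := (H15.guEquiv hF n).surjective g
    exact ⟨g, Subtype.ext (H15.det_guEquiv hF n g).symm⟩
  have hscal : ∀ (z : Cfsg.GU n F q) (y : N),
      (z.1 : Matrix (Fin n) (Fin n) F) = H15.mono 1 (fun _ => y.1) → δ z = y ^ n := by
    intro z y hz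
    refine Subtype.ext (Units.ext ?_)
    have : H15.mono (1 : Equiv.Perm (Fin n)) (fun _ => y.1) = Matrix.diagonal fun _ => (y.1 : F) := by
      ext i j; rw [H15.mono_apply, Matrix.diagonal_apply]; rfl
    rw [hδ, Matrix.GeneralLinearGroup.val_det_apply, hz, this, Matrix.det_diagonal]
    simp
  refine ⟨ψ.comp δ, hψ1.comp hδs, le_antisymm (fun g hg => ?_) (sup_le (fun g hg => ?_) ?_)⟩
  · obtain ⟨y, hy⟩ := (hψ2 _).1 hg
    obtain ⟨z, hz⟩ := exists_mono hF n 1 (fun _ => y.1) fun _ => y.2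
    have h1 : g = (g * z⁻¹) * z := by group
    rw [h1]
    refine Subgroup.mul_mem_sup ?_ (Subgroup.mem_center_iff.2 fun k => Subtype.ext (Units.ext ?_))
    · change (δ (g * z⁻¹) : Fˣ) = 1
      rw [map_mul, map_inv, hscal z y hz, hy, mul_inv_cancel]
      rfl
    · ext i j
      have := H15.mono_mul_apply (k.1 : Matrix (Fin n) (Fin n) F) 1 (fun _ => y.1) i j
      rw [Subgroup.coe_mul, Subgroup.coe_mul, Units.val_mul, Units.val_mul, hz, H15.mul_mono_apply,
        mul_comm]
      exact this.symm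
  · have : δ g = 1 := Subtype.ext hg
    rw [MonoidHom.mem_ker, MonoidHom.comp_apply, this, map_one]
  · intro g hg
    have key : ∀ (π : Equiv.Perm (Fin n)) (c : Fin n → Fˣ), (∀ i, c i ^ (q + 1) = 1) → ∀ i j,
        (g.1 : Matrix (Fin n) (Fin n) F) (π i) (π j) * c j =
          c i * (g.1 : Matrix (Fin n) (Fin n) F) i j := fun π c hc i j => by
      obtain ⟨z, hz⟩ := exists_mono hF n π c hc
      have := congrArg (fun x : Cfsg.GU n F q => (x.1 : Matrix (Fin n) (Fin n) F))
        (Subgroup.mem_center_iff.1 hg z)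
      simp only [Subgroup.coe_mul, Units.val_mul, hz] at this
      rw [← H15.mul_mono_apply, ← this, H15.mono_mul_apply]
    have h2 := H15.two_le_of_card_sq hF
    have : Nontrivial N := Finite.one_lt_card_iff_nontrivial.1 (by omega)
    obtain ⟨a, ha⟩ := exists_ne (1 : N)
    have hoff : ∀ i j, i ≠ j → (g.1 : Matrix (Fin n) (Fin n) F) i j = 0 := fun i j hij => by
      have := key 1 (Function.update 1 i a.1) (fun k => by
        by_cases hk : k = i
        · rw [hk, Function.update_self]; exact a.2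
        · rw [Function.update_of_ne hk, Pi.one_apply, one_pow]) i j
      rw [Function.update_self, Function.update_of_ne hij.symm, Pi.one_apply, Units.val_one,
        mul_one] at this
      by_contra h0
      exact ha (Subtype.ext (Units.ext (mul_right_cancel₀ h0 (this.symm.trans (one_mul _).symm))))
    let i0 : Fin n := ⟨0, by omega⟩
    have hdiag : ∀ j, (g.1 : Matrix (Fin n) (Fin n) F) j j = (g.1 : Matrix (Fin n) (Fin n) F) i0 i0 :=
      fun j => by simpa using key (Equiv.swap i0 j) 1 (by simp) i0 i0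
    obtain ⟨l, hl⟩ : ∃ l, l = (g.1 : Matrix (Fin n) (Fin n) F) i0 i0 := ⟨_, rfl⟩
    have hg1 : ∀ i j, (g.1 : Matrix (Fin n) (Fin n) F) i j = if i = j then l else 0 := fun i j => by
      by_cases h : i = j
      · rw [if_pos h, h, hdiag, hl]
      · rw [if_neg h, hoff i j h]
    have hl1 : l ^ (q + 1) = 1 := by
      have := H15.Form.Isom.map_B (H15.guEquiv hF n g) (Pi.single i0 1) (Pi.single i0 1)
      rw [H15.unForm_B', H15.unForm_B', H15.guEquiv_apply] at this
      simpa [hg1, Pi.single_apply, H15.mul_frob] using this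
    have hl0 : l ≠ 0 := by rintro rfl; simp at hl1
    exact (hψ2 _).2 ⟨⟨Units.mk0 l hl0, Units.ext (by simpa using hl1)⟩,
      (hscal g _ (by ext i j; rw [hg1]; rfl)).symm⟩

end Cfsg.Agent.S0783
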