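import Cfsg.Statements.S0784
import Mathlib
import Cfsg.Agent.H15.Mat

set_option autoImplicit false
open Cfsg

namespace Cfsg.Agent.S0784

/-- Reflections: if Q(v) ≠ 0 then the matrix R = 1 − Q(v)⁻¹ · v f(v, ·)ᵀ preserves Q, maps v to −v, fixes each x with f(v, x) = 0, and has determinant −1 (in characteristic two, −1 = 1 and R is the orthogonal transvection of v). -/
theorem result {F : Type*} [Field F] {n : ℕ} (Q : QuadraticForm F (Fin n → F)) (v : Fin n → F) (hv : Q v ≠ 0) : (∀ x, Q ((Cfsg.reflectionMatrix ⇑Q v).mulVec x) = Q x) ∧ (Cfsg.reflectionMatrix ⇑Q v).mulVec v = -v ∧ (∀ x, QuadraticMap.polar ⇑Q v x = 0 → (Cfsg.reflectionMatrix ⇑Q v).mulVec x = x) ∧ (Cfsg.reflectionMatrix ⇑Q v).det = -1 := by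
  let Φ := H15.ofQuad Q
  have hT : ∀ x, (Cfsg.reflectionMatrix ⇑Q v).mulVec x = Φ.dil v (-(Q v)⁻¹) x := fun x => by
    rw [H15.reflectionMatrix_mulVec, H15.Form.dil_apply]; rfl
  refine ⟨fun x => ?_, ?_, fun x hx => ?_, ?_⟩
  · have := Φ.dil_Q v (-(Q v)⁻¹) x
    rw [hT]
    simp only [Φ, H15.ofQuad_Q, H15.ofQuad_tau] at this
    rw [this]
    field_simp
    ring
  · rw [H15.reflectionMatrix_mulVec, QuadraticMap.polar_self]
    have : -(Q v)⁻¹ * (2 • Q v) = -2 := by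
      rw [nsmul_eq_mul]; field_simp; norm_num
    rw [this]
    module
  · rw [H15.reflectionMatrix_mulVec, hx]; simp
  · have h1 : Matrix.toLin' (Cfsg.reflectionMatrix ⇑Q v) = Φ.dil v (-(Q v)⁻¹) :=
      LinearMap.ext hT
    rw [← LinearMap.det_toLin', h1, H15.Form.dil_det]
    simp only [Φ, H15.ofQuad_B, QuadraticMap.polar_self, nsmul_eq_mul]
    field_simp
    norm_num

end Cfsg.Agent.S0784
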