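import Cfsg.Statements.S0787
import Mathlib
import Cfsg.Agent.H15.Omega

set_option autoImplicit false
open Cfsg

namespace Cfsg.Agent.S0787

/-- Existence and uniqueness of Ω: if F is finite, n ≥ 2, Q is a quadratic form on F^n with non-degenerate polar form and (|F|, n) ≠ (2, 4), then the group of isometries of determinant one has a unique subgroup of index 2. -/
theorem result {F : Type*} [Field F] [Fintype F] {n : ℕ} (hn : 2 ≤ n) (Q : QuadraticForm F (Fin n → F)) (hQ : (QuadraticMap.polarBilin Q).Nondegenerate) (h : Fintype.card F ≠ 2 ∨ n ≠ 4) : ∃! H : Subgroup ↥(Cfsg.specialIsometryGroup F ⇑Q), H.index = 2 := by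
  let e : ↥(Cfsg.specialIsometryGroup F ⇑Q) ≃* (H15.ofQuad Q).det.ker :=
    H15.subgroupEquivOfMem (H15.orthEquiv Q) _ _ fun g => by
      rw [MonoidHom.mem_ker, H15.det_orthEquiv]; rfl
  obtain ⟨H, hH, hu⟩ := H15.existsUnique_index_two_det_ker (Q := Q) hQ.1
    (H15.notTwoFour_of_card (by simpa using h)) (by simpa using hn)
  refine ⟨H.comap e.toMonoidHom, ?_, fun K hK => ?_⟩
  · exact (Subgroup.index_comap_of_surjective H e.surjective).trans hH
  · rw [← hu (K.comap e.symm.toMonoidHom)
      ((Subgroup.index_comap_of_surjective K e.symm.surjective).trans hK)]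
    ext g
    simp

end Cfsg.Agent.S0787
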