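import Cfsg.Statements.S0792
import Mathlib
import Cfsg.Agent.H15.Spinor

set_option autoImplicit false
open Cfsg

namespace Cfsg.Agent.S0792

/-- For q odd and Q with non-degenerate polar form on F^n, the determinant-one isometries form the subgroup generated by all products r_u r_v of two reflections (Q(u), Q(v) ≠ 0). -/
theorem result {F : Type*} [Field F] [Fintype F] (h2 : (2 : F) ≠ 0) {n : ℕ} (Q : QuadraticForm F (Fin n → F)) (hQ : (QuadraticMap.polarBilin Q).Nondegenerate) : Cfsg.specialIsometryGroup F ⇑Q = Subgroup.closure {g : ↥(Cfsg.isometryGroup F ⇑Q) | ∃ u v : Fin n → F, Q u ≠ 0 ∧ Q v ≠ 0 ∧ ((g : Matrix.GeneralLinearGroup (Fin n) F) : Matrix (Fin n) (Fin n) F) = Cfsg.reflectionMatrix ⇑Q u * Cfsg.reflectionMatrix ⇑Q v} := by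
  ext g
  rw [H15.mem_closure_iff_of_mem (H15.orthEquiv Q) _
    {g | ∃ u v : Fin n → F, Q u ≠ 0 ∧ Q v ≠ 0 ∧ g = H15.refl Q u * H15.refl Q v} (fun g => by
      refine exists_congr fun u => exists_congr fun v => and_congr_right fun _ =>
        and_congr_right fun _ => ?_
      have key : ∀ x, (Cfsg.reflectionMatrix ⇑Q u * Cfsg.reflectionMatrix ⇑Q v).mulVec x =
          (H15.refl Q u * H15.refl Q v).1 x := fun x => by
        rw [← Matrix.mulVec_mulVec, H15.reflectionMatrix_mulVec, H15.reflectionMatrix_mulVec,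
          H15.Form.Isom.mul_apply, H15.refl_apply, H15.refl_apply]
        rfl
      constructor
      · intro h
        exact H15.Form.Isom.ext fun x => by rw [H15.orthEquiv_apply, h, key]
      · intro h
        exact H15.matrix_ext_mulVec fun x => by rw [← H15.orthEquiv_apply, h, key])]
  have h1 : g ∈ Cfsg.specialIsometryGroup F ⇑Q ↔ (H15.ofQuad Q).det (H15.orthEquiv Q g) = 1 := by
    rw [H15.det_orthEquiv]; rfl
  rw [h1]
  generalize H15.orthEquiv Q g = k
  constructor
  · intro hk
    have h24 : H15.NotTwoFour F (Fin n → F) := H15.notTwoFour_of_two_ne_zero h2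
    obtain ⟨D, hD⟩ := H15.exists_dickson (Q := Q) hQ.1 h24
    rw [← H15.dickson_eq_one_iff_det h2 hQ.1 D hD] at hk
    obtain ⟨l, hl, rfl⟩ := H15.exists_list_refl (Q := Q) hQ.1 h24 k
    rw [H15.hom_prod_refl D _ hD l hl] at hk
    have hev : Even l.length := by
      by_contra hodd
      simp [(Nat.not_even_iff_odd.1 hodd).neg_one_pow] at hk
    clear hk
    induction l using List.twoStepInduction with
    | nil => exact Subgroup.one_mem _
    | singleton a => simp at hev
    | cons_cons a b l ih _ =>
      simp only [List.map_cons, List.prod_cons, ← mul_assoc]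
      refine Subgroup.mul_mem _ (Subgroup.subset_closure ⟨a, b, hl a (by simp), hl b (by simp), rfl⟩)
        (ih (fun x hx => hl x (by simp [hx])) ?_)
      simpa [parity_simps] using hev
  · intro hk
    refine (Subgroup.closure_le (H15.ofQuad Q).det.ker).2 ?_ hk
    rintro _ ⟨u, v, hu, hv, rfl⟩
    simp [H15.det_refl Q hu, H15.det_refl Q hv]

end Cfsg.Agent.S0792
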