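import Cfsg.Statements.S0793
import Mathlib
import Cfsg.Agent.H15.Mat

set_option autoImplicit false
open Cfsg

namespace Cfsg.Agent.S0793

/-- Root elements: if Q(u) = Q(v) = 0 and f(u, v) = 0 (f the polar form), then for every c the Siegel matrix T_(u,v)(c) preserves Q, fixes u and v, and T(c) T(d) = T(c + d). -/
theorem result {F : Type*} [Field F] {n : ℕ} (Q : QuadraticForm F (Fin n → F)) (u v : Fin n → F) (hu : Q u = 0) (hv : Q v = 0) (huv : QuadraticMap.polar ⇑Q u v = 0) : (∀ c x, Q ((Cfsg.siegelMatrix ⇑Q u v c).mulVec x) = Q x) ∧ (∀ c, (Cfsg.siegelMatrix ⇑Q u v c).mulVec u = u ∧ (Cfsg.siegelMatrix ⇑Q u v c).mulVec v = v) ∧ ∀ c d, Cfsg.siegelMatrix ⇑Q u v c * Cfsg.siegelMatrix ⇑Q u v d = Cfsg.siegelMatrix ⇑Q u v (c + d) := by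
  have hB : ∀ x y, QuadraticMap.polar ⇑Q x y = (H15.ofQuad Q).B x y := fun _ _ => rfl
  have huu : (H15.ofQuad Q).B u u = 0 := by rw [← hB, QuadraticMap.polar_self, hu]; simp
  have hvv : (H15.ofQuad Q).B v v = 0 := by rw [← hB, QuadraticMap.polar_self, hv]; simp
  have hvu : (H15.ofQuad Q).B v u = 0 := by rw [← hB, QuadraticMap.polar_comm, huv]
  have hs : ∀ x y, (H15.ofQuad Q).B x y = (H15.ofQuad Q).B y x := fun x y =>
    QuadraticMap.polar_comm _ _ _
  rw [hB] at huv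
  refine ⟨fun c x => ?_, fun c => ⟨?_, ?_⟩, fun c d => ?_⟩
  · rw [H15.siegelMatrix_mulVec, sub_eq_add_neg, ← neg_smul]
    have e1 := (H15.ofQuad Q).Q_add_smul (x + (c * QuadraticMap.polar ⇑Q u x) • v) u
      (-(c * QuadraticMap.polar ⇑Q v x))
    have e2 := (H15.ofQuad Q).Q_add_smul x v (c * QuadraticMap.polar ⇑Q u x)
    simp only [H15.ofQuad_Q, H15.ofQuad_tau, map_add, map_smul, LinearMap.add_apply,
      LinearMap.smul_apply, hvu, hu, hv, hB, hs x] at e1 e2 ⊢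
    rw [e1, e2]
    simp only [smul_eq_mul]
    ring
  · rw [H15.siegelMatrix_mulVec, hB, hB, huu, hvu]; simp
  · rw [H15.siegelMatrix_mulVec, hB, hB, huv, hvv]; simp
  · apply H15.matrix_ext_mulVec
    intro x
    rw [← Matrix.mulVec_mulVec]
    simp only [H15.siegelMatrix_mulVec, hB, map_add, map_sub, map_smul, huu, hvv, huv, hvu,
      smul_eq_mul]
    module

end Cfsg.Agent.S0793
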