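import Cfsg.Statements.S0794
import Mathlib
import Cfsg.Agent.H15.Orth

set_option autoImplicit false
open Cfsg

namespace Cfsg.Agent.S0794

/-- For q odd, n ≥ 5 and Q with non-degenerate polar form: an isometry whose matrix is a Siegel transformation T_(u,v)(c) (u, v singular and orthogonal) is a commutator in the isometry group, so lies in Ω. -/
theorem result {F : Type*} [Field F] [Fintype F] (h2 : (2 : F) ≠ 0) {n : ℕ} (hn : 5 ≤ n) (Q : QuadraticForm F (Fin n → F)) (hQ : (QuadraticMap.polarBilin Q).Nondegenerate) (u v : Fin n → F) (hu : Q u = 0) (hv : Q v = 0) (huv : QuadraticMap.polar ⇑Q u v = 0) (c : F) (g : ↥(Cfsg.isometryGroup F ⇑Q)) (hg : ((g : Matrix.GeneralLinearGroup (Fin n) F) : Matrix (Fin n) (Fin n) F) = Cfsg.siegelMatrix ⇑Q u v c) : g ∈ commutatorSet ↥(Cfsg.isometryGroup F ⇑Q) ∧ g ∈ Cfsg.Omega F ⇑Q := by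
  suffices h : g ∈ commutatorSet ↥(Cfsg.isometryGroup F ⇑Q) from
    ⟨h, by rw [Cfsg.Omega, commutator_eq_closure]; exact Subgroup.subset_closure h⟩
  have hnd : (H15.ofQuad Q).Nondeg := hQ.1
  have hp : ∀ d : F, H15.pol Q u (d • v) = 0 := fun d => by
    rw [map_smul, H15.pol_eq, huv, smul_zero]
  rw [H15.mem_commutatorSet_iff_equiv (H15.orthEquiv Q),
    (H15.orthEquiv_eq_eich_iff Q g u v c hu hv (hp _)).1 hg]
  by_cases hli : LinearIndependent F ![u, v]
  · have hli' : LinearIndependent F ![u, -v] := by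
      rw [LinearIndependent.pair_iff] at hli ⊢
      intro s t hst
      have := hli s (-t) (by simpa using hst)
      simpa using this
    obtain ⟨A, hA⟩ := hnd.witt_family ![u, v] ![u, -v] hli hli' (by
      intro i j
      fin_cases i <;> fin_cases j <;> simp [huv, QuadraticMap.polar_comm Q v u])
      (by intro i; fin_cases i <;> simp)
    have hAu : A.1 u = u := hA 0
    have hAv : A.1 v = -v := hA 1
    refine ⟨A, H15.eich Q u ((c / 2) • v) hu (hp _), ?_⟩
    rw [commutatorElement_def, H15.eich_conj, ← H15.eich_neg Q hu _ (by rw [← neg_smul, hp])]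
    refine H15.Form.Isom.ext fun x => ?_
    have hvv : H15.pol Q v v = 0 := by rw [H15.pol_self, hv, mul_zero]
    have huu : H15.pol Q u u = 0 := by rw [H15.pol_self, hu, mul_zero]
    have huv' : H15.pol Q u v = 0 := huv
    have hvu : H15.pol Q v u = 0 := by rw [H15.pol_comm, huv']
    simp only [H15.Form.Isom.mul_apply, H15.eich_apply, hAu, map_smul, hAv, ← neg_smul, smul_neg,
      H15.quad_smul, hv, map_add, map_sub, LinearMap.smul_apply, hvv, huu, huv', hvu, smul_eq_mul]
    match_scalars <;> field_simp <;> ring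
  · have h1 : H15.eich Q u ((-c) • v) hu (hp _) = 1 := by
      by_cases hu0 : u = 0
      · subst hu0
        exact H15.eich_zero_left Q _ _
      · rw [LinearIndependent.pair_iff' hu0] at hli
        push Not at hli
        obtain ⟨a, rfl⟩ := hli
        rw [H15.eich_congr Q hu _ (smul_smul _ _ _), H15.eich_smul_self]
    rw [h1]
    exact one_mem_commutatorSet _

end Cfsg.Agent.S0794
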