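import Cfsg.Statements.S0795
import Mathlib
import Cfsg.Agent.H15.Omega

set_option autoImplicit false
open Cfsg

namespace Cfsg.Agent.S0795

/-- Generation of Ω by root elements: for q odd, n ≥ 5 and Q with non-degenerate polar form on F^n, the commutator subgroup of the isometry group equals the subgroup generated by the isometries whose matrices are Siegel transformations T_(u,v)(c) with u, v singular and orthogonal. -/
theorem result {F : Type*} [Field F] [Fintype F] (h2 : (2 : F) ≠ 0) {n : ℕ} (hn : 5 ≤ n) (Q : QuadraticForm F (Fin n → F)) (hQ : (QuadraticMap.polarBilin Q).Nondegenerate) : Cfsg.Omega F ⇑Q = Subgroup.closure {g : ↥(Cfsg.isometryGroup F ⇑Q) | ∃ (u v : Fin n → F) (c : F), Q u = 0 ∧ Q v = 0 ∧ QuadraticMap.polar ⇑Q u v = 0 ∧ ((g : Matrix.GeneralLinearGroup (Fin n) F) : Matrix (Fin n) (Fin n) F) = Cfsg.siegelMatrix ⇑Q u v c} := by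
  ext g
  rw [H15.mem_commutator_iff_equiv (H15.orthEquiv Q),
    H15.commutator_eq_closure_siegelSet (Q := Q) hQ.1 (by simpa using hn)]
  refine (H15.mem_closure_iff_of_mem (H15.orthEquiv Q) _ _ (fun g => ?_) g).symm
  constructor
  · rintro ⟨u, v, c, hu, hv, huv, hg⟩
    have hp : H15.pol Q u ((-c) • v) = 0 := by rw [map_smul, H15.pol_eq, huv, smul_zero]
    exact ⟨u, _, hu, hp, by rw [H15.quad_smul, hv, mul_zero],
      (H15.orthEquiv_eq_eich_iff Q g u v c hu hv hp).1 hg⟩
  · rintro ⟨u, v, hu, huv, hv, hg⟩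
    have hp : H15.pol Q u ((-(-1 : F)) • v) = 0 := by rw [map_smul, huv, smul_zero]
    refine ⟨u, v, -1, hu, hv, huv, (H15.orthEquiv_eq_eich_iff Q g u v (-1) hu hv hp).2 ?_⟩
    rw [hg]
    exact H15.eich_congr Q hu huv (by simp)

end Cfsg.Agent.S0795
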