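import Cfsg.Statements.S0798
import Mathlib
import Cfsg.Agent.H15.ReflClass
import Cfsg.Agent.H15.Util

set_option autoImplicit false
open Cfsg

namespace Cfsg.Agent.S0798

/-- For q odd, n ≥ 2 even, Q with non-degenerate polar form (n, |F|) ≠ (4, 3), and a fixed c ≠ 0: the subgroup of the isometry group generated by the reflections r_v with Q(v) ∈ c·(F^×)² has index 2. -/
theorem result {F : Type*} [Field F] [Fintype F] (h2 : (2 : F) ≠ 0) {n : ℕ} (hn : 2 ≤ n) (heven : Even n) (Q : QuadraticForm F (Fin n → F)) (hQ : (QuadraticMap.polarBilin Q).Nondegenerate) (h43 : ¬ (n = 4 ∧ Fintype.card F = 3)) (c : F) (hc : c ≠ 0) : (Subgroup.closure {g : ↥(Cfsg.isometryGroup F ⇑Q) | ∃ (v : Fin n → F) (t : F), t ≠ 0 ∧ Q v = c * t ^ 2 ∧ ((g : Matrix.GeneralLinearGroup (Fin n) F) : Matrix (Fin n) (Fin n) F) = Cfsg.reflectionMatrix ⇑Q v}).index = 2 := by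
  classical
  refine Eq.trans ?_ (H15.index_closure_reflClass (Q := Q) h2 hQ.1 (by simpa using hn)
    (by obtain ⟨k, rfl⟩ := heven; simp; omega) (fun h4 ν => ?_) hc)
  · refine H15.index_eq_of_mem (H15.orthEquiv Q) _ _
      (H15.mem_closure_iff_of_mem (H15.orthEquiv Q) _ _ fun g => ?_)
    simp only [Set.mem_ofPred_eq, H15.orthEquiv_eq_refl_iff, H15.reflClass]
  · by_contra hcon
    push Not at hcon
    have h1 : (Finset.univ : Finset F) ⊆ {0, 1, -1} := fun s _ => by
      by_cases hs : s = 0
      · simp [hs]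
      · have := (hcon s hs).trans (hcon 1 one_ne_zero).symm
        rw [sq_eq_sq_iff_eq_or_eq_neg] at this
        simpa [hs] using this
    have h3 : Fintype.card F ≤ 3 := (Finset.card_le_card h1).trans Finset.card_le_three
    have h5 : 3 ≤ Fintype.card F := by
      have : ({0, 1, -1} : Finset F).card = 3 := by
        rw [Finset.card_eq_three]
        exact ⟨0, 1, -1, by simp, by simp, fun h => h2 (by linear_combination h), rfl⟩
      rw [← this]
      exact Finset.card_le_univ _
    exact h43 ⟨by simpa using h4, le_antisymm h3 h5⟩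

end Cfsg.Agent.S0798
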