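import Cfsg.Statements.S0809
import Mathlib
import Cfsg.Agent.H16.PSL2Inv

set_option autoImplicit false
open Cfsg

namespace Cfsg.Agent.S0809

/-- In SL_2(q), q odd: any two subgroups of order 4 are conjugate, and the normaliser of a subgroup of order 4 has order 2(q − 1) if q ≡ 1 (mod 4) and 2(q + 1) if q ≡ 3 (mod 4); consequently all involutions of PSL_2(q) are conjugate. -/
theorem result {F : Type*} [Field F] [Fintype F] {q : ℕ} (hF : Fintype.card F = q) (hodd : Odd q) (A : Subgroup (Matrix.SpecialLinearGroup (Fin 2) F)) (hA : Nat.card A = 4) : (∀ B : Subgroup (Matrix.SpecialLinearGroup (Fin 2) F), Nat.card B = 4 → ∃ g : Matrix.SpecialLinearGroup (Fin 2) F, B = A.map (MulAut.conj g).toMonoidHom) ∧ (q % 4 = 1 → Nat.card ↥(Subgroup.normalizer (A : Set (Matrix.SpecialLinearGroup (Fin 2) F))) = 2 * (q - 1)) ∧ (q % 4 = 3 → Nat.card ↥(Subgroup.normalizer (A : Set (Matrix.SpecialLinearGroup (Fin 2) F))) = 2 * (q + 1)) ∧ (∀ x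 y : Matrix.ProjectiveSpecialLinearGroup (Fin 2) F, orderOf x = 2 → orderOf y = 2 → IsConj x y) := by
  have h2 : (2 : F) ≠ 0 := H7.two_ne_zero_of_odd_card (hF ▸ hodd)
  obtain ⟨g, hg, rfl⟩ := H16.exists_gen_of_card_four h2 A hA
  have h1 : Nat.card ↥(Subgroup.normalizer (Subgroup.zpowers g :
      Set (Matrix.SpecialLinearGroup (Fin 2) F))) =
      2 * Nat.card {z : F × F // z.1 ^ 2 + z.2 ^ 2 = 1} := by
    rw [← H16.card_comm_eq h2 g hg, ← H16.card_pm_eq h2 g hg, ← H16.normalizer_zpowers_eq h2 g hg]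
    rfl
  refine ⟨fun B hB => ?_, fun h => ?_, fun h => ?_, fun x y hx hy => ?_⟩
  · obtain ⟨g', hg', rfl⟩ := H16.exists_gen_of_card_four h2 B hB
    obtain ⟨k, rfl⟩ := H16.isConj_of_sq h2 g g' hg hg'
    exact ⟨k, by rw [MonoidHom.map_zpowers]; rfl⟩
  · rw [h1, (H16.card_circle hF hodd).1 h]
  · rw [h1, (H16.card_circle hF hodd).2 h]
  · obtain ⟨hx1, hx2⟩ := orderOf_eq_prime_iff.1 hx
    obtain ⟨hy1, hy2⟩ := orderOf_eq_prime_iff.1 hy
    exact H16.psl2_involutions_conj h2 x y hx2 (by rwa [← sq]) hy2 (by rwa [← sq])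

end Cfsg.Agent.S0809
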