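import Cfsg.Statements.S0828
import Mathlib
import Cfsg.Agent.H16.FormGeo

set_option autoImplicit false
open Cfsg

namespace Cfsg.Agent.S0828

/-- The symplectic generalised quadrangle over a field with q elements: the number of 2-dimensional subspaces of F^4 on which the symplectic form vanishes is (q + 1)(q² + 1), and every non-zero vector lies in exactly q + 1 of them. -/
theorem result {F : Type*} [Field F] [Fintype F] {q : ℕ} (hF : Fintype.card F = q) : Nat.card {W : Submodule F (Fin 2 ⊕ Fin 2 → F) // Module.finrank F W = 2 ∧ ∀ u ∈ W, ∀ v ∈ W, Cfsg.sympForm 2 F u v = 0} = (q + 1) * (q ^ 2 + 1) ∧ ∀ v : Fin 2 ⊕ Fin 2 → F, v ≠ 0 → Nat.card {W : Submodule F (Fin 2 ⊕ Fin 2 → F) // Module.finrank F W = 2 ∧ v ∈ W ∧ ∀ u ∈ W, ∀ w ∈ W, Cfsg.sympForm 2 F u w = 0} = q + 1 := by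
  have h := H15.spForm_nondeg 2 F
  have hA := H15.spForm_isAlt (F := F) 2
  have hV := H15.finrank_sum_fun (F := F) 2
  have hq : 1 < q := hF ▸ Fintype.one_lt_card
  obtain ⟨h1, h2⟩ := H16.exists_totSing_of_hyp (H15.spForm_hyp (F := F) 2)
  have h3 := H16.card_totSing_mul h h1 h2
  rw [h.card_stab_totSing h1 h2, hA.card_fixer h hV h1 h2, H7.card_isom_alt 2 _ _ h hA hV, hF] at h3
  have hts : ∀ W : Submodule F (Fin 2 ⊕ Fin 2 → F), (H15.spForm 2 F).TotSing W ↔
      ∀ u ∈ W, ∀ v ∈ W, Cfsg.sympForm 2 F u v = 0 := fun W => by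
    simp only [H15.Form.TotSing, H15.spForm_B, H15.spForm_Q, implies_true, and_true]
  have hq' : (1 : ℤ) < q := by exact_mod_cast hq
  have hp : ∀ n : ℕ, 1 ≤ q ^ n := fun n => Nat.one_le_pow _ _ (by omega)
  have h22 : (q : ℤ) ^ 2 - 1 ≠ 0 := by nlinarith
  have h4 : Nat.card {X : Submodule F (Fin 2 ⊕ Fin 2 → F) // Module.finrank F X = 2 ∧
      (H15.spForm 2 F).TotSing X} = (q + 1) * (q ^ 2 + 1) := by
    simp only [Finset.prod_range_succ, Fin.prod_univ_two] at h3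
    norm_num at h3
    have h5 : q ≤ q ^ 2 := Nat.le_self_pow two_ne_zero q
    zify [hp, h5] at h3 ⊢
    have h6 : (q : ℤ) ^ 3 * ((q ^ 2 - 1) * (q ^ 2 - q)) ≠ 0 :=
      mul_ne_zero (by positivity) (mul_ne_zero h22 (by nlinarith))
    apply mul_right_cancel₀ h6
    rw [h3]; ring
  refine ⟨by simpa only [hts] using h4, fun v hv => ?_⟩
  have h5 := H16.card_totSing_mem_alt hA h hV 2 hv
  rw [h4, hF] at h5
  simp only [hts, and_assoc, and_comm (b := v ∈ _), and_left_comm (a := v ∈ _)] at h5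
  have h6 : (q : ℤ) ^ (2 * 2) - 1 ≠ 0 := sub_ne_zero.2 (one_lt_pow₀ hq' (by norm_num)).ne'
  zify [hp] at h5 ⊢
  apply mul_left_cancel₀ h6
  rw [h5]; ring

end Cfsg.Agent.S0828
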