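import Cfsg.Statements.S0830
import Mathlib
import Cfsg.Agent.H16.FormGeo

set_option autoImplicit false
open Cfsg

namespace Cfsg.Agent.S0830

/-- The unitary quadrangle of PSU_5(q): with |F| = q², the number of 2-dimensional subspaces of F^5 on which the Hermitian form vanishes is (q³ + 1)(q⁵ + 1). -/
theorem result {F : Type*} [Field F] [Fintype F] {q : ℕ} (hF : Fintype.card F = q ^ 2) : Nat.card {W : Submodule F (Fin 5 → F) // Module.finrank F W = 2 ∧ ∀ u ∈ W, ∀ v ∈ W, Cfsg.hermForm 5 F q u v = 0} = (q ^ 3 + 1) * (q ^ 5 + 1) := by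
  have h := H15.unForm_nondeg hF 5
  have hH := H15.unForm_isHerm hF 5
  have hV : Module.finrank F (Fin 5 → F) = 5 := by simp
  have hq : 2 ≤ q := H15.two_le_of_card_sq hF
  obtain ⟨W, -, h1, hmax⟩ := (H15.unForm hF 5).exists_maximal_totSing (H15.unForm hF 5).totSing_bot
  have h2 : Module.finrank F W = 2 := by
    have h3 := h1.two_mul_finrank_le h
    by_contra h4
    obtain ⟨X, hX⟩ := W.exists_isCompl
    have h5 := Submodule.finrank_add_eq_of_isCompl hX
    have h6 := h.finrank_perp W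
    have h7 := Submodule.finrank_sup_add_finrank_inf_eq X ((H15.unForm hF 5).perp W)
    have h8 := Submodule.finrank_le (X ⊔ (H15.unForm hF 5).perp W)
    obtain ⟨v, hv, hv0, hvv⟩ := hH.exists_isotropic (U := X ⊓ (H15.unForm hF 5).perp W) (by omega)
    have h9 := hmax _ le_sup_left (h1.sup_span hv.2 hvv rfl)
    exact hv0 (Submodule.disjoint_def.1 hX.disjoint v
      (h9 ▸ Submodule.mem_sup_right (Submodule.mem_span_singleton_self v)) hv.1)
  have h3 := H16.card_totSing_mul h h1 h2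
  rw [h.card_stab_totSing h1 h2, hH.card_fixer hF h hV h1 h2, H7.card_isom_herm hF 5 _ _ h hH hV,
    hF] at h3
  have hts : ∀ W : Submodule F (Fin 5 → F), (H15.unForm hF 5).TotSing W ↔
      ∀ u ∈ W, ∀ v ∈ W, Cfsg.hermForm 5 F q u v = 0 := fun W => by
    simp only [H15.Form.TotSing, H15.unForm_B, H15.unForm_Q, implies_true, and_true]
    exact ⟨fun k u hu v hv => k v hv u hu, fun k u hu v hv => k v hv u hu⟩
  simp only [hts] at h3
  have hq' : (2 : ℤ) ≤ q := by exact_mod_cast hq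
  have hp : ∀ n : ℕ, 1 ≤ q ^ n := fun n => Nat.one_le_pow _ _ (by positivity)
  simp only [Finset.prod_range_succ, Fin.prod_univ_two] at h3
  norm_num [Nat.even_iff] at h3
  have h5 : q ^ 2 ≤ (q ^ 2) ^ 2 := Nat.le_self_pow two_ne_zero _
  have h7 : 1 ≤ (q ^ 2) ^ 2 := Nat.one_le_pow _ _ (by positivity)
  zify [hp, h5, h7] at h3 ⊢
  have h8 : (4 : ℤ) ≤ q ^ 2 := by nlinarith
  have h6 : (q : ℤ) ^ 8 * (q + 1) * ((((q : ℤ) ^ 2) ^ 2 - 1) * ((q ^ 2) ^ 2 - q ^ 2)) ≠ 0 :=
    mul_ne_zero (by positivity) (mul_ne_zero (by nlinarith) (by nlinarith))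
  apply mul_right_cancel₀ h6
  rw [h3]; ring

end Cfsg.Agent.S0830
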