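import Cfsg.Statements.S0831
import Mathlib
import Cfsg.Agent.H16.FormGeo

set_option autoImplicit false
open Cfsg

namespace Cfsg.Agent.S0831

/-- The two families of maximal totally singular subspaces of the hyperbolic quadric: for the form Σ x_i y_i on F^(2m), m ≥ 1, and m-dimensional subspaces U, W, X on which it vanishes, the parities of m − dim(U ∩ W), m − dim(W ∩ X) and m − dim(U ∩ X) sum to an even number (so 'even codimension of the intersection' is an equivalence relation), and there exist two such subspaces meeting in codimension 1 (so there are exactly two classes). -/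
theorem result {F : Type*} [Field F] (m : ℕ) (hm : 1 ≤ m) : (∀ U W X : Submodule F (Fin m ⊕ Fin m → F), (Module.finrank F U = m ∧ ∀ w ∈ U, Cfsg.quadFormPlus m F w = 0) → (Module.finrank F W = m ∧ ∀ w ∈ W, Cfsg.quadFormPlus m F w = 0) → (Module.finrank F X = m ∧ ∀ w ∈ X, Cfsg.quadFormPlus m F w = 0) → Even ((m - Module.finrank F ↥(U ⊓ W)) + (m - Module.finrank F ↥(W ⊓ X)) + (m - Module.finrank F ↥(U ⊓ X)))) ∧ ∃ U W : Submodule F (Fin m ⊕ Fin m → F), (Module.finrank F U = m ∧ ∀ w ∈ U, Cfsg.quadFormPlus m F w = 0) ∧ (Module.finrank F W = m ∧ ∀ w ∈ W, Cfsg.quadFormPlus m F w = 0) ∧ Module.finrank F ↥(U ⊓ W) + 1 = m := by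
  have h := H15.qPlus_nondeg m F
  have hV := H15.finrank_sum_fun (F := F) m
  constructor
  · rintro U W X ⟨hU, hU'⟩ ⟨hW, hW'⟩ ⟨hX, hX'⟩
    have h1 := Submodule.finrank_mono (inf_le_left : U ⊓ W ≤ U)
    have h2 := Submodule.finrank_mono (inf_le_left : W ⊓ X ≤ W)
    have h3 := Submodule.finrank_mono (inf_le_left : U ⊓ X ≤ U)
    have := H16.even_sum_codim h hV ((H15.totSing_ofQuad _).2 hU') hU
      ((H15.totSing_ofQuad _).2 hX') hX (m - Module.finrank F ↥(W ⊓ X)) W
      ((H15.totSing_ofQuad _).2 hW') hW (by omega)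
    rw [Nat.even_iff] at this ⊢
    omega
  · obtain ⟨h1, h2⟩ := H16.exists_totSing_of_hyp (H15.qPlus_hyp m F)
    obtain ⟨W, h3, h4, h5, -⟩ := H16.exists_adj h hV h1 h2
      (x := Pi.single (Sum.inr ⟨0, hm⟩) 1) (fun hx => by
        have := h1.1 _ (Submodule.subset_span ⟨⟨0, hm⟩, rfl⟩) _ hx
        rw [(H15.qPlus_hyp m F).ef] at this
        simp at this) ((H15.qPlus_hyp m F).Qf _)
    exact ⟨_, W, ⟨h2, h1.2⟩, ⟨h4, h3.2⟩, h5⟩

end Cfsg.Agent.S0831
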