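import Cfsg.Statements.S0836
import Mathlib

set_option autoImplicit false
open Cfsg

namespace Cfsg.Agent.S0836

/-- For i ≠ j and any scalar c, the elementary transvection 1 + c E_ij is a commutator ⁅g, h⁆ of two elements of SL_n(F) provided n ≥ 3, or n = 2 and F contains x ≠ 0 with x² ≠ 1. -/
theorem result {F : Type*} [Field F] (n : ℕ) (hn : 3 ≤ n ∨ (n = 2 ∧ ∃ x : F, x ≠ 0 ∧ x ^ 2 ≠ 1)) (i j : Fin n) (hij : i ≠ j) (c : F) (t : Matrix.SpecialLinearGroup (Fin n) F) (ht : (t : Matrix (Fin n) (Fin n) F) = Matrix.transvection i j c) : t ∈ commutatorSet (Matrix.SpecialLinearGroup (Fin n) F) := by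
  have ht' : t = Matrix.SpecialLinearGroup.transvection hij c := Subtype.ext ht
  subst ht'
  rcases hn with hn | ⟨rfl, x, hx, hx2⟩
  · obtain ⟨k, hki, hkj⟩ : ∃ k : Fin n, k ≠ i ∧ k ≠ j := by
      by_contra hcon
      push Not at hcon
      have : (Finset.univ : Finset (Fin n)) ⊆ {i, j} := by
        intro k _
        by_cases h : k = i
        · simp [h]
        · simp [hcon k h]
      have h1 := Finset.card_le_card this
      have h2 : ({i, j} : Finset (Fin n)).card ≤ 2 := Finset.card_le_two
      simp at h1
      omega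
    refine ⟨Matrix.SpecialLinearGroup.transvection hki.symm c,
      Matrix.SpecialLinearGroup.transvection hkj 1, ?_⟩
    rw [commutatorElement_def, Matrix.SpecialLinearGroup.transvection_inv,
      Matrix.SpecialLinearGroup.transvection_inv]
    apply Subtype.ext
    simp [Matrix.SpecialLinearGroup.transvection_coe, mul_add, add_mul,
      Matrix.single_mul_single_of_ne, hki, hkj, hij, hki.symm, hkj.symm, hij.symm,
      ← Matrix.single_neg]
    abel
  · have hsub : x ^ 2 - 1 ≠ 0 := sub_ne_zero_of_ne hx2
    fin_cases i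
    · obtain rfl : j = 1 := by fin_cases j <;> tauto
      exact ⟨_, _, Matrix.commutator_diag2_transvection x hx (c / (x ^ 2 - 1)) c
        (div_mul_cancel₀ c hsub).symm⟩
    · obtain rfl : j = 0 := by fin_cases j <;> tauto
      refine ⟨Matrix.SpecialLinearGroup.diag2 x⁻¹ (inv_ne_zero hx),
        Matrix.SpecialLinearGroup.transvection one_ne_zero (c / (x ^ 2 - 1)), ?_⟩
      rw [commutatorElement_def, Matrix.SpecialLinearGroup.diag2_inv,
        Matrix.SpecialLinearGroup.transvection_inv]
      refine Subtype.ext <| Matrix.ext fun i j ↦ ?_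
      fin_cases i <;> fin_cases j <;>
      simp [Matrix.SpecialLinearGroup.transvection_coe, Matrix.SpecialLinearGroup.diag2_coe,
        Matrix.mul_apply, Fin.sum_univ_two, Matrix.one_apply, Matrix.single_apply] <;>
      field_simp <;> ring

end Cfsg.Agent.S0836
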