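import Cfsg.Statements.S0837
import Mathlib
import Cfsg.Agent.H15.Bases
import Cfsg.Agent.H15.Util

set_option autoImplicit false
open Cfsg

namespace Cfsg.Agent.S0837

/-- If W ≤ F^n (|F| = q²) is a k-dimensional subspace on which the Hermitian form Σ x_i y_i^q is non-degenerate, then the stabiliser of W in GU_n(q) is isomorphic to GU_k(q) × GU_(n−k)(q). -/
theorem result {F : Type*} [Field F] [Fintype F] {q : ℕ} (hF : Fintype.card F = q ^ 2) (n k : ℕ) (hk : k ≤ n) (W : Submodule F (Fin n → F)) (hWk : Module.finrank F W = k) (hW : ∀ u ∈ W, (∀ v ∈ W, Cfsg.hermForm n F q u v = 0) → u = 0) : Nonempty (↥((Cfsg.stabilizing (Cfsg.glToMat (Fin n) F) (W : Set (Fin n → F))).subgroupOf (Cfsg.GU n F q)) ≃* ↥(Cfsg.GU k F q) × ↥(Cfsg.GU (n - k) F q)) := by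
  let Φ := H15.unForm hF n
  have hnd : Φ.Nondeg := H15.unForm_nondeg hF n
  have hd : Disjoint W (Φ.perp W) := by
    rw [Submodule.disjoint_def]
    intro u hu hu'
    exact hW u hu fun v hv => hu' v hv
  have hr := hnd.finrank_perp W
  rw [Module.finrank_fin_fun, hWk] at hr
  obtain ⟨e1⟩ := ((H15.unForm_isHerm hF n).comap W.subtype).isom_equiv_gu hF
    ((Φ.restrict_nondeg_iff W).2 hd) hWk
  obtain ⟨e2⟩ := ((H15.unForm_isHerm hF n).comap (Φ.perp W).subtype).isom_equiv_gu hF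
    (hnd.restrict_perp hd) (n := n - k) (by omega)
  exact ⟨(H15.subgroupEquivOfMem (H15.guEquiv hF n) _ (Φ.stab W) fun _ => Iff.rfl).trans
    ((hnd.stabEquivProd hd).trans (MulEquiv.prodCongr e1 e2))⟩

end Cfsg.Agent.S0837
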