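import Cfsg.Statements.S0840
import Mathlib
import Cfsg.Agent.H5.ClassMul

set_option autoImplicit false
open scoped ComplexConjugate
open Cfsg

namespace Cfsg.Agent.S0840

open H4 H5
open scoped ComplexConjugate

/-- Class multiplication coefficients from the character table: for elements a, b, c of a finite group G, the number of ordered pairs (x, y) with x conjugate to a, y conjugate to b and x * y = c equals the product of the sizes of the conjugacy classes of a and b, divided by the order of G, times the sum over the irreducible characters χ of χ a * χ b * conj (χ c) / χ 1. -/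
theorem result {G : Type*} [Group G] [Finite G] (a b c : G) : (Nat.card {p : G × G // IsConj a p.1 ∧ IsConj b p.2 ∧ p.1 * p.2 = c} : ℂ) = (Nat.card {x : G // IsConj a x} : ℂ) * (Nat.card {x : G // IsConj b x} : ℂ) / (Nat.card G : ℂ) * ∑ᶠ χ : Cfsg.IrrCharacter G, (χ : G → ℂ) a * (χ : G → ℂ) b * conj ((χ : G → ℂ) c) / (χ : G → ℂ) 1 := by
  classical
  have := Fintype.ofFinite G
  rw [finsum_eq_sum_of_fintype, card_isConj_eq_index, card_isConj_eq_index, ← card_cl, ← card_cl,
    ← card_cl_mul_eq, Nat.card_eq_fintype_card, Fintype.card_subtype, Nat.cast_inj]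
  refine Finset.card_bij (fun p _ => p.1) (fun p hp => ?_) (fun p hp q hq h => ?_)
    (fun x hx => ⟨(x, x⁻¹ * c), ?_, rfl⟩)
  · obtain ⟨h1, h2, h3⟩ := (Finset.mem_filter.mp hp).2
    exact Finset.mem_filter.mpr ⟨mem_cl.mpr h1, by rwa [← h3, inv_mul_cancel_left]⟩
  · obtain ⟨-, -, h3⟩ := (Finset.mem_filter.mp hp).2
    obtain ⟨-, -, h4⟩ := (Finset.mem_filter.mp hq).2
    refine Prod.ext h (mul_left_cancel (a := q.1) ?_)
    rw [h4, ← h3]; exact congrArg (· * p.2) h.symm
  · obtain ⟨h1, h2⟩ := Finset.mem_filter.mp hx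
    exact Finset.mem_filter.mpr ⟨Finset.mem_univ _, mem_cl.mp h1, h2, by simp⟩

end Cfsg.Agent.S0840
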