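import Cfsg.Statements.S0849
import Mathlib
import Cfsg.Agent.H5.ClassMul

set_option autoImplicit false
open Cfsg

namespace Cfsg.Agent.S0849

open H4 H5
open scoped ComplexConjugate

/-- Let H be a subgroup of a finite group G and S a subset of H that is mapped to itself under conjugation by H, is disjoint from its conjugate by any element outside H, and is closed under inverses. Let φ be a class function of H vanishing on H away from S, and let u, v be involutions of G. Then the sum of the induced function of φ over all products a * b with a conjugate to u and b conjugate to v equals the index of H times the sum of φ (a * b) over such pairs with a and b in H. -/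
theorem result {G : Type*} [Group G] [Fintype G] (H : Subgroup G) (S : Set G) (hSH : S ⊆ H) (hHS : ∀ h ∈ H, ∀ s ∈ S, h * s * h⁻¹ ∈ S) (hTI : ∀ g : G, g ∉ H → ∀ s ∈ S, g * s * g⁻¹ ∉ S) (hinv : ∀ s ∈ S, s⁻¹ ∈ S) (φ : H → ℂ) (hφ : Cfsg.IsClassFunction H φ) (hφS : ∀ x : H, (x : G) ∉ S → φ x = 0) (u v : G) (hu : orderOf u = 2) (hv : orderOf v = 2) : ∑ᶠ p ∈ {p : G × G | IsConj u p.1 ∧ IsConj v p.2}, Cfsg.indFun H φ (p.1 * p.2) = (H.index : ℂ) * ∑ᶠ p ∈ {p : H × H | IsConj u (p.1 : G) ∧ IsConj v (p.2 : G)}, φ (p.1 * p.2) := by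
  classical
  have h1 : {p : G × G | IsConj u p.1 ∧ IsConj v p.2} = ↑(cl u ×ˢ cl v) := by
    ext p; simp [mem_cl]
  have h2 : {p : H × H | IsConj u (p.1 : G) ∧ IsConj v (p.2 : G)} =
      ↑(Finset.univ.filter fun p : H × H => IsConj u (p.1 : G) ∧ IsConj v (p.2 : G)) := by
    ext p; simp
  rw [h1, h2, finsum_mem_coe_finset, finsum_mem_coe_finset, Finset.sum_product,
    sum_cl_cl_indFun, ← Finset.sum_product']
  congr 1
  symm
  refine Finset.sum_bij_ne_zero (fun p _ _ => ((p.1 : G), (p.2 : G))) (fun p hp _ => ?_)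
    (fun p _ _ q _ _ h => ?_) (fun p hp h0 => ?_) (fun p _ _ => (ext0_coe H φ (p.1 * p.2)).symm)
  · simpa [mem_cl] using hp
  · exact Prod.ext (Subtype.ext (congrArg Prod.fst h)) (Subtype.ext (congrArg Prod.snd h))
  · obtain ⟨x, y⟩ := p
    obtain ⟨hx, hy⟩ := Finset.mem_product.mp hp
    rw [mem_cl] at hx hy
    have hS : x * y ∈ S := by
      by_contra h
      apply h0
      rw [ext0_apply]
      split_ifs with h3
      exacts [hφS _ h, rfl]
    have hx2 : x * x = 1 := by
      have := hx.pow 2
      rwa [← hu, pow_orderOf_eq_one, isConj_one_right, hu, sq] at this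
    have hy2 : y * y = 1 := by
      have := hy.pow 2
      rwa [← hv, pow_orderOf_eq_one, isConj_one_right, hv, sq] at this
    have hxH : x ∈ H := by
      by_contra h
      apply hTI x h _ hS
      convert hinv _ hS using 1
      rw [← mul_assoc, hx2, one_mul, mul_inv_rev, inv_eq_of_mul_eq_one_right hy2]
    have hyH : y ∈ H := (H.mul_mem_cancel_left hxH).mp (hSH hS)
    refine ⟨(⟨x, hxH⟩, ⟨y, hyH⟩), Finset.mem_filter.mpr ⟨Finset.mem_univ _, hx, hy⟩, ?_, rfl⟩
    rwa [ext0_mem _ _ (hSH hS)] at h0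

end Cfsg.Agent.S0849
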