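import Cfsg.Statements.S0855
import Mathlib
import Cfsg.Agent.H5.Misc
import Cfsg.Agent.H5.Extend
import Cfsg.Agent.H3.PNil
import Cfsg.Agent.H4.Misc

set_option autoImplicit false
open Cfsg

namespace Cfsg.Agent.S0855

open H4 H5
open scoped ComplexConjugate

/-- For a finite group G and a prime p: every irreducible character of G has degree a power of p if and only if G has an abelian normal subgroup whose order is prime to p and whose index is a power of p. -/
theorem result {G : Type*} [Group G] [Finite G] (p : ℕ) (hp : p.Prime) : (∀ χ : Cfsg.IrrCharacter G, ∃ k : ℕ, (χ : G → ℂ) 1 = (p : ℂ) ^ k) ↔ ∃ A : Subgroup G, A.Normal ∧ (∀ a ∈ A, ∀ b ∈ A, a * b = b * a) ∧ Nat.Coprime (Nat.card A) p ∧ ∃ k : ℕ, A.index = p ^ k := by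
  classical
  have := Fact.mk hp
  have := Fintype.ofFinite G
  constructor
  · intro h
    set K := pResidual p G
    have h1 : ∀ θ : IrrCharacter K, ∃ k, θ.1 1 = (p : ℂ) ^ k := by
      intro θ
      obtain ⟨χ, hχ, h2⟩ := exists_irr_over K θ.2
      obtain ⟨k, hk⟩ := h ⟨χ, hχ⟩
      obtain ⟨e, he⟩ := (hχ.isCharacter.restrict K).inner_nat θ.2.isCharacter
      obtain ⟨d, -, hd⟩ := θ.2.exists_nat_apply_one
      have h3 := clifford_degree K hχ θ.2 h2
      rw [show χ 1 = _ from hk, he, hd] at h3
      have h4 : p ^ k = e * (inertia K θ.1).index * d := by exact_mod_cast h3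
      obtain ⟨j, -, hj⟩ := (Nat.dvd_prime_pow hp).mp (Dvd.intro_left _ h4.symm)
      exact ⟨j, by rw [hd, hj, Nat.cast_pow]⟩
    have h2 : (commutator K).index.Coprime p := by
      have h3 := H3.hasNPC_iff_coprime.mp
        (H3.hasNPC_of_isNilpotent (p := p) (G := Abelianization K) inferInstance)
      rwa [← H3.map_pResidual_eq_of_surjective p (f := Abelianization.of)
        (fun x => QuotientGroup.mk_surjective x), H3.pResidual_pResidual,
        Subgroup.map_top_of_surjective Abelianization.of (fun x => QuotientGroup.mk_surjective x),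
        Subgroup.card_top] at h3
    have h3 : ∀ θ : IrrCharacter K, θ.1 1 = 1 := by
      intro θ
      by_contra h4
      have h5 : ∀ θ : IrrCharacter K, θ.1 1 ≠ 1 → ∃ d : ℕ, θ.1 1 = (p * d : ℕ) := fun θ h => by
        obtain ⟨k, hk⟩ := h1 θ
        cases k with
        | zero => exact absurd (by simpa using hk) h
        | succ k => exact ⟨p ^ k, by rw [hk, pow_succ']; simp⟩
      choose! d hd using h5
      have h6 := sum_degree_sq (G := K)
      rw [← Finset.sum_filter_add_sum_filter_not Finset.univ (fun χ : IrrCharacter K => χ.1 1 = 1),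
        Finset.sum_congr rfl (g := fun _ => 1) (fun χ h => by
          rw [(Finset.mem_filter.mp h).2, one_pow]),
        Finset.sum_congr rfl (f := fun χ : IrrCharacter K => χ.1 1 ^ 2)
          (fun χ h => by rw [hd χ (Finset.mem_filter.mp h).2]),
        Finset.sum_const, ← Fintype.card_subtype, ← Nat.card_eq_fintype_card, card_linear_eq_index,
        nsmul_eq_mul, mul_one] at h6
      have h7 : (commutator K).index + ∑ χ ∈ Finset.univ.filter
          (fun χ : IrrCharacter K => ¬ χ.1 1 = 1), (p * d χ) ^ 2 = Nat.card K := by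
        exact_mod_cast h6
      have h8 : p ∣ Nat.card K := (Dvd.intro _ rfl).trans (θ.2.degree_dvd_card (hd θ h4))
      rw [← h7, Nat.dvd_add_left (Finset.dvd_sum fun χ _ =>
        (Dvd.intro _ rfl).trans (dvd_pow_self _ two_ne_zero))] at h8
      exact (Nat.Prime.coprime_iff_not_dvd hp).mp h2.symm h8
    have h4 := commutator_le_of_forall_linear (⊥ : Subgroup K) fun χ hχ _ => h3 ⟨χ, hχ⟩
    rw [le_bot_iff.mp h4, Subgroup.index_bot] at h2
    obtain ⟨k, hk⟩ := H3.index_pResidual_dvd_pow p G
    obtain ⟨j, -, hj⟩ := (Nat.dvd_prime_pow hp).mp hk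
    exact ⟨K, inferInstance, fun a ha b hb => congrArg Subtype.val
      (comm_iff_irr_linear.mpr (fun χ hχ => h3 ⟨χ, hχ⟩) ⟨a, ha⟩ ⟨b, hb⟩), h2, j, hj⟩
  · rintro ⟨A, hA, h1, -, k, hk⟩ χ
    obtain ⟨d, -, hd⟩ := χ.2.exists_nat_apply_one
    obtain ⟨j, -, hj⟩ := (Nat.dvd_prime_pow hp).mp
      (hk ▸ degree_dvd_index_of_abelian_normal A h1 χ.2 hd)
    exact ⟨j, by rw [hd, hj, Nat.cast_pow]⟩

end Cfsg.Agent.S0855
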