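import Cfsg.Statements.S0858
import Mathlib
import Cfsg.Agent.H5.GoingDown

set_option autoImplicit false
open Cfsg

namespace Cfsg.Agent.S0858

open H4 H5
open scoped ComplexConjugate

/-- Let N be a normal subgroup of the finite group G with G / N solvable, and suppose that for every subgroup H containing N and all subgroups L < K between N and H that are normal in H with no subgroup normal in H strictly between them, the index of L in K is not a perfect square. Then every irreducible character χ of G is induced from an irreducible character ψ of some subgroup H containing N such that the restriction of ψ to N is irreducible. -/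
theorem result {G : Type*} [Group G] [Fintype G] (N : Subgroup G) [N.Normal] (hsolv : Group.IsSolvable (G ⧸ N)) (hchief : ∀ (H K L : Subgroup G), N ≤ L → L < K → K ≤ H → (∀ h ∈ H, ∀ k ∈ K, h * k * h⁻¹ ∈ K) → (∀ h ∈ H, ∀ l ∈ L, h * l * h⁻¹ ∈ L) → (∀ M : Subgroup G, L ≤ M → M ≤ K → (∀ h ∈ H, ∀ m ∈ M, h * m * h⁻¹ ∈ M) → M = L ∨ M = K) → ¬ IsSquare (L.relIndex K)) (χ : G → ℂ) (hχ : Cfsg.IsIrrCharacter G χ) : ∃ (H : Subgroup G) (hNH : N ≤ H) (ψ : H → ℂ), Cfsg.IsIrrCharacter H ψ ∧ Cfsg.indFun H ψ = χ ∧ Cfsg.IsIrrCharacter N (fun n : N => ψ ⟨(n : G), hNH n.2⟩) := by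
  classical
  obtain ⟨H, ⟨hNH, ψ, hψ, rfl⟩, hmin⟩ := (Set.toFinite {H : Subgroup G | N ≤ H ∧
      ∃ ψ : H → ℂ, IsIrrCharacter H ψ ∧ indFun H ψ = χ}).exists_minimal
    ⟨⊤, le_top, fun x => χ x, hχ.comp_mulEquiv Subgroup.topEquiv, indFun_top_res hχ.classFun⟩
  refine ⟨H, hNH, ψ, hψ, rfl, (isIrr_subgroupOf_iff hNH _).mp (isIrr_res_of_nonsquare
    (N.subgroupOf H) (((solvMod_iff N).mpr hsolv).comap H.subtype) (fun L K hc hNL => ?_) hψ
    fun M hM hNM => ?_)⟩
  · rw [← Subgroup.relIndex_map_map_of_injective L K H.subtype_injective]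
    have hn : ∀ X : Subgroup H, X.Normal → ∀ h ∈ H, ∀ k ∈ X.map H.subtype,
        h * k * h⁻¹ ∈ X.map H.subtype := by
      rintro X hX h hh _ ⟨k, hk, rfl⟩
      exact ⟨_, hX.conj_mem k hk ⟨h, hh⟩, rfl⟩
    refine hchief H _ _ (fun x hx => ⟨⟨x, hNH hx⟩, hNL hx, rfl⟩)
      ((Subgroup.map_lt_map_iff_of_injective H.subtype_injective).mpr hc.lt)
      (Subgroup.map_subtype_le _) (hn K hc.normal_right) (hn L hc.normal_left) fun M h1 h2 h3 => ?_
    have h4 : (M.subgroupOf H).map H.subtype = M :=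
      Subgroup.map_subgroupOf_eq_of_le (h2.trans (Subgroup.map_subtype_le _))
    rcases hc.eq_or_eq (M.subgroupOf H) ⟨fun x hx h => h3 h h.2 x hx⟩
      (Subgroup.map_le_iff_le_comap.mp h1)
      ((Subgroup.map_le_map_iff_of_injective H.subtype_injective).mp (h4.le.trans h2)) with h | h
    · left; rw [← h4, h]
    · right; rw [← h4, h]
  · by_contra h
    obtain ⟨T, η, hMT, hT, hη, rfl⟩ := exists_indFun_of_not_homogeneous M hψ h
    refine hT (top_le_iff.mp fun x _ => ?_)
    obtain ⟨y, hy, e⟩ := hmin (y := T.map H.subtype)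
      ⟨fun x hx => ⟨⟨x, hNH hx⟩, hMT (hNM hx), rfl⟩, _, hη.comp_mulEquiv
        (T.equivMapOfInjective H.subtype H.subtype_injective).symm,
        (H5.indFun_indFun_map H T η).symm⟩ (Subgroup.map_subtype_le _) x.2
    rwa [← show y = x from Subtype.ext e]

end Cfsg.Agent.S0858
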