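import Cfsg.Statements.S0861
import Mathlib
import Cfsg.Agent.H5.Misc
import Cfsg.Agent.H5.Extend
import Cfsg.Agent.H4.Galois
import Cfsg.Agent.H17.Orth

set_option autoImplicit false
open Cfsg

namespace Cfsg.Agent.S0861

open H4 H5
open scoped ComplexConjugate

/-- Let P be a normal abelian Sylow p-subgroup of the finite group G and suppose some element g of P has centralizer exactly P. Then the number of irreducible characters of G is at most the order of P, and if equality holds then G / P is abelian (the commutator subgroup lies in P). -/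
theorem result {G : Type*} [Group G] [Finite G] (p : ℕ) [Fact p.Prime] (P : Sylow p G) [(P : Subgroup G).Normal] (hab : ∀ a ∈ P, ∀ b ∈ P, a * b = b * a) (g : G) (hg : g ∈ P) (hC : Subgroup.centralizer ({g} : Set G) = P) : Nat.card (Cfsg.IrrCharacter G) ≤ Nat.card P ∧ (Nat.card (Cfsg.IrrCharacter G) = Nat.card P → commutator G ≤ P) := by
  classical
  obtain ⟨M, hM⟩ := exists_isPModular (Fact.out : p.Prime)
  have : H17.PM p M := ⟨hM⟩
  have h0 : ∀ χ : IrrCharacter G, χ.1 g ≠ 0 := by
    intro χ h
    obtain ⟨d, -, hd⟩ := χ.2.exists_nat_apply_one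
    have h1 := H17.char_mul_sub_mem (M := M) χ.2.isCharacter (H17.PElt.of_mem P.isPGroup' hg)
      (Commute.one_right g)
    rw [mul_one, h, hd, zero_sub, neg_mem_iff, H17.natCast_mem_Pm] at h1
    exact P.not_dvd_index (h1.trans (degree_dvd_index_of_abelian_normal _ hab χ.2 hd))
  have hn : NeZero (orderOf g) := ⟨(orderOf_pos g).ne'⟩
  let a : IrrCharacter G → ℝ := fun χ =>
    ∑ u : (ZMod (orderOf g))ˣ, ‖χ.1 (g ^ (u : ZMod (orderOf g)).val)‖ ^ 2
  have h1 : ∀ χ, ((orderOf g).totient : ℝ) ≤ a χ := fun χ =>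
    χ.2.isGen.totient_le_sum_norm_sq (pow_orderOf_eq_one g) (h0 χ)
  have h2 : ∑ χ, a χ = (orderOf g).totient * Nat.card P := by
    simp only [a]
    rw [Finset.sum_comm]
    simp only [sum_norm_sq_irr]
    rw [Finset.sum_congr rfl (g := fun _ => (Nat.card P : ℝ)), Finset.sum_const, Finset.card_univ,
      ZMod.card_units_eq_totient, nsmul_eq_mul]
    intro u _
    have h3 : Subgroup.centralizer {g ^ (u : ZMod (orderOf g)).val} = Subgroup.centralizer {g} := by
      ext x
      simp only [Subgroup.mem_centralizer_singleton_iff]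
      refine ⟨fun h => ?_, fun h => (Commute.pow_right h _).eq⟩
      obtain ⟨k, hk⟩ := exists_pow_eq_self_of_coprime (ZMod.val_coe_unit_coprime u)
      rw [← hk]
      exact (Commute.pow_right h _).eq
    rw [h3, hC]
  have h3 : (0 : ℝ) < (orderOf g).totient := by exact_mod_cast Nat.totient_pos.mpr (orderOf_pos g)
  have h4 : ∑ _χ : IrrCharacter G, ((orderOf g).totient : ℝ) =
      (orderOf g).totient * Nat.card (IrrCharacter G) := by
    simp [mul_comm]
  constructor
  · have := Finset.sum_le_sum fun χ (_ : χ ∈ Finset.univ) => h1 χ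
    rw [h2, h4] at this
    exact_mod_cast le_of_mul_le_mul_left this h3
  · intro h
    have h5 := (Finset.sum_eq_sum_iff_of_le fun χ (_ : χ ∈ Finset.univ) => h1 χ).mp
      (by rw [h2, h4, h])
    refine commutator_le_of_forall_linear _ fun χ hχ hker => ?_
    obtain ⟨d, -, hd⟩ := hχ.exists_nat_apply_one
    have h6 := h5 ⟨χ, hχ⟩ (Finset.mem_univ _)
    simp only [a] at h6
    rw [Finset.sum_congr rfl (g := fun _ => (d : ℝ) ^ 2) (fun u _ => by
      rw [apply_of_mem_charKer (hker (pow_mem hg _)), hd, Complex.norm_natCast]), Finset.sum_const,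
      Finset.card_univ, ZMod.card_units_eq_totient, nsmul_eq_mul, left_eq_mul₀ h3.ne'] at h6
    have h7 : d ^ 2 = 1 := by exact_mod_cast h6
    rw [hd, (Nat.pow_eq_one.mp h7).resolve_right two_ne_zero, Nat.cast_one]

end Cfsg.Agent.S0861
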