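import Cfsg.Statements.S0868
import Mathlib
import Cfsg.Agent.H5.Misc

set_option autoImplicit false
open scoped ComplexConjugate
open Cfsg

namespace Cfsg.Agent.S0868

open H4 H5
open scoped ComplexConjugate

/-- Let N be a normal subgroup of the finite group G, χ an irreducible character of G whose restriction ϑ to N is irreducible, and ψ an irreducible character of G. Define η on G by η g = (1 / order of N) * Σ over n in N of ψ (n * g) * conj (χ (n * g)). Then: if the restriction of ψ to N has nonzero inner product with ϑ, η is an irreducible character of G; if that inner product is zero, η vanishes identically; and if ψ = χ then η is identically 1. -/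
theorem result {G : Type*} [Group G] [Fintype G] (N : Subgroup G) [N.Normal] [Fintype N] (χ : G → ℂ) (hχ : Cfsg.IsIrrCharacter G χ) (hχN : Cfsg.IsIrrCharacter N (fun n : N => χ n)) (ψ : G → ℂ) (hψ : Cfsg.IsIrrCharacter G ψ) (η : G → ℂ) (hη : η = fun g => (Nat.card N : ℂ)⁻¹ * ∑ n : N, ψ ((n : G) * g) * conj (χ ((n : G) * g))) : (Cfsg.classInner (fun n : N => ψ n) (fun n : N => χ n) ≠ 0 → Cfsg.IsIrrCharacter G η) ∧ (Cfsg.classInner (fun n : N => ψ n) (fun n : N => χ n) = 0 → η = 0) ∧ (ψ = χ → η = fun _ => 1) := by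
  classical
  have key : ∀ g, η g = ∑ γ : IrrCharacter G,
      if N ≤ charKer γ.1 ∧ ψ = γ.1 * χ then γ.1 g else 0 := by
    intro g
    have hf := (hψ.classFun.mul hχ.classFun.conj).apply_eq_sum
    simp only [Pi.mul_apply] at hf
    simp only [hη, hf]
    rw [Finset.sum_comm, Finset.mul_sum]
    refine Finset.sum_congr rfl fun γ _ => ?_
    rw [← Finset.mul_sum]
    by_cases h : N ≤ charKer γ.1
    · rw [sum_mul_of_le_charKer N h, classInner_mul_left]
      simp only [Complex.conj_conj, h, true_and]
      rw [hψ.inner_eq_ite (gallagher_isIrr N hχ.isCharacter hχN γ.2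
        ((le_charKer_iff γ.2.isCharacter).mp h))]
      have := card_ne_zero N
      split_ifs
      · field_simp
      · simp
    · rw [sum_normal_mul_eq_zero N γ.2 h]; simp [h]
  have hA : ∀ β, IsIrrCharacter G β → (∀ n ∈ N, β n = β 1) → ψ = β * χ → η = β := by
    intro β hβ h1 h2
    funext g
    rw [key, Finset.sum_eq_single ⟨β, hβ⟩, if_pos ⟨(le_charKer_iff hβ.isCharacter).mpr h1, h2⟩]
    · intro γ _ hne
      rw [if_neg]
      rintro ⟨h3, h4⟩
      exact hne (Subtype.ext (gallagher_injective N hχ.isCharacter hχN γ.2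
        ((le_charKer_iff γ.2.isCharacter).mp h3) hβ h1 (h4.symm.trans h2)))
    · simp
  refine ⟨fun h => ?_, fun h => ?_, fun h => hA _ isIrrCharacter_one (fun _ _ => rfl) ?_⟩
  · obtain ⟨β, hβ, h1, h2⟩ := gallagher_exists N hχ.isCharacter hχN hψ h
    rwa [hA β hβ h1 h2]
  · funext g
    rw [key]
    refine Finset.sum_eq_zero fun γ _ => if_neg ?_
    rintro ⟨h3, h4⟩
    have h5 : (fun n : N => ψ n) = γ.1 1 • fun n : N => χ n := by
      funext n
      rw [h4, Pi.mul_apply, apply_of_mem_charKer (h3 n.2)]; rfl
    rw [h5, inner_smul_self hχN] at h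
    exact γ.2.apply_one_ne_zero h
  · rw [h]; funext g; simp

end Cfsg.Agent.S0868
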