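import Cfsg.Statements.S0870
import Mathlib
import Cfsg.Agent.H5.Brauer

set_option autoImplicit false
open Cfsg

namespace Cfsg.Agent.S0870

open H4 H5

/-- For subgroups H and K of a finite group G, the pointwise product of the functions induced from the constant function 1 on H and on K is a sum, over subgroups U of H with natural-number coefficients, of the functions induced from the constant function 1 on U. -/
theorem result {G : Type*} [Group G] [Fintype G] (H K : Subgroup G) : ∃ a : Subgroup G → ℕ, (∀ U, a U ≠ 0 → U ≤ H) ∧ Cfsg.indFun H (fun _ => 1) * Cfsg.indFun K (fun _ => 1) = ∑ U : Subgroup G, (a U : ℂ) • Cfsg.indFun U (fun _ => 1) := by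
  classical
  have := Fintype.ofFinite (MulAction.orbitRel.Quotient H (G ⧸ K))
  refine ⟨fun U => (Finset.univ.filter fun ω : MulAction.orbitRel.Quotient H (G ⧸ K) =>
    (MulAction.stabilizer H (Quotient.out ω)).map H.subtype = U).card, fun U hU => ?_, ?_⟩
  · obtain ⟨ω, hω⟩ := Finset.card_ne_zero.mp hU
    rw [← (Finset.mem_filter.mp hω).2]
    exact Subgroup.map_subtype_le _
  · rw [indFun_one_mul_indFun_one, ← Finset.sum_fiberwise (s := Finset.univ)
      (g := fun ω : MulAction.orbitRel.Quotient H (G ⧸ K) =>
        (MulAction.stabilizer H (Quotient.out ω)).map H.subtype)]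
    refine Finset.sum_congr rfl fun U _ => ?_
    rw [Finset.sum_congr rfl (g := fun _ => indFun U (fun _ => 1))
      (fun ω hω => by rw [(Finset.mem_filter.mp hω).2]), Finset.sum_const, Nat.cast_smul_eq_nsmul]

end Cfsg.Agent.S0870
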