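import Cfsg.Statements.S0875
import Mathlib
import Cfsg.Agent.H5.Brauer

set_option autoImplicit false
open Cfsg

namespace Cfsg.Agent.S0875

open H4 H5
open scoped ComplexConjugate

/-- Let G be a finite group of order m * n with m and n coprime, and g an element whose order is coprime to m. Every x in G factors uniquely as x = u * v with u, v commuting, the order of u coprime to n and the order of v coprime to m; let ϑ be the function on G equal to n at those x whose factor v is conjugate to g and equal to 0 elsewhere. Then ϑ is a linear combination of the irreducible characters of G with algebraic-integer coefficients. -/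
theorem result {G : Type*} [Group G] [Fintype G] (m n : ℕ) (hmn : Nat.card G = m * n) (hcop : Nat.Coprime m n) (g : G) (hg : Nat.Coprime (orderOf g) m) (ϑ : G → ℂ) (hϑ1 : ∀ x : G, (∃ v : G, IsConj v g ∧ (∃ u : G, x = u * v ∧ Commute u v ∧ Nat.Coprime (orderOf u) n ∧ Nat.Coprime (orderOf v) m)) → ϑ x = n) (hϑ0 : ∀ x : G, (¬ ∃ v : G, IsConj v g ∧ (∃ u : G, x = u * v ∧ Commute u v ∧ Nat.Coprime (orderOf u) n ∧ Nat.Coprime (orderOf v) m)) → ϑ x = 0) : ∃ c : Cfsg.IrrCharacter G → ℂ, (∀ χ, c χ ∈ Cfsg.AlgInt) ∧ ϑ = ∑ᶠ χ : Cfsg.IrrCharacter G, c χ • (χ : G → ℂ) := by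
  classical
  obtain ⟨k, hk1, hk2⟩ := Nat.chineseRemainder hcop 0 1
  have huniq : ∀ u v : G, Commute u v → (orderOf u).Coprime n → (orderOf v).Coprime m →
      (u * v) ^ k = v := by
    intro u v h hu hv
    have h1 : orderOf u ∣ m := hu.dvd_of_dvd_mul_right (hmn ▸ orderOf_dvd_natCard u)
    have h2 : orderOf v ∣ n := hv.dvd_of_dvd_mul_left (hmn ▸ orderOf_dvd_natCard v)
    rw [h.mul_pow, pow_eq_pow_iff_modEq.mpr (hk1.of_dvd h1), pow_eq_pow_iff_modEq.mpr (hk2.of_dvd h2),
      pow_zero, pow_one, one_mul]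
  let Q : G → Prop := fun x => ∃ v : G, IsConj v g ∧ (∃ u : G, x = u * v ∧ Commute u v ∧
    Nat.Coprime (orderOf u) n ∧ Nat.Coprime (orderOf v) m)
  have hϑ : ∀ x, ϑ x = if Q x then (n : ℂ) else 0 := by
    intro x
    split_ifs with h
    exacts [hϑ1 x h, hϑ0 x h]
  have hQ : ∀ x y, Q x → Q (y * x * y⁻¹) := by
    rintro _ y ⟨v, hv, u, rfl, h1, h2, h3⟩
    refine ⟨y * v * y⁻¹, (isConj_iff.mpr ⟨y, rfl⟩).symm.trans hv, y * u * y⁻¹, by group,
      h1.map (MulAut.conj y), ?_, ?_⟩
    · rwa [← (MulAut.conj y).orderOf_eq] at h2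
    · rwa [← (MulAut.conj y).orderOf_eq] at h3
  have hcl : IsClassFunction G ϑ := by
    intro x y
    rw [hϑ, hϑ]
    congr 1
    exact propext ⟨fun h => by simpa [mul_assoc] using hQ _ y⁻¹ h, hQ x y⟩
  refine ⟨fun χ => classInner ϑ χ, fun χ => ?_, by rw [finsum_eq_sum_of_fintype]; exact hcl.eq_sum⟩
  refine inner_mem_of_elem AlgInt.toSubring.toAddSubgroup hcl (fun E _ hE ψ hψ => ?_) χ.2.isGen
  obtain ⟨p, hp, hE⟩ := hE
  obtain ⟨A, B, hA, hB, h1, h2, h3, h4, -, d, hd⟩ := nilp_decomp (isNilpotent_of_isElementary hp hE)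
    hcop (hmn ▸ E.card_subgroup_dvd_card)
  have h5 : ∀ (a : A) (b : B), ϑ ((a : E) * b : E) = ϑ (b : E) := by
    intro a b
    have ha : (orderOf ((a : E) : G)).Coprime n := by rw [Subgroup.orderOf_coe]; exact (h1 _).mp a.2
    have hb : (orderOf ((b : E) : G)).Coprime m := by rw [Subgroup.orderOf_coe]; exact (h2 _).mp b.2
    have hab : Commute ((a : E) : G) (b : E) := (h3 a a.2 b b.2).map E.subtype
    rw [hϑ, hϑ]
    congr 1
    apply propext
    constructor
    · rintro ⟨v, hv, u, e, h6, h7, h8⟩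
      have h9 := huniq u v h6 h7 h8
      rw [← e, Subgroup.coe_mul, huniq _ _ hab ha hb] at h9
      exact ⟨_, h9 ▸ hv, 1, by simp, Commute.one_left _, by simp, hb⟩
    · rintro ⟨v, hv, u, e, h6, h7, h8⟩
      have h9 := huniq u v h6 h7 h8
      have h10 := huniq 1 _ (Commute.one_left _) (by simp) hb
      rw [one_mul] at h10
      rw [← e, h10] at h9
      exact ⟨_, h9 ▸ hv, _, rfl, hab, ha, hb⟩
  have h6 : ∀ b : B, ∃ c ∈ AlgInt, ∑ a : A, conj (ψ (a * b)) = Nat.card A * c := by
    intro b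
    by_cases h : A ≤ charKer (fun x => conj (ψ x))
    · exact ⟨_, hψ.conj.isCharacter.isIntegral b, sum_mul_of_le_charKer A h b⟩
    · exact ⟨0, zero_mem _, by rw [sum_normal_mul_eq_zero A hψ.conj h, mul_zero]⟩
  choose c hc hc' using h6
  have h8 : Function.Bijective fun x : A × B => (x.1 : E) * x.2 := h4
  rw [classInner_def, ← h8.sum_comp, Fintype.sum_prod_type_right]
  simp only [h5, ← Finset.mul_sum, hc']
  rw [Finset.mul_sum]
  refine sum_mem fun b _ => ?_
  rw [hϑ]
  split_ifs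
  · rw [← h4.card_mul_card, hd]
    have := card_ne_zero A
    have := card_ne_zero B
    have h7 : ((Nat.card A * Nat.card B : ℕ) : ℂ)⁻¹ * ((Nat.card B * d : ℕ) * (Nat.card A * c b))
        = d * c b := by
      push_cast; field_simp
    rw [h7]
    exact AlgInt.mul_mem (natCast_mem AlgInt d) (hc b)
  · simp

end Cfsg.Agent.S0875
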