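import Cfsg.Statements.S0876
import Mathlib
import Cfsg.Agent.H5.Misc
import Cfsg.Agent.H17.Defect

set_option autoImplicit false
open Cfsg

namespace Cfsg.Agent.S0876

open H4 H5

/-- Let G be a finite group, p a prime and M a maximal ideal of the ring of algebraic integers containing p. Let x, y be elements with p-parts a and b (so a⁻¹ * x and b⁻¹ * y are their p-regular parts). Then a⁻¹ * x and b⁻¹ * y are conjugate in G if and only if, for every irreducible character χ, the difference χ x - χ y lies in the local ideal at M. -/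
theorem result {G : Type*} [Group G] [Finite G] (p : ℕ) (M : Ideal Cfsg.AlgInt) (hM : Cfsg.IsPModular p M) (x y a b : G) (ha : Cfsg.IsPPart p x a) (hb : Cfsg.IsPPart p y b) : IsConj (a⁻¹ * x) (b⁻¹ * y) ↔ ∀ χ : Cfsg.IrrCharacter G, Cfsg.MemLocalIdeal M ((χ : G → ℂ) x - (χ : G → ℂ) y) := by
  have : H17.PM p M := ⟨hM⟩
  have : Fact p.Prime := ⟨hM.1⟩
  have h1 : a⁻¹ * x = H17.pr p x := by
    rw [← H17.isPPart_iff.mp ha, inv_mul_eq_iff_eq_mul, H17.pp_mul_pr]
  have h2 : b⁻¹ * y = H17.pr p y := by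
    rw [← H17.isPPart_iff.mp hb, inv_mul_eq_iff_eq_mul, H17.pp_mul_pr]
  rw [h1, h2]
  have h3 : ∀ χ : IrrCharacter G, MemLocalIdeal M (χ.1 x - χ.1 y) ↔
      χ.1 (H17.pr p x) - χ.1 (H17.pr p y) ∈ H17.Pm M := by
    intro χ
    rw [← H17.mem_Pm]
    apply H17.mem_Pm_congr
    have := (H17.Pm M).sub_mem (H17.char_sub_pr_mem (p := p) χ.2.isCharacter x)
      (H17.char_sub_pr_mem (p := p) χ.2.isCharacter y)
    convert this using 1; ring
  simp only [h3]
  constructor
  · intro h χ
    rw [χ.2.classFun.apply_of_isConj h, sub_self]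
    exact zero_mem _
  · intro h
    by_contra hc
    obtain ⟨s, hs, hs'⟩ := H17.exists_comb_cind (M := M) (H17.reg_pr (p := p) x)
    have h4 := hs' _ (H17.reg_pr x)
    have h5 := hs' _ (H17.reg_pr y)
    classical
    rw [H17.cind_apply] at h4 h5
    rw [if_pos (IsConj.refl _)] at h4
    rw [if_neg hc] at h5
    apply H17.one_notMem_Pm (M := M)
    rw [← sub_zero (1 : ℂ), ← h4]
    nth_rewrite 1 [← h5]
    rw [← Finset.sum_sub_distrib]
    exact sum_mem fun χ _ => by rw [← mul_sub]; exact H17.Pm_mul_left (hs χ) (h χ)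

end Cfsg.Agent.S0876
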