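import Cfsg.Statements.S0877
import Mathlib
import Cfsg.Agent.H5.Brauer

set_option autoImplicit false
open Cfsg

namespace Cfsg.Agent.S0877

open H4 H5
open scoped ComplexConjugate

/-- Let H be a subgroup of the finite group G whose order is coprime to its index. Suppose that elements of H conjugate in G are conjugate in H, and that every subgroup E of G that is elementary for some prime (in the sense used for Brauer's characterisation of characters) and whose order divides the order of H is conjugate to a subgroup of H. Then there is a normal subgroup K with K ⊔ H = ⊤ and K ⊓ H trivial. -/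
theorem result {G : Type*} [Group G] [Finite G] (H : Subgroup G) (hHall : Nat.Coprime (Nat.card H) H.index) (hfus : ∀ x ∈ H, ∀ y ∈ H, IsConj x y → ∃ h ∈ H, h * x * h⁻¹ = y) (helem : ∀ (E : Subgroup G) (p : ℕ), p.Prime → Cfsg.IsElementary p E → Nat.card E ∣ Nat.card H → ∃ g : G, E.map (MulAut.conj g).toMonoidHom ≤ H) : ∃ K : Subgroup G, K.Normal ∧ K ⊔ H = ⊤ ∧ K ⊓ H = ⊥ := by
  classical
  have := Fintype.ofFinite G
  obtain ⟨k, hk1, hk2⟩ := Nat.chineseRemainder hHall 1 0
  have hpow1 : ∀ a : G, orderOf a ∣ Nat.card H → a ^ k = a := fun a ha => by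
    rw [pow_eq_pow_iff_modEq.mpr (hk1.of_dvd ha), pow_one]
  have hpow0 : ∀ a : G, orderOf a ∣ H.index → a ^ k = 1 := fun a ha => by
    rw [pow_eq_pow_iff_modEq.mpr (hk2.of_dvd ha), pow_zero]
  have hr : ∀ g : G, ∃ h : H, IsConj (g ^ k) h := by
    intro g
    obtain ⟨p, hp1, hp⟩ := Nat.exists_infinite_primes (Nat.card G + 1)
    have h1 : orderOf (g ^ k) ∣ Nat.card H := by
      rw [orderOf_dvd_iff_pow_eq_one, ← pow_mul, ← orderOf_dvd_iff_pow_eq_one]
      refine (orderOf_dvd_natCard g).trans ?_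
      rw [← H.card_mul_index, mul_comm k]
      exact mul_dvd_mul_left _ ((Nat.modEq_zero_iff_dvd).mp hk2)
    obtain ⟨y, hy⟩ := helem (Subgroup.zpowers (g ^ k)) p hp
      ⟨⟨_, Subgroup.mem_zpowers _⟩, Subgroup.mem_center_iff.mpr fun a => mul_comm' _ _, by
        refine ((Nat.Prime.coprime_iff_not_dvd hp).mpr fun h => ?_).symm
        rw [Subgroup.orderOf_mk] at h
        have := Nat.le_of_dvd Nat.card_pos (h.trans (orderOf_dvd_natCard _))
        omega, 0, by
        rw [pow_zero, Subgroup.index_eq_one, eq_top_iff]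
        rintro ⟨_, i, rfl⟩ -
        exact ⟨i, rfl⟩⟩ (by rwa [Nat.card_zpowers])
    exact ⟨⟨_, hy ⟨_, Subgroup.mem_zpowers _, rfl⟩⟩, isConj_iff.mpr ⟨y, rfl⟩⟩
  choose r hr using hr
  have hfus' : ∀ (θ : H → ℂ), IsClassFunction H θ → ∀ (g : G) (h : H), IsConj (g ^ k) h →
      θ (r g) = θ h := by
    intro θ hθ g h hc
    obtain ⟨t, ht, e⟩ := hfus _ (r g).2 _ h.2 ((hr g).symm.trans hc)
    exact hθ.apply_of_isConj (isConj_iff.mpr ⟨⟨t, ht⟩, Subtype.ext e⟩)
  have hres : ∀ (θ : H → ℂ), IsClassFunction H θ → ∀ h : H, θ (r h) = θ h := fun θ hθ h =>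
    hfus' θ hθ h h (by rw [hpow1 _ (Subgroup.orderOf_dvd_natCard H h.2)])
  have hgen : ∀ θ : H → ℂ, IsCharacter H θ → IsGeneralizedCharacter G fun g => θ (r g) := by
    intro θ hθ
    refine isGen_of_elem (isClassFunction_of_isConj fun x y hxy =>
      hfus' θ hθ.classFun _ _ ((hxy.pow k).trans (hr y))) ?_
    rintro E ⟨p, hp, hE⟩
    obtain ⟨A, B, hA, hB, -, -, h3, h4, h5, h6⟩ := nilp_decomp (isNilpotent_of_isElementary hp hE)
      hHall (H.card_mul_index ▸ E.card_subgroup_dvd_card)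
    obtain ⟨y, hy⟩ := helem (A.map E.subtype) p hp
      (isElementary_map_subtype (isElementary_of_le hp hE A)) (by rwa [H2.card_map_subtype])
    have h7 : ∀ a ∈ A, ∀ b ∈ B, ((a * b : E) : G) ^ k = a := by
      intro a ha b hb
      have := ((h3 a ha b hb).map E.subtype).mul_pow k
      simp only [Subgroup.subtype_apply] at this
      rw [Subgroup.coe_mul, this, hpow1, hpow0, mul_one]
      · rw [Subgroup.orderOf_coe]; exact (B.orderOf_dvd_natCard hb).trans h6
      · rw [Subgroup.orderOf_coe]; exact (A.orderOf_dvd_natCard ha).trans h5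
    have h8 : ∀ x : E, ∃ a ∈ A, ∃ b ∈ B, x = a * b := fun x => by
      obtain ⟨⟨a, b⟩, e⟩ := h4.2 x
      exact ⟨a, a.2, b, b.2, e.symm⟩
    let f : E →* H := MonoidHom.mk' (fun x => ⟨y * x ^ k * y⁻¹, by
        obtain ⟨a, ha, b, hb, rfl⟩ := h8 x
        rw [h7 a ha b hb]
        exact hy ⟨a, ⟨a, ha, rfl⟩, rfl⟩⟩) (by
      intro x x'
      obtain ⟨a, ha, b, hb, rfl⟩ := h8 x
      obtain ⟨a', ha', b', hb', rfl⟩ := h8 x'
      apply Subtype.ext
      have : a * b * (a' * b') = a * a' * (b * b') := by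
        rw [mul_assoc, ← mul_assoc b, ← (h3 a' ha' b hb).eq]; simp only [mul_assoc]
      simp only [this, h7 a ha b hb, h7 a' ha' b' hb', h7 _ (mul_mem ha ha') _ (mul_mem hb hb'),
        MulMemClass.mk_mul_mk]
      simp [mul_assoc])
    have h9 : (fun x : E => θ (r x)) = fun x => θ (f x) :=
      funext fun x => hfus' θ hθ.classFun _ _ (isConj_iff.mpr ⟨y, rfl⟩)
    rw [h9]
    exact (hθ.comp f).isGen
  let M : H → ℕ := fun h => ∑ g : G, Nat.card {t : H // t * r g * t⁻¹ = h}
  have hM1 : ∀ h, Nat.card G ≤ M h := by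
    intro h
    refine Nat.le_of_dvd (Finset.sum_pos' (fun _ _ => Nat.zero_le _) ⟨h, Finset.mem_univ _, ?_⟩)
      (nat_dvd_of_isIntegral_div Nat.card_pos.ne' ?_)
    · obtain ⟨t, ht, e⟩ := hfus _ (r h).2 _ h.2
        ((hr h).symm.trans (by rw [hpow1 _ (Subgroup.orderOf_dvd_natCard H h.2)]))
      have : Nonempty {t : H // t * r h * t⁻¹ = h} := ⟨⟨⟨t, ht⟩, Subtype.ext e⟩⟩
      exact Nat.card_pos
    · have : (M h : ℂ) / Nat.card G = ∑ φ : IrrCharacter H,
          (φ : H → ℂ) h * classInner (fun _ => 1) (fun g => (φ : H → ℂ) (r g)) := by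
        simp only [M, Nat.cast_sum, ← column_orth_card, classInner_def, one_mul]
        rw [Finset.sum_comm, Finset.sum_div]
        refine Finset.sum_congr rfl fun φ _ => ?_
        rw [← Finset.mul_sum]; ring
      rw [this]
      refine IsIntegral.sum _ fun φ _ => (φ.2.isCharacter.isIntegral h).mul ?_
      obtain ⟨n, hn⟩ := isGen_one.inner_int (hgen _ φ.2.isCharacter)
      rw [hn]; exact isIntegral_intCast n
  have hM2 : ∑ _h : H, Nat.card G = ∑ h, M h := by
    simp only [M]
    rw [Finset.sum_comm]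
    have : ∀ g, ∑ h : H, Nat.card {t : H // t * r g * t⁻¹ = h} = Nat.card H := fun g => by
      simpa using (sum_conj_eq (r g) (fun _ : H => (1 : ℕ))).symm
    simp only [this]
    simp [mul_comm]
  have hM := (Finset.sum_eq_sum_iff_of_le fun h _ => hM1 h).mp hM2
  have hirr : ∀ φ : H → ℂ, IsIrrCharacter H φ → IsIrrCharacter G fun g => φ (r g) := by
    intro φ hφ
    refine (hgen φ hφ.isCharacter).isIrr_of_inner_self ?_ ?_
    · have h1 : ∀ x : H, (Nat.card H : ℂ) * (φ x * conj (φ x)) =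
          ∑ h : H, Nat.card {t : H // t * x * t⁻¹ = h} * (φ h * conj (φ h)) := by
        intro x
        have := sum_conj_eq x (fun h => φ h * conj (φ h))
        simp only [hφ.classFun x, Finset.sum_const, Finset.card_univ, nsmul_eq_mul] at this
        rw [Nat.card_eq_fintype_card, this]
      apply mul_left_cancel₀ (card_ne_zero G)
      apply mul_left_cancel₀ (card_ne_zero H)
      rw [card_mul_classInner, Finset.mul_sum]
      simp only [h1]
      rw [Finset.sum_comm]
      simp only [← Finset.sum_mul, ← Nat.cast_sum]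
      have h2 : ∀ h, ∑ g : G, Nat.card {t : H // t * r g * t⁻¹ = h} = Nat.card G :=
        fun h => (hM h (Finset.mem_univ _)).symm
      simp only [h2]
      rw [← Finset.mul_sum, ← card_mul_classInner, hφ.inner_self]
      ring
    · have := hres φ hφ.classFun 1
      simp only [OneMemClass.coe_one] at this
      rw [this]; exact hφ.isCharacter.apply_one_re_nonneg
  have hr1 : ∀ φ : IrrCharacter H, ∀ g : G, g ^ k = 1 → φ.1 (r g) = φ.1 1 := fun φ g hg =>
    hfus' φ φ.2.classFun g 1 (by rw [hg]; rfl)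
  refine ⟨⨅ φ : IrrCharacter H, charKer fun g => φ.1 (r g),
    Subgroup.normal_iInf_normal fun φ => charKer_normal (hirr φ φ.2).classFun, ?_, ?_⟩
  · rw [← Subgroup.index_eq_one]
    by_contra hne
    obtain ⟨q, hq, hqd⟩ := Nat.exists_prime_and_dvd hne
    have := Fact.mk hq
    obtain ⟨P⟩ : Nonempty (Sylow q G) := inferInstance
    refine P.not_dvd_index (hqd.trans (Subgroup.index_dvd_of_le (le_sup_of_le_left ?_)))
    refine le_iInf fun φ g hg => ?_
    rw [mem_charKer_iff (hirr φ φ.2).isCharacter, hr1 φ 1 (one_pow k), hr1 φ g (hpow0 g ?_)]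
    obtain ⟨j, hj⟩ := IsPGroup.iff_orderOf.mp P.isPGroup' ⟨g, hg⟩
    rw [Subgroup.orderOf_mk] at hj
    refine Nat.Coprime.dvd_of_dvd_mul_left ?_ (H.card_mul_index ▸ orderOf_dvd_natCard g)
    rw [hj]
    exact Nat.Coprime.pow_left _ ((Nat.Prime.coprime_iff_not_dvd hq).mpr fun h =>
      hq.one_lt.ne' (Nat.eq_one_of_dvd_coprimes hHall h
        (hqd.trans (Subgroup.index_dvd_of_le le_sup_right))))
  · rw [eq_bot_iff]
    rintro g ⟨h1, h2⟩
    have h3 : (⟨g, h2⟩ : H) = 1 := eq_one_of_forall_irr fun φ hφ => by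
      have := apply_of_mem_charKer (Subgroup.mem_iInf.mp h1 ⟨φ, hφ⟩)
      rw [hr1 _ 1 (one_pow k)] at this
      exact (hres φ hφ.classFun ⟨g, h2⟩).symm.trans this
    exact congrArg Subtype.val h3

end Cfsg.Agent.S0877
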