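import Cfsg.Statements.S0893
import Mathlib
import Cfsg.Agent.H5.Extra

set_option autoImplicit false
open Cfsg

namespace Cfsg.Agent.S0893

open H4 H5
open scoped ComplexConjugate

/-- Let P be an extraspecial p-group of order p ^ (2 * n + 1), A an abelian subgroup of order p ^ (n + 1), and λ a character of A of degree 1 that is not identically 1 on the elements of A lying in the centre of P. Then the function induced from λ to P is an irreducible character of P and vanishes at every element outside the centre. -/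
theorem result {P : Type*} [Group P] [Fintype P] (p n : ℕ) [Fact p.Prime] (hP : Cfsg.IsExtraspecial p P) (hcard : Nat.card P = p ^ (2 * n + 1)) (A : Subgroup P) (hab : ∀ a ∈ A, ∀ b ∈ A, a * b = b * a) (hA : Nat.card A = p ^ (n + 1)) (lam : A → ℂ) (hlam : Cfsg.IsCharacter A lam ∧ lam 1 = 1) (hZ : ∃ a : A, (a : P) ∈ Subgroup.center P ∧ lam a ≠ 1) : Cfsg.IsIrrCharacter P (Cfsg.indFun A lam) ∧ ∀ x : P, x ∉ Subgroup.center P → Cfsg.indFun A lam x = 0 := by
  have hp : p.Prime := Fact.out
  obtain ⟨a, ha, ha1⟩ := hZ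
  have hZA : Subgroup.center P ≤ A := le_of_prime_card hp hP.2 ha
    (fun h => ha1 (by rw [show a = 1 from Subtype.ext h, hlam.2])) a.2
  have hf := isCharacter_indFun A hlam.1
  have hidx : A.index = p ^ n := by
    have := A.card_mul_index
    rw [hA, hcard, show 2 * n + 1 = n + 1 + n by ring, pow_add _ (n + 1)] at this
    exact Nat.eq_of_mul_eq_mul_left (pow_pos hp.pos _) this
  have h1 : ∀ (z : P) (hz : z ∈ Subgroup.center P), indFun A lam z = lam ⟨z, hZA hz⟩ * indFun A lam 1 := by
    intro z hz
    rw [indFun_apply_of_mem_center A lam hz, ext0_mem _ _ (hZA hz), indFun_one_eq, hlam.2]; ring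
  have h2 : Subgroup.center P ≤ charCenter (indFun A lam) := fun z hz =>
    mem_charCenter_of_apply hf (norm_eq_one_of_scalar (hlam.1.isIrr_of_apply_one hlam.2).apply_one_ne_zero
      (hlam.1.map_mul_of_apply_one hlam.2 _)) (h1 z hz)
  have h0 : indFun A lam 1 = p ^ n := by rw [indFun_one_eq, hlam.2, hidx]; simp
  have hp0 : (p : ℂ) ≠ 0 := by exact_mod_cast hp.ne_zero
  have h3 : ∀ x, x ∉ Subgroup.center P → indFun A lam x = 0 := fun x hx =>
    eq_zero_of_extraspecial hp hP hf h2 (fun h => ha1 (by
      have h4 := apply_of_mem_charKer (h ha)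
      rw [h1 _ ha, mul_eq_right₀ (by rw [h0]; exact pow_ne_zero _ hp0)] at h4
      exact h4)) hx
  refine ⟨hf.isIrr_of_inner_self ?_, h3⟩
  have h4 := card_mul_inner_self_of_vanish hf _ h2 h3
  rw [hcard, hP.2, h0, ← pow_mul, ← pow_succ', mul_comm n, Nat.cast_pow] at h4
  exact (mul_eq_left₀ (pow_ne_zero _ hp0)).mp h4

end Cfsg.Agent.S0893
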