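import Cfsg.Statements.S0894
import Mathlib
import Cfsg.Agent.H5.Extra

set_option autoImplicit false
open Cfsg

namespace Cfsg.Agent.S0894

open H4 H5
open scoped ComplexConjugate

/-- Let P be an extraspecial p-group of order p ^ (2 * n + 1). Then every irreducible character of P has degree 1 or p ^ n, and exactly p - 1 of them have degree p ^ n. -/
theorem result {P : Type*} [Group P] [Finite P] (p n : ℕ) [Fact p.Prime] (hP : Cfsg.IsExtraspecial p P) (hcard : Nat.card P = p ^ (2 * n + 1)) : (∀ χ : Cfsg.IrrCharacter P, (χ : P → ℂ) 1 = 1 ∨ (χ : P → ℂ) 1 = (p : ℂ) ^ n) ∧ Nat.card {χ : Cfsg.IrrCharacter P // (χ : P → ℂ) 1 = (p : ℂ) ^ n} = p - 1 := by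
  classical
  have hp : p.Prime := Fact.out
  have h1 : ∀ χ : IrrCharacter P, χ.1 1 = 1 ∨ χ.1 1 = (p : ℂ) ^ n := fun χ => by
    by_cases h : Subgroup.center P ≤ charKer χ.1
    · exact Or.inl (apply_one_eq_one_of_commutator_le χ.2 (hP.1.2.2 ▸ h))
    · exact Or.inr (degree_of_extraspecial hp hP hcard χ.2 h)
  refine ⟨h1, ?_⟩
  have hidx : (commutator P).index = p ^ (2 * n) := by
    have := (commutator P).card_mul_index
    rw [hP.1.2.2, hP.2, hcard, pow_succ'] at this
    rw [hP.1.2.2]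
    exact Nat.eq_of_mul_eq_mul_left hp.pos this
  have hn : (p : ℂ) ^ n ≠ 1 := by
    intro h
    have h2 : p ^ n = 1 := by exact_mod_cast h
    have h3 : n = 0 := (Nat.pow_eq_one.mp h2).resolve_left hp.one_lt.ne'
    rw [h3, mul_zero, pow_zero, Subgroup.index_eq_one] at hidx
    have h4 := commutator_le_of_forall_linear (⊥ : Subgroup P) fun χ hχ _ =>
      (h1 ⟨χ, hχ⟩).elim id fun h' => h'.trans h
    have h5 := hP.2
    rw [← hP.1.2.2, le_bot_iff.mp h4, Subgroup.card_bot] at h5
    exact hp.one_lt.ne h5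
  have h2 := sum_degree_sq (G := P)
  rw [← Finset.sum_filter_add_sum_filter_not Finset.univ (fun χ : IrrCharacter P => χ.1 1 = 1),
    Finset.sum_congr rfl (g := fun _ => 1) (fun χ h => by rw [(Finset.mem_filter.mp h).2, one_pow]),
    Finset.sum_congr (s₂ := Finset.univ.filter fun χ : IrrCharacter P => χ.1 1 = (p : ℂ) ^ n)
      (Finset.filter_congr fun χ _ => ⟨(h1 χ).resolve_left, fun h => h ▸ hn⟩)
      (g := fun _ => ((p : ℂ) ^ n) ^ 2) (fun χ h => by rw [(Finset.mem_filter.mp h).2]),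
    Finset.sum_const, Finset.sum_const, ← Fintype.card_subtype, ← Fintype.card_subtype,
    ← Nat.card_eq_fintype_card, ← Nat.card_eq_fintype_card, card_linear_eq_index, hidx, hcard,
    ← pow_mul, mul_comm n] at h2
  have h3 : p ^ (2 * n) * (1 + Nat.card {χ : IrrCharacter P // χ.1 1 = (p : ℂ) ^ n})
      = p ^ (2 * n) * p := by
    apply Nat.cast_injective (R := ℂ)
    rw [← pow_succ, ← h2]; push_cast; simp only [nsmul_eq_mul]; push_cast; ring
  have := Nat.eq_of_mul_eq_mul_left (pow_pos hp.pos _) h3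
  omega

end Cfsg.Agent.S0894
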