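import Cfsg.Statements.S0895
import Mathlib
import Cfsg.Agent.H5.Misc

set_option autoImplicit false
open Cfsg

namespace Cfsg.Agent.S0895

open H4 H5
open scoped ComplexConjugate

/-- Let χ be a real-valued irreducible character of a finite group G whose degree is an odd natural number. Then the average over s in G of χ (s * s) equals 1. -/
theorem result {G : Type*} [Group G] [Fintype G] (χ : G → ℂ) (hχ : Cfsg.IsIrrCharacter G χ) (hreal : ∀ g : G, (χ g).im = 0) (d : ℕ) (hd : χ 1 = d) (hodd : Odd d) : (Nat.card G : ℂ)⁻¹ * ∑ s : G, χ (s * s) = 1 := by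
  classical
  have h1 : classInner χ χ = (Nat.card G : ℂ)⁻¹ * ∑ s : G, χ s * χ s := by
    rw [classInner_def]
    congr 1
    exact Finset.sum_congr rfl fun g _ => by rw [Complex.conj_eq_iff_im.mpr (hreal g)]
  rw [← hχ.inner_self, h1]
  congr 1
  obtain ⟨n, ρ, hρ, rfl⟩ := hχ
  have hn : n = d := by
    rw [Representation.char_one] at hd
    simpa using hd
  subst hn
  let A : G → Matrix (Fin n) (Fin n) ℂ := fun g => LinearMap.toMatrix' (ρ g)
  have hA : ∀ g h, A (g * h) = A g * A h := fun g h => by
    simp only [A, map_mul, LinearMap.toMatrix'_mul]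
  have hA1 : A 1 = 1 := by simp [A]
  have htr : ∀ g, ρ.character g = (A g).trace := fun g =>
    LinearMap.trace_eq_matrix_trace ℂ (Pi.basisFun ℂ (Fin n)) (ρ g)
  have key : ∀ X : Matrix (Fin n) (Fin n) ℂ, X.transpose = -X →
      ∑ g, (A g).transpose * X * A g = 0 := by
    intro X hX
    set Y := ∑ g, (A g).transpose * X * A g with hY
    have h2 : Y.transpose = -Y := by
      simp [hY, Matrix.transpose_sum, hX, Matrix.mul_assoc]
    have h3 : ∀ h, Y * A h = (A h⁻¹).transpose * Y := by
      intro h
      rw [hY, Finset.sum_mul, Finset.mul_sum, ← Equiv.sum_comp (Equiv.mulRight h)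
        (fun g => (A h⁻¹).transpose * ((A g).transpose * X * A g))]
      refine Finset.sum_congr rfl fun g _ => ?_
      simp only [Equiv.coe_mulRight, ← Matrix.mul_assoc, ← Matrix.transpose_mul, ← hA,
        mul_inv_cancel_right]
      rw [hA g h, Matrix.mul_assoc _ (A g)]
    let U : Subrepresentation ρ := ⟨LinearMap.ker (Matrix.toLin' Y), fun g v hv => by
      rw [LinearMap.mem_ker, Matrix.toLin'_apply] at hv ⊢
      rw [← LinearMap.toMatrix'_mulVec (ρ g), Matrix.mulVec_mulVec]
      change (Y * A g).mulVec v = 0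
      rw [h3, ← Matrix.mulVec_mulVec, hv, Matrix.mulVec_zero]⟩
    rcases eq_bot_or_eq_top U with h | h
    · have h4 : LinearMap.ker (Matrix.toLin' Y) = ⊥ := congrArg Subrepresentation.toSubmodule h
      have h5 : Y.det = 0 := by
        have := Matrix.det_transpose Y
        rw [h2, Matrix.det_neg, Fintype.card_fin, hodd.neg_one_pow] at this
        linear_combination (-1 / 2 : ℂ) * this
      obtain ⟨v, hv, hv'⟩ := Matrix.exists_mulVec_eq_zero_iff.mpr h5
      exact absurd ((Matrix.ker_toLin'_eq_bot_iff.mp h4) v hv') hv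
    · have h4 : LinearMap.ker (Matrix.toLin' Y) = ⊤ := congrArg Subrepresentation.toSubmodule h
      exact Matrix.toLin'.injective (by rw [LinearMap.ker_eq_top.mp h4, map_zero])
  have h2 : ∀ i j, ∑ g, A g i i * A g j j = ∑ g, A g i j * A g j i := by
    intro i j
    have := congrFun (congrFun (key (Matrix.single i j 1 - Matrix.single j i 1) (by simp)) i) j
    simp only [Matrix.mul_sub, Matrix.sub_mul, Matrix.sum_apply, Matrix.sub_apply,
      Finset.sum_sub_distrib, Matrix.zero_apply, sub_eq_zero] at this
    simpa [Matrix.mul_apply, Matrix.single_apply, ite_and, mul_comm] using this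
  simp only [htr, hA, Matrix.trace, Matrix.diag_apply, Matrix.mul_apply, Finset.sum_mul_sum]
  rw [Finset.sum_comm, Finset.sum_comm (s := (Finset.univ : Finset G))]
  refine Finset.sum_congr rfl fun i _ => ?_
  rw [Finset.sum_comm, Finset.sum_comm (s := (Finset.univ : Finset G))]
  exact Finset.sum_congr rfl fun j _ => (h2 i j).symm

end Cfsg.Agent.S0895
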