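import Cfsg.Statements.S0897
import Mathlib
import Cfsg.Agent.H5.Dade

set_option autoImplicit false
open Cfsg

namespace Cfsg.Agent.S0897

open H4 H5
open scoped ComplexConjugate

/-- Let N be a normal subgroup of the finite group G with the index of N a power of the prime p, and P a Sylow p-subgroup of G such that P ⊓ N lies in the centre of P and every character of degree 1 of P ⊓ N is the restriction of a character of degree 1 of P. Then every irreducible character of N invariant under conjugation by G is the restriction of an irreducible character of G. -/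
theorem result {G : Type*} [Group G] [Fintype G] (p : ℕ) [Fact p.Prime] (N : Subgroup G) [hN : N.Normal] (hind : ∃ k : ℕ, N.index = p ^ k) (P : Sylow p G) (hcent : ∀ x ∈ (P : Subgroup G) ⊓ N, ∀ y ∈ (P : Subgroup G), x * y = y * x) (hlin : ∀ lam : ↥((P : Subgroup G) ⊓ N) → ℂ, Cfsg.IsCharacter ↥((P : Subgroup G) ⊓ N) lam → lam 1 = 1 → ∃ μ : ↥(P : Subgroup G) → ℂ, Cfsg.IsCharacter ↥(P : Subgroup G) μ ∧ μ 1 = 1 ∧ ∀ x : ↥((P : Subgroup G) ⊓ N), μ ⟨(x : G), x.2.1⟩ = lam x) (ϑ : N → ℂ) (hϑ : Cfsg.IsIrrCharacter N ϑ) (hinv : ∀ (g : G) (n : N), ϑ ⟨g * n * g⁻¹, hN.conj_mem (n : G) n.2 g⟩ = ϑ n) : ∃ χ : G → ℂ, Cfsg.IsIrrCharacter G χ ∧ ∀ n : N, χ n = ϑ n := by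
  obtain ⟨k, hk⟩ := hind
  refine extends_of_commutator_inf Fact.out N hk (fun Q hQ => ?_) hϑ ((forall_cj_iff N).mpr hinv)
  have h1 : ⁅(P : Subgroup G), (P : Subgroup G)⁆ ⊓ N = ⊥ := by
    rw [eq_bot_iff]
    rintro y ⟨hy, hyN⟩
    rw [← Subgroup.map_subtype_commutator] at hy
    obtain ⟨y, hy, rfl⟩ := hy
    have : (⟨y, y.2, hyN⟩ : ↥((P : Subgroup G) ⊓ N)) = 1 := eq_one_of_forall_irr fun χ hχ => by
      have h2 := hχ.apply_one_of_comm fun a b => Subtype.ext (hcent a a.2 b b.2.1)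
      obtain ⟨μ, h3, h4, h5⟩ := hlin χ hχ.isCharacter h2
      rw [← h5, h2, ← h4]
      exact apply_of_mem_charKer (commutator_le_charKer_of_linear h3 h4 hy)
    exact congrArg Subtype.val this
  obtain ⟨R, hR⟩ := hQ.exists_le_sylow
  obtain ⟨g, rfl⟩ := MulAction.exists_smul_eq G P R
  rw [eq_bot_iff]
  refine le_trans (inf_le_inf_right N (Subgroup.commutator_mono hR hR)) ?_
  rintro y ⟨hy, hyN⟩
  have e : ((g • P : Sylow p G) : Subgroup G) = (P : Subgroup G).map (MulAut.conj g).toMonoidHom := rfl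
  rw [e, ← Subgroup.map_commutator] at hy
  obtain ⟨z, hz, rfl⟩ := hy
  have h2 : z ∈ N := by simpa [mul_assoc] using hN.conj_mem _ hyN g⁻¹
  rw [Subgroup.mem_bot.mp (h1.le ⟨hz, h2⟩), map_one]
  exact one_mem _

end Cfsg.Agent.S0897
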