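import Cfsg.Statements.S0899
import Cfsg.Agent.H25.Feit

set_option autoImplicit false
open Cfsg

namespace Cfsg.Agent.S0899

/-- Let G be a finite group with a faithful complex representation of degree n (on Fin n → ℂ) and p a prime. Suppose either that (n + 1) ^ 2 ≤ p, or that n + 1 < p and every subgroup of G whose order is not divisible by p ^ 2 has a normal Sylow p-subgroup. Then every Sylow p-subgroup of G is normal. -/
theorem result {G : Type*} [Group G] [Finite G] (n : ℕ) (ρ : Representation ℂ G (Fin n → ℂ)) (hρ : Function.Injective ρ) (p : ℕ) [Fact p.Prime] (h : (n + 1) ^ 2 ≤ p ∨ (n + 1 < p ∧ ∀ K : Subgroup G, ¬ p ^ 2 ∣ Nat.card K → ∀ Q : Sylow p K, (Q : Subgroup K).Normal)) (P : Sylow p G) : (P : Subgroup G).Normal := by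
  have hp : p.Prime := Fact.out
  haveI := Fintype.ofFinite G
  obtain ⟨Q, hQ, hn⟩ := H25.Feit.feit (n := n) hp (H4.isCharacter_of_rep ρ)
    (eq_bot_iff.2 fun x hx => Subgroup.mem_bot.2
      ((injective_iff_map_eq_one _).1 hρ x ((H5.mem_charKer_rep ρ).1 hx))) (by simp)
    (h.imp id fun h => ⟨h.1, fun K hK => by
      obtain ⟨S⟩ := (inferInstance : Nonempty (Sylow p K))
      haveI := h.2 K hK S
      exact ⟨_, H24.syl_of_sylow hp S, (H24.nml_map_subtype _).2⟩⟩) ⊤
  rw [hQ.eq_of_nml hn (H24.syl_top_of_sylow hp P)]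
  exact H24.nml_top_iff.1 ⟨le_top, hn⟩

end Cfsg.Agent.S0899
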