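import Cfsg.Statements.S0900
import Mathlib
import Cfsg.Agent.H5.Misc

set_option autoImplicit false
open Cfsg

namespace Cfsg.Agent.S0900

open H4 H5
open scoped ComplexConjugate

/-- Let N be a normal subgroup of the finite group G, χ an irreducible character of G and ϑ an irreducible character of N having nonzero inner product with the restriction of χ. Consider: (a) the restriction of χ to N is e • ϑ for a natural number e with e ^ 2 equal to the index of N; (b) χ vanishes outside N and ϑ is invariant under conjugation by G; (c) ϑ is invariant and every irreducible character of G having nonzero inner product with the function induced from ϑ equals χ. Then (a) ↔ (b) and (a) ↔ (c). -/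
theorem result {G : Type*} [Group G] [Fintype G] (N : Subgroup G) [hN : N.Normal] [Fintype N] (χ : G → ℂ) (hχ : Cfsg.IsIrrCharacter G χ) (ϑ : N → ℂ) (hϑ : Cfsg.IsIrrCharacter N ϑ) (hcon : Cfsg.classInner (fun n : N => χ n) ϑ ≠ 0) : ((∃ e : ℕ, (fun n : N => χ n) = (e : ℂ) • ϑ ∧ e ^ 2 = N.index) ↔ ((∀ g : G, g ∉ N → χ g = 0) ∧ ∀ (g : G) (n : N), ϑ ⟨g * n * g⁻¹, hN.conj_mem (n : G) n.2 g⟩ = ϑ n)) ∧ ((∃ e : ℕ, (fun n : N => χ n) = (e : ℂ) • ϑ ∧ e ^ 2 = N.index) ↔ (∀ (g : G) (n : N), ϑ ⟨g * n * g⁻¹, hN.conj_mem (n : G) n.2 g⟩ = ϑ n ∧ ∀ ψ : G → ℂ, Cfsg.IsIrrCharacter G ψ → Cfsg.classInner (Cfsg.indFun N ϑ) ψ ≠ 0 → ψ = χ)) := by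
  classical
  rw [← forall_cj_iff]
  have hN0 := card_ne_zero N
  have hidx : (N.index : ℂ) ≠ 0 := by exact_mod_cast N.index_ne_zero_of_finite
  have hsplit : ∑ g : G, χ g * conj (χ g) = ∑ n : N, χ n * conj (χ n) +
      ∑ g ∈ Finset.univ.filter (· ∉ N), χ g * conj (χ g) := by
    rw [← Finset.sum_filter_add_sum_filter_not Finset.univ (· ∈ N),
      Finset.sum_subtype (p := (· ∈ N)) _ (by simp)]
  rw [← card_mul_classInner, ← card_mul_classInner (fun n : N => χ n) (fun n : N => χ n),
    hχ.inner_self, mul_one, card_eq_card_mul_index N] at hsplit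
  have hee : ∀ e : ℕ, (fun n : N => χ n) = (e : ℂ) • ϑ →
      classInner (fun n : N => χ n) (fun n : N => χ n) = (e ^ 2 : ℕ) := by
    intro e he
    rw [he, classInner_smul_left, classInner_smul_right, hϑ.inner_self]; simp [sq]
  have hne : ∀ e : ℕ, (fun n : N => χ n) = (e : ℂ) • ϑ → (e : ℂ) ≠ 0 := by
    intro e he
    rwa [he, inner_smul_self hϑ] at hcon
  have hind : ∀ e : ℕ, (fun n : N => χ n) = (e : ℂ) • ϑ → classInner (indFun N ϑ) χ = e := by
    intro e he
    rw [H5.classInner_indFun_left N _ hχ.classFun, he, classInner_smul_right, hϑ.inner_self]; simp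
  constructor
  · constructor
    · rintro ⟨e, he, he2⟩
      refine ⟨fun g hg => ?_, invariant_of_res_eq_smul N hχ.classFun (hne e he) he⟩
      rw [hee e he, he2, left_eq_add] at hsplit
      simp only [Complex.mul_conj, ← Complex.ofReal_sum, Complex.ofReal_eq_zero] at hsplit
      rw [Finset.sum_eq_zero_iff_of_nonneg fun _ _ => Complex.normSq_nonneg _] at hsplit
      exact Complex.normSq_eq_zero.mp (hsplit g (by simpa using hg))
    · rintro ⟨h1, h2⟩
      obtain ⟨e, -, -, he⟩ := exists_nat_res_eq_smul_of_invariant N hχ hϑ h2 hcon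
      refine ⟨e, he, ?_⟩
      rw [hee e he, Finset.sum_eq_zero (fun g hg => by
        rw [h1 g (Finset.mem_filter.mp hg).2, zero_mul]), add_zero] at hsplit
      exact_mod_cast (mul_left_cancel₀ hN0 hsplit).symm
  · constructor
    · rintro ⟨e, he, he2⟩ g n
      have hinv := invariant_of_res_eq_smul N hχ.classFun (hne e he) he
      refine ⟨congrFun (hinv g) n, fun ψ hψ h => ?_⟩
      have h1 := classInner_sub_irr_self (indFun N ϑ) hχ
      rw [inner_indFun_self_invariant N hϑ hinv, hind e he, ← he2, map_natCast, Nat.cast_pow, sq,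
        sub_self, classInner_self_eq_zero, sub_eq_zero] at h1
      exact eq_of_inner_smul_ne_zero hχ hψ (h1 ▸ h)
    · intro h
      have hinv := (forall_cj_iff N).mpr fun g n => (h g n).1
      obtain ⟨e, -, -, he⟩ := exists_nat_res_eq_smul_of_invariant N hχ hϑ hinv hcon
      refine ⟨e, he, ?_⟩
      have h1 := eq_inner_smul_of_unique (indFun_isClassFunction N ϑ) hχ (h 1 1).2
      have h2 := inner_indFun_self_invariant N hϑ hinv
      rw [hind e he] at h1
      rw [h1, classInner_smul_left, classInner_smul_right, hχ.inner_self, map_natCast, mul_one] at h2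
      rw [sq]; exact_mod_cast h2

end Cfsg.Agent.S0900
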