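import Cfsg.Statements.S0903
import Mathlib
import Cfsg.Agent.H17.Defect

set_option autoImplicit false
open Cfsg

namespace Cfsg.Agent.S0903

/-- Let P be a p-subgroup of the finite group G, let c centralize P and let g, h ∈ G. The number of pairs (x, y) with x conjugate to g, y conjugate to h and x * y = c is congruent modulo p to the number of such pairs in which x and y both centralize P. (This is why the Brauer map on class sums is multiplicative.) -/
theorem result {G : Type*} [Group G] [Finite G] (p : ℕ) [Fact p.Prime] (P : Subgroup G) (hP : IsPGroup p P) (c : G) (hc : c ∈ Subgroup.centralizer (P : Set G)) (g h : G) : Nat.card {xy : G × G // IsConj g xy.1 ∧ IsConj h xy.2 ∧ xy.1 * xy.2 = c} ≡ Nat.card {xy : G × G // IsConj g xy.1 ∧ IsConj h xy.2 ∧ xy.1 * xy.2 = c ∧ xy.1 ∈ Subgroup.centralizer (P : Set G) ∧ xy.2 ∈ Subgroup.centralizer (P : Set G)} [MOD p] := by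
  open H4 H17 in
  classical
  have := Fintype.ofFinite G
  have e1 : Nat.card {xy : G × G // IsConj g xy.1 ∧ IsConj h xy.2 ∧ xy.1 * xy.2 = c} =
      Nat.card {x : G // IsConj g x ∧ IsConj h (x⁻¹ * c)} :=
    Nat.card_congr
      { toFun := fun a => ⟨a.1.1, a.2.1, by rw [inv_mul_eq_iff_eq_mul.mpr a.2.2.2.symm]; exact a.2.2.1⟩
        invFun := fun a => ⟨(a.1, a.1⁻¹ * c), a.2.1, a.2.2, by simp⟩
        left_inv := fun a => Subtype.ext (Prod.ext rfl (inv_mul_eq_iff_eq_mul.mpr a.2.2.2.symm))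
        right_inv := fun a => rfl }
  have e2 : Nat.card {xy : G × G // IsConj g xy.1 ∧ IsConj h xy.2 ∧ xy.1 * xy.2 = c ∧
      xy.1 ∈ Subgroup.centralizer (P : Set G) ∧ xy.2 ∈ Subgroup.centralizer (P : Set G)} =
      Nat.card {x : G // x ∈ Subgroup.centralizer (P : Set G) ∧ IsConj g x ∧ IsConj h (x⁻¹ * c)} :=
    Nat.card_congr
      { toFun := fun a => ⟨a.1.1, a.2.2.2.2.1, a.2.1, by
          rw [inv_mul_eq_iff_eq_mul.mpr a.2.2.2.1.symm]; exact a.2.2.1⟩
        invFun := fun a => ⟨(a.1, a.1⁻¹ * c), a.2.2.1, a.2.2.2, by simp, a.2.1,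
          mul_mem (inv_mem a.2.1) hc⟩
        left_inv := fun a => Subtype.ext (Prod.ext rfl (inv_mul_eq_iff_eq_mul.mpr a.2.2.2.1.symm))
        right_inv := fun a => rfl }
  rw [e1, e2, ← ZMod.natCast_eq_natCast_iff, Nat.card_eq_fintype_card, Nat.card_eq_fintype_card,
    Fintype.card_subtype, Fintype.card_subtype, Finset.card_filter, Finset.card_filter]
  have h1 := conj_sum_sub_mem (⊥ : AddSubgroup (ZMod p)) hP
    (fun x => if IsConj g x ∧ IsConj h (x⁻¹ * c) then 1 else 0) (fun q hq x => by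
      have h2 : (q * x * q⁻¹)⁻¹ * c = q * (x⁻¹ * c) * q⁻¹ := by
        have : c = q * c * q⁻¹ := by rw [hc q hq, mul_inv_cancel_right]
        conv_lhs => rw [this]
        group
      have h3 : ∀ a y : G, IsConj a (q * y * q⁻¹) ↔ IsConj a y := fun a y =>
        ⟨fun h => h.trans (isConj_iff.mpr ⟨q, rfl⟩ : IsConj y _).symm,
          fun h => h.trans (isConj_iff.mpr ⟨q, rfl⟩)⟩
      simp only [h2, h3]) (fun x => by simp)
  rw [AddSubgroup.mem_bot, sub_eq_zero] at h1
  push_cast
  rw [h1]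
  refine Finset.sum_congr rfl fun x _ => ?_
  by_cases hx : x ∈ Subgroup.centralizer (P : Set G) <;> simp [hx]

end Cfsg.Agent.S0903
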