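import Cfsg.Statements.S0904
import Mathlib
import Cfsg.Agent.H17.Princ

set_option autoImplicit false
open Cfsg

namespace Cfsg.Agent.S0904

/-- Let G be a finite simple group of order p ^ a * q ^ b * r with p, q, r distinct primes. Then every Sylow r-subgroup S of G satisfies C_G(S) = S. -/
theorem result {G : Type*} [Group G] [Finite G] [IsSimpleGroup G] (p q r a b : ℕ) (hp : p.Prime) (hq : q.Prime) [Fact r.Prime] (hpq : p ≠ q) (hpr : p ≠ r) (hqr : q ≠ r) (hcard : Nat.card G = p ^ a * q ^ b * r) (S : Sylow r G) : Subgroup.centralizer (S : Set G) = (S : Subgroup G) := by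
  open H4 H17 in
  have hr : r.Prime := Fact.out
  have hS : Nat.card S = r := by
    rw [S.card_eq_multiplicity, hcard, Nat.factorization_mul (mul_ne_zero (pow_ne_zero _ hp.ne_zero)
      (pow_ne_zero _ hq.ne_zero)) hr.ne_zero, Nat.factorization_mul (pow_ne_zero _ hp.ne_zero)
      (pow_ne_zero _ hq.ne_zero), hp.factorization_pow, hq.factorization_pow, hr.factorization]
    simp [hpr.symm, hqr.symm]
  have key : ∀ (p q a b : ℕ), p.Prime → q.Prime → p ≠ r → q ≠ r →
      Nat.card G = p ^ a * q ^ b * r → ∀ x ∈ Subgroup.centralizer (S : Set G), orderOf x ≠ p := by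
    intro p q a b hp hq hpr hqr hcard x hx hxp
    have : Fact p.Prime := ⟨hp⟩
    have : Fact q.Prime := ⟨hq⟩
    obtain ⟨y, hy⟩ := exists_prime_orderOf_dvd_card' (G := S) r (by rw [hS])
    have hy' : orderOf (y : G) = r := (Subgroup.orderOf_coe _).trans hy
    have hc : Commute x y := (hx y y.2).symm
    have hxy : orderOf (x * y) = p * r := by
      rw [hc.orderOf_mul_eq_mul_orderOf_of_coprime, hxp, hy']
      rw [hxp, hy']; exact (Nat.coprime_primes hp hr).mpr hpr
    have hna : ∃ a b : G, a * b ≠ b * a := by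
      by_contra h
      push Not at h
      letI : CommGroup G := { (inferInstance : Group G) with mul_comm := h }
      have h1 : (Nat.card G).Prime := IsSimpleGroup.prime_card
      have h2 := orderOf_dvd_natCard (x * y)
      rw [hxy] at h2
      rcases (Nat.dvd_prime h1).mp h2 with h3 | h3
      · exact hp.one_lt.ne' (Nat.eq_one_of_mul_eq_one_right h3)
      · exact Nat.not_prime_mul hp.one_lt.ne' hr.one_lt.ne' (h3 ▸ h1)
    obtain ⟨M, hM⟩ := exists_PM p
    obtain ⟨M', hM'⟩ := exists_PM q
    obtain ⟨M'', hM''⟩ := exists_PM r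
    have h1 := weak_block_orth (fb_mem_ZS (M := M) (irrOne G)) (x := 1) (y := x * y) reg_one
      (by rw [hxy]; exact dvd_mul_right p r)
    classical
    rw [← Finset.add_sum_erase _ _ (Finset.mem_univ (irrOne G)), ind_of_mem (self_mem_blockOf _)]
      at h1
    simp only [irrOne_apply, map_one, mul_one] at h1
    refine one_notMem_Pm (M := M') ?_
    rw [eq_neg_of_add_eq_zero_left h1, neg_mem_iff]
    refine sum_mem fun χ hχ => ?_
    rw [ind_apply]
    split_ifs with h2
    · rw [one_mul, ← deg_eq]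
      by_cases h3 : q ∣ deg χ
      · exact natCast_mul_mem_Pm h3 (conj_irr_mem_S χ _)
      by_cases h4 : r ∣ deg χ
      · rw [eq_zero_of_defect_zero (p := r) M'' (χ := χ) ?_
          (by rw [hxy]; exact dvd_mul_left r p), map_zero, mul_zero]
        · exact zero_mem _
        · have h5 := S.card_eq_multiplicity
          rw [hS] at h5
          rw [← Nat.pow_right_injective hr.two_le ((pow_one r).trans h5)]
          exact (hr.dvd_iff_one_le_factorization (deg_ne_zero χ)).mp h4
      exfalso
      have h5 := deg_dvd_card χ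
      rw [hcard] at h5
      have h6 : deg χ ∣ p ^ a := ((Nat.Coprime.pow_right b ((hq.coprime_iff_not_dvd.mpr h3).symm)).dvd_of_dvd_mul_right
        ((hr.coprime_iff_not_dvd.mpr h4).symm.dvd_of_dvd_mul_right h5))
      obtain ⟨k, -, hk⟩ := (Nat.dvd_prime_pow hp).mp h6
      exact (Finset.mem_erase.mp hχ).1 (SB.eq_one_of_pow_deg hna h2 (k := k)
        (by rw [← deg_eq, hk]; push_cast; rfl))
    · rw [zero_mul]; exact zero_mem _
  have hle : (S : Subgroup G) ≤ Subgroup.centralizer (S : Set G) := by
    have : IsCyclic S := isCyclic_of_prime_card hS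
    intro x hx y hy
    exact congrArg Subtype.val (IsCyclic.commGroup (α := S) |>.mul_comm ⟨y, hy⟩ ⟨x, hx⟩)
  refine (Subgroup.eq_of_le_of_card_ge hle ?_).symm
  have h1 : IsPGroup r (Subgroup.centralizer (S : Set G)) := by
    rw [IsPGroup.iff_card]
    refine ⟨_, Nat.eq_prime_pow_of_unique_prime_dvd Nat.card_pos.ne' fun {s} hs h => ?_⟩
    have : Fact s.Prime := ⟨hs⟩
    obtain ⟨x, hx⟩ := exists_prime_orderOf_dvd_card' s h
    rw [← Subgroup.orderOf_coe] at hx
    have h2 := h.trans (Subgroup.card_subgroup_dvd_card _)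
    rw [hcard, hs.dvd_mul, hs.dvd_mul] at h2
    rcases h2 with (h2 | h2) | h2
    · exact absurd (hx.trans ((Nat.prime_dvd_prime_iff_eq hs hp).mp (hs.dvd_of_dvd_pow h2)))
        (key p q a b hp hq hpr hqr hcard x x.2)
    · exact absurd (hx.trans ((Nat.prime_dvd_prime_iff_eq hs hq).mp (hs.dvd_of_dvd_pow h2)))
        (key q p b a hq hp hqr hpr (by rw [hcard]; ring) x x.2)
    · exact (Nat.prime_dvd_prime_iff_eq hs hr).mp h2
  rw [S.is_maximal' h1 hle]

end Cfsg.Agent.S0904
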