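import Cfsg.Statements.S0905
import Mathlib
import Cfsg.Agent.H17.Induce

set_option autoImplicit false
open Cfsg

namespace Cfsg.Agent.S0905

/-- Let F be a field of characteristic p and let g be an element of the finite group G no conjugate of which centralizes O_p(G). Then the class sum of g is a nilpotent element of the group algebra F[G]. -/
theorem result {G : Type*} [Group G] [Finite G] (p : ℕ) [Fact p.Prime] (F : Type*) [Field F] [CharP F p] (g : G) (hg : ∀ x : G, IsConj g x → x ∉ Subgroup.centralizer (Cfsg.pCore p G : Set G)) : IsNilpotent (∑ᶠ x ∈ ConjClasses.carrier (ConjClasses.mk g), MonoidAlgebra.single x (1 : F) : MonoidAlgebra F G) := by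
  open H4 H17 in
  classical
  obtain ⟨M, hM⟩ := exists_PM p
  have := Fintype.ofFinite G
  have h1 : ∀ χ : Irr G, cls g χ ∈ Pm M := fun χ => by
    by_contra hc
    exact hg g (IsConj.refl _) (mem_centralizer_of_cls (H2.pCore_isPGroup p G) hc)
  have h2 := pow_mem_ZP (cls_mem_ZR (S M) g) h1
  set K : MonoidAlgebra F G :=
    ∑ᶠ x ∈ ConjClasses.carrier (ConjClasses.mk g), MonoidAlgebra.single x (1 : F) with hK
  have hK' : K = ∑ x : G, if IsConj g x then MonoidAlgebra.single x (1 : F) else 0 := by
    rw [hK, finsum_mem_eq_finite_toFinset_sum _ (Set.toFinite _), ← Finset.sum_filter]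
    congr 1
    ext x
    simp only [Set.Finite.mem_toFinset, ConjClasses.mem_carrier_iff_mk_eq,
      ConjClasses.mk_eq_mk_iff_isConj, Finset.mem_filter, Finset.mem_univ, true_and]
    exact isConj_comm
  have h3 : ∀ n : ℕ, ∃ c : G → ℕ, (∀ h, co (cls g ^ n) h = c h) ∧
      K ^ n = ∑ h, MonoidAlgebra.single h (c h : F) := by
    intro n
    induction n with
    | zero =>
      refine ⟨fun h => if h = 1 then 1 else 0, fun h => by rw [pow_zero, co_one]; simp, ?_⟩
      rw [pow_zero, Finset.sum_eq_single 1]
      · simp [MonoidAlgebra.one_def]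
      · intro b _ hb; simp [hb]
      · simp
    | succ n ih =>
      obtain ⟨c, hc1, hc2⟩ := ih
      refine ⟨fun h => ∑ k, if IsConj g k then c (k⁻¹ * h) else 0, fun h => ?_, ?_⟩
      · rw [pow_succ', co_mul]
        push_cast
        refine Finset.sum_congr rfl fun k _ => ?_
        rw [co_cls, hc1]
        split_ifs <;> simp
      · rw [pow_succ', hc2, hK', Finset.sum_mul]
        push_cast
        have hs : ∀ (h : G) (f : G → F), MonoidAlgebra.single h (∑ k, f k) =
            ∑ k, MonoidAlgebra.single h (f k) := fun h f =>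
          map_sum (MonoidAlgebra.singleAddHom h) f _
        simp only [hs]
        rw [Finset.sum_comm]
        refine Finset.sum_congr rfl fun k _ => ?_
        split_ifs
        · rw [Finset.mul_sum]
          refine Fintype.sum_equiv (Equiv.mulLeft k) _ _ fun h => ?_
          simp [MonoidAlgebra.single_mul_single]
        · simp
  obtain ⟨c, hc1, hc2⟩ := h3 (Fintype.card (Irr G))
  refine ⟨_, hc2.trans (Finset.sum_eq_zero fun h _ => ?_)⟩
  have h4 := h2 h
  rw [hc1, natCast_mem_Pm] at h4
  rw [(CharP.cast_eq_zero_iff F p _).mpr h4, MonoidAlgebra.single_zero]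

end Cfsg.Agent.S0905
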