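import Cfsg.Statements.S0911
import Mathlib
import Cfsg.Agent.H17.Defect

set_option autoImplicit false
open Cfsg

namespace Cfsg.Agent.S0911

/-- The min–max Theorem for defect classes. Let B be a block of the finite group G relative to a maximal ideal M of the algebraic integers containing the prime p, let g represent a defect class of B and let D be a Sylow p-subgroup of the centralizer of g (viewed in G). For any h: (a) if the idempotent coefficient of B at h is a local integer outside the local ideal, then some conjugate of D contains a Sylow p-subgroup of the centralizer of h; (b) if the central character of some member of B at h is outside the local ideal, then some conjugate of D is contained in a Sylow p-subgroup of the centralizer of h. -/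
theorem result {G : Type*} [Group G] [Finite G] (p : ℕ) [Fact p.Prime] (M : Ideal Cfsg.AlgInt) (hM : Cfsg.IsPModular p M) (B : Set (Cfsg.IrrCharacter G)) (hB : Cfsg.IsPBlock M B) (g : G) (hg : Cfsg.IsDefectClass M B g) (D : Sylow p (Subgroup.centralizer ({g} : Set G))) (h : G) : (Cfsg.MemLocalRing M (Cfsg.blockCoeff B h) → ¬ Cfsg.MemLocalIdeal M (Cfsg.blockCoeff B h) → ∃ (x : G) (Q : Sylow p (Subgroup.centralizer ({h} : Set G))), (Q : Subgroup (Subgroup.centralizer ({h} : Set G))).map (Subgroup.centralizer ({h} : Set G)).subtype ≤ ((D : Subgroup (Subgroup.centralizer ({g} : Set G))).map (Subgroup.centralizer ({g} : Set G)).subtype).map (MulAut.conj x).toMonoidHom) ∧ ((∃ χ ∈ B, ¬ Cfsg.MemLocalIdeal M (Cfsg.centralChar (χ : G → ℂ) h)) → ∃ (x : G) (Q : Sylow p (Subgroup.centralizer ({h} : Set G))), ((D : Subgroup (Subgroup.centralizer ({g} : Set G))).map (Subgroup.centralizer ({g} : Set G)).subtype).map (MulAut.conj x).toMonoidHom ≤ (Q : Subgroup (Subgroup.centralizer ({h} : Set G))).map (Subgroup.centralizer ({h} : Set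 G)).subtype) := by
  have : H17.PM p M := ⟨hM⟩
  obtain ⟨χ, rfl⟩ := hB
  have hD : H17.DG p M χ _ := ⟨g, H17.isDefectClass_iff.mp hg, D, rfl⟩
  constructor
  · intro _ h2
    rw [H17.blockCoeff_eq] at h2
    obtain ⟨Q, hQ⟩ := H17.exists_sylIn p (Subgroup.centralizer ({h} : Set G))
    obtain ⟨t, ht⟩ := hD.max hQ.isPGroup (H17.le_centralizer_singleton_iff.mp hQ.le) h2
    obtain ⟨Q, rfl⟩ := hQ
    exact ⟨t⁻¹, Q, H17.cj_le_iff.mp ht⟩
  · rintro ⟨ψ, hψ, h2⟩
    obtain ⟨k, hk, hc⟩ := (H17.SB.dg hψ hD).min_cls h2
    obtain ⟨t, ht⟩ := H17.exists_cj_le_centralizer hk hc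
    obtain ⟨_, ⟨Q, rfl⟩, h3⟩ := H17.exists_sylIn_ge (hD.isPGroup.map _) ht
    exact ⟨t, Q, h3⟩

end Cfsg.Agent.S0911
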