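import Cfsg.Statements.S0915
import Mathlib
import Cfsg.Agent.H17.Induce
import Cfsg.Agent.H13.PSolvable

set_option autoImplicit false
open Cfsg

namespace Cfsg.Agent.S0915

/-- Let G be a finite p-solvable group with trivial largest normal subgroup of order prime to p. Then any two irreducible characters of G lie in the same block relative to every maximal ideal M of the algebraic integers containing p: G has a single p-block. -/
theorem result {G : Type*} [Group G] [Finite G] (p : ℕ) [Fact p.Prime] (M : Ideal Cfsg.AlgInt) (hM : Cfsg.IsPModular p M) (hsolv : Cfsg.IsPSolvable p G) (hcore : Cfsg.pPrimeCore p G = ⊥) (χ ψ : Cfsg.IrrCharacter G) : Cfsg.SameBlock M (χ : G → ℂ) (ψ : G → ℂ) := by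
  open H4 H17 in
  have : PM p M := ⟨hM⟩
  classical
  have hC := H13.centralizer_pCore_le_of_isPSolvable hsolv hcore
  have h1 : ∀ θ : Irr G, fb M χ θ - co (fb M χ) 1 ∈ Pm M := fun θ =>
    apply_mem_of_normal (H2.pCore_isPGroup p G) (z := fb M χ - fun _ => co (fb M χ) 1)
      (sub_mem (fb_mem_ZS χ) (const_mem_ZS (fb_mem_ZS χ 1))) (fun g hg => by
        rw [map_sub, Pi.sub_apply, co_const, co_one]
        split_ifs with h
        · rw [h]; simp
        · rw [co_ind_eq_zero (fb_mem_ZS (M := M) χ)
            ((PElt.of_mem (H2.pCore_isPGroup p G) (hC hg)).dvd_orderOf h)]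
          simp) θ
  refine SB_iff_fb.mpr ?_
  rw [mem_Pm_congr (h1 ψ), ← mem_Pm_congr (h1 χ), fb_self]
  exact one_notMem_Pm

end Cfsg.Agent.S0915
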