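import Cfsg.Statements.S0916
import Mathlib
import Cfsg.Agent.H17.Defect

set_option autoImplicit false
open Cfsg

namespace Cfsg.Agent.S0916

/-- Let P be a p-subgroup of the finite group G, C its centralizer and N its normalizer. Say that a conjugacy class (of G, or of N) has defect group P when P is a Sylow p-subgroup of the centralizer (in G, respectively in N) of some element of the class. Then: (i) if the class of g in G has defect group P, the elements of that class lying in C form a single N-class, again with defect group P; (ii) every N-class with defect group P arises this way from exactly one G-class with defect group P. -/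
theorem result {G : Type*} [Group G] [Finite G] (p : ℕ) [Fact p.Prime] (P : Subgroup G) (hP : IsPGroup p P) : (∀ g : G, (∃ S : Sylow p (Subgroup.centralizer ({g} : Set G)), (S : Subgroup (Subgroup.centralizer ({g} : Set G))).map (Subgroup.centralizer ({g} : Set G)).subtype = P) → (∃ c : G, IsConj g c ∧ c ∈ Subgroup.centralizer (P : Set G)) ∧ (∀ c₁ c₂ : G, IsConj g c₁ → IsConj g c₂ → c₁ ∈ Subgroup.centralizer (P : Set G) → c₂ ∈ Subgroup.centralizer (P : Set G) → ∃ n ∈ Subgroup.normalizer (P : Set G), n * c₁ * n⁻¹ = c₂)) ∧ (∀ c : G, c ∈ Subgroup.centralizer (P : Set G) → (∃ S : Sylow p (Subgroup.centralizer ({c} : Set G) ⊓ Subgroup.normalizer (P : Set G) : Subgroup G), (S : Subgroup ↥(Subgroup.centralizer ({c} : Set G) ⊓ Subgroup.normalizer (P : Set G))).map (Subgroup.centralizer ({c} : Set G) ⊓ Subgroup.normalizer (P : Set G)).subtype = P) → ∃ S : Sylow p (Subgroup.centralizer ({c} : Set G)), (S : Subgroup (Subgroup.centralizer ({c} : Set G))).map (Subgroup.centralizer ({c} : Set G)).subtype = P) := by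
  open H4 H17 in
  constructor
  · rintro g ⟨S, hS⟩
    have hS' : SylIn p P (Subgroup.centralizer {g}) := ⟨S, hS.symm⟩
    refine ⟨⟨g, IsConj.refl _, le_centralizer_singleton_iff.mp hS'.le⟩, ?_⟩
    intro c₁ c₂ h1 h2 h3 h4
    have k : ∀ c, IsConj g c → c ∈ Subgroup.centralizer (P : Set G) →
        SylIn p P (Subgroup.centralizer {c}) := fun c h h' =>
      sylIn_of_card (le_centralizer_singleton_iff.mpr h')
        (by rw [hS'.card, H17.card_centralizer_of_isConj h])
    obtain ⟨t, rfl⟩ := isConj_iff.mp (h1.symm.trans h2)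
    have h5 := (k _ h1 h3).cj t
    rw [cj_centralizer_singleton] at h5
    obtain ⟨s, hs, h6⟩ := (k _ h2 h4).exists_cj_eq h5
    rw [cj_cj] at h6
    refine ⟨s * t, mem_normalizer_of_cj_eq h6, ?_⟩
    have h7 := (H17.mem_centralizer_singleton.mp hs).eq
    calc s * t * c₁ * (s * t)⁻¹ = s * (t * c₁ * t⁻¹) * s⁻¹ := by group
      _ = _ := by rw [h7, mul_inv_cancel_right]
  · rintro c hc ⟨S, hS⟩
    have hS' : SylIn p P (Subgroup.centralizer {c} ⊓ Subgroup.normalizer (P : Set G)) := ⟨S, hS.symm⟩
    obtain ⟨T, hT⟩ := sylIn_of_inf_normalizer hS' (le_centralizer_singleton_iff.mpr hc)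
    exact ⟨T, hT.symm⟩

end Cfsg.Agent.S0916
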