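import Cfsg.Statements.S0918
import Mathlib
import Cfsg.Agent.H17.Induce

set_option autoImplicit false
open Cfsg

namespace Cfsg.Agent.S0918

/-- Let P be a p-subgroup of the finite group G and H a subgroup with P·C_G(P) ≤ H ≤ N_G(P); let b be a block of H and B a block of G relative to a maximal ideal M of the algebraic integers containing p. Then b induces B if and only if, for every g ∈ G, every ξ ∈ b and every χ ∈ B, the central character of χ at g is congruent modulo the local ideal at M to the sum of ξ h / ξ 1 over the elements h of H conjugate in G to g and centralizing P. -/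
theorem result {G : Type*} [Group G] [Finite G] (p : ℕ) [Fact p.Prime] (M : Ideal Cfsg.AlgInt) (hM : Cfsg.IsPModular p M) (P H : Subgroup G) (hP : IsPGroup p P) (hPH : P ≤ H) (hCH : Subgroup.centralizer (P : Set G) ≤ H) (hHN : H ≤ Subgroup.normalizer (P : Set G)) (b : Set (Cfsg.IrrCharacter H)) (hb : Cfsg.IsPBlock M b) (B : Set (Cfsg.IrrCharacter G)) (hB : Cfsg.IsPBlock M B) : Cfsg.IsInducedBlock M H b B ↔ ∀ ξ ∈ b, ∀ χ ∈ B, ∀ g : G, Cfsg.MemLocalIdeal M (Cfsg.brauerCentralChar P H (ξ : H → ℂ) g - Cfsg.centralChar (χ : G → ℂ) g) := by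
  open H4 H17 in
  have : PM p M := ⟨hM⟩
  classical
  have := Fintype.ofFinite H
  have : (P.subgroupOf H).Normal := (Subgroup.normal_subgroupOf_iff_le_normalizer hPH).mpr hHN
  have hP' : IsPGroup p (P.subgroupOf H) := hP.comap_of_injective _ H.subtype_injective
  have key : ∀ (ξ : Irr H) (g : G), brauerCentralChar P H ξ.1 g - inducedCentralChar H ξ.1 g ∈ Pm M := by
    intro ξ g
    rw [← res_cls]
    convert cut_sub_mem hP' le_rfl (res_mem_ZR H.subtype (cls_mem_ZR (S M) g)) ξ using 2
    rw [← hat_co (cut _ _), hat_apply, brauerCentralChar,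
      finsum_mem_eq_finite_toFinset_sum _ (Set.toFinite _), Finset.sum_div]
    refine Finset.sum_subset_zero_on_sdiff (Finset.subset_univ _) (fun h hh => ?_) fun h hh => ?_
    · simp only [Finset.mem_sdiff, Finset.mem_univ, Set.Finite.mem_toFinset, Set.mem_setOf_eq,
        true_and, not_and] at hh
      rw [co_cut, co_res, co_cls, ← map_mem_centralizer_map_iff H.subtype_injective,
        Subgroup.map_subgroupOf_eq_of_le hPH]
      split_ifs with h1 h2
      · exact absurd h1 (hh h2)
      · simp
      · simp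
    · simp only [Set.Finite.mem_toFinset, Set.mem_setOf_eq] at hh
      rw [co_cut, co_res, co_cls, ← map_mem_centralizer_map_iff H.subtype_injective,
        Subgroup.map_subgroupOf_eq_of_le hPH, Subgroup.subtype_apply, if_pos hh.2, if_pos hh.1,
        one_mul]
  constructor
  · intro h ξ hξ χ hχ g
    exact sub_mem_Pm_trans (key ξ g) (h.2.2 ξ hξ χ hχ g)
  · intro h
    exact ⟨hb, hB, fun ξ hξ χ hχ g => sub_mem_Pm_trans (sub_mem_Pm_symm (key ξ g)) (h ξ hξ χ hχ g)⟩

end Cfsg.Agent.S0918
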