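import Cfsg.Statements.S0920
import Mathlib
import Cfsg.Agent.H17.Induce

set_option autoImplicit false
open Cfsg

namespace Cfsg.Agent.S0920

/-- Brauer's First Main Theorem. Let D be a p-subgroup of the finite group G with normalizer N, and fix a maximal ideal M of the algebraic integers containing p. Then (i) every block b of N having D as a defect group induces some block B of G having D as a defect group; (ii) every block of G with defect group D is induced by exactly one block of N with defect group D. -/
theorem result {G : Type*} [Group G] [Finite G] (p : ℕ) [Fact p.Prime] (M : Ideal Cfsg.AlgInt) (hM : Cfsg.IsPModular p M) (D : Subgroup G) (hD : IsPGroup p D) : (∀ b : Set (Cfsg.IrrCharacter (Subgroup.normalizer (D : Set G))), Cfsg.IsPBlock M b → Cfsg.IsDefectGroup p M b (D.subgroupOf (Subgroup.normalizer (D : Set G))) → ∃ B : Set (Cfsg.IrrCharacter G), Cfsg.IsPBlock M B ∧ Cfsg.IsDefectGroup p M B D ∧ Cfsg.IsInducedBlock M (Subgroup.normalizer (D : Set G)) b B) ∧ (∀ B : Set (Cfsg.IrrCharacter G), Cfsg.IsPBlock M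 B → Cfsg.IsDefectGroup p M B D → ∃! b : Set (Cfsg.IrrCharacter (Subgroup.normalizer (D : Set G))), Cfsg.IsPBlock M b ∧ Cfsg.IsDefectGroup p M b (D.subgroupOf (Subgroup.normalizer (D : Set G))) ∧ Cfsg.IsInducedBlock M (Subgroup.normalizer (D : Set G)) b B) := by
  open H4 H17 in
  have : PM p M := ⟨hM⟩
  have hm : (D.subgroupOf (Subgroup.normalizer (D : Set G))).map
    (Subgroup.normalizer (D : Set G)).subtype = D := Subgroup.map_subgroupOf_eq_of_le Subgroup.le_normalizer
  have hN : Subgroup.normalizer (((D.subgroupOf (Subgroup.normalizer (D : Set G))).map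
      (Subgroup.normalizer (D : Set G)).subtype : Subgroup G) : Set G) ≤
      (Subgroup.normalizer (D : Set G)).subtype.range := by rw [hm, Subgroup.range_subtype]
  have hC := (Subgroup.centralizer_le_normalizer _).trans hN
  constructor
  · rintro _ ⟨ξ, rfl⟩ hb
    rw [isDefectGroup_iff] at hb
    obtain ⟨χ, h⟩ := hb.exists_indRel (Subgroup.subtype_injective _) hC
    have := h.dg_map (Subgroup.subtype_injective _) hb hN
    rw [hm] at this
    exact ⟨_, isPBlock_blockOf χ, isDefectGroup_iff.mpr this, isInducedBlock_iff.mpr h⟩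
  · rintro _ ⟨χ, rfl⟩ hB
    rw [isDefectGroup_iff, ← hm] at hB
    obtain ⟨ξ, h1, h2⟩ := exists_indRel_dg (Subgroup.subtype_injective _) hC hB
    refine ⟨_, ⟨isPBlock_blockOf ξ, isDefectGroup_iff.mpr h2, isInducedBlock_iff.mpr h1⟩, ?_⟩
    rintro _ ⟨⟨ξ', rfl⟩, h3, h4⟩
    exact ((isInducedBlock_iff.mp h4).sb_of_dg (Subgroup.subtype_injective _) h1
      (isDefectGroup_iff.mp h3) h2 hN).blockOf_eq

end Cfsg.Agent.S0920
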