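import Cfsg.Statements.S0923
import Mathlib
import Cfsg.Agent.H17.Second

set_option autoImplicit false
open Cfsg

namespace Cfsg.Agent.S0923

/-- Brauer's Second Main Theorem, in terms of ordinary characters. Let x be a p-element of the finite group G with centralizer C, let χ lie in the block B of G and let b be a block of C that does not induce B (relative to a maximal ideal M of the algebraic integers containing p). Form the class function ϑ(c) = χ(x c) on C and its b-part (the sum over ψ ∈ b of the inner product of ϑ with ψ, times ψ). Then the b-part of ϑ vanishes at every p-regular element of C. (Equivalently, the generalized decomposition numbers of χ with respect to b are zero.) -/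
theorem result {G : Type*} [Group G] [Finite G] (p : ℕ) [Fact p.Prime] (M : Ideal Cfsg.AlgInt) (hM : Cfsg.IsPModular p M) (x : G) (hx : ∃ k : ℕ, orderOf x = p ^ k) (B : Set (Cfsg.IrrCharacter G)) (hB : Cfsg.IsPBlock M B) (χ : Cfsg.IrrCharacter G) (hχ : χ ∈ B) (b : Set (Cfsg.IrrCharacter (Subgroup.centralizer ({x} : Set G)))) (hb : Cfsg.IsPBlock M b) (hnot : ¬ Cfsg.IsInducedBlock M (Subgroup.centralizer ({x} : Set G)) b B) (y : Subgroup.centralizer ({x} : Set G)) (hy : ¬ p ∣ orderOf y) : Cfsg.blockPart b (fun c : Subgroup.centralizer ({x} : Set G) => (χ : G → ℂ) (x * (c : G))) y = 0 := by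
  open H4 H17 in
  have : PM p M := ⟨hM⟩
  have := Fintype.ofFinite (Subgroup.centralizer ({x} : Set G))
  obtain ⟨ξ, rfl⟩ := hb
  obtain ⟨χ', hI⟩ := exists_indRel_centralizer M hx ξ
  have h1 : ¬ SB M χ' χ := fun h => hnot (by
    rw [eq_blockOf_of_mem hB hχ]; exact isInducedBlock_iff.mpr (hI.congr (SB.refl _) h))
  have hc : Commute x y := (H17.mem_centralizer_singleton.mp y.2).symm
  have h2 := hI.sum_co_eq_zero (Subgroup.subtype_injective _) (h := selfC x * y)
    (centralizer_pp_le (pp_mul hx (by rwa [Subgroup.orderOf_coe]) hc)) h1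
  rw [blockPart_eq_conv]
  · rw [← h2]
    refine Finset.sum_congr rfl fun k _ => ?_
    change _ * χ.1 (x * (k * y)) = _ * χ.1 (k * (x * y))
    rw [← mul_assoc x, ← mul_assoc k.1, (H17.mem_centralizer_singleton.mp k.2).eq]
  · intro a b
    change χ.1 (x * (b * a * b⁻¹)) = χ.1 (x * a)
    rw [← χ.2.classFun (x * a) b, ← mul_assoc b.1, (H17.mem_centralizer_singleton.mp b.2).eq]
    simp [mul_assoc]

end Cfsg.Agent.S0923
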