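import Cfsg.Statements.S0926
import Mathlib
import Cfsg.Agent.H17.Second

set_option autoImplicit false
open Cfsg

namespace Cfsg.Agent.S0926

/-- Let B be a block of the finite group G with defect group D (relative to a maximal ideal M of the algebraic integers containing p), let χ ∈ B have height zero, and let x be a p-element. Then some conjugate of x lies in D if and only if χ does not vanish on the whole p-section of x (the elements whose p-part is conjugate to x). -/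
theorem result {G : Type*} [Group G] [Finite G] (p : ℕ) [Fact p.Prime] (M : Ideal Cfsg.AlgInt) (hM : Cfsg.IsPModular p M) (B : Set (Cfsg.IrrCharacter G)) (hB : Cfsg.IsPBlock M B) (D : Subgroup G) (hD : Cfsg.IsDefectGroup p M B D) (χ : Cfsg.IrrCharacter G) (hχ : χ ∈ B) (h0 : Cfsg.blockHeight p B (χ : G → ℂ) = 0) (x : G) (hx : ∃ k : ℕ, orderOf x = p ^ k) : (∃ g : G, g * x * g⁻¹ ∈ D) ↔ ∃ u : G, (∃ z : G, Cfsg.IsPPart p u z ∧ IsConj x z) ∧ (χ : G → ℂ) u ≠ 0 := by
  open H4 H17 in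
  have : PM p M := ⟨hM⟩
  rw [blockHeight_eq_zero_iff' hB hχ] at h0
  rw [eq_blockOf_of_mem hB hχ, isDefectGroup_iff] at hD
  constructor
  · rintro ⟨g, hg⟩
    obtain ⟨y, h1, h2⟩ := hD
    have hc := H17.mem_centralizer_singleton.mp (h2.le hg)
    refine ⟨g * x * g⁻¹ * y, ⟨_, isPPart_mul (PElt.conj hx g) h1.reg hc, isConj_iff.mpr ⟨g, rfl⟩⟩,
      ne_zero_of_notMem_Pm (M := M) ?_⟩
    exact notMem_Pm_of_sub (char_mul_sub_mem χ.2.isCharacter (PElt.conj hx g) hc)
      (h0.notMem_of_DC h1)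
  · rintro ⟨u, ⟨z, h1, h2⟩, h3⟩
    obtain ⟨E, h4, h5⟩ := exists_DG_of_ne_zero M h3
    rw [isPPart_iff.mp h1] at h5
    obtain ⟨t, rfl⟩ := hD.exists_cj_eq h4
    obtain ⟨s, rfl⟩ := isConj_iff.mp h2
    refine ⟨t * s, ?_⟩
    rw [show t * s * x * (t * s)⁻¹ = t * (s * x * s⁻¹) * t⁻¹ by group]
    exact conj_mem_cj.mpr h5

end Cfsg.Agent.S0926
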