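import Cfsg.Statements.S0936
import Mathlib
import Cfsg.Agent.H17.Height

set_option autoImplicit false
open Cfsg

namespace Cfsg.Agent.S0936

/-- Brauer's Third Main Theorem. Let H be a subgroup of the finite group G and b a block of H (relative to a maximal ideal M of the algebraic integers containing the prime p) whose induced block in G is defined. Then b induces the principal block of G if and only if b is the principal block of H. -/
theorem result {G : Type*} [Group G] [Finite G] (p : ℕ) [Fact p.Prime] (M : Ideal Cfsg.AlgInt) (hM : Cfsg.IsPModular p M) (H : Subgroup G) (b : Set (Cfsg.IrrCharacter H)) (hdef : Cfsg.InducedBlockDefined M H b) : Cfsg.IsInducedBlock M H b (Cfsg.principalBlock M G) ↔ b = Cfsg.principalBlock M H := by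
  open H4 H17 in
  have : PM p M := ⟨hM⟩
  obtain ⟨B, he⟩ := hdef
  obtain ⟨ξ, χ', rfl, rfl, h⟩ := IsInducedBlock.exists he
  have h1 := h.third H.subtype_injective
  rw [principalBlock_eq, principalBlock_eq, isInducedBlock_iff, blockOf_eq_iff]
  exact ⟨fun h2 => (h1.mp (h2.unique h)).symm, fun h2 => h.congr (SB.refl _) (h1.mpr h2.symm).symm⟩

end Cfsg.Agent.S0936
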