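import Cfsg.Statements.S0938
import Mathlib
import Cfsg.Agent.H17.Cover

set_option autoImplicit false
open Cfsg

namespace Cfsg.Agent.S0938

/-- Let B be a block of the finite group G relative to a maximal ideal M of the algebraic integers containing the prime p, and let χ ∈ B. Then the kernel of B (the set of g with ψ g = ψ 1 for all ψ ∈ B) is a normal subgroup of order prime to p contained in the kernel of χ, and it contains every normal subgroup of order prime to p on which χ takes the value χ(1); that is, it is O_p' of the kernel of χ. -/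
theorem result {G : Type*} [Group G] [Finite G] (p : ℕ) [Fact p.Prime] (M : Ideal Cfsg.AlgInt) (hM : Cfsg.IsPModular p M) (B : Set (Cfsg.IrrCharacter G)) (hB : Cfsg.IsPBlock M B) (χ : Cfsg.IrrCharacter G) (hχ : χ ∈ B) : ∃ K : Subgroup G, K.Normal ∧ (K : Set G) = Cfsg.blockKer B ∧ ¬ p ∣ Nat.card K ∧ (∀ g ∈ K, (χ : G → ℂ) g = (χ : G → ℂ) 1) ∧ ∀ N : Subgroup G, N.Normal → ¬ p ∣ Nat.card N → (∀ g ∈ N, (χ : G → ℂ) g = (χ : G → ℂ) 1) → N ≤ K := by
  open H4 H17 in
  have : PM p M := ⟨hM⟩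
  have hK : ∀ g, g ∈ (⨅ ψ ∈ B, H5.charKer ψ.1) ↔ g ∈ blockKer B := fun g => by
    simp only [Subgroup.mem_iInf, fun ψ : Irr G => H5.mem_charKer_iff (g := g) ψ.2.isCharacter]
    rfl
  refine ⟨⨅ ψ ∈ B, H5.charKer ψ.1, ⟨fun n hn g => ?_⟩, Set.ext hK, fun h => ?_,
    fun g hg => (hK g).mp hg χ hχ, fun N hN h1 h2 n hn => (hK n).mpr fun ψ hψ => ?_⟩
  · rw [hK] at hn ⊢
    intro ψ hψ
    rw [ψ.2.classFun, hn ψ hψ]
  · obtain ⟨x, hx⟩ := exists_prime_orderOf_dvd_card' p h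
    have h1 : (x : G) = 1 := eq_one_of_forall_ker (M := M) (χ := χ)
      ⟨1, by rw [Subgroup.orderOf_coe, hx, pow_one]⟩
      fun ψ hψ => (hK x).mp x.2 ψ (eq_blockOf_of_mem hB hχ ▸ hψ)
    rw [← Subgroup.orderOf_coe, h1, orderOf_one] at hx
    exact (Fact.out : p.Prime).one_lt.ne hx
  · rw [eq_blockOf_of_mem hB hχ] at hψ
    exact SB.ker h1 hψ h2 n hn

end Cfsg.Agent.S0938
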