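import Cfsg.Statements.S0944
import Mathlib
import Cfsg.Agent.H17.Two

set_option autoImplicit false
open Cfsg

namespace Cfsg.Agent.S0944

/-- Let χ be an irreducible character of the finite group G and u an involution. Then χ u is a rational integer n with n ≡ χ 1 (mod 2). -/
theorem result {G : Type*} [Group G] [Finite G] (χ : Cfsg.IrrCharacter G) (u : G) (hu : orderOf u = 2) : ∃ n : ℤ, (χ : G → ℂ) u = (n : ℂ) ∧ (2 : ℤ) ∣ (Cfsg.charDegree (χ : G → ℂ) : ℤ) - n := by
  open H4 H17 in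
  obtain ⟨M, hM⟩ := exists_PM 2
  obtain ⟨n, hn⟩ := χ.2.isGen.exists_int_of_sq (g := u) (by rw [← hu, pow_orderOf_eq_one])
  refine ⟨n, hn, ?_⟩
  have h := char_mul_sub_mem (M := M) χ.2.isCharacter (PElt.of_two hu) (Commute.one_right u)
  rw [mul_one, hn, ← deg_eq] at h
  have h2 := (intCast_mem_Pm (M := M) (n := (deg χ : ℤ) - n)).mp (by
    push_cast; exact sub_mem_Pm_symm h)
  exact h2

end Cfsg.Agent.S0944
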