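import Cfsg.Statements.S0953
import Mathlib
import Cfsg.Agent.H17.Fong

set_option autoImplicit false
open Cfsg

namespace Cfsg.Agent.S0953

/-- Let P be a Sylow p-subgroup of the finite group G with normalizer N, and fix a maximal ideal M of the algebraic integers containing p. The number of blocks of G having P as a defect group equals the number of conjugacy classes of N consisting of elements of order prime to p that centralize P. -/
theorem result {G : Type*} [Group G] [Finite G] (p : ℕ) [Fact p.Prime] (M : Ideal Cfsg.AlgInt) (hM : Cfsg.IsPModular p M) (P : Sylow p G) : Nat.card {B : Set (Cfsg.IrrCharacter G) // Cfsg.IsPBlock M B ∧ Cfsg.IsDefectGroup p M B (P : Subgroup G)} = Nat.card {C : ConjClasses (Subgroup.normalizer ((P : Subgroup G) : Set G)) // ∀ n : Subgroup.normalizer ((P : Subgroup G) : Set G), ConjClasses.mk n = C → ¬ p ∣ orderOf n ∧ (n : G) ∈ Subgroup.centralizer ((P : Subgroup G) : Set G)} := by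
  open H4 H17 in
  have : PM p M := ⟨hM⟩
  classical
  have := Fintype.ofFinite G
  have := Fintype.ofFinite (ConjClasses G)
  set N := Subgroup.normalizer ((P : Subgroup G) : Set G) with hN
  set I := {B : Set (IrrCharacter G) // IsPBlock M B ∧ IsDefectGroup p M B (P : Subgroup G)}
  set J := {C : ConjClasses N // ∀ n : N, ConjClasses.mk n = C →
    ¬ p ∣ orderOf n ∧ (n : G) ∈ Subgroup.centralizer ((P : Subgroup G) : Set G)}
  have := Fintype.ofFinite I
  have := Fintype.ofFinite J
  have hch : ∀ B : I, ∃ χ : Irr G, B.1 = blockOf M χ.1 := fun B => B.2.1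
  choose χ hχ using hch
  have hDG : ∀ B : I, DG p M (χ B) P := fun B => by
    rw [← isDefectGroup_iff, ← hχ]; exact B.2.2
  let y : J → G := fun C => (Quotient.out C.1 : N)
  have hy : ∀ C : J, ¬ p ∣ orderOf (y C) ∧ y C ∈ Subgroup.centralizer ((P : Subgroup G) : Set G) :=
    fun C => by
      have := C.2 _ (Quotient.out_eq C.1)
      exact ⟨by simpa [y] using this.1, this.2⟩
  have hsyl : ∀ g ∈ Subgroup.centralizer ((P : Subgroup G) : Set G),
      SylIn p P (Subgroup.centralizer {g}) := fun g hg =>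
    (sylIn_top P).of_le (le_centralizer_singleton_iff.mpr hg) le_top
  have hinj : ∀ C C' : J, IsConj (y C) (y C') → C = C' := fun C C' h => by
    obtain ⟨n, hn, h1⟩ := exists_normalizer_conj (hsyl _ (hy C).2) (hy C').2 h
    refine Subtype.ext ?_
    rw [← Quotient.out_eq C.1, ← Quotient.out_eq C'.1]
    exact ConjClasses.mk_eq_mk_iff_isConj.mpr (isConj_iff.mpr ⟨⟨n, hn⟩, Subtype.ext h1⟩)
  have hsurj : ∀ g, ¬ p ∣ orderOf g → g ∈ Subgroup.centralizer ((P : Subgroup G) : Set G) →
      ∃ C : J, IsConj g (y C) := fun g h1 h2 => by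
    refine ⟨⟨ConjClasses.mk ⟨g, Subgroup.centralizer_le_normalizer _ h2⟩, fun n hn => ?_⟩, ?_⟩
    · obtain ⟨t, rfl⟩ := isConj_iff.mp (ConjClasses.mk_eq_mk_iff_isConj.mp hn).symm
      refine ⟨by rw [orderOf_conj, ← Subgroup.orderOf_coe]; exact h1, ?_⟩
      change (t : G) * g * (t : G)⁻¹ ∈ _
      rw [← cj_eq_of_mem_normalizer t.2, ← cj_centralizer, conj_mem_cj]
      exact h2
    · exact N.subtype.map_isConj (ConjClasses.mk_eq_mk_iff_isConj.mp (Quotient.out_eq
        (ConjClasses.mk (⟨g, Subgroup.centralizer_le_normalizer _ h2⟩ : N))).symm)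
  have hi : ∀ C : J, ¬ p ∣ (Subgroup.centralizer ({y C} : Set G)).index := fun C =>
    not_dvd_index_of_sylow_le P (le_centralizer_singleton_iff.mpr (hy C).2)
  apply le_antisymm
  · refine card_le_of_pairing (M := M) (fun B C => co (fb M (χ B)) (y C))
      (fun C B => cls (y C) (χ B)) (fun B C => fb_mem_ZS _ _)
      (fun C B => cls_mem_S _ _) fun B B' => ?_
    have h1 : fb M (χ B) (χ B') = if B = B' then 1 else 0 := by
      split_ifs with h
      · rw [h, fb_self]
      · refine ind_of_notMem fun h' => h (Subtype.ext ?_)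
        rw [hχ, hχ, SB.blockOf_eq h']
    rw [← h1]
    have h2 : ∑ C : J, co (fb M (χ B)) (y C) * cls (y C) (χ B') =
      (∑ C : J, co (fb M (χ B)) (y C) • cls (y C)) (χ B') := by rw [Finset.sum_apply]; rfl
    rw [h2]
    refine (hDG B').apply_mem (z := ∑ C : J, co (fb M (χ B)) (y C) • cls (y C) - fb M (χ B))
      (sub_mem (sum_mem fun C _ => smul_mem_ZS (fb_mem_ZS _ _) (cls_mem_ZR _ _)) (fb_mem_ZS _))
      fun k hk => ?_
    rw [map_sub, map_sum, Pi.sub_apply, Finset.sum_apply]
    simp only [map_smul, Pi.smul_apply, smul_eq_mul, co_cls]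
    by_cases h3 : p ∣ orderOf k
    · rw [co_ind_eq_zero (fb_mem_ZS (M := M) _) h3, Finset.sum_eq_zero, sub_zero]
      · exact zero_mem _
      · intro C _
        rw [if_neg (fun h => (hy C).1 (by rwa [orderOf_eq_of_isConj h])), mul_zero]
    · obtain ⟨C, hC⟩ := hsurj k h3 hk
      rw [Finset.sum_eq_single C, if_pos hC.symm, mul_one, co_of_isConj _ hC, sub_self]
      · exact zero_mem _
      · intro C' _ h
        rw [if_neg (fun h' => h (hinj _ _ (h'.trans hC))), mul_zero]
      · simp
  · have hch : ∀ C : J, ∃ s : Irr G → ℂ, (∀ χ, s χ ∈ S M) ∧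
      ∀ g, ¬ p ∣ orderOf g → ∑ χ, s χ * χ.1 g = cind (y C) g := fun C => exists_comb_cind (hy C).1
    choose s hs1 hs2 using hch
    have hind : ∀ (B : I) ψ, ind B.1 ψ ∈ S M := fun B ψ => by
      rw [ind_apply]; split_ifs
      · exact one_mem _
      · exact zero_mem _
    refine card_le_of_pairing (M := M) (fun C B => ∑ ψ, s C ψ * (deg ψ * ind B.1 ψ))
      (fun B C => cls (y C) (χ B) / (Subgroup.centralizer ({y C} : Set G)).index)
      (fun C B => sum_mem fun ψ _ => mul_mem (hs1 C ψ) (mul_mem (natCast_mem _ _) (hind B ψ)))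
      (fun B C => by
        rw [div_eq_mul_inv]; exact mul_mem (cls_mem_S _ _) (inv_natCast_mem_S (hi C)))
      fun C C' => ?_
    have h1 := hs2 C (y C') (hy C').1
    rw [cind_apply, if_congr ⟨hinj C C', fun h => h ▸ IsConj.refl _⟩ rfl rfl] at h1
    rw [← h1]
    simp only [Finset.sum_mul]
    rw [Finset.sum_comm, ← Finset.sum_sub_distrib]
    refine sum_mem fun ψ _ => ?_
    simp only [mul_assoc, ← Finset.mul_sum]
    rw [← mul_sub, irr_eq_cls, div_mul_eq_mul_div, mul_div_assoc, ← mul_sub]
    refine Pm_mul_left (hs1 C ψ) ?_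
    by_cases h2 : p ∣ deg ψ
    · refine natCast_mul_mem_Pm h2 (sub_mem (sum_mem fun B _ => mul_mem (hind B ψ) ?_) ?_) <;>
      · rw [div_eq_mul_inv]; exact mul_mem (cls_mem_S _ _) (inv_natCast_mem_S (hi C'))
    · refine Pm_mul_left (natCast_mem _ _) ?_
      have h3 : DG p M ψ P := by
        obtain ⟨D, hD⟩ := exists_DG p M ψ
        obtain ⟨t, -, ht⟩ := (sylIn_top P).exists_cj_le hD.isPGroup le_top
        have h4 := hD.fact_index_le
        rw [Nat.factorization_eq_zero_of_not_dvd h2] at h4
        have h5 := fact_card_add_index (p := p) D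
        rw [← Subgroup.eq_of_le_of_card_ge ht (by
          rw [card_cj, hD.card_eq_pow, hD.blockDefect_eq, P.card_eq_multiplicity]
          exact Nat.pow_le_pow_right (Fact.out : p.Prime).pos (by omega))]
        exact hD.cj t
      let B : I := ⟨blockOf M ψ.1, isPBlock_blockOf ψ, isDefectGroup_iff.mpr h3⟩
      rw [Finset.sum_eq_single B, ind_of_mem (self_mem_blockOf ψ), one_mul, ← sub_div,
        div_eq_mul_inv]
      · exact Pm_mul_right ((blockOf_eq_iff.mp (hχ B)).symm.sub_mem (cls_mem_ZR _ _))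
          (inv_natCast_mem_S (hi C'))
      · intro B' _ h
        rw [ind_of_notMem fun h' => h (Subtype.ext (eq_blockOf_of_mem B'.2.1 h')), zero_mul]
      · simp

end Cfsg.Agent.S0953
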