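import Cfsg.Statements.S0955
import Mathlib
import Cfsg.Agent.H17.Induce

set_option autoImplicit false
open Cfsg

namespace Cfsg.Agent.S0955

/-- Let D be a defect group of a block of the finite group G relative to a maximal ideal M of the algebraic integers containing the prime p. Then D is the largest normal p-subgroup of its own normalizer: O_p(N_G(D)) = D. -/
theorem result {G : Type*} [Group G] [Finite G] (p : ℕ) [Fact p.Prime] (M : Ideal Cfsg.AlgInt) (hM : Cfsg.IsPModular p M) (B : Set (Cfsg.IrrCharacter G)) (hB : Cfsg.IsPBlock M B) (D : Subgroup G) (hD : Cfsg.IsDefectGroup p M B D) : (Cfsg.pCore p (Subgroup.normalizer (D : Set G))).map (Subgroup.normalizer (D : Set G)).subtype = D := by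
  open H4 H17 in
  have : PM p M := ⟨hM⟩
  have hm : (D.subgroupOf (Subgroup.normalizer (D : Set G))).map
    (Subgroup.normalizer (D : Set G)).subtype = D := Subgroup.map_subgroupOf_eq_of_le Subgroup.le_normalizer
  obtain ⟨χ, rfl⟩ := hB
  rw [isDefectGroup_iff, ← hm] at hD
  obtain ⟨ξ, h1, h2⟩ := exists_indRel_dg (Subgroup.subtype_injective _)
    (by rw [hm, Subgroup.range_subtype]; exact Subgroup.centralizer_le_normalizer _) hD
  rw [le_antisymm (h2.normal_le (H2.pCore_isPGroup p _)) (H2.le_pCore inferInstance h2.isPGroup), hm]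

end Cfsg.Agent.S0955
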