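import Cfsg.Statements.S0957
import Mathlib
import Cfsg.Agent.H17.Defect

set_option autoImplicit false
open Cfsg

namespace Cfsg.Agent.S0957

/-- Let P be a Sylow p-subgroup of the finite group G, let g, h ∈ G and let p ^ d be the order of a Sylow p-subgroup of the centralizer of g. Then the number of pairs (y, z) with y conjugate to g, z conjugate to h and z * y⁻¹ ∈ P is divisible by the order of P divided by p ^ d. -/
theorem result {G : Type*} [Group G] [Finite G] (p : ℕ) [Fact p.Prime] (P : Sylow p G) (g h : G) (S : Sylow p (Subgroup.centralizer ({g} : Set G))) : Nat.card P / Nat.card S ∣ Nat.card {yz : G × G // IsConj g yz.1 ∧ IsConj h yz.2 ∧ yz.2 * yz.1⁻¹ ∈ (P : Subgroup G)} := by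
  open H4 H17 in
  classical
  have := Fintype.ofFinite G
  let Γ : Subgroup (ConjAct G) := (P : Subgroup G).map ConjAct.toConjAct.toMonoidHom
  have h1 : ∀ (γ : Γ), ∃ q ∈ (P : Subgroup G), ∀ x : G × G,
      γ • x = (q * x.1 * q⁻¹, q * x.2 * q⁻¹) := by
    rintro ⟨_, q, hq, rfl⟩
    exact ⟨q, hq, fun x => rfl⟩
  have hΓ : Nat.card Γ = Nat.card P :=
    Subgroup.card_map_of_injective ConjAct.toConjAct.injective
  have h2 := sum_mem_of_orbit (Γ := Γ) (AddSubgroup.zmultiples ((Nat.card P / Nat.card S : ℕ) : ℤ))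
    (fun x : G × G => if IsConj g x.1 ∧ IsConj h x.2 ∧ x.2 * x.1⁻¹ ∈ (P : Subgroup G) then 1 else 0)
    (fun γ x => by
      obtain ⟨q, hq, h⟩ := h1 γ
      have h3 : ∀ a y : G, IsConj a (q * y * q⁻¹) ↔ IsConj a y := fun a y =>
        ⟨fun h => h.trans (isConj_iff.mpr ⟨q, rfl⟩ : IsConj y _).symm,
          fun h => h.trans (isConj_iff.mpr ⟨q, rfl⟩)⟩
      have h4 : q * x.2 * q⁻¹ * (q * x.1 * q⁻¹)⁻¹ ∈ (P : Subgroup G) ↔
          x.2 * x.1⁻¹ ∈ (P : Subgroup G) := by
        rw [show q * x.2 * q⁻¹ * (q * x.1 * q⁻¹)⁻¹ = q * (x.2 * x.1⁻¹) * q⁻¹ by group,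
          Subgroup.mul_mem_cancel_right _ (inv_mem hq), Subgroup.mul_mem_cancel_left _ hq]
      simp only [h, h3, h4])
    (fun x => by
      split_ifs with hx
      · rw [Int.mem_zmultiples_iff, nsmul_eq_mul, mul_one, Int.natCast_dvd_natCast]
        let T : Subgroup G := ((MulAction.stabilizer Γ x).map Γ.subtype).map
          ConjAct.ofConjAct.toMonoidHom
        have hT : Nat.card T = Nat.card (MulAction.stabilizer Γ x) := by
          rw [Subgroup.card_map_of_injective ConjAct.ofConjAct.injective,
            Subgroup.card_map_of_injective Γ.subtype_injective]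
        have hTp : IsPGroup p T :=
          (((P.isPGroup'.map _ : IsPGroup p Γ).to_subgroup _).map _).map _
        have hTC : T ≤ Subgroup.centralizer {x.1} := by
          rintro _ ⟨_, ⟨⟨_, q, hq, rfl⟩, hγ, rfl⟩, rfl⟩
          have := congrArg Prod.fst (MulAction.mem_stabilizer_iff.mp hγ)
          change q * x.1 * q⁻¹ = x.1 at this
          rw [H17.mem_centralizer_singleton]
          change Commute q x.1
          exact mul_inv_eq_iff_eq_mul.mp this
        have h5 := card_dvd_of_isPGroup hTp hTC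
        rw [← H17.card_centralizer_of_isConj hx.1, ← S.card_eq_multiplicity, hT] at h5
        have h6 := MulAction.card_orbit_mul_card_stabilizer_eq_card_group Γ x
        simp only [← Nat.card_eq_fintype_card] at h6
        obtain ⟨m, hm⟩ := h5
        rw [← hΓ, ← h6, hm, mul_comm (Nat.card (MulAction.orbit Γ x)),
          Nat.mul_div_mul_left _ _ Nat.card_pos]
        refine Nat.div_dvd_of_dvd ?_
        have h7 : Nat.card S ∣ Nat.card P := by
          rw [S.card_eq_multiplicity, P.card_eq_multiplicity]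
          exact pow_dvd_pow _ ((Nat.factorization_le_iff_dvd Nat.card_pos.ne' Nat.card_pos.ne').mpr
            (Subgroup.card_subgroup_dvd_card _) p)
        rw [← hΓ, ← h6, hm, mul_comm (Nat.card (MulAction.orbit Γ x))] at h7
        exact (Nat.mul_dvd_mul_iff_left Nat.card_pos).mp h7
      · simp)
  rw [Int.mem_zmultiples_iff] at h2
  rw [Nat.card_eq_fintype_card (α := {yz : G × G // _}), Fintype.card_subtype, Finset.card_filter,
    ← Int.natCast_dvd_natCast]
  push_cast at h2 ⊢
  exact h2

end Cfsg.Agent.S0957
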