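import Cfsg.Statements.S0958
import Mathlib
import Cfsg.Agent.H17.Induce

set_option autoImplicit false
open Cfsg

namespace Cfsg.Agent.S0958

/-- Let P be a p-subgroup of the finite group G and H a subgroup with P ⊔ C_G(P) ≤ H ≤ N_G(P); fix a maximal ideal M of the algebraic integers containing p. Then a block B of G is induced by some block of H if and only if some conjugate of P is contained in a defect group of B. -/
theorem result {G : Type*} [Group G] [Finite G] (p : ℕ) [Fact p.Prime] (M : Ideal Cfsg.AlgInt) (hM : Cfsg.IsPModular p M) (P H : Subgroup G) (hP : IsPGroup p P) (hPH : P ⊔ Subgroup.centralizer (P : Set G) ≤ H) (hHN : H ≤ Subgroup.normalizer (P : Set G)) (B : Set (Cfsg.IrrCharacter G)) (hB : Cfsg.IsPBlock M B) : (∃ b : Set (Cfsg.IrrCharacter H), Cfsg.IsInducedBlock M H b B) ↔ ∃ D : Subgroup G, Cfsg.IsDefectGroup p M B D ∧ ∃ x : G, P.map (MulAut.conj x).toMonoidHom ≤ D := by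
  open H4 H17 in
  have : PM p M := ⟨hM⟩
  have hPH' : P ≤ H := le_sup_left.trans hPH
  have : (P.subgroupOf H).Normal := (Subgroup.normal_subgroupOf_iff_le_normalizer hPH').mpr hHN
  have hP' : IsPGroup p (P.subgroupOf H) := hP.comap_of_injective _ H.subtype_injective
  have hm : (P.subgroupOf H).map H.subtype = P := Subgroup.map_subgroupOf_eq_of_le hPH'
  obtain ⟨χ, rfl⟩ := hB
  constructor
  · rintro ⟨b, hb⟩
    obtain ⟨ξ, rfl⟩ := hb.1
    obtain ⟨D, hD⟩ := exists_DG p M ξ
    obtain ⟨E, h1, h2⟩ := (isInducedBlock_iff.mp hb).exists_DG_ge hD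
    refine ⟨E, isDefectGroup_iff.mpr h1, 1, ?_⟩
    change cj 1 P ≤ E
    rw [cj_one, ← hm]
    exact (Subgroup.map_mono (hD.normal_le hP')).trans h2
  · rintro ⟨D, hD, x, hx⟩
    obtain ⟨ξ, h⟩ := exists_indRel_of_le H.subtype_injective hP'
      (by rw [hm, Subgroup.range_subtype]; exact le_sup_right.trans hPH)
      ((isDefectGroup_iff.mp hD).cj x⁻¹) (by rw [hm]; exact cj_le_iff.mp hx)
    exact ⟨_, isInducedBlock_iff.mpr h⟩

end Cfsg.Agent.S0958
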