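import Cfsg.Statements.S0959
import Mathlib
import Cfsg.Agent.H17.Defect

set_option autoImplicit false
open Cfsg

namespace Cfsg.Agent.S0959

/-- Let B be a block of the finite group G with defect group D (relative to a maximal ideal M of the algebraic integers containing the prime p), and let P be a p-subgroup. Then there is an element g whose idempotent coefficient for B is a local integer outside the local ideal at M and which has a conjugate centralizing P, if and only if some conjugate of P is contained in D. -/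
theorem result {G : Type*} [Group G] [Finite G] (p : ℕ) [Fact p.Prime] (M : Ideal Cfsg.AlgInt) (hM : Cfsg.IsPModular p M) (B : Set (Cfsg.IrrCharacter G)) (hB : Cfsg.IsPBlock M B) (D : Subgroup G) (hD : Cfsg.IsDefectGroup p M B D) (P : Subgroup G) (hP : IsPGroup p P) : (∃ g : G, Cfsg.MemLocalRing M (Cfsg.blockCoeff B g) ∧ ¬ Cfsg.MemLocalIdeal M (Cfsg.blockCoeff B g) ∧ ∃ c : G, IsConj g c ∧ c ∈ Subgroup.centralizer (P : Set G)) ↔ ∃ x : G, P.map (MulAut.conj x).toMonoidHom ≤ D := by
  have : H17.PM p M := ⟨hM⟩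
  obtain ⟨χ, rfl⟩ := hB
  have hD' := H17.isDefectGroup_iff.mp hD
  constructor
  · rintro ⟨g, -, h2, c, hc, hcP⟩
    rw [H17.blockCoeff_eq, H17.co_of_isConj _ hc] at h2
    exact hD'.max hP hcP h2
  · rintro ⟨x, hx⟩
    obtain ⟨h, hh, hf⟩ := (H17.exists_DG_ge_iff hP).mp ⟨_, hD'.cj x⁻¹, H17.cj_le_iff.mp hx⟩
    refine ⟨h, ?_, ?_, h, IsConj.refl _, hh⟩
    · rw [H17.blockCoeff_eq]; exact H17.fb_mem_ZS χ h
    · rwa [H17.blockCoeff_eq]

end Cfsg.Agent.S0959
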