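import Cfsg.Statements.S0960
import Mathlib
import Cfsg.Agent.H18.D1d

set_option autoImplicit false
open Cfsg

namespace Cfsg.Agent.S0960

/-- Let p be an odd prime and G a finite group whose Sylow p-subgroup P has order p; let e be the index of C_G(P) in N_G(P) (a divisor of p − 1) and fix a maximal ideal M of the algebraic integers containing p. Then the principal block of G consists of exactly e + (p - 1) / e irreducible characters, and the degree d of each of them satisfies d ≡ 1, d ≡ -1, d ≡ e or d ≡ -e modulo p. -/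
theorem result {G : Type*} [Group G] [Finite G] (p : ℕ) [Fact p.Prime] (M : Ideal Cfsg.AlgInt) (hM : Cfsg.IsPModular p M) (hodd : p ≠ 2) (P : Sylow p G) (hP : Nat.card P = p) (e : ℕ) (he : (Subgroup.centralizer ((P : Subgroup G) : Set G)).relIndex (Subgroup.normalizer ((P : Subgroup G) : Set G)) = e) : Nat.card (Cfsg.principalBlock M G) = e + (p - 1) / e ∧ ∀ χ ∈ Cfsg.principalBlock M G, ((Cfsg.charDegree (χ : G → ℂ) : ℤ) ≡ 1 [ZMOD p] ∨ (Cfsg.charDegree (χ : G → ℂ) : ℤ) ≡ -1 [ZMOD p] ∨ (Cfsg.charDegree (χ : G → ℂ) : ℤ) ≡ (e : ℤ) [ZMOD p] ∨ (Cfsg.charDegree (χ : G → ℂ) : ℤ) ≡ -(e : ℤ) [ZMOD p]) := by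
  open H4 H17 H18 in
  have : PM p M := ⟨hM⟩
  have hp : p.Prime := Fact.out
  have := Fact.mk hp
  obtain ⟨x, hx⟩ := exists_prime_orderOf_dvd_card' (G := P) p (by rw [show Nat.card (P : Subgroup G) = p from hP])
  have h : D1 p (x : G) := ⟨by rw [Subgroup.orderOf_coe, hx], fun hd => by
    have h1 := P.card_eq_multiplicity
    have h2 := (hp.pow_dvd_iff_le_factorization Nat.card_pos.ne').1 hd
    have h3 : p ^ 1 = p ^ (Nat.card G).factorization p := by rw [pow_one, ← h1]; exact hP.symm
    have := Nat.pow_right_injective hp.two_le h3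
    omega⟩
  have hz : Subgroup.zpowers (x : G) = P := zpowers_eq_of_mem hP x.2 h.ne_one
  rw [← hz, h.relIndex] at he
  obtain ⟨D⟩ := h.nonempty_bData
  rw [← B0_eq M]
  subst he
  refine ⟨?_, fun χ hχ => ?_⟩
  · rw [D.card_B0, ← card_Aut_mul_index h.ord, Nat.mul_div_cancel_left _ Nat.card_pos]
  · rcases (D.mem_iff χ).1 hχ with h1 | ⟨j, rfl⟩
    · have h2 := D.deg_Nx h1
      rcases D.a_sq χ h1 with h3 | h3 <;> rw [h3] at h2
      · exact Or.inl h2
      · exact Or.inr (Or.inl h2)
    · have h2 := D.deg_μ j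
      rcases D.δ_sq with h3 | h3 <;> rw [h3] at h2
      · exact Or.inr (Or.inr (Or.inr (by simpa using h2)))
      · exact Or.inr (Or.inr (Or.inl (by simpa using h2)))

end Cfsg.Agent.S0960
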