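import Cfsg.Statements.S0962
import Mathlib
import Cfsg.Agent.H17.Defect

set_option autoImplicit false
open Cfsg

namespace Cfsg.Agent.S0962

/-- Fix a maximal ideal M of the algebraic integers containing the prime p and a natural number d. The number of blocks of the finite group G of defect at least d is at most the number of conjugacy classes of p-regular elements of G of defect at least d, where the defect of a class is the exponent of p in the order of the centralizer of any of its elements. -/
theorem result {G : Type*} [Group G] [Finite G] (p : ℕ) [Fact p.Prime] (M : Ideal Cfsg.AlgInt) (hM : Cfsg.IsPModular p M) (d : ℕ) : Nat.card {B : Set (Cfsg.IrrCharacter G) // Cfsg.IsPBlock M B ∧ d ≤ Cfsg.blockDefect p B} ≤ Nat.card {C : ConjClasses G // ∃ g : G, ConjClasses.mk g = C ∧ Cfsg.IsPRegular p g ∧ d ≤ (Nat.card (Subgroup.centralizer ({g} : Set G))).factorization p} := by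
  open H4 H17 in
  have : PM p M := ⟨hM⟩
  classical
  have := Fintype.ofFinite (ConjClasses G)
  have hch : ∀ B : {B : Set (IrrCharacter G) // IsPBlock M B ∧ d ≤ blockDefect p B},
    ∃ χ : Irr G, B.1 = blockOf M χ.1 := fun B => B.2.1
  choose χ hχ using hch
  refine card_le_of_pairing (M := M) (fun B C => co (fb M (χ B)) (Quotient.out C.1))
    (fun C B => cls (Quotient.out C.1) (χ B)) (fun B C => fb_mem_ZS _ _)
    (fun C B => cls_mem_S _ _) fun B B' => ?_
  have h1 : fb M (χ B) (χ B') = if B = B' then 1 else 0 := by
    split_ifs with h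
    · rw [h, fb_self]
    · refine ind_of_notMem fun h' => h (Subtype.ext ?_)
      rw [hχ, hχ, SB.blockOf_eq h']
  have h2 := congrFun (eq_sum_cls (fb M (χ B))) (χ B')
  rw [h1, Finset.sum_apply, ← Finset.sum_filter_add_sum_filter_not Finset.univ
    (fun C : ConjClasses G => ∃ g : G, ConjClasses.mk g = C ∧ IsPRegular p g ∧
    d ≤ (Nat.card (Subgroup.centralizer ({g} : Set G))).factorization p)] at h2
  rw [h2, Finset.sum_subtype (p := fun C : ConjClasses G => ∃ g : G, ConjClasses.mk g = C ∧
    IsPRegular p g ∧ d ≤ (Nat.card (Subgroup.centralizer ({g} : Set G))).factorization p) (F := inferInstance) _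
    (by simp)]
  simp only [Pi.smul_apply, smul_eq_mul, sub_add_cancel_left, neg_mem_iff]
  refine sum_mem fun C hC => ?_
  simp only [Finset.mem_filter, Finset.mem_univ, true_and, not_exists, not_and, not_le] at hC
  have h3 := hC (Quotient.out C) (Quotient.out_eq C)
  by_cases hr : p ∣ orderOf (Quotient.out C)
  · rw [co_ind_eq_zero (fb_mem_ZS _) hr, zero_mul]; exact (Pm M).zero_mem
  · refine Pm_mul_left (fb_mem_ZS _ _) ?_
    by_contra hc
    obtain ⟨D, hD⟩ := exists_DG p M (χ B')
    have h4 := B'.2.2
    rw [hχ, hD.blockDefect_eq] at h4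
    obtain ⟨k, hk, hkc⟩ := hD.min_cls hc
    have h5 := card_dvd_of_isPGroup hD.isPGroup (le_centralizer_singleton_iff.mpr hk)
    rw [← H17.card_centralizer_of_isConj hkc] at h5
    have h6 := (Nat.factorization_le_iff_dvd Nat.card_pos.ne'
      (pow_ne_zero _ (Fact.out : p.Prime).ne_zero)).mpr h5 p
    rw [(Fact.out : p.Prime).factorization_pow] at h6
    have h7 := h3 hr
    simp only [Finsupp.single_eq_same] at h6
    omega

end Cfsg.Agent.S0962
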