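import Cfsg.Statements.S0966
import Mathlib
import Cfsg.Agent.H17.Cover

set_option autoImplicit false
open Cfsg

namespace Cfsg.Agent.S0966

/-- Let N be a normal subgroup of p-power index in the finite group G and b a block of N relative to a maximal ideal M of the algebraic integers containing p. Then there is exactly one block B of G containing a character whose restriction to N has a constituent in b. -/
theorem result {G : Type*} [Group G] [Fintype G] (p : ℕ) [Fact p.Prime] (M : Ideal Cfsg.AlgInt) (hM : Cfsg.IsPModular p M) (N : Subgroup G) [N.Normal] [Fintype N] (hidx : ∃ k : ℕ, N.index = p ^ k) (b : Set (Cfsg.IrrCharacter N)) (hb : Cfsg.IsPBlock M b) : ∃! B : Set (Cfsg.IrrCharacter G), Cfsg.IsPBlock M B ∧ ∃ χ ∈ B, ∃ θ ∈ b, Cfsg.classInner (fun n : N => (χ : G → ℂ) n) (θ : N → ℂ) ≠ 0 := by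
  open H4 H17 in
  have : PM p M := ⟨hM⟩
  obtain ⟨k, hk⟩ := hidx
  obtain ⟨θ, rfl⟩ := hb
  obtain ⟨χ, h⟩ := exists_over N θ
  refine ⟨blockOf M χ.1, ⟨isPBlock_blockOf χ, exists_over_iff_cov.mpr (h.cov M)⟩, ?_⟩
  rintro _ ⟨⟨ψ, rfl⟩, h1⟩
  exact (Cov.unique (fun g hg => mem_of_reg_of_index hk hg) (exists_over_iff_cov.mp h1)
    (h.cov M)).blockOf_eq

end Cfsg.Agent.S0966
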