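import Cfsg.Statements.S0973
import Mathlib
import Cfsg.Agent.H17.Fong

set_option autoImplicit false
open Cfsg

namespace Cfsg.Agent.S0973

/-- Let B be a block of the finite group G with defect group P (relative to a maximal ideal M of the algebraic integers containing p), and let L = P ⊔ C_G(P). Then (i) some block b of L with defect group P (viewed in L) induces B, and (ii) if b and b' are blocks of L both inducing B, there is n ∈ N_G(P) carrying b to b': for every θ ∈ b there is θ' ∈ b' with θ' x = θ (n x n⁻¹) for all x ∈ L. -/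
theorem result {G : Type*} [Group G] [Finite G] (p : ℕ) [Fact p.Prime] (M : Ideal Cfsg.AlgInt) (hM : Cfsg.IsPModular p M) (B : Set (Cfsg.IrrCharacter G)) (hB : Cfsg.IsPBlock M B) (P : Subgroup G) (hP : Cfsg.IsDefectGroup p M B P) : (∃ b : Set (Cfsg.IrrCharacter ↥(P ⊔ Subgroup.centralizer (P : Set G))), Cfsg.IsDefectGroup p M b (P.subgroupOf (P ⊔ Subgroup.centralizer (P : Set G))) ∧ Cfsg.IsInducedBlock M (P ⊔ Subgroup.centralizer (P : Set G)) b B) ∧ ∀ b b' : Set (Cfsg.IrrCharacter ↥(P ⊔ Subgroup.centralizer (P : Set G))), Cfsg.IsInducedBlock M (P ⊔ Subgroup.centralizer (P : Set G)) b B → Cfsg.IsInducedBlock M (P ⊔ Subgroup.centralizer (P : Set G)) b' B → ∃ n ∈ Subgroup.normalizer (P : Set G), ∀ θ ∈ b, ∃ θ' ∈ b', ∀ x : ↥(P ⊔ Subgroup.centralizer (P : Set G)), ∀ hx : n * (x : G) * n⁻¹ ∈ P ⊔ Subgroup.centralizer (P : Set G), (θ' : ↥(P ⊔ Subgroup.centralizer (P : Set G)) → ℂ) x = (θ : ↥(P ⊔ Subgroup.centralizer (P : Set G)) → ℂ) ⟨n * (x : G) * n⁻¹, hx⟩ := by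
  open H4 H17 in
  have : PM p M := ⟨hM⟩
  obtain ⟨χ, rfl⟩ := hB
  rw [isDefectGroup_iff] at hP
  have hLN : P ⊔ Subgroup.centralizer (P : Set G) ≤ Subgroup.normalizer (P : Set G) :=
    sup_le Subgroup.le_normalizer (Subgroup.centralizer_le_normalizer _)
  have hn := normal_of_sup_centralizer (subgroupOf_sup_centralizer P)
  have hm : (P.subgroupOf (P ⊔ Subgroup.centralizer (P : Set G))).map
    (P ⊔ Subgroup.centralizer (P : Set G)).subtype = P := Subgroup.map_subgroupOf_eq_of_le le_sup_left
  constructor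
  · obtain ⟨ξ, h1, h2⟩ := exists_indRel_dg (Subgroup.subtype_injective _)
      (by rw [hm, Subgroup.range_subtype]; exact le_sup_right) (χ := χ) (by rwa [hm])
    exact ⟨_, isDefectGroup_iff.mpr h2, isInducedBlock_iff.mpr h1⟩
  · intro b b' hb hb'
    obtain ⟨ξ, rfl⟩ := hb.1
    obtain ⟨ξ', rfl⟩ := hb'.1
    rw [isInducedBlock_iff] at hb hb'
    have hL : ((P ⊔ Subgroup.centralizer (P : Set G)).subgroupOf
        (Subgroup.normalizer (P : Set G))).Normal := by
      rw [Subgroup.normal_subgroupOf_iff_le_normalizer hLN]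
      intro n hn
      refine mem_normalizer_of_cj_eq ?_
      rw [cj_sup, cj_centralizer, cj_eq_of_mem_normalizer hn]
    let e := Subgroup.subgroupOfEquivOfLe hLN
    have hP' : IsPGroup p (P.subgroupOf (Subgroup.normalizer (P : Set G))) :=
      hP.isPGroup.comap_of_injective _ (Subgroup.subtype_injective _)
    have hC : Subgroup.centralizer (P.subgroupOf (Subgroup.normalizer (P : Set G)) :
        Set (Subgroup.normalizer (P : Set G))) ≤ (P ⊔ Subgroup.centralizer (P : Set G)).subgroupOf
        (Subgroup.normalizer (P : Set G)) := fun x hx => by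
      have := map_mem_centralizer_map (Subgroup.normalizer (P : Set G)).subtype hx
      rw [map_subgroupOf_normalizer] at this
      exact Subgroup.mem_sup_right this
    have key : ∀ ξ, IndRel M (P ⊔ Subgroup.centralizer (P : Set G)).subtype ξ χ →
        ∃ η, Cov _ M η (irrE e ξ) ∧ IndRel M (Subgroup.normalizer (P : Set G)).subtype η χ ∧
          DG p M η (P.subgroupOf (Subgroup.normalizer (P : Set G))) := fun ξ h => by
      obtain ⟨η, h1⟩ := exists_over _ (irrE e ξ)
      have h0 : (P ⊔ Subgroup.centralizer (P : Set G)).subtype.comp (e : _ →* _) =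
          (Subgroup.normalizer (P : Set G)).subtype.comp ((P ⊔ Subgroup.centralizer
            (P : Set G)).subgroupOf (Subgroup.normalizer (P : Set G))).subtype :=
        MonoidHom.ext fun _ => rfl
      have h1' := (indRel_irrE e ξ).trans h
      rw [h0] at h1'
      have h2 := ((h1.cov M).indRel hP' hC).of_comp h1'
      exact ⟨η, h1.cov M, h2, h2.dg_of_normal (Subgroup.subtype_injective _)
        (by rwa [map_subgroupOf_normalizer])⟩
    obtain ⟨η, h1, h2, h3⟩ := key ξ hb
    obtain ⟨η', h4, h5, h6⟩ := key ξ' hb'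
    have h7 := h2.sb_of_dg (Subgroup.subtype_injective _) h5 h3 h6
      (by rw [map_subgroupOf_normalizer, Subgroup.range_subtype])
    obtain ⟨n, hn⟩ := (h1.congr h7 (SB.refl _)).exists_cjI h4
    refine ⟨n, n.2, fun θ hθ => ⟨(irrE e).symm (cjI _ n (irrE e θ)), ?_, fun x hx => rfl⟩⟩
    rw [mem_blockOf, ← SB_irrE e, Equiv.apply_symm_apply]
    exact hn.symm.trans (((SB_irrE e).mpr hθ).cjI n)

end Cfsg.Agent.S0973
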