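import Cfsg.Statements.S0981
import Mathlib
import Cfsg.Agent.H18.Small1

set_option autoImplicit false
open Cfsg

namespace Cfsg.Agent.S0981

/-- A simple group of order 4080 is isomorphic to the projective special linear group of dimension 2 over the field with 16 elements. -/
theorem result {G : Type*} [Group G] [Finite G] [IsSimpleGroup G] (h : Nat.card G = 4080) {F : Type*} [Field F] [Fintype F] (hF : Fintype.card F = 16) : Nonempty (G ≃* Matrix.ProjectiveSpecialLinearGroup (Fin 2) F) := by
  have : Fact (Nat.Prime 17) := ⟨by norm_num⟩
  rcases H18.brauer_reynolds (p := 17) (H18.not_comm_of_not_prime (G := G) (by rw [h]; norm_num))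
    (by rw [h]; norm_num) (by rw [h]; norm_num) with ⟨K, _, _, h1, -, h2⟩ | ⟨m, K, _, _, h1, h2, -, h3⟩
  · have := H18.card_of_psl2 h1 h2
    rw [h] at this
    norm_num at this
  · exact H18.psl2_transfer (by omega) h3

end Cfsg.Agent.S0981
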