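import Cfsg.Statements.S0983
import Mathlib
import Cfsg.Agent.H18.Sieve4

set_option autoImplicit false
open Cfsg

namespace Cfsg.Agent.S0983

theorem c1 : (List.range' 3641 650).all
    (fun n => [4080, 4320, 5400, 5616, 6048, 6072].contains n || H18.Sv.chk 80 n) = true := by
  decide +kernel

theorem c2 : (List.range' 4291 650).all
    (fun n => [4080, 4320, 5400, 5616, 6048, 6072].contains n || H18.Sv.chk 80 n) = true := by
  decide +kernel

theorem c3 : (List.range' 4941 650).all
    (fun n => [4080, 4320, 5400, 5616, 6048, 6072].contains n || H18.Sv.chk 80 n) = true := by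
  decide +kernel

theorem c4 : (List.range' 5591 650).all
    (fun n => [4080, 4320, 5400, 5616, 6048, 6072].contains n || H18.Sv.chk 80 n) = true := by
  decide +kernel

/-- A non-abelian finite simple group of order greater than 3640 and at most 6232 has order 4080, 5616, 6048 or 6072. -/
theorem result {G : Type*} [Group G] [Finite G] [IsSimpleGroup G] (hG : ¬ IsMulCommutative G) (h1 : 3640 < Nat.card G) (h2 : Nat.card G ≤ 6232) : Nat.card G = 4080 ∨ Nat.card G = 5616 ∨ Nat.card G = 6048 ∨ Nat.card G = 6072 := by
  have h3 := H18.card_ne_4320 (G := G)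
  have h4 := H18.card_ne_5400 (G := G)
  have h5 : Nat.card G ∈ [4080, 4320, 5400, 5616, 6048, 6072] := by
    by_cases h6 : Nat.card G < 4291
    · exact H18.Sv.card_mem hG 80 _ _ _ c1 h1 h6
    by_cases h7 : Nat.card G < 4941
    · exact H18.Sv.card_mem hG 80 _ _ _ c2 (by omega) h7
    by_cases h8 : Nat.card G < 5591
    · exact H18.Sv.card_mem hG 80 _ _ _ c3 (by omega) h8
    · exact H18.Sv.card_mem hG 80 _ _ _ c4 (by omega) (by omega)
  simpa [h3, h4] using h5

end Cfsg.Agent.S0983
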