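import Cfsg.Statements.S0986
import Mathlib
import Cfsg.Agent.H18.Basic

set_option autoImplicit false
open Cfsg

namespace Cfsg.Agent.S0986

/-- Let P and Q be distinct Sylow p-subgroups of a finite group G chosen so that the order of P ∩ Q is as large as possible among intersections of two distinct Sylow p-subgroups, and let N be the normalizer of P ∩ Q. Then N has more than one Sylow p-subgroup, any two distinct Sylow p-subgroups of N intersect exactly in P ∩ Q, and each Sylow p-subgroup of N lies in exactly one Sylow p-subgroup of G. -/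
theorem result {G : Type*} [Group G] [Finite G] (p : ℕ) [Fact p.Prime] (P Q : Sylow p G) (hPQ : P ≠ Q) (hmax : ∀ P' Q' : Sylow p G, P' ≠ Q' → Nat.card ↥((P' : Subgroup G) ⊓ (Q' : Subgroup G)) ≤ Nat.card ↥((P : Subgroup G) ⊓ (Q : Subgroup G))) : 1 < Nat.card (Sylow p ↥(Subgroup.normalizer (((P : Subgroup G) ⊓ (Q : Subgroup G) : Subgroup G) : Set G))) ∧ (∀ S T : Sylow p ↥(Subgroup.normalizer (((P : Subgroup G) ⊓ (Q : Subgroup G) : Subgroup G) : Set G)), S ≠ T → (S : Subgroup _) ⊓ (T : Subgroup _) = ((P : Subgroup G) ⊓ (Q : Subgroup G)).subgroupOf (Subgroup.normalizer (((P : Subgroup G) ⊓ (Q : Subgroup G) : Subgroup G) : Set G))) ∧ ∀ S : Sylow p ↥(Subgroup.normalizer (((P : Subgroup G) ⊓ (Q : Subgroup G) : Subgroup G) : Set G)), ∃! T : Sylow p G, (S : Subgroup _).map (Subgroup.normalizer (((P : Subgroup G) ⊓ (Q : Subgroup G) : Subgroup G) : Set G)).subtype ≤ (T : Subgroup G) := by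
  classical
  set D : Subgroup G := (P : Subgroup G) ⊓ (Q : Subgroup G) with hD
  set N : Subgroup G := Subgroup.normalizer (D : Set G) with hN
  have hDN : D ≤ N := Subgroup.le_normalizer
  have hDp : IsPGroup p D := P.2.to_le inf_le_left
  have hDS : ∀ S : Sylow p N, D.subgroupOf N ≤ S := fun S =>
    haveI : (D.subgroupOf N).Normal := Subgroup.normal_in_normalizer
    IsPGroup.le_sylow_of_normal (N := D.subgroupOf N) hDp.comap_subtype S
  have hlt : ∀ R : Sylow p G, D < R → Nat.card D < Nat.card ((R : Subgroup G) ⊓ N : Subgroup G) :=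
    fun R hR => by
      have := H18.lt_inf_normalizer_of_isPGroup R.2 hR
      exact lt_of_le_of_ne (Subgroup.card_le_of_le this.le) fun h =>
        this.ne (Subgroup.eq_of_le_of_card_ge this.le h.ge)
  have hDP : D < P := lt_of_le_of_ne inf_le_left fun h =>
    hPQ (H18.sylow_eq_of_le (h ▸ inf_le_right))
  have hDQ : D < Q := lt_of_le_of_ne inf_le_right fun h =>
    hPQ (H18.sylow_eq_of_le (h ▸ inf_le_left)).symm
  have huniq : ∀ (X : Subgroup G) (T T' : Sylow p G), Nat.card D < Nat.card X → X ≤ T → X ≤ T' →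
      T = T' := fun X T T' hX h1 h2 => by
    by_contra hne
    have h3 := hmax T T' hne
    have h4 : Nat.card X ≤ Nat.card ((T : Subgroup G) ⊓ (T' : Subgroup G) : Subgroup G) :=
      Subgroup.card_le_of_le (le_inf h1 h2)
    omega
  have hex : ∀ R : Sylow p G, ∃ S : Sylow p N,
      (R : Subgroup G) ⊓ N ≤ (S : Subgroup N).map N.subtype := fun R => by
    obtain ⟨S, hS⟩ := (R.2.comap_subtype (K := N)).exists_le_sylow
    refine ⟨S, fun x hx => ⟨⟨x, hx.2⟩, hS hx.1, rfl⟩⟩
  have hSle : ∀ S : Sylow p N, ∃ T : Sylow p G, (S : Subgroup N).map N.subtype ≤ T := fun S =>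
    (S.2.map N.subtype).exists_le_sylow
  have hSbig : ∀ S : Sylow p N, Nat.card D < Nat.card ((S : Subgroup N).map N.subtype) := by
    intro S
    obtain ⟨S', hS'⟩ := hex P
    have h1 := Subgroup.card_le_of_le hS'
    rw [Subgroup.card_map_of_injective N.subtype_injective] at h1 ⊢
    rw [H18.card_sylow_eq S S']
    exact (hlt P hDP).trans_le h1
  refine ⟨?_, ?_, ?_⟩
  · rw [Finite.one_lt_card_iff_nontrivial]
    obtain ⟨S, hS⟩ := hex P
    obtain ⟨S', hS'⟩ := hex Q
    refine ⟨S, S', fun h => hPQ ?_⟩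
    subst h
    obtain ⟨T, hT⟩ := hSle S
    rw [huniq _ P T (hlt P hDP) inf_le_left (hS.trans hT),
      huniq _ Q T (hlt Q hDQ) inf_le_left (hS'.trans hT)]
  · intro S S' hne
    obtain ⟨T, hT⟩ := hSle S
    obtain ⟨T', hT'⟩ := hSle S'
    have hTT : T ≠ T' := by
      rintro rfl
      have e1 := S.3 (T.2.comap_subtype (K := N)) (Subgroup.map_le_iff_le_comap.1 hT)
      have e2 := S'.3 (T.2.comap_subtype (K := N)) (Subgroup.map_le_iff_le_comap.1 hT')
      exact hne (Sylow.ext (e1.symm.trans e2))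
    symm
    apply Subgroup.eq_of_le_of_card_ge (le_inf (hDS S) (hDS S'))
    rw [Nat.card_congr (Subgroup.subgroupOfEquivOfLe hDN).toEquiv,
      ← Subgroup.card_map_of_injective N.subtype_injective]
    refine le_trans (Subgroup.card_le_of_le ?_) (hmax T T' hTT)
    exact le_inf ((Subgroup.map_mono inf_le_left).trans hT)
      ((Subgroup.map_mono inf_le_right).trans hT')
  · intro S
    obtain ⟨T, hT⟩ := hSle S
    exact ⟨T, hT, fun T' hT' => huniq _ T' T (hSbig S) hT' hT⟩

end Cfsg.Agent.S0986
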