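import Cfsg.Statements.S0987
import Mathlib
import Cfsg.Agent.H18.Basic

set_option autoImplicit false
open Cfsg

namespace Cfsg.Agent.S0987

/-- If a finite group has order pqr for primes p < q < r, then its Sylow r-subgroups are normal. -/
theorem result {G : Type*} [Group G] [Finite G] (p q r : ℕ) (hp : p.Prime) (hq : q.Prime) [Fact r.Prime] (hpq : p < q) (hqr : q < r) (hG : Nat.card G = p * q * r) (R : Sylow r G) : (R : Subgroup G).Normal := by
  have hr : r.Prime := Fact.out
  have := Fact.mk hp
  have hmin : (Nat.card G).minFac = p := by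
    rw [hG]
    have h1 : (p * q * r).minFac.Prime := Nat.minFac_prime (by
      have := hp.two_le; have := hq.two_le; have := hr.two_le; nlinarith [Nat.mul_le_mul hp.two_le hq.two_le])
    refine le_antisymm (Nat.minFac_le_of_dvd hp.two_le ⟨q * r, by ring⟩) ?_
    rcases (Nat.Prime.dvd_mul h1).1 (Nat.minFac_dvd (p * q * r)) with h | h
    · rcases (Nat.Prime.dvd_mul h1).1 h with h | h
      · exact ((Nat.prime_dvd_prime_iff_eq h1 hp).1 h).ge
      · rw [(Nat.prime_dvd_prime_iff_eq h1 hq).1 h]; omega
    · rw [(Nat.prime_dvd_prime_iff_eq h1 hr).1 h]; omega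
  obtain ⟨P⟩ : Nonempty (Sylow p G) := inferInstance
  have hfac : ∀ a b c : ℕ, a.Prime → b.Prime → c.Prime → a ≠ b → a ≠ c →
      (a * b * c).factorization a = 1 := fun a b c ha hb hc h1 h2 => by
    rw [Nat.factorization_mul (mul_pos ha.pos hb.pos).ne' hc.ne_zero,
      Nat.factorization_mul ha.ne_zero hb.ne_zero, ha.factorization, hb.factorization,
      hc.factorization]
    simp [h1.symm, h2.symm]
  have hPc : Nat.card (P : Subgroup G) = p := by
    rw [P.card_eq_multiplicity, hG, hfac p q r hp hq hr (by omega) (by omega), pow_one]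
  have hRc : Nat.card (R : Subgroup G) = r := by
    rw [R.card_eq_multiplicity, hG, show p * q * r = r * p * q by ring,
      hfac r p q hr hp hq (by omega) (by omega), pow_one]
  have hPcyc : IsCyclic (P : Subgroup G) := isCyclic_of_prime_card hPc
  have hc := IsCyclic.isComplement' hmin hPcyc
  set N := (MonoidHom.transferSylow P (hPcyc.normalizer_le_centralizer hmin)).ker
  have hNi : N.index = p := by rw [hc.symm.index_eq_card, hPc]
  have hNc : Nat.card N = q * r := by
    have := N.index_mul_card
    rw [hNi, hG, mul_assoc] at this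
    exact Nat.eq_of_mul_eq_mul_left hp.pos this
  have hRN : (R : Subgroup G) ≤ N := by
    intro x hx
    rw [← QuotientGroup.eq_one_iff, ← orderOf_eq_one_iff]
    have h1 : orderOf (x : G ⧸ N) ∣ p := (orderOf_dvd_natCard _).trans (dvd_of_eq hNi)
    have h2 : orderOf (x : G ⧸ N) ∣ r :=
      (orderOf_map_dvd (QuotientGroup.mk' N) x).trans (hRc ▸ Subgroup.orderOf_dvd_natCard _ hx)
    exact Nat.eq_one_of_dvd_coprimes ((Nat.coprime_primes hp hr).2 (by omega)) h1 h2
  have hRi : ((R.subtype hRN : Sylow r N) : Subgroup N).index = q := by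
    have := ((R.subtype hRN : Sylow r N) : Subgroup N).index_mul_card
    rw [hNc, Sylow.coe_subtype, Nat.card_congr (Subgroup.subgroupOfEquivOfLe hRN).toEquiv,
      hRc] at this
    exact Nat.eq_of_mul_eq_mul_right hr.pos this
  have hn : ((R.subtype hRN : Sylow r N) : Subgroup N).Normal := by
    apply Subgroup.normal_of_index_eq_minFac_card
    rw [hRi, hNc]
    have h1 : (q * r).minFac.Prime := Nat.minFac_prime (by
      have := hq.two_le; have := hr.two_le; nlinarith)
    refine le_antisymm ?_ (Nat.minFac_le_of_dvd hq.two_le ⟨r, rfl⟩)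
    rcases (Nat.Prime.dvd_mul h1).1 (Nat.minFac_dvd (q * r)) with h | h
    · exact ((Nat.prime_dvd_prime_iff_eq h1 hq).1 h).ge
    · rw [(Nat.prime_dvd_prime_iff_eq h1 hr).1 h]; omega
  have hch := Sylow.characteristic_of_normal _ hn
  have h3 : (((R.subtype hRN : Sylow r N) : Subgroup N).map N.subtype).Normal := inferInstance
  rwa [Sylow.coe_subtype, Subgroup.subgroupOf_map_subtype, inf_eq_left.2 hRN] at h3

end Cfsg.Agent.S0987
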