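import Cfsg.Statements.S0988
import Mathlib
import Cfsg.Agent.H18.Small1

set_option autoImplicit false
open Cfsg

namespace Cfsg.Agent.S0988

/-- If a finite simple group has order p^2 * q * r with p, q and r prime, then its order is 60. -/
theorem result {G : Type*} [Group G] [Finite G] [IsSimpleGroup G] (p q r : ℕ) (hp : p.Prime) (hq : q.Prime) (hr : r.Prime) (hG : Nat.card G = p ^ 2 * q * r) : Nat.card G = 60 := by
  have hc : ¬ IsMulCommutative G := H18.not_comm_of_not_prime (by
    rw [hG]
    exact Nat.not_prime_mul (fun h => hq.one_lt.ne' (Nat.eq_one_of_mul_eq_one_left h)) hr.one_lt.ne')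
  have hB : ∀ a b i j : ℕ, a.Prime → b.Prime → Nat.card G ≠ a ^ i * b ^ j := fun a b i j ha hb h =>
    hc ⟨⟨(IsSimpleGroup.comm_iff_isSolvable).2 (H4.burnside_paqb ha hb h)⟩⟩
  have h1 : q ≠ p := by rintro rfl; exact hB q r 3 1 hq hr (by rw [hG]; ring)
  have h2 : p ≠ r := by rintro rfl; exact hB p q 3 1 hp hq (by rw [hG]; ring)
  have h3 : q ≠ r := by rintro rfl; exact hB p q 2 2 hp hq (by rw [hG]; ring)
  refine (H18.card_of_prq hc (b := 2) hq hp hr h1 h3 h2 (by rw [hG]; ring)).resolve_right fun h => ?_
  have h4 := congrArg ArithmeticFunction.cardFactors (hG.symm.trans h)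
  have := hp.pos
  have := hq.pos
  rw [ArithmeticFunction.cardFactors_mul (by positivity) hr.ne_zero,
    ArithmeticFunction.cardFactors_mul (by positivity) hq.ne_zero,
    ArithmeticFunction.cardFactors_apply_prime_pow hp, ArithmeticFunction.cardFactors_apply_prime hq,
    ArithmeticFunction.cardFactors_apply_prime hr, ArithmeticFunction.cardFactors_apply] at h4
  simp at h4

end Cfsg.Agent.S0988
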