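import Cfsg.Statements.S0993
import Mathlib
import Cfsg.Agent.H18.Eight
import Cfsg.Agent.S0483
import Cfsg.Agent.S0506

set_option autoImplicit false
open Cfsg

namespace Cfsg.Agent.S0993

/-- A non-abelian finite simple group with Sylow 2-subgroups of order 8 is isomorphic to the projective special linear group of dimension 2 over the field with 8 elements or over a field with q ≡ 7 or 9 modulo 16 elements, or to the alternating group of degree 7, or is simple of order 175560, or simple with the order of a Ree group in characteristic 3. -/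
theorem result {G : Type*} [Group G] [Finite G] [IsSimpleGroup G] (hG : ¬ IsMulCommutative G) (T : Sylow 2 G) (hT : Nat.card ↥(T : Subgroup G) = 8) : (∃ (F : Type) (_ : Field F) (_ : Fintype F), Fintype.card F = 8 ∧ Nonempty (G ≃* Matrix.ProjectiveSpecialLinearGroup (Fin 2) F)) ∨ (∃ (F : Type) (_ : Field F) (_ : Fintype F), (Fintype.card F % 16 = 7 ∨ Fintype.card F % 16 = 9) ∧ Nonempty (G ≃* Matrix.ProjectiveSpecialLinearGroup (Fin 2) F)) ∨ Nonempty (G ≃* alternatingGroup (Fin 7)) ∨ Cfsg.IsJ1 G ∨ Cfsg.IsRee G := by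
  by_cases hab : IsMulCommutative (T : Subgroup G)
  · rcases Cfsg.Agent.S0506.result hG T hab with ⟨a, ha, F, _, _, hF, ⟨e⟩⟩ | ⟨F, _, _, hF, ⟨e⟩⟩ | h | h
    · exact .inl ⟨F, _, _, (H18.psl_card_eight T hT e).1 a ha hF, ⟨e⟩⟩
    · have := (H18.psl_card_eight T hT e).2 (Nat.odd_iff.2 (by omega))
      omega
    · exact .inr (.inr (.inr (.inr h)))
    · exact .inr (.inr (.inr (.inl h)))
  · have hp : Group.IsPerfect G := by
      refine ⟨(IsSimpleGroup.eq_bot_or_eq_top_of_normal _ inferInstance).resolve_left fun h => ?_⟩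
      exact hG (H24.abl_iff.1 (H24.der1_eq_bot.1 h) |> fun h' => ⟨⟨fun a b =>
        H24.comm_of_cent h' (Subgroup.mem_top a) (Subgroup.mem_top b)⟩⟩)
    have hO : Cfsg.oddCore G = ⊥ := by
      refine (IsSimpleGroup.eq_bot_or_eq_top_of_normal _ inferInstance).resolve_right fun h => ?_
      have h1 := H17.odd_card_pPrimeCore (G := G)
      have h2 := T.1.card_subgroup_dvd_card
      rw [show Cfsg.pPrimeCore 2 G = ⊤ from h, Subgroup.card_top] at h1
      exact (h1.of_dvd_nat (hT ▸ h2)).not_two_dvd_nat (by norm_num)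
    have e₀ : G ≃* G ⧸ Cfsg.oddCore G :=
      (QuotientGroup.quotientBot.symm).trans (QuotientGroup.quotientMulEquivOfEq hO.symm)
    rcases Cfsg.Agent.S0483.result T 4 (by norm_num) (H18.dihedral_of_card_eight hG T hT hab) with
      ⟨F, _, _, hF, -, ⟨e⟩⟩ | ⟨⟨e⟩⟩
    · exact .inr (.inl ⟨F, _, _, (H18.psl_card_eight T hT (e₀.trans e)).2 hF, ⟨e₀.trans e⟩⟩)
    · exact .inr (.inr (.inl ⟨e₀.trans e⟩))

end Cfsg.Agent.S0993
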