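import Cfsg.Statements.S0998
import Mathlib
import Cfsg.Agent.H18.Small1

set_option autoImplicit false
open Cfsg

namespace Cfsg.Agent.S0998

/-- A non-cyclic finite simple group whose order has the form p * r * q^b for distinct primes p, q, r is isomorphic to the projective special linear group of dimension 2 over the field with 5 or with 7 elements. -/
theorem result {G : Type*} [Group G] [Finite G] [IsSimpleGroup G] (hG : ¬ IsCyclic G) (p q r b : ℕ) (hp : p.Prime) (hq : q.Prime) (hr : r.Prime) (hpq : p ≠ q) (hpr : p ≠ r) (hqr : q ≠ r) (hG' : Nat.card G = p * r * q ^ b) : (∃ (F : Type) (_ : Field F) (_ : Fintype F), Fintype.card F = 5 ∧ Nonempty (G ≃* Matrix.ProjectiveSpecialLinearGroup (Fin 2) F)) ∨ (∃ (F : Type) (_ : Field F) (_ : Fintype F), Fintype.card F = 7 ∧ Nonempty (G ≃* Matrix.ProjectiveSpecialLinearGroup (Fin 2) F)) := by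
  have : Fact (Nat.Prime 5) := ⟨by norm_num⟩
  have : Fact (Nat.Prime 7) := ⟨by norm_num⟩
  rcases H18.card_of_prq (H18.not_comm_of_not_isCyclic hG) hp hq hr hpq hpr hqr hG' with h | h
  · exact Or.inl ⟨ZMod 5, inferInstance, inferInstance, ZMod.card 5,
      H18.psl2_of_card (p := 5) (d := 2) h (by norm_num) (by norm_num) (by norm_num) (by norm_num)
        (by norm_num) (by decide +kernel) _ (ZMod.card 5)⟩
  · exact Or.inr ⟨ZMod 7, inferInstance, inferInstance, ZMod.card 7,
      H18.psl2_of_card (p := 7) (d := 3) h (by norm_num) (by norm_num) (by norm_num) (by norm_num)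
        (by norm_num) (by decide +kernel) _ (ZMod.card 7)⟩

end Cfsg.Agent.S0998
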