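import Cfsg.Statements.S1000
import Mathlib
import Cfsg.Agent.H8.K3G
import Cfsg.Agent.H19.K3Big
import Cfsg.Agent.H16.K3T

set_option autoImplicit false
open Cfsg

namespace Cfsg.Agent.S1000

/-- A non-abelian finite simple group whose order has the form p * 3^a * 2^b with p prime is isomorphic to one of: the alternating group of degree 5 or 6, the projective symplectic group of dimension 4 over the field with 3 elements, the projective special linear group of dimension 2 over the field with 7, 8 or 17 elements, the projective special unitary group of dimension 3 over the field with 9 elements, or the projective special linear group of dimension 3 over the field with 3 elements. -/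
theorem result {G : Type*} [Group G] [Finite G] [IsSimpleGroup G] (hG : ¬ IsMulCommutative G) (p a b : ℕ) (hp : p.Prime) (hG' : Nat.card G = p * 3 ^ a * 2 ^ b) : Nonempty (G ≃* alternatingGroup (Fin 5)) ∨ Nonempty (G ≃* alternatingGroup (Fin 6)) ∨ (∃ (F : Type) (_ : Field F) (_ : Fintype F), Fintype.card F = 3 ∧ Nonempty (G ≃* Cfsg.PSp 2 F)) ∨ (∃ (F : Type) (_ : Field F) (_ : Fintype F), (Fintype.card F = 7 ∨ Fintype.card F = 8 ∨ Fintype.card F = 17) ∧ Nonempty (G ≃* Matrix.ProjectiveSpecialLinearGroup (Fin 2) F)) ∨ (∃ (F : Type) (_ : Field F) (_ : Fintype F), Fintype.card F = 9 ∧ Nonempty (G ≃* Cfsg.PSU 3 F 3)) ∨ (∃ (F : Type) (_ : Field F) (_ : Fintype F), Fintype.card F = 3 ∧ Nonempty (G ≃* Matrix.ProjectiveSpecialLinearGroup (Fin 3) F)) := by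
  refine H18.K3.induct (P := fun G _ => H8.K3.Concl G) ?_ ?_ G ⟨‹_›, hG, p, a, b, hp, hG'⟩
  · intro G _ _ h h2
    have := h.1
    exact H8.K3.of_rank2 h.2.1 h.2.2 h2
  · intro G _ _ p a b h _ IH
    have := h.simple
    by_cases th : H16.K3T.Thin G
    · exact H16.K3T.thin h th IH
    · unfold H16.K3T.Thin at th
      push Not at th
      obtain ⟨t, ht, B, hB, hBt, h9⟩ := th
      obtain ⟨z, hz, hQ, hw⟩ := H19.K3.big h ht hB h9 hBt
      exact H8.K3.of_sympl h.na ⟨p, a, b, h.prime, h.card⟩ hz hQ hw

end Cfsg.Agent.S1000
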