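import Cfsg.Statements.S1001
import Mathlib
import Cfsg.Agent.H18.Blk

set_option autoImplicit false
open Cfsg

namespace Cfsg.Agent.S1001

/-- In a finite simple group whose order has the form p * 3^a * 2^b with p prime, the centralizer of any element of order p is the cyclic group it generates. -/
theorem result {G : Type*} [Group G] [Finite G] [IsSimpleGroup G] (p a b : ℕ) (hp : p.Prime) (hG : Nat.card G = p * 3 ^ a * 2 ^ b) (x : G) (hx : orderOf x = p) : Subgroup.centralizer ({x} : Set G) = Subgroup.zpowers x := by
  by_cases hc : IsMulCommutative G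
  · let _ : CommGroup G := { (inferInstance : Group G) with mul_comm := hc.is_comm.comm }
    have h1 : (Nat.card G).Prime := IsSimpleGroup.prime_card
    have h2 : Subgroup.zpowers x = ⊤ := by
      refine (Subgroup.eq_bot_or_eq_top_of_prime_card (hp := ⟨h1⟩) _).resolve_left fun h => ?_
      rw [Subgroup.zpowers_eq_bot] at h
      rw [h, orderOf_one] at hx
      exact hp.one_lt.ne hx
    rw [h2, eq_top_iff]
    intro y _
    rw [Subgroup.mem_centralizer_singleton_iff]
    exact hc.is_comm.comm _ _
  · have hs : ∀ (h : p = 3 ∨ p = 2), False := fun h => by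
      have : Group.IsSolvable G := H4.isSolvable_of_primes Nat.prime_three Nat.prime_two
        fun r hr hd => by
          rw [hG] at hd
          rcases (Nat.Prime.dvd_mul hr).1 hd with h1 | h1
          · rcases (Nat.Prime.dvd_mul hr).1 h1 with h1 | h1
            · rw [(Nat.prime_dvd_prime_iff_eq hr hp).1 h1]; exact h
            · exact .inl ((Nat.prime_dvd_prime_iff_eq hr Nat.prime_three).1 (hr.dvd_of_dvd_pow h1))
          · exact .inr ((Nat.prime_dvd_prime_iff_eq hr Nat.prime_two).1 (hr.dvd_of_dvd_pow h1))
      exact hc ⟨⟨IsSimpleGroup.comm_iff_isSolvable.2 this⟩⟩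
    exact H18.centralizer_eq_zpowers_of_three_primes hc (a := a) (b := b) Nat.prime_three
      Nat.prime_two hp (fun h => hs (.inl h.symm)) (fun h => hs (.inr h.symm))
      (by rw [hG]; ring) hx

end Cfsg.Agent.S1001
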