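import Cfsg.Statements.S1005
import Mathlib
import Cfsg.Agent.H18.G168a

set_option autoImplicit false
open Cfsg

namespace Cfsg.Agent.S1005

/-- In a simple group of order 168 every element has order 1, 2, 3, 4 or 7; there are exactly 21 elements of order 2, and any two of them are conjugate. -/
theorem result {G : Type*} [Group G] [Finite G] [IsSimpleGroup G] (h : Nat.card G = 168) : (∀ g : G, orderOf g = 1 ∨ orderOf g = 2 ∨ orderOf g = 3 ∨ orderOf g = 4 ∨ orderOf g = 7) ∧ Nat.card {g : G // orderOf g = 2} = 21 ∧ ∀ s t : G, orderOf s = 2 → orderOf t = 2 → IsConj s t := by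
  obtain ⟨a, -, -, h2, -, -, h3⟩ := H18.G168.classes h
  refine ⟨fun g => ?_, ?_, fun s t hs ht => (h3.le hs).symm.trans (h3.le ht)⟩
  · by_cases h1 : orderOf g = 1
    · exact Or.inl h1
    obtain ⟨q, hq, hd⟩ := Nat.exists_prime_and_dvd h1
    have h4 := H18.prime_of_dvd_orderOf h hq hd
    rw [show Nat.primeFactors 168 = {2, 3, 7} by decide +kernel] at h4
    simp only [Finset.mem_insert, Finset.mem_singleton] at h4
    rcases h4 with rfl | rfl | rfl
    · have := H18.G168.orderOf_dvd_four h hd; omega
    · have := H18.G168.ord3 h hd; omega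
    · have := H18.G168.ord7 h hd; omega
  · rw [← h3] at h2
    exact h2

end Cfsg.Agent.S1005
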