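import Cfsg.Statements.S1006
import Mathlib
import Cfsg.Agent.H18.G168a

set_option autoImplicit false
open Cfsg

namespace Cfsg.Agent.S1006

/-- In a simple group of order 168 there are 56 elements of order 3, all conjugate; 42 elements of order 4, all conjugate; and 48 elements of order 7 falling into two conjugacy classes of size 24, an element of order 7 not being conjugate to its inverse. -/
theorem result {G : Type*} [Group G] [Finite G] [IsSimpleGroup G] (h : Nat.card G = 168) : Nat.card {g : G // orderOf g = 3} = 56 ∧ (∀ s t : G, orderOf s = 3 → orderOf t = 3 → IsConj s t) ∧ Nat.card {g : G // orderOf g = 4} = 42 ∧ (∀ s t : G, orderOf s = 4 → orderOf t = 4 → IsConj s t) ∧ Nat.card {g : G // orderOf g = 7} = 48 ∧ ∀ x : G, orderOf x = 7 → Nat.card {g : G // IsConj x g} = 24 ∧ ¬ IsConj x x⁻¹ := by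
  obtain ⟨a, -, h1, -, -, h2, -⟩ := H18.G168.classes h
  refine ⟨H18.G168.card3 h, fun s t hs ht => ?_, by rw [← h2] at h1; exact h1,
    fun s t hs ht => (h2.le hs).symm.trans (h2.le ht), H18.G168.card7 h, fun x hx => ?_⟩
  · obtain ⟨-, x, hx⟩ := H18.G168.three h
    have h3 := H18.ncard_isConj s
    rw [(hx.of_orderOf hs).cent, Nat.card_zpowers, hs, h] at h3
    exact (Set.eq_of_subset_of_ncard_le (s := {g | IsConj s g}) (t := {g | orderOf g = 3})
      (fun g hg => (H17.orderOf_eq_of_isConj hg).symm.trans hs)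
      (by rw [H18.G168.card3 h]; omega)).ge ht
  · obtain ⟨h3, y, hy⟩ := H18.G168.seven h
    have h4 := hy.of_orderOf hx
    have h5 := H18.card_centralizer_mul_card_isConj x
    have h6 := h4.card_eq
    rw [h4.cent, Nat.card_zpowers, hx, h] at h5
    rw [h3, h] at h6
    refine ⟨by omega, fun hc => ?_⟩
    have h7 : (-1 : (ZMod 7)ˣ) ∈ H18.Aut h4.ord := by
      rw [H18.mem_Aut, Units.val_neg, Units.val_one, H18.xp_neg hx, H18.xp_one]
      exact hc
    have h8 := orderOf_dvd_iff_pow_eq_one.1 (Subgroup.orderOf_dvd_natCard _ h7)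
    rw [show Nat.card (H18.Aut h4.ord) = 3 by omega] at h8
    exact absurd h8 (by decide)

end Cfsg.Agent.S1006
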