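import Cfsg.Statements.S1007
import Mathlib
import Cfsg.Agent.H18.G168b

set_option autoImplicit false
open Cfsg

namespace Cfsg.Agent.S1007

/-- Let G be a simple group of order 168 and T a Sylow 2-subgroup. Then T contains exactly two subgroups that are Klein four-groups; they are not conjugate in G; and the normalizer of every Klein four-subgroup of G is isomorphic to the symmetric group of degree 4. -/
theorem result {G : Type*} [Group G] [Finite G] [IsSimpleGroup G] (h : Nat.card G = 168) (T : Sylow 2 G) : Nat.card {U : Subgroup G // U ≤ (T : Subgroup G) ∧ IsKleinFour ↥U} = 2 ∧ (∀ U W : Subgroup G, U ≤ (T : Subgroup G) → W ≤ (T : Subgroup G) → IsKleinFour ↥U → IsKleinFour ↥W → U ≠ W → ∀ g : G, U.map (MulAut.conj g).toMonoidHom ≠ W) ∧ ∀ U : Subgroup G, IsKleinFour ↥U → Nonempty (↥(Subgroup.normalizer (U : Set G)) ≃* Equiv.Perm (Fin 4)) := by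
  refine ⟨?_, H18.G168.not_conj h T, fun U hU =>
    H18.G168.equiv_S4 h (H18.G168.card_normalizer_klein h hU)⟩
  obtain ⟨A, B, h1, h2, h3, h4⟩ := H18.G168.two_klein h T
  refine Nat.card_eq_two_iff.2 ⟨⟨A, h2⟩, ⟨B, h3⟩, fun hc => h1 (congrArg Subtype.val hc), ?_⟩
  refine Set.eq_univ_of_forall fun U => ?_
  exact (h4 U.1 U.2.1 U.2.2).imp Subtype.ext Subtype.ext

end Cfsg.Agent.S1007
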