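import Cfsg.Statements.S1008
import Mathlib
import Cfsg.Agent.H18.G168b

set_option autoImplicit false
open Cfsg

namespace Cfsg.Agent.S1008

open scoped Pointwise

/-- In a simple group of order 168 every maximal subgroup is either isomorphic to the symmetric group of degree 4 or non-abelian of order 21; the maximal subgroups of order 21 form one conjugacy class and those isomorphic to the symmetric group of degree 4 form exactly two conjugacy classes. -/
theorem result {G : Type*} [Group G] [Finite G] [IsSimpleGroup G] (h : Nat.card G = 168) : (∀ M : Subgroup G, IsCoatom M → Nonempty (↥M ≃* Equiv.Perm (Fin 4)) ∨ (Nat.card ↥M = 21 ∧ ¬ IsMulCommutative ↥M)) ∧ (∀ M M' : Subgroup G, IsCoatom M → IsCoatom M' → Nat.card ↥M = 21 → Nat.card ↥M' = 21 → ∃ g : G, M' = M.map (MulAut.conj g).toMonoidHom) ∧ ∃ M₁ M₂ : Subgroup G, IsCoatom M₁ ∧ IsCoatom M₂ ∧ Nonempty (↥M₁ ≃* Equiv.Perm (Fin 4)) ∧ Nonempty (↥M₂ ≃* Equiv.Perm (Fin 4)) ∧ (∀ g : G, M₂ ≠ M₁.map (MulAut.conj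 g).toMonoidHom) ∧ ∀ M : Subgroup G, IsCoatom M → Nonempty (↥M ≃* Equiv.Perm (Fin 4)) → ∃ g : G, M = M₁.map (MulAut.conj g).toMonoidHom ∨ M = M₂.map (MulAut.conj g).toMonoidHom := by
  have h24 : ∀ M : Subgroup G, Nonempty (M ≃* Equiv.Perm (Fin 4)) → Nat.card M = 24 :=
    fun M ⟨e⟩ => by rw [Nat.card_congr e.toEquiv, Nat.card_perm, Nat.card_fin]; rfl
  have hS := fun (U : Subgroup G) hU =>
    H18.G168.equiv_S4 h (H18.G168.card_normalizer_klein h (U := U) hU)
  refine ⟨fun M hM => ?_, fun M M' hM hM' h1 h2 => ?_, ?_⟩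
  · rcases H18.G168.coatom_cases h hM with ⟨U, hU, rfl⟩ | ⟨P, rfl⟩
    · exact Or.inl (hS U hU)
    · refine Or.inr ⟨H18.G168.card_normalizer_seven h P, fun hc =>
        H18.not_normalizer_le_centralizer (H18.G168.nc h) (by rw [h]; norm_num) P fun g hg =>
          Subgroup.mem_centralizer_iff.2 fun u hu => ?_⟩
      exact congrArg Subtype.val (hc.1.1 ⟨u, Subgroup.le_normalizer hu⟩ ⟨g, hg⟩)
  · rcases H18.G168.coatom_cases h hM with ⟨U, hU, rfl⟩ | ⟨P, rfl⟩
    · rw [H18.G168.card_normalizer_klein h hU] at h1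
      omega
    rcases H18.G168.coatom_cases h hM' with ⟨U, hU, rfl⟩ | ⟨Q, rfl⟩
    · rw [H18.G168.card_normalizer_klein h hU] at h2
      omega
    obtain ⟨g, rfl⟩ := MulAction.exists_smul_eq G P Q
    exact ⟨g, H18.normalizer_smul _ g⟩
  · obtain ⟨T⟩ : Nonempty (Sylow 2 G) := inferInstance
    obtain ⟨A, B, h1, h2, h3, h4⟩ := H18.G168.two_klein h T
    refine ⟨_, _, H18.G168.isCoatom_normalizer h h2.2, H18.G168.isCoatom_normalizer h h3.2,
      hS A h2.2, hS B h3.2, fun g hg => ?_, fun M hM hM' => ?_⟩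
    · rw [H18.map_conj_eq, ← H18.normalizer_smul] at hg
      exact H18.G168.not_conj h T A B h2.1 h3.1 h2.2 h3.2 h1 g (H18.G168.eq_of_normalizer_eq h h3.2
        (H18.klein_map (MulAut.conj g).injective h2.2) hg).symm
    rcases H18.G168.coatom_cases h hM with ⟨U, hU, rfl⟩ | ⟨P, rfl⟩
    · obtain ⟨S, hUS⟩ := (H18.G168.isPGroup_klein hU).exists_le_sylow
      obtain ⟨g, rfl⟩ := MulAction.exists_smul_eq G T S
      have h5 : MulAut.conj g⁻¹ • U ≤ T := by
        rw [map_inv, ← Subgroup.subset_pointwise_smul_iff]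
        exact hUS
      refine ⟨g, (h4 _ h5 (H18.klein_map (MulAut.conj g⁻¹).injective hU)).imp ?_ ?_⟩ <;>
      · rintro rfl
        rw [H18.map_conj_eq, ← H18.normalizer_smul, map_inv, smul_inv_smul]
    · have := h24 _ hM'
      rw [H18.G168.card_normalizer_seven h P] at this
      omega

end Cfsg.Agent.S1008
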