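import Cfsg.Statements.S1013
import Mathlib
import Cfsg.Agent.H18.Elem

set_option autoImplicit false
open Cfsg

namespace Cfsg.Agent.S1013

/-- Let G be a transitive permutation group of prime degree p having more than one Sylow p-subgroup, and suppose a Sylow p-subgroup P has prime index in its normalizer. Then G is simple. -/
theorem result {α : Type*} [Fintype α] [DecidableEq α] {p : ℕ} [Fact p.Prime] (hα : Fintype.card α = p) (G : Subgroup (Equiv.Perm α)) [MulAction.IsPretransitive ↥G α] (P : Sylow p ↥G) (hn : 1 < Nat.card (Sylow p ↥G)) (ht : (((P : Subgroup ↥G).subgroupOf (Subgroup.normalizer ((P : Subgroup ↥G) : Set ↥G))).index).Prime) : IsSimpleGroup ↥G := by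
  have hp : p.Prime := Fact.out
  have hprim : MulAction.IsPreprimitive G α :=
    MulAction.IsPreprimitive.of_prime_card (by rw [Nat.card_eq_fintype_card, hα]; exact hp)
  have hne : Nonempty α := Fintype.card_pos_iff.1 (hα ▸ hp.pos)
  have htr : ∀ M : Subgroup G, M.Normal → M ≠ ⊥ → p ∣ Nat.card M := by
    intro M hM hM1
    have : MulAction.IsPretransitive M α := by
      refine MulAction.IsQuasiPreprimitive.isPretransitive_of_normal fun h => hM1 ?_
      rw [eq_bot_iff]
      intro g hg
      rw [Subgroup.mem_bot]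
      ext a
      have : a ∈ MulAction.fixedPoints M α := h ▸ Set.mem_univ a
      exact this ⟨g, hg⟩
    obtain ⟨a⟩ := hne
    have h1 := H18.card_orbit_mul_card_stabilizer (Γ := M) a
    rw [MulAction.orbit_eq_univ, Nat.card_univ, Nat.card_eq_fintype_card, hα] at h1
    exact ⟨_, h1.symm⟩
  have hPn : ¬ (P : Subgroup G).Normal := fun h => by
    have := P.unique_of_normal h
    rw [Nat.card_unique] at hn
    omega
  have hnt : Nontrivial G := by
    by_contra h
    rw [not_nontrivial_iff_subsingleton] at h
    exact hPn (by rw [Subsingleton.elim (P : Subgroup G) ⊤]; infer_instance)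
  have hPc : Nat.card (P : Subgroup G) = p := by
    obtain ⟨k, hk⟩ := IsPGroup.iff_card.1 P.2
    have h1 : p ^ k ∣ p.factorial := by
      rw [← hk]
      refine (Subgroup.card_subgroup_dvd_card _).trans ((Subgroup.card_subgroup_dvd_card _).trans ?_)
      rw [Nat.card_perm, Nat.card_eq_fintype_card, hα]
    have h2 : p ∣ p ^ k := hk ▸ P.dvd_card_of_dvd_card (by
      simpa using htr ⊤ inferInstance top_ne_bot)
    have h3 : k = 1 := by
      rcases k with _ | _ | k
      · exact absurd (Nat.dvd_one.1 h2) hp.one_lt.ne'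
      · rfl
      · exfalso
        obtain ⟨m, rfl⟩ : ∃ m, p = m + 1 := ⟨p - 1, by have := hp.pos; omega⟩
        rw [Nat.factorial_succ, pow_succ'] at h1
        have h4 := (dvd_pow_self (m + 1) k.succ_ne_zero).trans
          (Nat.dvd_of_mul_dvd_mul_left (Nat.succ_pos m) h1)
        rw [hp.dvd_factorial] at h4
        omega
    rw [hk, h3, pow_one]
  refine ⟨fun M hM => ?_⟩
  by_contra hc
  push Not at hc
  have hPM : (P : Subgroup G) ≤ M := by
    obtain ⟨y, hy⟩ := exists_prime_orderOf_dvd_card' p (htr M hM hc.1)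
    obtain ⟨Q, hQ⟩ := H18.exists_sylow_eq_zpowers P hPc ((Subgroup.orderOf_coe y).trans hy)
    obtain ⟨g, hg⟩ := MulAction.exists_smul_eq G Q P
    rw [← hg, Sylow.coe_subgroup_smul, ← hM.conj_smul_eq_self g, hQ]
    exact Subgroup.pointwise_smul_le_pointwise_smul_iff.2 (Subgroup.zpowers_le.2 y.2)
  have hfr := Sylow.normalizer_sup_eq_top' P hPM
  set N := Subgroup.normalizer ((P : Subgroup G) : Set G) with hN
  have hPN : (P : Subgroup G) ≤ N := Subgroup.le_normalizer
  have h1 : (P : Subgroup G).relIndex (N ⊓ M) * (N ⊓ M).relIndex N = (P : Subgroup G).relIndex N :=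
    Subgroup.relIndex_mul_relIndex _ _ _ (le_inf hPN hPM) inf_le_left
  have ht' : ((P : Subgroup G).relIndex N).Prime := ht
  rcases (Nat.dvd_prime ht').1 (Dvd.intro_left _ h1) with h2 | h2
  · rw [Subgroup.relIndex_eq_one, le_inf_iff] at h2
    exact hc.2 (eq_top_iff.2 (hfr ▸ sup_le h2.2 le_rfl))
  · rw [h2] at h1
    have h3 := Subgroup.relIndex_eq_one.1 ((Nat.mul_eq_right ht'.ne_zero).1 h1)
    have hcyc : IsCyclic (P : Subgroup G) := isCyclic_of_prime_card hPc
    have h4 := H3.hasNPC_of_normalizer_le_centralizer (P.subtype hPM) (by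
      intro x hx
      rw [← Sylow.coe_coe, Sylow.coe_subtype, ← Subgroup.subgroupOf_normalizer_eq hPM] at hx
      have h5 : (x : G) ∈ (P : Subgroup G) := h3 ⟨hx, x.2⟩
      rw [Subgroup.mem_centralizer_iff]
      intro y hy
      exact Subtype.ext ((P : Subgroup G).le_centralizer h5 y hy))
    have h6 := H3.hasNPC_iff_coprime.1 h4
    have h7 : ((pResidual p M).map M.subtype).Normal := inferInstance
    have h8 : (pResidual p M).map M.subtype = ⊥ := by
      by_contra h
      have := htr _ h7 h
      rw [Subgroup.card_map_of_injective M.subtype_injective] at this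
      exact hp.one_lt.ne' (Nat.eq_one_of_dvd_coprimes h6 this dvd_rfl)
    rw [Subgroup.map_eq_bot_iff_of_injective _ M.subtype_injective, H3.pResidual_eq_bot_iff] at h8
    exact hPn (P.3 h8 hPM ▸ hM)

end Cfsg.Agent.S1013
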