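import Cfsg.Statements.S1024
import Mathlib
import Cfsg.Agent.H19.All

set_option autoImplicit false
open Cfsg

namespace Cfsg.Agent.S1024

/-- `x_r(0) = 1`, and `x_r(t) = 1` forces `t = 0`: the map `t ↦ x_r(t)` is injective. -/
theorem result {F : Type*} [Field F] (D : Cfsg.Lie.ChevalleyDatum) (hD : D ∈ [Cfsg.Lie.chevG2, Cfsg.Lie.chevB2, Cfsg.Lie.chevD4, Cfsg.Lie.chevF4, Cfsg.Lie.chevE6, Cfsg.Lie.chevE7, Cfsg.Lie.chevE8]) (r : ℕ) (hr : r < D.nroots) (t : F) :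
    D.x F r t = 1 ↔ t = 0 := by
  obtain ⟨η, h⟩ := H19.tab_of_mem hD
  refine ⟨fun e => ?_, fun e => e ▸ H19.x_zero h.toTab0 r⟩
  revert t
  refine h.induction (P := fun r => ∀ t : F, D.x F r t = 1 → t = 0) ?_ ?_ r hr
  · intro i hi t e
    have h1 := H19.x_er_neg h.toTab0 (h.sim_lt i hi) t
    rw [e, Matrix.one_mulVec, h.hr_simple hi] at h1
    have := congrFun h1 (Sum.inl ⟨i, hi⟩)
    simpa [H19.er, H19.hv] using this.symm
  · intro i hi s hs ih t e
    have h1 := h.n1_x hi hs (((η i s : ℤ) : F) * t)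
    rw [← mul_assoc, h.eta_sq' hi hs, one_mul, e, one_mul] at h1
    have h2 := congrArg (D.nMat F (D.simple i) (-1) * ·) h1
    simp only [← mul_assoc, h.nMat_neg_mul, one_mul] at h2
    exact (mul_eq_zero.1 (ih _ h2)).resolve_left (h.eta_ne hi hs)

end Cfsg.Agent.S1024
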