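import Cfsg.Statements.S1039
import Mathlib
import Cfsg.Agent.H19.CertG2
import Cfsg.Agent.H19.CertB2
import Cfsg.Agent.H19.CertD4
import Cfsg.Agent.H19.CertF4
import Cfsg.Agent.H19.CertE6
import Cfsg.Agent.H19.CertE7
import Cfsg.Agent.H19.CertE8
import Cfsg.Agent.H20.PoinG2
import Cfsg.Agent.H20.PoinB2
import Cfsg.Agent.H20.PoinD4
import Cfsg.Agent.H20.PoinF4
import Cfsg.Agent.H20.PoinE6
import Cfsg.Agent.H20.PoinE7
import Cfsg.Agent.H20.PoinE8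

set_option autoImplicit false
open Cfsg

namespace Cfsg.Agent.S1039

/-- `N/H ≅ W`: there is a surjective homomorphism from `N` onto the Coxeter group of the type (Mathlib's Coxeter matrix G₂, B₂, F₄, E₆, E₇, E₈, nodes numbered as the fundamental roots) with kernel `H`, mapping each `n_{p_i}` to the `i`-th simple reflection. -/
theorem result {F : Type*} [Field F]
    (p : Cfsg.Lie.ChevalleyDatum × (Σ n : ℕ, CoxeterMatrix (Fin n)))
    (hp : p ∈ [(Cfsg.Lie.chevG2, ⟨2, CoxeterMatrix.G₂⟩), (Cfsg.Lie.chevB2, ⟨2, CoxeterMatrix.B 2⟩), (Cfsg.Lie.chevD4, ⟨4, Cfsg.Lie.coxeterD4⟩), (Cfsg.Lie.chevF4, ⟨4, CoxeterMatrix.F₄⟩),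
      (Cfsg.Lie.chevE6, ⟨6, CoxeterMatrix.E₆⟩), (Cfsg.Lie.chevE7, ⟨7, CoxeterMatrix.E₇⟩), (Cfsg.Lie.chevE8, ⟨8, CoxeterMatrix.E₈⟩)]) :
    ∃ φ : ↥(p.1.monomialSubgroup F) →* p.2.2.Group, Function.Surjective φ ∧
      φ.ker = (p.1.diagonalSubgroup F).subgroupOf (p.1.monomialSubgroup F) ∧
      ∀ (i : Fin p.2.1) (g : ↥(p.1.monomialSubgroup F)),
        ((g : GL p.1.Idx F) : Matrix p.1.Idx p.1.Idx F) = p.1.nMat F (p.1.simple i) 1 → φ g = p.2.2.simple i := by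
  simp only [List.mem_cons, List.not_mem_nil, or_false] at hp
  rcases hp with rfl | rfl | rfl | rfl | rfl | rfl | rfl
  · exact H19.asm1039 (H19.matG2 F) _ H20.cox_G2
  · exact H19.asm1039 (H19.matB2 F) _ H20.cox_B2
  · exact H19.asm1039 (H19.matD4 F) _ H20.cox_D4
  · exact H19.asm1039 (H19.matF4 F) _ H20.cox_F4
  · exact H19.asm1039 (H19.matE6 F) _ H20.cox_E6
  · exact H19.asm1039 (H19.matE7 F) _ H20.cox_E7
  · exact H19.asm1039 (H19.matE8 F) _ H20.cox_E8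

end Cfsg.Agent.S1039
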