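import Cfsg.Statements.S1060
import Mathlib
import Cfsg.Agent.H19.CertB2
import Cfsg.Agent.H20.PoinB2

set_option autoImplicit false
open Cfsg

namespace Cfsg.Agent.S1060

/-- `gcd(2, q-1) · |B₂(q)| = q⁴ (q² - 1)(q⁴ - 1)`. -/
theorem result {F : Type*} [Field F] [Fintype F] {q : ℕ} (hq : Fintype.card F = q) : Nat.gcd 2 (q - 1) * Nat.card ↥(Cfsg.Lie.chevB2.group F) = q ^ 4 * (q ^ 2 - 1) * (q ^ 4 - 1) := by
  subst hq
  have h := H19.asm_card (H19.matB2 F) H19.kerB2
  have e2 : Cfsg.Lie.chevB2.nroots / 2 = 4 := by decide +kernel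
  rw [e2] at h
  replace h := h.trans (congrArg _ (H20.poin_B2 _))
  have hq : ∀ k, 1 ≤ Fintype.card F ^ k := fun k => Nat.one_le_pow _ _ Fintype.card_pos
  simp only [pow_zero, pow_one, one_mul] at h
  zify [hq]
  push_cast at h
  rw [h]
  ring

end Cfsg.Agent.S1060
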