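import Cfsg.Statements.S1058
import Mathlib
import Cfsg.Agent.H19.Two
import Cfsg.Agent.H19.CertB2
import Cfsg.Agent.S1060

set_option autoImplicit false
open Cfsg

namespace Cfsg.Agent.S1058

/-- B₂(2) ≅ S₆. -/
theorem result {F : Type*} [Field F] [Fintype F] (hF : Fintype.card F = 2) :
    Nonempty (↥(Cfsg.Lie.chevB2.group F) ≃* Equiv.Perm (Fin 6)) := by
  let p : ℕ → Equiv.Perm (Fin 6) := fun r =>
    ([Equiv.swap 4 5, Equiv.swap 0 1 * Equiv.swap 2 3 * Equiv.swap 4 5,
      Equiv.swap 0 3 * Equiv.swap 1 2 * Equiv.swap 4 5, Equiv.swap 0 1, Equiv.swap 1 2,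
      Equiv.swap 0 1 * Equiv.swap 2 5 * Equiv.swap 3 4, Equiv.swap 0 5 * Equiv.swap 1 2 * Equiv.swap 3 4,
      Equiv.swap 3 4] : List (Equiv.Perm (Fin 6))).getD r 1
  have hn : Cfsg.Lie.chevB2.nroots = 8 := by decide +kernel
  obtain ⟨ψ, hψ⟩ := H19.exists_hom_two hF (H19.matB2 F) p (by rw [hn]; decide +kernel)
    (by rw [hn]; decide +kernel)
  have hm : ∀ r < 8, p r ∈ ψ.range := fun r hr => ⟨_, hψ r (hn ▸ hr)⟩
  have hs : Function.Surjective ψ := by
    rw [← MonoidHom.range_eq_top, eq_top_iff]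
    intro a _
    have ha : a ∈ Submonoid.closure (Set.range fun i : Fin 5 => Equiv.swap i.castSucc i.succ) := by
      rw [Equiv.Perm.mclosure_swap_castSucc_succ]; trivial
    refine Submonoid.closure_induction (fun x hx => ?_) (one_mem _) (fun x y _ _ hx hy => mul_mem hx hy) ha
    obtain ⟨i, rfl⟩ := hx
    fin_cases i
    · exact hm 3 (by decide)
    · exact hm 4 (by decide)
    · have : p 3 * p 1 * p 0 ∈ ψ.range := mul_mem (mul_mem (hm 3 (by decide)) (hm 1 (by decide))) (hm 0 (by decide))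
      convert this using 1
      decide +kernel
    · exact hm 7 (by decide)
    · exact hm 0 (by decide)
  have hc := Cfsg.Agent.S1060.result (F := F) hF
  have hc' : Nat.card ↥(Cfsg.Lie.chevB2.group F) = Nat.card (Equiv.Perm (Fin 6)) := by
    rw [Nat.card_perm, Nat.card_fin]
    norm_num at hc
    rw [hc]; rfl
  have : Finite ↥(Cfsg.Lie.chevB2.group F) := Nat.finite_of_card_ne_zero (by rw [hc', Nat.card_perm]; positivity)
  exact ⟨MulEquiv.ofBijective ψ (hs.bijective_of_nat_card_le hc'.le)⟩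

end Cfsg.Agent.S1058
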