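import Mathlib
import Cfsg.Statements.S1073
import Cfsg.Agent.H8.ReeTransport

set_option autoImplicit false
open Cfsg

namespace Cfsg.Agent.S1073

/-- ²G₂(3^(2m+1)) is simple for `m ≥ 1`. -/
theorem result {K : Type*} [Field K] [Fintype K] {m : ℕ} (hm : 1 ≤ m) (hK : Fintype.card K = 3 ^ (2 * m + 1)) :
    IsSimpleGroup ↥(Cfsg.Lie.twistedG2 K (3 ^ m)) ∧ ¬ IsMulCommutative ↥(Cfsg.Lie.twistedG2 K (3 ^ m)) := by
  obtain ⟨T⟩ := H8.Ree.nonempty_tctx hK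
  have hq : 3 < Nat.card K := by
    rw [Nat.card_eq_fintype_card, hK]
    calc 3 < 3 ^ 3 := by norm_num
      _ ≤ 3 ^ (2 * m + 1) := Nat.pow_le_pow_right (by norm_num) (by omega)
  have := T.isSimpleGroup hq
  refine ⟨T.equiv.isSimpleGroup, fun h => T.not_comm ⟨⟨fun a b => ?_⟩⟩⟩
  obtain ⟨a, rfl⟩ := T.equiv.surjective a
  obtain ⟨b, rfl⟩ := T.equiv.surjective b
  rw [← map_mul, ← map_mul, h.is_comm.comm]

end Cfsg.Agent.S1073
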