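import Cfsg.Statements.S1075
import Mathlib
import Cfsg.Agent.H20.Ree3
import Cfsg.Agent.H8.ReeBridge

set_option autoImplicit false
open Cfsg

namespace Cfsg.Agent.S1075

/-- The derived subgroup of ²G₂(3) (θ = identity over the field with three elements) has order 504 = 1512/3 and is isomorphic to PSL₂ over the field with eight elements. -/
theorem result {L : Type*} [Field L] [Fintype L] (hL : Fintype.card L = 8) :
    Nat.card ↥(commutator ↥(Cfsg.Lie.twistedG2 (ZMod 3) 1)) = 504 ∧
      Nonempty (↥(commutator ↥(Cfsg.Lie.twistedG2 (ZMod 3) 1)) ≃* Matrix.ProjectiveSpecialLinearGroup (Fin 2) L) := by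
  obtain ⟨T⟩ := H8.Ree.nonempty_tctx (K := ZMod 3) (m := 0) (by simp)
  have e₀ : Cfsg.Lie.twistedG2 (ZMod 3) 1 ≃* T.R := T.equiv
  have e : commutator (Cfsg.Lie.twistedG2 (ZMod 3) 1) ≃* commutator T.R :=
    (e₀.subgroupMap _).trans (MulEquiv.subgroupCongr (by
      rw [commutator_def, Subgroup.map_commutator, Subgroup.map_top_of_surjective _ e₀.surjective]; rfl))
  obtain ⟨e'⟩ := H20.Ree.iso_psl T.toCtx hL
  exact ⟨(Nat.card_congr e.toEquiv).trans (H20.Ree.card_comm _), ⟨e.trans e'⟩⟩

end Cfsg.Agent.S1075
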