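import Cfsg.Statements.S1078
import Mathlib
import Cfsg.Agent.H19.AllRG
import Cfsg.Agent.H20.StApp

set_option autoImplicit false
open Cfsg

namespace Cfsg.Agent.S1078

theorem aux {K : Type*} [Field K] {D : Cfsg.Lie.ChevalleyDatum} {g : H20.Good D} (M : H20.MatRG g K)
    (A : List (List ℤ)) (hA : ∀ j k : Fin D.rank, ∑ i : Fin D.rank, D.cartan j (D.simple i) * (A.getD i []).getD k 0 =
      if j = k then 1 else 0) : Subgroup.center (D.SteinbergGroup K) = ⊥ := by
  rw [eq_bot_iff]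
  intro a ha
  obtain ⟨c, hc, rfl⟩ := M.mem_center_St.1 ha
  rw [g.rs.eq_one_of_unimodular (fun i k => (A.getD i []).getD k 0) hA hc, map_one]
  exact one_mem _

/-- For G₂, F₄, E₈ the presented group has trivial centre (the universal and adjoint groups coincide). -/
theorem result {K : Type*} [Field K] (D : Cfsg.Lie.ChevalleyDatum) (hD : D ∈ [Cfsg.Lie.chevG2, Cfsg.Lie.chevF4, Cfsg.Lie.chevE8]) :
    Subgroup.center (D.SteinbergGroup K) = ⊥ := by
  simp only [List.mem_cons, List.not_mem_nil, or_false] at hD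
  rcases hD with rfl | rfl | rfl
  · exact aux (H19.tabG2.matRG H20.goodG2 K) [[2, 3], [1, 2]] (by decide +kernel)
  · exact aux (H19.tabF4.matRG H20.goodF4 K) [[2, 3, 4, 2], [3, 6, 8, 4], [2, 4, 6, 3], [1, 2, 3, 2]]
      (by decide +kernel)
  · exact aux (H19.tabE8.matRG H20.goodE8 K) [[4, 5, 7, 10, 8, 6, 4, 2], [5, 8, 10, 15, 12, 9, 6, 3],
      [7, 10, 14, 20, 16, 12, 8, 4], [10, 15, 20, 30, 24, 18, 12, 6], [8, 12, 16, 24, 20, 15, 10, 5],
      [6, 9, 12, 18, 15, 12, 8, 4], [4, 6, 8, 12, 10, 8, 6, 3], [2, 3, 4, 6, 5, 4, 3, 2]] (by decide +kernel)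

end Cfsg.Agent.S1078
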