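import Cfsg.Statements.S1079
import Mathlib
import Cfsg.Agent.H20.UnivE6
import Cfsg.Agent.H20.UnivE7

set_option autoImplicit false
open Cfsg

namespace Cfsg.Agent.S1079

theorem aux {K : Type*} [Field K] {D : Cfsg.Lie.ChevalleyDatum} {g : H20.Good D} (M : H20.MatRG g K)
    (h : Function.Injective M.St.hmap) :
    Nat.card (Subgroup.center (D.SteinbergGroup K)) = Nat.card (H19.zker g.rs K) := by
  rw [← Subgroup.card_map_of_injective h]
  congr 2
  ext a
  rw [M.mem_center_St]
  exact ⟨fun ⟨c, h1, h2⟩ => ⟨c, h1, h2.symm⟩, fun ⟨c, h1, h2⟩ => ⟨c, h1, h2.symm⟩⟩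

/-- `|Z(Ḡ)| = gcd(3, q-1)` for E₆ and `gcd(2, q-1)` for E₇ over a field with `q` elements (the centre is dual to the weight lattice modulo the root lattice). -/
theorem result {K : Type*} [Field K] [Fintype K] {q : ℕ} (hq : Fintype.card K = q)
    (p : Cfsg.Lie.ChevalleyDatum × ℕ) (hp : p ∈ [(Cfsg.Lie.chevE6, 3), (Cfsg.Lie.chevE7, 2)]) :
    Nat.card (Subgroup.center (p.1.SteinbergGroup K)) = Nat.gcd p.2 (q - 1) := by
  simp only [List.mem_cons, List.not_mem_nil, or_false] at hp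
  rcases hp with rfl | rfl
  · rw [aux _ (H20.hmap_injective_E6 K), H19.card_zker H19.kerE6, Nat.card_eq_fintype_card, hq, pow_one]
  · rw [aux _ (H20.hmap_injective_E7 K), H19.card_zker H19.kerE7, Nat.card_eq_fintype_card, hq, pow_one]

end Cfsg.Agent.S1079
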