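import Cfsg.Statements.S1081
import Mathlib
import Cfsg.Agent.H19.MatRG
import Cfsg.Agent.H19.TabE6
import Cfsg.Agent.H19.TabD4
import Cfsg.Agent.H20.GoodE6
import Cfsg.Agent.H20.GoodD4
import Cfsg.Agent.H20.SymD
import Cfsg.Agent.H20.HomE6g
import Cfsg.Agent.H20.HomD4a
import Cfsg.Agent.H20.HomD4b

set_option autoImplicit false
open Cfsg

namespace Cfsg.Agent.S1081

theorem aux {F : Type*} [Field F] {D : Cfsg.Lie.ChevalleyDatum} {g : H20.Good D} (M : H20.MatRG g F)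
    {h : H20.HomD} (c : h.Chk D D) {πL : List ℕ} (c2 : h.Chk2 D πL) (hp : h.p = 0) (hl : h.lamT = 0) :
    ∃ α : ↥(D.group F) ≃* ↥(D.group F), ∀ (g : ↥(D.group F)) (i : ℕ) (t : F), i < D.rank →
      (((g : GL D.Idx F) : Matrix D.Idx D.Idx F) = D.x F (D.simple i) t →
        ((α g : GL D.Idx F) : Matrix D.Idx D.Idx F) = D.x F (D.simple (πL.getD i 0)) t) ∧
      (((g : GL D.Idx F) : Matrix D.Idx D.Idx F) = D.x F (D.neg (D.simple i)) t →
        ((α g : GL D.Idx F) : Matrix D.Idx D.Idx F) = D.x F (D.neg (D.simple (πL.getD i 0))) t) := by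
  have h1 : ∀ r, h.lam r = 1 := fun r => by simp [H20.HomD.lam, hl, H19.fld]
  simpa only [h1, pow_one] using M.exists_graph_aut c c2 (by simp [hp])
    (fun r _ x => ⟨x, by simp only [h1, pow_one]⟩)

/-- Graph automorphisms: for E₆ with ρ = (p₁ p₆)(p₃ p₅) and for D₄ with ρ the 3-cycle on the outer nodes there is a group automorphism sending `x_p(t) ↦ x_{ρ(p)}(t)` and `x_{-p}(t) ↦ x_{-ρ(p)}(t)` for every fundamental root `p`. -/
theorem result {F : Type*} [Field F] (p : Cfsg.Lie.ChevalleyDatum × List ℕ)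
    (hp : p ∈ [(Cfsg.Lie.chevE6, [5, 1, 4, 3, 2, 0]), (Cfsg.Lie.chevD4, [2, 1, 3, 0]), (Cfsg.Lie.chevD4, [3, 1, 0, 2])]) :
    ∃ α : ↥(p.1.group F) ≃* ↥(p.1.group F), ∀ (g : ↥(p.1.group F)) (i : ℕ) (t : F), i < p.1.rank →
      (((g : GL p.1.Idx F) : Matrix p.1.Idx p.1.Idx F) = p.1.x F (p.1.simple i) t →
        ((α g : GL p.1.Idx F) : Matrix p.1.Idx p.1.Idx F) = p.1.x F (p.1.simple (p.2.getD i 0)) t) ∧
      (((g : GL p.1.Idx F) : Matrix p.1.Idx p.1.Idx F) = p.1.x F (p.1.neg (p.1.simple i)) t →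
        ((α g : GL p.1.Idx F) : Matrix p.1.Idx p.1.Idx F) = p.1.x F (p.1.neg (p.1.simple (p.2.getD i 0))) t) := by
  simp only [List.mem_cons, List.not_mem_nil, or_false] at hp
  rcases hp with rfl | rfl | rfl
  · exact aux (H19.tabE6.matRG H20.goodE6 F) H20.chkE6g (by decide +kernel) rfl rfl
  · exact aux (H19.tabD4.matRG H20.goodD4 F) H20.chkD4a (by decide +kernel) rfl rfl
  · exact aux (H19.tabD4.matRG H20.goodD4 F) H20.chkD4b (by decide +kernel) rfl rfl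

end Cfsg.Agent.S1081
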