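import Cfsg.Statements.S1084
import Mathlib
import Cfsg.Agent.H19.RepE6

set_option autoImplicit false
open Cfsg

namespace Cfsg.Agent.S1084

/-- E₆ via the 27-dimensional cubic form: for a finite field with at least three elements, (isometries of the cubic form) / centre ≅ the Chevalley group E₆(F). -/
theorem result {F : Type*} [Field F] [Fintype F] (hF : 3 ≤ Fintype.card F) : Nonempty (Cfsg.Lie.E6 F ≃* ↥(Cfsg.Lie.chevE6.group F)) := by
  refine H19.isoE6 F ?_
  obtain ⟨a, h0, h1⟩ := (Fintype.two_lt_card_iff.1 hF : ∃ a b c : F, a ≠ b ∧ a ≠ c ∧ b ≠ c) |> fun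
    ⟨a, b, c, h1, h2, h3⟩ => (show ∃ x : F, x ≠ 0 ∧ x ≠ 1 by
      by_contra h
      push Not at h
      by_cases ha : a = 0 <;> by_cases hb : b = 0 <;> by_cases hc : c = 0 <;> simp_all)
  exact ⟨a, h0, h1⟩

end Cfsg.Agent.S1084
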