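import Cfsg.Statements.S1086
import Mathlib
import Cfsg.Agent.H20.TwE6

set_option autoImplicit false
open Cfsg

namespace Cfsg.Agent.S1086

/-- |U¹| = |G¹ ∩ U| = q ^ 36 for ²E₆(q). -/
theorem result {K : Type*} [Field K] [Fintype K] {q : ℕ} (hq : IsPrimePow q) (hK : Fintype.card K = q ^ 2) :
    Nat.card ↥(Cfsg.Lie.chevE6.posUnipotent K ⊓ Cfsg.Lie.twistedE6 K q) = q ^ 36 := by
  obtain ⟨T, -, h, -⟩ := H20.E6.main hq hK
  rw [(H19.matE6 K).isMat.U_eq]
  have := T.card_U (A := ℕ) (y := q) h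
  rwa [H19.card_pos] at this

end Cfsg.Agent.S1086
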