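import Mathlib
import Cfsg.Statements.S1091
import Cfsg.Agent.H8.ReeTransport
import Cfsg.Agent.S0323

set_option autoImplicit false
open Cfsg

namespace Cfsg.Agent.S1091

/-- ²G₂(3^(2m+1)) has a (B,N)-pair: B¹ = G¹ ∩ B and N¹ = G¹ ∩ N, intersections with the ambient Chevalley group's B = UH and N. -/
theorem result {K : Type*} [Field K] [Fintype K] {m : ℕ} (hK : Fintype.card K = 3 ^ (2 * m + 1)) :
    ∃ P : Cfsg.BNPair ↥(Cfsg.Lie.twistedG2 K (3 ^ m)),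
      P.B = (Cfsg.Lie.chevG2.borelSubgroup K ⊓ Cfsg.Lie.twistedG2 K (3 ^ m)).subgroupOf (Cfsg.Lie.twistedG2 K (3 ^ m)) ∧
      P.N = (Cfsg.Lie.chevG2.monomialSubgroup K ⊓ Cfsg.Lie.twistedG2 K (3 ^ m)).subgroupOf (Cfsg.Lie.twistedG2 K (3 ^ m)) := by
  obtain ⟨T⟩ := H8.Ree.nonempty_tctx hK
  letI := T.action
  have h2 : MulAction.IsMultiplyPretransitive (Cfsg.Lie.twistedG2 K (3 ^ m)) T.Ω 2 := by
    rw [MulAction.is_two_pretransitive_iff]
    intro a b c d hab hcd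
    obtain ⟨g, hg⟩ := MulAction.is_two_pretransitive_iff.mp T.two_transitive hab hcd
    obtain ⟨g, rfl⟩ := T.equiv.surjective g
    exact ⟨g, hg⟩
  obtain ⟨P, h1, h3, -⟩ := Cfsg.Agent.S0323.result h2 (x := T.inf) (y := T.org) (z := T.pt 0 0 1)
    T.org_ne_inf.symm (by rw [← T.pt_zero, Ne, T.pt_inj]; simp) (T.pt_ne_inf _ _ _).symm
  refine ⟨P, ?_, ?_⟩
  · rw [h1, T.borel_eq]
    rfl
  · rw [h3, T.monomial_eq]
    rfl

end Cfsg.Agent.S1091
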