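import Cfsg.Statements.S1094
import Mathlib
import Cfsg.Agent.H20.PoinB2
import Cfsg.Agent.H20.PoinG2
import Cfsg.Agent.H20.PoinD4
import Cfsg.Agent.H20.PoinF4
import Cfsg.Agent.H20.PoinE6
import Cfsg.Agent.H20.PoinE7
import Cfsg.Agent.H20.PoinE8

set_option autoImplicit false
open Cfsg

namespace Cfsg.Agent.S1094

theorem aux {D : Cfsg.Lie.ChevalleyDatum} (g : H20.Good D) (M : CoxeterMatrix (Fin D.rank)) {h : ℕ}
    (he : ∃ e : g.rs.W ≃* M.Group, ∀ i, e ⟨g.rs.s i, g.rs.s_mem_W i⟩ = M.simple i)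
    (ho : orderOf (g.wN (List.range D.rank)) = h) :
    orderOf ((List.finRange D.rank).map M.simple).prod = h := by
  obtain ⟨e, he⟩ := he
  rw [← ho, ← Subgroup.orderOf_mk _ (g.wN_mem_W _), ← e.orderOf_eq]
  congr 1
  have : (⟨g.wN (List.range D.rank), g.wN_mem_W _⟩ : g.rs.W) =
      ((List.finRange D.rank).map fun i => (⟨g.rs.s i, g.rs.s_mem_W i⟩ : g.rs.W)).prod := by
    apply Subtype.ext
    simp [H20.Good.wN, ← List.map_coe_finRange_eq_range, Function.comp_def, H20.Good.sN_val]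
  rw [this, map_list_prod, List.map_map]
  congr 1
  exact List.map_congr_left fun i _ => (he i).symm

/-- The Coxeter element `s₁ s₂ ⋯ s_l` of the Coxeter group of type B₂, G₂, D₄, F₄, E₆, E₇, E₈ has order `h = 2N/l` = 4, 6, 6, 12, 12, 18, 30. -/
theorem result (p : (Σ n : ℕ, CoxeterMatrix (Fin n)) × ℕ)
    (hp : p ∈ [(⟨2, CoxeterMatrix.B 2⟩, 4), (⟨2, CoxeterMatrix.G₂⟩, 6), (⟨4, Cfsg.Lie.coxeterD4⟩, 6), (⟨4, CoxeterMatrix.F₄⟩, 12),
      (⟨6, CoxeterMatrix.E₆⟩, 12), (⟨7, CoxeterMatrix.E₇⟩, 18), (⟨8, CoxeterMatrix.E₈⟩, 30)]) :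
    orderOf ((List.finRange p.1.1).map p.1.2.simple).prod = p.2 := by
  simp only [List.mem_cons, List.not_mem_nil, or_false] at hp
  rcases hp with rfl | rfl | rfl | rfl | rfl | rfl | rfl
  · exact aux H20.goodB2 _ H20.cox_B2 H20.orderOf_cox_B2
  · exact aux H20.goodG2 _ H20.cox_G2 H20.orderOf_cox_G2
  · exact aux H20.goodD4 _ H20.cox_D4 H20.orderOf_cox_D4
  · exact aux H20.goodF4 _ H20.cox_F4 H20.orderOf_cox_F4
  · exact aux H20.goodE6 _ H20.cox_E6 H20.orderOf_cox_E6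
  · exact aux H20.goodE7 _ H20.cox_E7 H20.orderOf_cox_E7
  · exact aux H20.goodE8 _ H20.cox_E8 H20.orderOf_cox_E8

end Cfsg.Agent.S1094
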