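import Cfsg.Statements.S1095
import Mathlib
import Cfsg.Agent.H19.All

set_option autoImplicit false
open Cfsg

namespace Cfsg.Agent.S1095

/-- `n_p` (p = p_{i+1} fundamental) is the signed monomial matrix `h_{p_j} ↦ h_{p_j} - A_{p_j,p} h_p`, `e_s ↦ η_s e_{w_p(s)}`, with `η_s = ±1`, `η_p = η_{-p} = -1`, `η_s η_{w_p(s)} = (-1)^{A_{p,s}}`, `η_s η_{-s} = 1`. -/
theorem result {F : Type*} [Field F] (D : Cfsg.Lie.ChevalleyDatum) (hD : D ∈ [Cfsg.Lie.chevG2, Cfsg.Lie.chevB2, Cfsg.Lie.chevD4, Cfsg.Lie.chevF4, Cfsg.Lie.chevE6, Cfsg.Lie.chevE7, Cfsg.Lie.chevE8]) (i : ℕ) (hi : i < D.rank) :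
    ∃ η : ℕ → ℤ, (∀ s < D.nroots, η s = 1 ∨ η s = -1) ∧ η (D.simple i) = -1 ∧ η (D.neg (D.simple i)) = -1 ∧
      (∀ s < D.nroots, η s * η (D.reflectRoot i s) = (-1) ^ (D.cartan i s).natAbs ∧ η s * η (D.neg s) = 1) ∧
      D.nMat F (D.simple i) 1 = Matrix.of (fun (row col : D.Idx) =>
        Sum.elim
          (fun j' : Fin D.rank => Sum.elim
            (fun j : Fin D.rank => (if j' = j then (1 : F) else 0) - (if (j' : ℕ) = i then ((D.cartan j (D.simple i) : ℤ) : F) else 0))
            (fun _ => (0 : F)) col)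
          (fun s' : Fin D.nroots => Sum.elim
            (fun _ => (0 : F))
            (fun s : Fin D.nroots => if (s' : ℕ) = D.reflectRoot i s then ((η s : ℤ) : F) else 0) col)
          row) := by
  obtain ⟨η, h⟩ := H19.tab_of_mem hD
  refine ⟨η i, h.eta_pm i hi, h.eta_sim i hi, ?_, fun s hs => ⟨h.eta_w i hi s hs, h.eta_neg i hi s hs⟩, ?_⟩
  · rw [h.eta_neg_eq hi (h.sim_lt i hi), h.eta_sim i hi]
  · ext row col
    rcases col with j | s
    · have := congrFun (h.nMat_simple_hv (F := F) hi j.2 one_ne_zero) row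
      rw [H19.mulVec_hv] at this
      refine this.trans ?_
      rcases row with j' | s'
      · simp [H19.hv, Fin.ext_iff]
      · simp [H19.hv]
    · have := congrFun (h.n1_er (F := F) hi s.2) row
      rw [H19.mulVec_er (D.nMat F (D.simple i) 1) s] at this
      refine this.trans ?_
      rcases row with j' | s'
      · simp [H19.er]
      · simp [H19.er]

end Cfsg.Agent.S1095
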