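import Cfsg.Statements.S1096
import Mathlib
import Cfsg.Agent.H19.All

set_option autoImplicit false
open Cfsg

namespace Cfsg.Agent.S1096

/-- `n_p h_{p_j}(t) n_p⁻¹ = h_{w_p(p_j)}(t)` for fundamental `p`, `p_j` and `t ≠ 0`, stated as `n_p h_{p_j}(t) = h_{w_p(p_j)}(t) n_p`. -/
theorem result {F : Type*} [Field F] (D : Cfsg.Lie.ChevalleyDatum) (hD : D ∈ [Cfsg.Lie.chevG2, Cfsg.Lie.chevB2, Cfsg.Lie.chevD4, Cfsg.Lie.chevF4, Cfsg.Lie.chevE6, Cfsg.Lie.chevE7, Cfsg.Lie.chevE8]) (i j : ℕ) (hi : i < D.rank) (hj : j < D.rank) (t : F) (ht : t ≠ 0) :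
    D.nMat F (D.simple i) 1 * D.hMat F (D.simple j) t = D.hMat F (D.reflectRoot i (D.simple j)) t * D.nMat F (D.simple i) 1 := by
  obtain ⟨η, h⟩ := H19.tab_of_mem hD
  have hp := h.sim_lt j hj
  rw [h.hMat_diag hp ht, h.hMat_diag (h.w_lt i hi _ hp) ht]
  apply H19.mat_ext
  · intro k hk
    rw [← Matrix.mulVec_mulVec, ← Matrix.mulVec_mulVec, H19.diagM_hv, h.nMat_simple_hv hi hk one_ne_zero,
      Matrix.mulVec_sub, Matrix.mulVec_smul, H19.diagM_hv, H19.diagM_hv]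
  · intro s hs
    rw [← Matrix.mulVec_mulVec, ← Matrix.mulVec_mulVec, H19.diagM_er, Matrix.mulVec_smul, h.n1_er hi hs,
      Matrix.mulVec_smul, H19.diagM_er, h.pair_w_w hi hp hs, smul_comm]

end Cfsg.Agent.S1096
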