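import Cfsg.Statements.S1098
import Mathlib
import Cfsg.Agent.H19.MatRG
import Cfsg.Agent.H19.TabB2
import Cfsg.Agent.H19.TabF4
import Cfsg.Agent.H20.GoodB2
import Cfsg.Agent.H20.GoodF4
import Cfsg.Agent.H20.SymD
import Cfsg.Agent.H20.HomB2g
import Cfsg.Agent.H20.HomF4g

set_option autoImplicit false
open Cfsg

namespace Cfsg.Agent.S1098

theorem aux {K : Type*} [Field K] [CharP K 2] (hperf : ∀ x : K, ∃ y : K, y ^ 2 = x)
    {D : Cfsg.Lie.ChevalleyDatum} {g : H20.Good D} (M : H20.MatRG g K)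
    {h : H20.HomD} (c : h.Chk D D) {L : List (ℕ × ℕ)} (c2 : h.Chk2 D (L.map Prod.fst)) (hp : h.p = 2)
    (hl : ∀ i < D.rank, (L.map Prod.fst).getD i 0 = (L.getD i (0, 1)).1 ∧ h.lam (D.simple i) = (L.getD i (0, 1)).2) :
    ∃ α : ↥(D.group K) ≃* ↥(D.group K), ∀ (g : ↥(D.group K)) (i : ℕ) (t : K), i < D.rank →
      (((g : GL D.Idx K) : Matrix D.Idx D.Idx K) = D.x K (D.simple i) t →
        ((α g : GL D.Idx K) : Matrix D.Idx D.Idx K) = D.x K (D.simple (L.getD i (0, 1)).1) (t ^ (L.getD i (0, 1)).2)) ∧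
      (((g : GL D.Idx K) : Matrix D.Idx D.Idx K) = D.x K (D.neg (D.simple i)) t →
        ((α g : GL D.Idx K) : Matrix D.Idx D.Idx K) =
          D.x K (D.neg (D.simple (L.getD i (0, 1)).1)) (t ^ (L.getD i (0, 1)).2)) := by
  obtain ⟨α, hα⟩ := M.exists_graph_aut c c2 (by rw [hp]; exact CharP.cast_eq_zero K 2) (fun r _ => by
    unfold H20.HomD.lam
    cases Nat.beq (H19.fld h.lamT 1 r) 0
    · rw [hp]; exact hperf
    · exact fun x => ⟨x, pow_one x⟩)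
  refine ⟨α, fun a i t hi => ?_⟩
  rw [← (hl i hi).1, ← (hl i hi).2]
  exact hα a i t hi

/-- Graph automorphisms in characteristic 2 (K perfect): for B₂ (a short, b long) `x_a(t) ↦ x_b(t²)`, `x_b(t) ↦ x_a(t)`, and for F₄ (p₁, p₂ short, p₃, p₄ long) `x_{p₁}(t) ↦ x_{p₄}(t²)`, `x_{p₂}(t) ↦ x_{p₃}(t²)`, `x_{p₃}(t) ↦ x_{p₂}(t)`, `x_{p₄}(t) ↦ x_{p₁}(t)`, likewise on the negatives, extend to an automorphism of the group. -/
theorem result {K : Type*} [Field K] [CharP K 2] (hperf : ∀ x : K, ∃ y : K, y ^ 2 = x)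
    (p : Cfsg.Lie.ChevalleyDatum × List (ℕ × ℕ))
    (hp : p ∈ [(Cfsg.Lie.chevB2, [(1, 2), (0, 1)]), (Cfsg.Lie.chevF4, [(3, 2), (2, 2), (1, 1), (0, 1)])]) :
    ∃ α : ↥(p.1.group K) ≃* ↥(p.1.group K), ∀ (g : ↥(p.1.group K)) (i : ℕ) (t : K), i < p.1.rank →
      (((g : GL p.1.Idx K) : Matrix p.1.Idx p.1.Idx K) = p.1.x K (p.1.simple i) t →
        ((α g : GL p.1.Idx K) : Matrix p.1.Idx p.1.Idx K) = p.1.x K (p.1.simple (p.2.getD i (0, 1)).1) (t ^ (p.2.getD i (0, 1)).2)) ∧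
      (((g : GL p.1.Idx K) : Matrix p.1.Idx p.1.Idx K) = p.1.x K (p.1.neg (p.1.simple i)) t →
        ((α g : GL p.1.Idx K) : Matrix p.1.Idx p.1.Idx K) = p.1.x K (p.1.neg (p.1.simple (p.2.getD i (0, 1)).1)) (t ^ (p.2.getD i (0, 1)).2)) := by
  simp only [List.mem_cons, List.not_mem_nil, or_false] at hp
  rcases hp with rfl | rfl
  · exact aux hperf (H19.tabB2.matRG H20.goodB2 K) H20.chkB2g (by decide +kernel) rfl (by decide +kernel)
  · exact aux hperf (H19.tabF4.matRG H20.goodF4 K) H20.chkF4g (by decide +kernel) rfl (by decide +kernel)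

end Cfsg.Agent.S1098
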