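import Cfsg.Statements.S1099
import Mathlib
import Cfsg.Agent.H19.MatRG
import Cfsg.Agent.H19.TabG2
import Cfsg.Agent.H20.GoodG2
import Cfsg.Agent.H20.SymD
import Cfsg.Agent.H20.HomG2g

set_option autoImplicit false
open Cfsg

namespace Cfsg.Agent.S1099

/-- Graph automorphism of G₂ in characteristic 3 (K perfect): `x_a(t) ↦ x_b(t³)`, `x_b(t) ↦ x_a(t)`, `x_{-a}(t) ↦ x_{-b}(t³)`, `x_{-b}(t) ↦ x_{-a}(t)` extend to an automorphism of the group. -/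
theorem result {K : Type*} [Field K] [CharP K 3] (hperf : ∀ x : K, ∃ y : K, y ^ 3 = x) :
    ∃ α : ↥(Cfsg.Lie.chevG2.group K) ≃* ↥(Cfsg.Lie.chevG2.group K), ∀ (g : ↥(Cfsg.Lie.chevG2.group K)) (t : K),
      (((g : GL Cfsg.Lie.chevG2.Idx K) : Matrix _ _ K) = Cfsg.Lie.chevG2.x K Cfsg.Lie.g2a t →
        ((α g : GL Cfsg.Lie.chevG2.Idx K) : Matrix _ _ K) = Cfsg.Lie.chevG2.x K Cfsg.Lie.g2b (t ^ 3)) ∧
      (((g : GL Cfsg.Lie.chevG2.Idx K) : Matrix _ _ K) = Cfsg.Lie.chevG2.x K Cfsg.Lie.g2b t →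
        ((α g : GL Cfsg.Lie.chevG2.Idx K) : Matrix _ _ K) = Cfsg.Lie.chevG2.x K Cfsg.Lie.g2a t) ∧
      (((g : GL Cfsg.Lie.chevG2.Idx K) : Matrix _ _ K) = Cfsg.Lie.chevG2.x K Cfsg.Lie.g2ma t →
        ((α g : GL Cfsg.Lie.chevG2.Idx K) : Matrix _ _ K) = Cfsg.Lie.chevG2.x K Cfsg.Lie.g2mb (t ^ 3)) ∧
      (((g : GL Cfsg.Lie.chevG2.Idx K) : Matrix _ _ K) = Cfsg.Lie.chevG2.x K Cfsg.Lie.g2mb t →
        ((α g : GL Cfsg.Lie.chevG2.Idx K) : Matrix _ _ K) = Cfsg.Lie.chevG2.x K Cfsg.Lie.g2ma t) := by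
  obtain ⟨α, hα⟩ := (H19.tabG2.matRG H20.goodG2 K).exists_graph_aut H20.chkG2g (πL := [1, 0]) (by decide +kernel)
    (CharP.cast_eq_zero K 3) (fun r _ => by
    unfold H20.HomD.lam
    cases Nat.beq (H19.fld H20.homG2g.lamT 1 r) 0
    · exact hperf
    · exact fun x => ⟨x, pow_one x⟩)
  refine ⟨α, fun a t => ?_⟩
  have h0 := hα a 0 t (by decide)
  have h1 := hα a 1 t (by decide)
  rw [show H20.homG2g.lam (Cfsg.Lie.chevG2.simple 1) = 1 by decide +kernel, pow_one] at h1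
  rw [show H20.homG2g.lam (Cfsg.Lie.chevG2.simple 0) = 3 by decide +kernel] at h0
  exact ⟨h0.1, h1.1, h0.2, h1.2⟩

end Cfsg.Agent.S1099
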