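import Cfsg.Statements.S1100
import Mathlib
import Cfsg.Agent.H19.AllRG
import Cfsg.Agent.H20.StApp

set_option autoImplicit false
open Cfsg

namespace Cfsg.Agent.S1100

/-- Canonical form `g = b n_w u` (`b ∈ B`, `u ∈ U_w⁻ = ⟨X_r : r > 0, n_w X_r n_w⁻¹ ≤ V⟩`): such a decomposition exists for every element of the group; the coset `n_w H` is determined by `g`; and for a fixed representative `n_w` the factors `b`, `u` are unique. -/
theorem result {F : Type*} [Field F] (D : Cfsg.Lie.ChevalleyDatum) (hD : D ∈ [Cfsg.Lie.chevG2, Cfsg.Lie.chevB2, Cfsg.Lie.chevD4, Cfsg.Lie.chevF4, Cfsg.Lie.chevE6, Cfsg.Lie.chevE7, Cfsg.Lie.chevE8]) :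
    (∀ g ∈ D.group F, ∃ b ∈ D.borelSubgroup F, ∃ n ∈ D.monomialSubgroup F,
      ∃ u ∈ Subgroup.closure {x : GL D.Idx F | ∃ (r : ℕ) (t : F), D.IsPosRoot r ∧
            (D.rootSubgroup F r).map (MulAut.conj n).toMonoidHom ≤ D.negUnipotent F ∧ (x : Matrix D.Idx D.Idx F) = D.x F r t},
        g = b * n * u) ∧
    (∀ (b b' n n' u u' : GL D.Idx F), b ∈ D.borelSubgroup F → b' ∈ D.borelSubgroup F →
      n ∈ D.monomialSubgroup F → n' ∈ D.monomialSubgroup F →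
      u ∈ Subgroup.closure {x : GL D.Idx F | ∃ (r : ℕ) (t : F), D.IsPosRoot r ∧
            (D.rootSubgroup F r).map (MulAut.conj n).toMonoidHom ≤ D.negUnipotent F ∧ (x : Matrix D.Idx D.Idx F) = D.x F r t} →
      u' ∈ Subgroup.closure {x : GL D.Idx F | ∃ (r : ℕ) (t : F), D.IsPosRoot r ∧
            (D.rootSubgroup F r).map (MulAut.conj n').toMonoidHom ≤ D.negUnipotent F ∧ (x : Matrix D.Idx D.Idx F) = D.x F r t} →
      b * n * u = b' * n' * u' → n⁻¹ * n' ∈ D.diagonalSubgroup F ∧ (n = n' → b = b' ∧ u = u')) := by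
  obtain ⟨g⟩ := H20.good_of_mem hD
  obtain ⟨M⟩ := H19.exists_matRG hD g F
  rw [M.grp_eq, M.isMat.B_eq, M.isMat.N_eq, M.isMat.H_eq]
  constructor
  · intro z hz
    obtain ⟨w, a, ha, n, hn, b, hb, hw, rfl⟩ := H20.SRG.exists_bruhat hz
    exact ⟨a, M.X.U_le_B ha, n, hn, b, M.Uw_eq hw ▸ hb, rfl⟩
  · intro b b' n n' u u' hb hb' hn hn' hu hu' h
    obtain ⟨w, hw⟩ := M.X.exists_acts_of_mem_N hn
    obtain ⟨w', hw'⟩ := M.X.exists_acts_of_mem_N hn'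
    rw [M.Uw_eq hw] at hu
    rw [M.Uw_eq hw'] at hu'
    obtain ⟨a, ha, k, hk, rfl⟩ := M.X.mem_B_iff.1 hb
    obtain ⟨a', ha', k', hk', rfl⟩ := M.X.mem_B_iff.1 hb'
    obtain ⟨h1, h2, h3, h4⟩ := M.X.bruhat_unique ha ha' (mul_mem (M.X.H_le_N hk) hn)
      (mul_mem (M.X.H_le_N hk') hn') hu hu' ((M.X.acts_of_mem_H hk).mul hw) ((M.X.acts_of_mem_H hk').mul hw')
      (by simpa only [mul_assoc] using h)
    refine ⟨M.X.inv_mul_mem_H hn hn' hw (h1 ▸ hw'), fun h5 => ⟨?_, h4⟩⟩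
    rw [h5, mul_left_inj] at h3
    rw [h2, h3]

end Cfsg.Agent.S1100
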