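import Mathlib
import Cfsg.Statements.S1115
import Cfsg.Agent.H8.ReeTransport

set_option autoImplicit false
open Cfsg

namespace Cfsg.Agent.S1115

/-- `N¹/H¹ ≅ W¹`: a surjective homomorphism from `N¹ = G¹ ∩ N` onto the group of order 2 with kernel `H¹`. -/
theorem result {K : Type*} [Field K] [Fintype K] {m : ℕ} (hK : Fintype.card K = 3 ^ (2 * m + 1)) :
    ∃ φ : ↥(Cfsg.Lie.chevG2.monomialSubgroup K ⊓ Cfsg.Lie.twistedG2 K (3 ^ m)) →* Multiplicative (ZMod 2), Function.Surjective φ ∧
      φ.ker = (Cfsg.Lie.chevG2.diagonalSubgroup K ⊓ Cfsg.Lie.twistedG2 K (3 ^ m)).subgroupOf (Cfsg.Lie.chevG2.monomialSubgroup K ⊓ Cfsg.Lie.twistedG2 K (3 ^ m)) := by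
  obtain ⟨T⟩ := H8.Ree.nonempty_tctx hK
  classical
  have key : ∀ g : T.N, g.1 • T.inf = T.inf ↔ g.1 ∈ T.H := by
    intro g
    rw [T.mem_H']
    refine ⟨fun h => ⟨h, ?_⟩, fun h => h.1⟩
    rcases T.mem_N'.mp g.2 with h' | h'
    · exact h'.2
    · exact absurd (h'.1.symm.trans h) T.org_ne_inf
  let φ : T.N →* Multiplicative (ZMod 2) :=
    { toFun := fun g => if g.1 • T.inf = T.inf then 1 else Multiplicative.ofAdd 1
      map_one' := by simp
      map_mul' := by
        intro a b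
        have hne := T.org_ne_inf
        rcases T.mem_N'.mp a.2 with ha | ha <;> rcases T.mem_N'.mp b.2 with hb | hb <;>
          simp only [Subgroup.coe_mul, mul_smul, ha.1, ha.2, hb.1, hne, if_true, if_false] <;>
          decide }
  refine ⟨φ.comp T.equivN.toMonoidHom, ?_, ?_⟩
  · intro x
    by_cases hx : x = 1
    · exact ⟨1, by rw [map_one, hx]⟩
    · refine ⟨T.equivN.symm ⟨T.n, T.n_mem_N⟩, ?_⟩
      have : φ ⟨T.n, T.n_mem_N⟩ = Multiplicative.ofAdd 1 := if_neg T.n_notMem_B
      simp only [MonoidHom.comp_apply, MulEquiv.coe_toMonoidHom, MulEquiv.apply_symm_apply, this]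
      revert x
      decide
  · ext g
    rw [MonoidHom.mem_ker, Subgroup.mem_subgroupOf, Subgroup.mem_inf,
      T.mem_diagonal_iff (g := ⟨g.1, g.2.2⟩)]
    change (if (T.equivN g).1 • T.inf = T.inf then (1 : Multiplicative (ZMod 2))
      else Multiplicative.ofAdd 1) = 1 ↔ _
    constructor
    · intro h
      refine ⟨?_, g.2.2⟩
      by_contra h'
      rw [if_neg fun h => h' ((key _).mp h)] at h
      exact absurd h (by decide)
    · intro h
      exact if_pos ((key _).mpr h.1)

end Cfsg.Agent.S1115
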