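import Mathlib
import Cfsg.Statements.S1116
import Cfsg.Agent.H8.ReeTransport

set_option autoImplicit false
open Cfsg

namespace Cfsg.Agent.S1116

/-- ²G₂(3^(2m+1)) (m ≥ 1) equals its derived subgroup. -/
theorem result {K : Type*} [Field K] [Fintype K] {m : ℕ} (hK : Fintype.card K = 3 ^ (2 * m + 1)) (hm : 1 ≤ m) : commutator ↥(Cfsg.Lie.twistedG2 K (3 ^ m)) = ⊤ := by
  obtain ⟨T⟩ := H8.Ree.nonempty_tctx hK
  have hq : 3 < Nat.card K := by
    rw [Nat.card_eq_fintype_card, hK]
    calc 3 < 3 ^ 3 := by norm_num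
      _ ≤ 3 ^ (2 * m + 1) := Nat.pow_le_pow_right (by norm_num) (by omega)
  have h := congrArg (Subgroup.map T.equiv.symm.toMonoidHom) (T.commutator_eq_top hq)
  rwa [commutator_def, Subgroup.map_commutator,
    Subgroup.map_top_of_surjective _ T.equiv.symm.surjective, ← commutator_def] at h

end Cfsg.Agent.S1116
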