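import Mathlib
import Cfsg.Statements.S1117
import Cfsg.Agent.H8.ReeTransport

set_option autoImplicit false
open Cfsg

namespace Cfsg.Agent.S1117

/-- The normal core of `B¹ = G¹ ∩ B` in ²G₂(3^(2m+1)) is trivial. -/
theorem result {K : Type*} [Field K] [Fintype K] {m : ℕ} (hK : Fintype.card K = 3 ^ (2 * m + 1)) :
    ((Cfsg.Lie.chevG2.borelSubgroup K ⊓ Cfsg.Lie.twistedG2 K (3 ^ m)).subgroupOf (Cfsg.Lie.twistedG2 K (3 ^ m))).normalCore = ⊥ := by
  obtain ⟨T⟩ := H8.Ree.nonempty_tctx hK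
  rw [T.borel_eq]
  have h1 := (Subgroup.normalCore_normal (T.B.comap T.equiv.toMonoidHom)).map
    T.equiv.toMonoidHom T.equiv.surjective
  have h2 := T.normal_eq_bot_of_le _ (hL := h1)
    (Subgroup.map_le_iff_le_comap.mpr (Subgroup.normalCore_le _))
  exact (Subgroup.map_eq_bot_iff_of_injective _ T.equiv.injective).mp h2

end Cfsg.Agent.S1117
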