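import Cfsg.Statements.S1145
import Cfsg.Agent.H1.KSX
import Cfsg.Agent.H25.KSN
import Cfsg.Agent.S0322

set_option autoImplicit false
open Cfsg

namespace Cfsg.Agent.S1145

open H24 H1.KS MulAction Subgroup in
/-- Let a finite group have a (B,N)-pair of rank 1 whose subgroup `B` contains no nontrivial normal subgroup (so the group acts faithfully on the cosets of `B`), with `B = U H`, `U` normal and nilpotent in `B`, `H = B ⊓ N`. Then some `U₀ ≤ U` normal in `B` satisfies `B = H U₀` and `H ⊓ U₀ = 1`; in particular the (B,N)-pair is strongly split. -/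
theorem result {G : Type*} [Group G] [Finite G] (P : Cfsg.BNPair G)
    (h1 : P.rank = 1) (hcore : P.B.normalCore = ⊥) (U : Subgroup G) (hUB : U ≤ P.B) (hUn : ∀ b ∈ P.B, ∀ u ∈ U, b * u * b⁻¹ ∈ U)
    (hUnil : Group.IsNilpotent U) (hsplit : U ⊔ (P.B ⊓ P.N) = P.B) :
    ∃ U₀ : Subgroup G, U₀ ≤ U ∧ (∀ b ∈ P.B, ∀ u ∈ U₀, b * u * b⁻¹ ∈ U₀) ∧
      U₀ ⊔ (P.B ⊓ P.N) = P.B ∧ U₀ ⊓ (P.B ⊓ P.N) = ⊥ := by
  have h2 := Cfsg.Agent.S0322.result P h1
  have two : ∀ a b c d : G ⧸ P.B, a ≠ b → c ≠ d → ∃ g : G, g • a = c ∧ g • b = d :=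
    fun a b c d hab hcd => is_two_pretransitive_iff.1 h2 hab hcd
  have faith : ∀ g : G, (∀ a : G ⧸ P.B, g • a = a) → g = 1 := fun g hg => by
    have : g ∈ P.B.normalCore := by
      rw [normalCore_eq_ker]; exact Equiv.ext hg
    rwa [hcore] at this
  obtain ⟨s, hs⟩ : P.S.Nonempty := by
    have : Nat.card P.S ≠ 0 := by rw [show Nat.card P.S = 1 from h1]; exact one_ne_zero
    exact Set.nonempty_coe_sort.1 (Nat.card_ne_zero.1 this).1
  have hsB : s ∉ P.B := fun h => P.conj_ne s hs (by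
    ext x
    refine ⟨?_, fun hx => ⟨s⁻¹ * x * s⁻¹, mul_mem (mul_mem (inv_mem h) hx) (inv_mem h), by group⟩⟩
    rintro ⟨y, hy, rfl⟩
    exact mul_mem (mul_mem h hy) h)
  have hst : stabilizer G ((1 : G) : G ⧸ P.B) = P.B := stabilizer_quotient P.B
  have hab : ((1 : G) : G ⧸ P.B) ≠ (s : G ⧸ P.B) := fun e => hsB (by
    simpa using QuotientGroup.eq.1 e)
  have hH : P.B ⊓ P.N ≤ stabilizer G (s : G ⧸ P.B) := fun x hx => by
    rw [mem_stabilizer_iff, Quotient.smul_mk, QuotientGroup.eq, smul_eq_mul, mul_inv_rev]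
    simpa using P.conj_mem s⁻¹ (inv_mem (P.subset hs)) x⁻¹ (inv_mem hx)
  have hn : P.B ≤ N[U] := le_N_iff.2 hUn
  have htr : ∀ c : G ⧸ P.B, c ≠ ((1 : G) : G ⧸ P.B) → ∃ u ∈ U, u • (s : G ⧸ P.B) = c := by
    intro c hc
    obtain ⟨g, e1, e2⟩ := two _ _ _ _ hab hc.symm
    have hg : g ∈ U ⊔ (P.B ⊓ P.N) := by rw [hsplit, ← hst]; exact e1
    obtain ⟨u, hu, x, hx, rfl⟩ := (mem_sup_of_norm (inf_le_left.trans hn)).1 hg
    exact ⟨u, hu, by rw [← e2, mul_smul, mem_stabilizer_iff.1 (hH hx)]⟩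
  obtain ⟨V, sp, hV, -⟩ := exists_family faith two hab (X := U) ⟨hUB.trans hst.ge, hst.le.trans hn⟩ hUnil htr
  rcases sp.main ((1 : G) : G ⧸ P.B) with h | h
  · exact ⟨U, le_rfl, hUn, hsplit, eq_bot_iff.2 fun x hx => h _ _ hab x (hV ▸ hx.1) (hH hx.2)⟩
  rw [hV] at h
  obtain ⟨U0, e1, e2, e3, e4⟩ := H25.KSN.nil_compl (U := U) (H := U ⊓ (P.B ⊓ P.N)) hUnil
    inf_le_left h fun X hX hN => eq_bot_iff.2 fun x hx => faith x fun c => by
      by_cases hc : c = ((1 : G) : G ⧸ P.B)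
      · rw [hc]; exact hst.ge (hUB (hX hx).1)
      obtain ⟨u, hu, rfl⟩ := htr c hc
      have := mem_stabilizer_iff.1 (hH (hX (conj_mem' (hN hu) hx)).2)
      rwa [mul_smul, mul_smul, inv_smul_eq_iff] at this
  refine ⟨U0, e1, le_N_iff.1 (hn.trans e2), le_antisymm (sup_le (e1.trans hUB) inf_le_left) ?_, ?_⟩
  · conv_lhs => rw [← hsplit, ← e3]
    exact sup_le (sup_le le_sup_left (inf_le_right.trans le_sup_right)) le_sup_right
  · rw [← e4, ← inf_assoc U0 U, inf_eq_left.2 e1]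

end Cfsg.Agent.S1145
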