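import Mathlib
import Cfsg.Statements.S1151
import Cfsg.Agent.H8.ReeTransport

set_option autoImplicit false
open Cfsg

namespace Cfsg.Agent.S1151

/-- In the small Ree group ²G₂(q), q = 3^(2m+1), realised as G¹ inside the Chevalley group G₂ over the field with q elements (θ the 3^m-th power map), with H¹ = G¹ ∩ H and U¹ = G¹ ∩ U the intersections with the ambient diagonal and positive unipotent subgroups: `H¹` has exactly `(q - 1)/2` elements of odd order, and each non-identity one centralises no non-identity element of `U¹`. -/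
theorem result {K : Type*} [Field K] [Fintype K] {m : ℕ} (hK : Fintype.card K = 3 ^ (2 * m + 1)) :
    2 * Nat.card {h : ↥(Cfsg.Lie.chevG2.diagonalSubgroup K ⊓ Cfsg.Lie.twistedG2 K (3 ^ m)) // Odd (orderOf h)} = 3 ^ (2 * m + 1) - 1 ∧
      ∀ h ∈ (Cfsg.Lie.chevG2.diagonalSubgroup K ⊓ Cfsg.Lie.twistedG2 K (3 ^ m)), h ≠ 1 → Odd (orderOf h) →
        (Cfsg.Lie.chevG2.posUnipotent K ⊓ Cfsg.Lie.twistedG2 K (3 ^ m)) ⊓ Subgroup.centralizer {h} = ⊥ := by
  obtain ⟨T⟩ := H8.Ree.nonempty_tctx hK
  constructor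
  · rw [← hK, ← Nat.card_eq_fintype_card, ← T.card_odd_order_units]
    congr 1
    exact Nat.card_congr ((T.hEquiv.trans T.equivH.symm).toEquiv.subtypeEquiv fun k => by
      simp only [MulEquiv.toEquiv_eq_coe, EquivLike.coe_coe, MulEquiv.orderOf_eq]).symm
  · intro h hh h1 hodd
    rw [eq_bot_iff]
    rintro u ⟨hu, hc⟩
    obtain ⟨k, hk⟩ := T.mem_H.mp ((T.mem_diagonal_iff (g := ⟨h, hh.2⟩)).mp hh.1)
    obtain ⟨a, b, c, habc⟩ := (T.mem_posUnipotent_iff (g := ⟨u, hu.2⟩)).mp hu.1
    have hcomm : T.h k * T.u a b c = T.u a b c * T.h k := by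
      rw [← hk, ← habc, ← map_mul, ← map_mul]
      congr 1
      exact Subtype.ext (Subgroup.mem_centralizer_iff.mp hc h rfl)
    have h0 : a = 0 ∧ b = 0 ∧ c = 0 := by
      by_contra h0
      have ho : orderOf (T.h k) = orderOf h := by
        rw [← hk, MulEquiv.orderOf_eq, ← Subgroup.orderOf_coe]
      rcases T.sq_eq_one_of_h_pt h0 (k := k) (by
        rw [← T.u_org, ← mul_smul, hcomm, mul_smul, T.h_org]) with rfl | rfl
      · rw [T.h_one, orderOf_one, eq_comm, orderOf_eq_one_iff] at ho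
        exact h1 ho
      · rw [← ho, orderOf_eq_prime (p := 2) (by rw [sq, T.h_neg_one_sq]) T.h_neg_one_ne_one] at hodd
        exact absurd hodd (by decide)
    rw [T.u_eq_one.mpr h0, MulEquiv.map_eq_one_iff] at habc
    exact congrArg Subtype.val habc

end Cfsg.Agent.S1151
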