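import Mathlib
import Cfsg.Statements.S1152
import Cfsg.Agent.H8.ReeSylow2
import Cfsg.Agent.H8.Transport

set_option autoImplicit false
open Cfsg

namespace Cfsg.Agent.S1152

/-- In the small Ree group ²G₂(q), q = 3^(2m+1), realised as G¹ inside the Chevalley group G₂ over the field with q elements (θ the 3^m-th power map), with H¹ = G¹ ∩ H and U¹ = G¹ ∩ U the intersections with the ambient diagonal and positive unipotent subgroups: for an involution `a ∈ H¹`, the centraliser of `a` in `G¹` is isomorphic to `Z₂ × PSL₂(q)`; and the Sylow 2-subgroups of `G¹` are elementary abelian of order 8. -/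
theorem result {K : Type*} [Field K] [Fintype K] {m : ℕ} (hK : Fintype.card K = 3 ^ (2 * m + 1))
    (a : ↥(Cfsg.Lie.twistedG2 K (3 ^ m))) (haH : (a : GL Cfsg.Lie.chevG2.Idx K) ∈ Cfsg.Lie.chevG2.diagonalSubgroup K) (ha1 : a ≠ 1) (ha2 : a * a = 1) :
    Nonempty (↥(Subgroup.centralizer {a}) ≃* Multiplicative (ZMod 2) × Matrix.ProjectiveSpecialLinearGroup (Fin 2) K) ∧
      ∀ S : Sylow 2 ↥(Cfsg.Lie.twistedG2 K (3 ^ m)), Nat.card S = 8 ∧ ∀ x ∈ S, x * x = 1 := by
  obtain ⟨T⟩ := H8.Ree.nonempty_tctx hK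
  constructor
  · obtain ⟨k, hk⟩ := T.mem_H.mp (T.mem_diagonal_iff.mp haH)
    have h1 : T.h (k * k) = T.h 1 := by rw [← T.h_mul, ← hk, ← map_mul, ha2, map_one, T.h_one]
    have h2 : T.equiv a = T.a := by
      rcases mul_self_eq_one_iff.mp (congrArg Units.val (T.h_inj.mp h1)) with h | h
      · rw [show k = 1 from Units.ext h, T.h_one, MulEquiv.map_eq_one_iff] at hk
        exact absurd hk ha1
      · rw [hk, show k = -1 from Units.ext h]
        rfl
    obtain ⟨e⟩ := T.nonempty_centralizer_equiv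
    have h3 := H8.map_centralizer_equiv T.equiv {a}
    rw [Set.image_singleton, h2] at h3
    exact ⟨((T.equiv.subgroupMap _).trans (MulEquiv.subgroupCongr h3)).trans e⟩
  · intro S
    obtain ⟨e, he⟩ := H8.exists_equiv_map_sylow T.equiv S (T.sylowS0 (H8.Ree.card_mod_eight hK))
    rw [T.coe_sylowS0] at he
    refine ⟨?_, fun x hx => e.injective ?_⟩
    · rw [← T.card_S0, ← he, H8.card_map_equiv]
    · rw [map_mul, map_one]
      exact T.S0_sq (he ▸ Subgroup.mem_map_of_mem e.toMonoidHom hx)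

end Cfsg.Agent.S1152
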