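import Mathlib
import Cfsg.Statements.S1153
import Cfsg.Agent.H8.ReeTransport

set_option autoImplicit false
open Cfsg

namespace Cfsg.Agent.S1153

/-- In the small Ree group ²G₂(q), q = 3^(2m+1), realised as G¹ inside the Chevalley group G₂ over the field with q elements, with `B¹ = G¹ ∩ B`: in the action of `G¹` on the cosets of `B¹`, the joint stabiliser of any three distinct cosets has order at most 2, and for some three distinct cosets it has order exactly 2. -/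
theorem result {K : Type*} [Field K] [Fintype K] {m : ℕ} (hK : Fintype.card K = 3 ^ (2 * m + 1)) :
    (∀ x y z : ↥(Cfsg.Lie.twistedG2 K (3 ^ m)) ⧸ ((Cfsg.Lie.chevG2.borelSubgroup K ⊓ Cfsg.Lie.twistedG2 K (3 ^ m))).subgroupOf (Cfsg.Lie.twistedG2 K (3 ^ m)), x ≠ y → x ≠ z → y ≠ z →
        Nat.card ↥(MulAction.stabilizer ↥(Cfsg.Lie.twistedG2 K (3 ^ m)) x ⊓ MulAction.stabilizer ↥(Cfsg.Lie.twistedG2 K (3 ^ m)) y ⊓ MulAction.stabilizer ↥(Cfsg.Lie.twistedG2 K (3 ^ m)) z) ≤ 2) ∧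
      ∃ x y z : ↥(Cfsg.Lie.twistedG2 K (3 ^ m)) ⧸ ((Cfsg.Lie.chevG2.borelSubgroup K ⊓ Cfsg.Lie.twistedG2 K (3 ^ m))).subgroupOf (Cfsg.Lie.twistedG2 K (3 ^ m)), x ≠ y ∧ x ≠ z ∧ y ≠ z ∧
        Nat.card ↥(MulAction.stabilizer ↥(Cfsg.Lie.twistedG2 K (3 ^ m)) x ⊓ MulAction.stabilizer ↥(Cfsg.Lie.twistedG2 K (3 ^ m)) y ⊓ MulAction.stabilizer ↥(Cfsg.Lie.twistedG2 K (3 ^ m)) z) = 2 := by
  obtain ⟨T⟩ := H8.Ree.nonempty_tctx hK
  letI := T.action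
  have hB : (Cfsg.Lie.chevG2.borelSubgroup K ⊓ Cfsg.Lie.twistedG2 K (3 ^ m)).subgroupOf
      (Cfsg.Lie.twistedG2 K (3 ^ m)) =
      MulAction.stabilizer (Cfsg.Lie.twistedG2 K (3 ^ m)) T.inf := T.borel_eq
  rw [hB]
  have hinj := MulAction.injective_ofQuotientStabilizer (Cfsg.Lie.twistedG2 K (3 ^ m)) T.inf
  have hst : ∀ x : Cfsg.Lie.twistedG2 K (3 ^ m) ⧸
      MulAction.stabilizer (Cfsg.Lie.twistedG2 K (3 ^ m)) T.inf,
      ∀ g : Cfsg.Lie.twistedG2 K (3 ^ m),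
      g ∈ MulAction.stabilizer (Cfsg.Lie.twistedG2 K (3 ^ m)) x ↔
        T.equiv g • MulAction.ofQuotientStabilizer _ T.inf x =
          MulAction.ofQuotientStabilizer _ T.inf x := by
    intro x g
    rw [MulAction.mem_stabilizer_iff, ← hinj.eq_iff, MulAction.ofQuotientStabilizer_smul]
    rfl
  have hle : ∀ x y z : Cfsg.Lie.twistedG2 K (3 ^ m) ⧸
      MulAction.stabilizer (Cfsg.Lie.twistedG2 K (3 ^ m)) T.inf, x ≠ y → x ≠ z → y ≠ z →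
      Nat.card ↥(MulAction.stabilizer (Cfsg.Lie.twistedG2 K (3 ^ m)) x ⊓
        MulAction.stabilizer (Cfsg.Lie.twistedG2 K (3 ^ m)) y ⊓
        MulAction.stabilizer (Cfsg.Lie.twistedG2 K (3 ^ m)) z) ≤ 2 := by
    intro x y z hxy hxz hyz
    rw [← Subgroup.card_map_of_injective (f := T.equiv.toMonoidHom) T.equiv.injective]
    apply T.card_stab_three_le (hinj.ne hxy) (hinj.ne hxz) (hinj.ne hyz)
    rintro _ ⟨g, ⟨⟨h1, h2⟩, h3⟩, rfl⟩
    exact ⟨(hst x g).mp h1, (hst y g).mp h2, (hst z g).mp h3⟩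
  refine ⟨hle, ?_⟩
  have hsurj : ∀ p : T.Ω, ∃ x, MulAction.ofQuotientStabilizer
      (Cfsg.Lie.twistedG2 K (3 ^ m)) T.inf x = p := by
    intro p
    obtain ⟨g, rfl⟩ := T.exists_smul_inf p
    obtain ⟨g, rfl⟩ := T.equiv.surjective g
    exact ⟨QuotientGroup.mk g, rfl⟩
  obtain ⟨x, hx⟩ := hsurj T.inf
  obtain ⟨y, hy⟩ := hsurj (T.pt 0 0 0)
  obtain ⟨z, hz⟩ := hsurj (T.pt 0 1 0)
  have hxy : x ≠ y := fun h => T.pt_ne_inf 0 0 0 (by rw [← hy, ← h, hx])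
  have hxz : x ≠ z := fun h => T.pt_ne_inf 0 1 0 (by rw [← hz, ← h, hx])
  have hyz : y ≠ z := fun h => by
    have : T.pt 0 0 0 = T.pt 0 1 0 := by rw [← hz, ← h, hy]
    simp [T.pt_inj] at this
  refine ⟨x, y, z, hxy, hxz, hyz, le_antisymm (hle x y z hxy hxz hyz) ?_⟩
  refine (Finite.one_lt_card_iff_nontrivial.mpr ((Subgroup.nontrivial_iff_exists_ne_one _).mpr
    ⟨T.equiv.symm (T.h (-1)), ⟨⟨?_, ?_⟩, ?_⟩, ?_⟩))
  · exact (hst x _).mpr (by rw [MulEquiv.apply_symm_apply, hx, T.h_inf])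
  · exact (hst y _).mpr (by rw [MulEquiv.apply_symm_apply, hy, T.h_neg_one_pt])
  · exact (hst z _).mpr (by rw [MulEquiv.apply_symm_apply, hz, T.h_neg_one_pt])
  · rw [Ne, MulEquiv.map_eq_one_iff]
    exact T.h_neg_one_ne_one

end Cfsg.Agent.S1153
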