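import Mathlib
import Cfsg.Statements.S1157
import Cfsg.Agent.H8.ReeSylow2
import Cfsg.Agent.H8.Transport

set_option autoImplicit false
open Cfsg

namespace Cfsg.Agent.S1157

/-- In the small Ree group ²G₂(q), q = 3^(2m+1) with m ≥ 1, realised as G¹ inside the Chevalley group G₂ over the field with q elements (θ the 3^m-th power map): a Sylow 2-subgroup `S` of `G¹` satisfies `C(S) = S` and `|N(S)| = 168`. -/
theorem result {K : Type*} [Field K] [Fintype K] {m : ℕ} (hm : 1 ≤ m) (hK : Fintype.card K = 3 ^ (2 * m + 1))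
    (S : Sylow 2 ↥(Cfsg.Lie.twistedG2 K (3 ^ m))) :
    Subgroup.centralizer ((S : Subgroup ↥(Cfsg.Lie.twistedG2 K (3 ^ m))) : Set ↥(Cfsg.Lie.twistedG2 K (3 ^ m))) = S ∧
      Nat.card (Subgroup.normalizer ((S : Subgroup ↥(Cfsg.Lie.twistedG2 K (3 ^ m))) : Set ↥(Cfsg.Lie.twistedG2 K (3 ^ m)))) = 168 := by
  obtain ⟨T⟩ := H8.Ree.nonempty_tctx hK
  obtain ⟨e, he⟩ := H8.exists_equiv_map_sylow T.equiv S (T.sylowS0 (H8.Ree.card_mod_eight hK))
  rw [T.coe_sylowS0] at he
  constructor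
  · apply Subgroup.map_injective (f := e.toMonoidHom) e.injective
    rw [H8.map_centralizer_equiv, he, ← T.centralizer_S0, ← he]
    rfl
  · rw [← H8.card_map_equiv e, Subgroup.map_equiv_normalizer_eq, he, T.card_normalizer_S0]

end Cfsg.Agent.S1157
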