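import Cfsg.Statements.S1170
import Cfsg.Agent.H2.CMain
import Cfsg.Agent.H2.CEnd
import Cfsg.Agent.H2.CE1

set_option autoImplicit false
open Cfsg

namespace Cfsg.Agent.S1170

/-- Let G be a finite simple group and S a Sylow 2-subgroup of G containing a subgroup A of nilpotency class two (A is not commutative and its commutator subgroup is central in A) that is strongly closed in S. Then G is isomorphic to PSL(2,F) with the number of elements of F congruent to 7 or 9 modulo 16, to PSU(3) over a field with q² elements for q ≥ 4 a power of 2, to a simple group with the order of a Suzuki group, to PSL(3,F) or PSp(4,F) over a finite field F of characteristic 2 (with at least 4 elements in the symplectic case), or to the alternating group of degree 7. -/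
theorem result {G : Type*} [Group G] [Finite G] [IsSimpleGroup G] (S : Sylow 2 G) (A : Subgroup G) (hAS : Cfsg.IsStronglyClosed A (S : Subgroup G)) (hA1 : ¬ IsMulCommutative A) (hA2 : ⁅(⊤ : Subgroup A), ⊤⁆ ≤ Subgroup.center A) : (∃ (F : Type) (_ : Field F) (_ : Fintype F), (Fintype.card F % 16 = 7 ∨ Fintype.card F % 16 = 9) ∧ Nonempty (G ≃* Matrix.ProjectiveSpecialLinearGroup (Fin 2) F)) ∨ (∃ (F : Type) (_ : Field F) (_ : Fintype F) (q : ℕ), Fintype.card F = q ^ 2 ∧ Even q ∧ 4 ≤ q ∧ Nonempty (G ≃* Cfsg.PSU 3 F q)) ∨ Cfsg.IsSuzuki G ∨ (∃ (F : Type) (_ : Field F) (_ : Fintype F), CharP F 2 ∧ Nonempty (G ≃* Matrix.ProjectiveSpecialLinearGroup (Fin 3) F)) ∨ (∃ (F : Type) (_ : Field F) (_ : Fintype F), CharP F 2 ∧ 4 ≤ Fintype.card F ∧ Nonempty (G ≃* Cfsg.PSp 2 F)) ∨ Nonempty (G ≃* alternatingGroup (Fin 7)) := by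
  have h := H2.C2.SCl.of_sc (H24.syl_top_of_sylow Nat.prime_two S) hAS
  have h2 : H2.C2.Cl2 A := by
    have := Subgroup.map_mono (f := A.subtype) hA2
    rw [Subgroup.map_commutator, ← MonoidHom.range_eq_map, Subgroup.range_subtype,
      H23.map_subtype_center] at this
    exact this.trans inf_le_right
  rcases H2.C2.main h h2 hA1 with ⟨M, hM⟩ | ⟨W, X, R, R', q, ha, -⟩
  · rcases H2.C2.end_se hM h.two hA1 with e | e
    · exact Or.inr (Or.inl e)
    · exact Or.inr (Or.inr (Or.inl e))
  rcases ha.h.two_cases with rfl | h4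
  · rcases H2.C2.end_two ha with e | e
    · exact Or.inl e
    · exact Or.inr (Or.inr (Or.inr (Or.inr (Or.inr e))))
  by_cases hR : H2.C2.Rt W = ⊥
  · obtain ⟨F, _, _, -, e⟩ := (ha.geo h4).end3 hR
    exact Or.inr (Or.inr (Or.inr (Or.inl ⟨F, _, inferInstance, e⟩)))
  · obtain ⟨F, _, _, hF, e1, e2⟩ := (ha.geo h4).end4 hR
    exact Or.inr (Or.inr (Or.inr (Or.inr (Or.inl ⟨F, _, _, e1, hF ▸ h4, e2⟩))))

end Cfsg.Agent.S1170
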