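import Cfsg.Statements.S1179
import Mathlib
import Cfsg.Agent.H12.TIZ
import Cfsg.Agent.H8.SuzWrap
import Cfsg.Agent.H9.M24

set_option autoImplicit false
open Cfsg

namespace Cfsg.Agent.S1179

/-- Let G be a non-abelian finite simple group and A a nontrivial elementary abelian 2-subgroup such that, for every a ∈ A with a ≠ 1, every conjugate of A contained in C_G(a) equals A. Then G is isomorphic to PSL(n,F) over a finite field F of characteristic 2 (n ≥ 2), has the order of a Suzuki group, is isomorphic to PSU(3) over a field with q² elements (q ≥ 4 a power of 2), to an alternating group of degree n with 6 ≤ n ≤ 9, or is simple of the order of M₂₂, M₂₃, M₂₄ or He. -/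
theorem result {G : Type*} [Group G] [Finite G] [IsSimpleGroup G] (hna : ¬ IsMulCommutative G) (A : Subgroup G) (hA : Cfsg.IsElementaryAbelian 2 A) (hA1 : A ≠ ⊥) (hwc : ∀ a ∈ A, a ≠ 1 → ∀ g : G, A.map (MulAut.conj g).toMonoidHom ≤ Subgroup.centralizer ({a} : Set G) → A.map (MulAut.conj g).toMonoidHom = A) : (∃ (n : ℕ) (F : Type) (_ : Field F) (_ : Fintype F), 2 ≤ n ∧ CharP F 2 ∧ Nonempty (G ≃* Matrix.ProjectiveSpecialLinearGroup (Fin n) F)) ∨ Cfsg.IsSuzuki G ∨ (∃ (F : Type) (_ : Field F) (_ : Fintype F) (q : ℕ), Fintype.card F = q ^ 2 ∧ Even q ∧ 4 ≤ q ∧ Nonempty (G ≃* Cfsg.PSU 3 F q)) ∨ (∃ n : ℕ, 6 ≤ n ∧ n ≤ 9 ∧ Nonempty (G ≃* alternatingGroup (Fin n))) ∨ Cfsg.IsM22 G ∨ Cfsg.IsM23 G ∨ Cfsg.IsM24 G ∨ Cfsg.IsHe G := by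
  have hc : ∀ g : G, ∀ x ∈ H24.cj g A, ∀ y ∈ H24.cj g A, x * y = y * x := by
    intro g x hx y hy
    obtain ⟨a, ha, rfl⟩ := H24.mem_cj'.1 hx
    obtain ⟨b, hb, rfl⟩ := H24.mem_cj'.1 hy
    have e : a * b = b * a := congrArg Subtype.val (hA.1.is_comm.comm (⟨a, ha⟩ : A) ⟨b, hb⟩)
    calc g * a * g⁻¹ * (g * b * g⁻¹) = g * (a * b) * g⁻¹ := by group
      _ = g * b * g⁻¹ * (g * a * g⁻¹) := by rw [e]; group
  have h2 : H24.IsPi {2} A := H24.isPi_of_isPGroup Nat.prime_two fun g =>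
    ⟨1, Subtype.ext (by simpa using hA.2 g g.2)⟩
  have hs := H12.TI.sit_of hA hA1 (fun g => ?_) (fun g hg => ?_)
  · rcases H12.TI.simp_all G hna _ A hs ⟨1, H24.cj_one A⟩ with
      ⟨F, _, _, n, hF, hn, e⟩ | h | ⟨F, _, _, m, hm, hF, e⟩ | h | ⟨⟨e⟩⟩ | ⟨⟨e⟩⟩ | ⟨⟨e⟩⟩
    · exact Or.inl ⟨n, F, inferInstance, inferInstance, hn, hF ▸ ringChar.charP F, e⟩
    · exact Or.inr (Or.inl (H8.Suz.isSuzuki_of_iso h))
    · refine Or.inr (Or.inr (Or.inl ⟨F, inferInstance, inferInstance, 2 ^ m, ?_,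
        (Nat.even_pow' (by omega)).mpr even_two, Nat.pow_le_pow_right (n := 2) (by norm_num) hm, e⟩))
      rw [hF, ← pow_mul, mul_comm, pow_mul]; rfl
    · exact Or.inr (Or.inr (Or.inr (Or.inl h)))
    · exact Or.inr (Or.inr (Or.inr (Or.inr (Or.inl
        ⟨inferInstance, (Nat.card_congr e.toEquiv).trans H9.card_M22⟩))))
    · exact Or.inr (Or.inr (Or.inr (Or.inr (Or.inr (Or.inl
        ⟨inferInstance, (Nat.card_congr e.toEquiv).trans H9.card_M23⟩)))))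
    · exact Or.inr (Or.inr (Or.inr (Or.inr (Or.inr (Or.inr (Or.inl
        ⟨inferInstance, (Nat.card_congr e.toEquiv).trans H9.card_M24⟩))))))
  · by_cases e : H24.cj g A ⊓ A = ⊥
    · exact Or.inr e
    · obtain ⟨x, hx, x1⟩ := H24.exists_ne_one e
      exact Or.inl (hwc x hx.2 x1 g fun y hy => H24.mem_C1.2 (hc g y hy x hx.1))
  · obtain ⟨x, hx, x1⟩ := H24.exists_ne_one (H24.IsPi.inf_C_ne_bot Nat.prime_two (h2.cj g) h2 hg hA1)
    exact hwc x hx.1 x1 g (H24.mem_C_iff_le_C1.1 hx.2)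

end Cfsg.Agent.S1179
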