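import Cfsg.Statements.S1236
import Mathlib
import Cfsg.Agent.H22.Harada33

set_option autoImplicit false
open Cfsg

namespace Cfsg.Agent.S1236

/-- Let R be a finite group, t a central involution of R such that R ⧸ ⟨t⟩ is dihedral (of order ≥ 4) or quasi-dihedral, and A ≤ R an elementary abelian subgroup of order 8 containing t. Then C_R(A) = A. -/
theorem result {R : Type*} [Group R] [Finite R] (t : R) (ht : orderOf t = 2) (htz : t ∈ Subgroup.center R) [(Subgroup.zpowers t).Normal] (hq : (∃ m : ℕ, 2 ≤ m ∧ Nonempty (R ⧸ Subgroup.zpowers t ≃* DihedralGroup m)) ∨ Cfsg.IsQuasiDihedral (R ⧸ Subgroup.zpowers t)) (A : Subgroup R) (hA : Cfsg.IsElementaryAbelian 2 A) (hA8 : Nat.card A = 8) (htA : t ∈ A) : Subgroup.centralizer (A : Set R) = A := by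
  have hA2 : ∀ x ∈ A, x * x = 1 := fun x hx => by rw [← sq, hA.2 x hx]
  have hk : (QuotientGroup.mk' (Subgroup.zpowers t)).ker ≤ A := by
    rw [QuotientGroup.ker_mk']; exact Subgroup.zpowers_le.2 htA
  refine le_antisymm (H22.centralizer_le_of_map_four _ hq hA2 hk ?_)
    fun x hx y hy => H22.comm_of_sq hA2 y hy x hx
  have := H2.card_mul_relIndex hk
  rw [Subgroup.relIndex_ker, QuotientGroup.ker_mk', Nat.card_zpowers, ht, hA8] at this
  omega

end Cfsg.Agent.S1236
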