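import Cfsg.Statements.S1245
import Mathlib
import Cfsg.Agent.H18.JRCore
import Cfsg.Agent.H12.JRSetup
import Cfsg.Agent.H18.PSL2Ev

set_option autoImplicit false
open Cfsg

namespace Cfsg.Agent.S1245

open H24 H26 Subgroup

/-- Let G be a non-abelian finite simple group with commutative Sylow 2-subgroups, and t an involution whose centralizer is the internal direct product of ⟨t⟩ and a subgroup E which has a normal subgroup E₀ ≅ PSL(2,F), |F| odd, with C_E(E₀) = 1 (so PSL(2,q) ≤ E ≤ Aut PSL(2,q)). Then C_G(t) is a maximal subgroup of G. -/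
theorem result {G : Type*} [Group G] [Finite G] [IsSimpleGroup G] (hna : ¬ IsMulCommutative G) (S : Sylow 2 G) (hS : IsMulCommutative (S : Subgroup G)) (t : G) (ht : orderOf t = 2) (E E₀ : Subgroup G) (hprod : Cfsg.IsInternalDirectProduct (Subgroup.zpowers t) E (Subgroup.centralizer ({t} : Set G))) (hE₀E : E₀ ≤ E) (hE₀n : (E₀.subgroupOf E).Normal) (hE₀ : ∃ (F : Type) (_ : Field F) (_ : Fintype F), Odd (Fintype.card F) ∧ Nonempty (E₀ ≃* Matrix.ProjectiveSpecialLinearGroup (Fin 2) F)) (hCE : E ⊓ Subgroup.centralizer (E₀ : Set G) = ⊥) : IsCoatom (Subgroup.centralizer ({t} : Set G)) := by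
  obtain ⟨F, _, _, hF, ⟨e⟩⟩ := hE₀
  have h12 : 12 ∣ Nat.card E₀ := by
    have h1 := H7.card_psl_two (F := F) rfl
    rw [← Nat.card_congr e.toEquiv] at h1
    obtain ⟨k, hk⟩ := hF
    rw [hk, Nat.add_sub_cancel, Nat.gcd_eq_left (dvd_mul_right 2 k),
      show (2 * k + 1) ^ 2 - 1 = 4 * (k * (k + 1)) by
        rw [Nat.sub_eq_iff_eq_add (Nat.one_le_pow _ _ (by omega))]; ring] at h1
    have h2 : Nat.card E₀ = 2 * (k * (k + 1) * (2 * k + 1)) := by
      apply Nat.eq_of_mul_eq_mul_left two_pos; rw [h1]; ring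
    rw [h2]
    refine Nat.mul_dvd_mul_left 2 (show 6 ∣ _ from ?_)
    rw [← ZMod.natCast_eq_zero_iff]
    push_cast
    generalize (k : ZMod 6) = z
    revert z; decide
  have hS' := syl_top_of_sylow Nat.prime_two S
  have hEC : E₀ ≤ C{t} := hE₀E.trans hprod.2.1
  refine (H1.core_eq_bot hna hS' hS (fun h4 => ?_) ?_ ht).2
  · have h1 := card_sup_of_inf (A := E₀) (B := zpowers t)
      (norm_of_cent (zpowers_le.2 (mem_C_iff_le_C1.2 hEC)))
      (eq_bot_of_le hprod.2.2.2.1 (le_inf inf_le_right (inf_le_left.trans hE₀E)))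
    rw [card_zpowers', ht] at h1
    have h2 : 8 ∣ ♯(⊤ : Subgroup G) := by
      refine Dvd.dvd.trans ?_ (card_dvd (le_top (a := E₀ ⊔ zpowers t)))
      rw [h1]
      exact Nat.mul_dvd_mul ((show 4 ∣ 12 by norm_num).trans h12) (dvd_refl 2)
    have h3 := hS'.dvd_card (n := 8) (piNat_self_pow Nat.prime_two 3) h2
    rw [h4] at h3
    exact absurd h3 (by decide)
  · rintro ⟨H, hH⟩
    obtain ⟨a, ha, K, _, _, hK, ⟨f⟩⟩ := H1.psl_of_se hS' hS hH
    obtain ⟨x, hx, h3⟩ := exists_orderOf_eq Nat.prime_three ((show 3 ∣ 12 by norm_num).trans h12)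
    have h2 : (2 : K) = 0 := by
      have h := FiniteField.cast_card_eq_zero K
      rw [hK, Nat.cast_pow, pow_eq_zero_iff (by omega)] at h
      exact_mod_cast h
    have h4 := H18.psl2_sq_of_comm h2 (t := f t) (g := f x)
      (by rw [← map_mul, H13.Dih.sq_of ht, map_one])
      (by rw [Ne, EmbeddingLike.map_eq_one_iff]; exact H13.Dih.ne_one_of ht)
      (by rw [← map_mul, ← map_mul, mem_C1.1 (hEC hx)])
    rw [← map_mul, EmbeddingLike.map_eq_one_iff, ← pow_two, ← orderOf_dvd_iff_pow_eq_one, h3] at h4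
    exact absurd h4 (by decide)

end Cfsg.Agent.S1245
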