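import Cfsg.Statements.S1257
import Mathlib
import Cfsg.Agent.H22.Herzog
import Cfsg.Agent.H22.Simp
import Cfsg.Agent.H25.Std0
import Cfsg.Agent.S0201
import Cfsg.Agent.S0507

set_option autoImplicit false
open Cfsg

namespace Cfsg.Agent.S1257

/-- Let G be a finite simple group whose number of involutions is ≡ 1 (mod 4). Then G has order 2, or G ≅ A₇, or G is simple of order 7920, or G ≅ PSL(2,F) with |F| odd, |F| > 3 and |F| ≡ ±1 (mod 8), or G ≅ PSL(3,F) with |F| ≡ 3 (mod 4), or G ≅ PSU(3) over a field with q² elements where q ≡ 1 (mod 4). -/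
theorem result {G : Type*} [Group G] [Finite G] [IsSimpleGroup G] (hI : Nat.card {t : G // orderOf t = 2} % 4 = 1) : Nat.card G = 2 ∨ Nonempty (G ≃* alternatingGroup (Fin 7)) ∨ Cfsg.IsM11 G ∨ (∃ (F : Type) (_ : Field F) (_ : Fintype F), 3 < Fintype.card F ∧ (Fintype.card F % 8 = 1 ∨ Fintype.card F % 8 = 7) ∧ Nonempty (G ≃* Matrix.ProjectiveSpecialLinearGroup (Fin 2) F)) ∨ (∃ (F : Type) (_ : Field F) (_ : Fintype F), Fintype.card F % 4 = 3 ∧ Nonempty (G ≃* Matrix.ProjectiveSpecialLinearGroup (Fin 3) F)) ∨ (∃ (F : Type) (_ : Field F) (_ : Fintype F) (q : ℕ), Fintype.card F = q ^ 2 ∧ q % 4 = 1 ∧ Nonempty (G ≃* Cfsg.PSU 3 F q)) := by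
  obtain ⟨⟨t, ht⟩⟩ : Nonempty {t : G // orderOf t = 2} :=
    (Nat.card_ne_zero.1 (by omega)).1
  have h2 : 2 ∣ Nat.card G := ht ▸ orderOf_dvd_natCard t
  by_cases hG : IsMulCommutative G
  · open scoped IsMulCommutative in
    exact Or.inl ((Nat.prime_dvd_prime_iff_eq Nat.prime_two IsSimpleGroup.prime_card).1 h2).symm
  obtain ⟨S⟩ : Nonempty (Sylow 2 G) := inferInstance
  have hc := H25.LB.not_isCyclic_sylow_of_perfect (H22.perfect_of_simple hG).commutator_eq_top h2 S
  rcases H22.Hz.herzog S hI hc with ⟨n, hn, ⟨e⟩⟩ | ⟨n, ⟨e⟩⟩ | h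
  · rcases H22.gw_simple hG S n (by omega) ⟨e⟩ with ⟨F, _, _, h1, h3, ⟨f⟩⟩ | h
    · refine Or.inr (Or.inr (Or.inr (Or.inl ⟨F, _, _, h3, ?_, ⟨f⟩⟩)))
      obtain ⟨k, hk⟩ := IsPGroup.iff_card.1 S.isPGroup'
      have h4 : 2 ^ 3 ∣ Nat.card G := by
        refine (pow_dvd_pow 2 (by_contra fun h => ?_)).trans
          (hk ▸ (S : Subgroup G).card_subgroup_dvd_card)
        rw [Nat.card_congr e.toEquiv, DihedralGroup.nat_card] at hk
        have : k ≤ 2 := by omega
        interval_cases k <;> omega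
      have h5 := H7.card_psl_two (F := F) rfl
      rw [← Nat.card_congr f.toEquiv, Nat.gcd_eq_left (Nat.Odd.sub_odd h1 odd_one).two_dvd] at h5
      have h6 : 2 ^ 4 ∣ Fintype.card F ^ 2 - 1 :=
        ((Nat.coprime_two_left.2 h1).pow_left 4).dvd_of_dvd_mul_left (h5 ▸ mul_dvd_mul_left 2 h4)
      have h7 := (Nat.modEq_iff_dvd' (Nat.one_le_pow _ _ Fintype.card_pos)).2 h6
      generalize Fintype.card F = q at *
      rw [Nat.ModEq, Nat.pow_mod] at h7
      have : q % 16 < 16 := Nat.mod_lt _ (by norm_num)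
      rw [← Nat.mod_mod_of_dvd q (show 8 ∣ 16 by norm_num)]
      generalize q % 16 = r at *
      interval_cases r <;> simp at h7 ⊢
    · exact Or.inr (Or.inl h)
  · exfalso
    obtain ⟨k, hk⟩ := IsPGroup.iff_card.1 S.isPGroup'
    have hn : n ≠ 0 := by
      rintro rfl
      have : Finite (QuaternionGroup 0) := Finite.of_equiv _ e.toEquiv
      have : Finite ℤ :=
        Finite.of_injective (QuaternionGroup.a (n := 0)) fun _ _ h => by cases h; rfl
      exact not_finite ℤ
    have : NeZero n := ⟨hn⟩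
    rw [Nat.card_congr e.toEquiv, Nat.card_eq_fintype_card, QuaternionGroup.card] at hk
    obtain ⟨j, -, rfl⟩ := (Nat.dvd_prime_pow Nat.prime_two).1 (Dvd.intro_left 4 hk)
    rcases j with _ | j
    · exact hc (e.isCyclic.2 QuaternionGroup.quaternionGroup_one_isCyclic)
    have := S0201.result S j e fun N hN hodd => hN.eq_bot_or_eq_top.resolve_right (by
      rintro rfl
      rw [Subgroup.card_top] at hodd
      exact hodd.not_two_dvd_nat h2)
    rw [H22.center_of_simple hG] at this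
    simp at this
  · rcases S0507.result S h with h | h | h
    exacts [Or.inr (Or.inr (Or.inr (Or.inr (Or.inl h)))),
      Or.inr (Or.inr (Or.inr (Or.inr (Or.inr h)))), Or.inr (Or.inr (Or.inl h))]

end Cfsg.Agent.S1257
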