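import Cfsg.Statements.S1258
import Mathlib
import Cfsg.Agent.H23.Components

set_option autoImplicit false
open Cfsg
open scoped commutatorElement

namespace Cfsg.Agent.S1258

/-- If the central quotient of a finite group X is non-abelian simple, then X = X' Z(X) and the commutator subgroup X' is quasisimple. -/
theorem result {X : Type*} [Group X] [Finite X] (hs : IsSimpleGroup (X ⧸ Subgroup.center X)) (hna : ¬ IsMulCommutative (X ⧸ Subgroup.center X)) : commutator X ⊔ Subgroup.center X = ⊤ ∧ Cfsg.IsQuasisimple ↥(commutator X) := by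
  have hq := H23.isQuasisimple_of_simple hs hna
  have hsurj := QuotientGroup.mk'_surjective (Subgroup.center X)
  have h0 : (commutator X).map (QuotientGroup.mk' (Subgroup.center X)) = ⊤ := by
    rw [map_commutator_eq, MonoidHom.range_eq_top_of_surjective _ hsurj]
    exact hq.1.commutator_eq_top
  have h1 : commutator X ⊔ Subgroup.center X = ⊤ := by
    have := Subgroup.comap_map_eq (QuotientGroup.mk' (Subgroup.center X)) (commutator X)
    rw [h0, QuotientGroup.ker_mk', Subgroup.comap_top] at this
    exact this.symm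
  refine ⟨h1, ?_⟩
  have h2 : ⁅commutator X, commutator X⁆ = commutator X := by
    refine le_antisymm (Subgroup.commutator_le_self _) ?_
    rw [commutator_def, Subgroup.commutator_le]
    intro a _ b _
    obtain ⟨a', ha', z, hz, rfl⟩ := Subgroup.mem_sup_of_normal_right.mp (h1 ▸ Subgroup.mem_top a)
    obtain ⟨b', hb', w, hw, rfl⟩ := Subgroup.mem_sup_of_normal_right.mp (h1 ▸ Subgroup.mem_top b)
    have e : ⁅a' * z, b' * w⁆ = ⁅a', b'⁆ := by
      have hz' := Subgroup.mem_center_iff.mp hz
      have hw' := Subgroup.mem_center_iff.mp hw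
      simp only [commutatorElement_def, mul_inv_rev]
      calc a' * z * (b' * w) * (z⁻¹ * a'⁻¹) * (w⁻¹ * b'⁻¹)
          = a' * (z * (b' * w)) * z⁻¹ * (a'⁻¹ * w⁻¹) * b'⁻¹ := by group
        _ = a' * ((b' * w) * z) * z⁻¹ * (w⁻¹ * a'⁻¹) * b'⁻¹ := by
          rw [← hz' (b' * w), ← mul_inv_rev, ← mul_inv_rev, hw' a']
        _ = a' * b' * a'⁻¹ * b'⁻¹ := by group
    rw [e]
    exact Subgroup.commutator_mem_commutator ha' hb'
  refine H23.IsQuasisimple.of_central_ker hq
    (f := (QuotientGroup.mk' (Subgroup.center X)).comp (commutator X).subtype) ?_ ?_ ?_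
  · rw [← MonoidHom.range_eq_top, MonoidHom.range_comp, Subgroup.range_subtype, h0]
  · intro x hx
    have : (x : X) ∈ Subgroup.center X := by simpa using hx
    exact Subgroup.mem_center_iff.mpr fun g => Subtype.ext (Subgroup.mem_center_iff.mp this g)
  · exact (Subgroup.isPerfect_iff.mpr h2).commutator_eq_top

end Cfsg.Agent.S1258
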