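import Cfsg.Statements.S1263
import Mathlib
import Cfsg.Agent.H23.Components

set_option autoImplicit false
open Cfsg

namespace Cfsg.Agent.S1263

/-- For a finite group G, Z(E(G)) is the subgroup generated by the centres Z(L) of the components L of G (all viewed as subgroups of G). -/
theorem result {G : Type*} [Group G] [Finite G] : (Subgroup.center ↥(Cfsg.layer G)).map (Cfsg.layer G).subtype = ⨆ L : {K : Subgroup G // Cfsg.IsComponent K}, (Subgroup.center ↥(L : Subgroup G)).map (L : Subgroup G).subtype := by
  simp only [H23.map_subtype_center]
  apply le_antisymm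
  · refine (H23.center_sSup_components {K : Subgroup G | Cfsg.IsComponent K}
      (fun L hL => hL)).trans (iSup₂_le fun L hL => ?_)
    exact le_iSup (fun L : {K : Subgroup G // Cfsg.IsComponent K} =>
      (L : Subgroup G) ⊓ Subgroup.centralizer ((L : Subgroup G) : Set G)) ⟨L, hL⟩
  · exact iSup_le fun L => H23.component_center_le_center_layer L.2

end Cfsg.Agent.S1263
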