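import Cfsg.Statements.S1273
import Mathlib
import Cfsg.Agent.H23.PComp

set_option autoImplicit false
open Cfsg

namespace Cfsg.Agent.S1273

/-- Let K be a p-component of the finite group X and N a normal subgroup of K whose index in K is prime to p. Then N = K. -/
theorem result {X : Type*} [Group X] [Finite X] (p : ℕ) [Fact p.Prime] (K : Subgroup X) (hK : Cfsg.IsPComponent p K) (N : Subgroup ↥K) [N.Normal] (hidx : (N.index).Coprime p) : N = ⊤ := by
  have h1 : K ≤ N.map K.subtype := by
    conv_lhs => rw [← H23.IsPComponent.pGen_eq hK]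
    rw [H23.pGen_le_iff]
    intro P hPK hP
    have h2 : P.subgroupOf K ≤ N := by
      have h3 : IsPGroup p ((P.subgroupOf K).map (QuotientGroup.mk' N)) := (hP.comap_subtype).map _
      have h4 : (Nat.card ((P.subgroupOf K).map (QuotientGroup.mk' N))).Coprime p :=
        Nat.Coprime.coprime_dvd_left (Subgroup.card_subgroup_dvd_card _) hidx
      have h5 := H23.inf_eq_bot_of_isPGroup_of_cop h3 h4
      rw [inf_idem, Subgroup.map_eq_bot_iff, QuotientGroup.ker_mk'] at h5
      exact h5
    rw [← Subgroup.map_subgroupOf_eq_of_le hPK]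
    exact Subgroup.map_mono h2
  rw [eq_top_iff]
  intro x _
  obtain ⟨y, hy, e⟩ := h1 x.2
  rwa [show x = y from Subtype.ext e.symm]

end Cfsg.Agent.S1273
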