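import Cfsg.Statements.S1277
import Mathlib
import Cfsg.Agent.H23.PComp

set_option autoImplicit false
open Cfsg

namespace Cfsg.Agent.S1277

/-- For a finite group X with core O(X): the image of E(X) in X / O(X) is all of E(X / O(X)) if and only if every 2-component of X is a component, i.e. L_{2'}(X) ≤ E(X). -/
theorem result {X : Type*} [Group X] [Finite X] : (Cfsg.layer X).map (QuotientGroup.mk' (Cfsg.oddCore X)) = Cfsg.layer (X ⧸ Cfsg.oddCore X) ↔ Cfsg.pLayer 2 X ≤ Cfsg.layer X := by
  constructor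
  · intro h
    refine H23.pLayer_le fun K hK => ?_
    have h1 : layer (X ⧸ pPrimeCore 2 X) =
        sSup ((fun L => L.map (H23.piO 2 X)) '' {L : Subgroup X | IsComponent L ∧
          ¬ L ≤ pPrimeCore 2 X}) := by
      apply le_antisymm
      · rw [← h, Subgroup.map_le_iff_le_comap]
        refine H23.layer_le fun L hL => ?_
        by_cases h2 : L ≤ pPrimeCore 2 X
        · exact h2.trans ((H23.ker_piO 2 X).symm.le.trans (Subgroup.ker_le_comap _ _))
        · rw [← Subgroup.map_le_iff_le_comap]
          exact le_sSup ⟨L, ⟨hL, h2⟩, rfl⟩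
      · refine sSup_le ?_
        rintro _ ⟨L, ⟨hL, h2⟩, rfl⟩
        exact H23.le_layer (H23.isPComponent_iff'.mp (H23.IsComponent.isPComponent hL h2)).2.2
    have h3 := (H23.isPComponent_iff'.mp hK).2.2
    obtain ⟨L, ⟨hL, h2⟩, e⟩ := H23.IsComponent.mem_of_le_sSup (by
      rintro _ ⟨L, ⟨hL, h2⟩, rfl⟩
      exact (H23.isPComponent_iff'.mp (H23.IsComponent.isPComponent hL h2)).2.2) h3
      (h1 ▸ H23.le_layer h3)
    rw [← H23.IsPComponent.eq_of_map_eq (H23.IsComponent.isPComponent hL h2) hK e]
    exact H23.le_layer hL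
  · intro h
    apply le_antisymm (H23.map_layer_le (H23.piO_surj 2 X))
    rw [← H23.map_pLayer_piO 2 X]
    exact Subgroup.map_mono h

end Cfsg.Agent.S1277
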