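import Cfsg.Statements.S1278
import Mathlib
import Cfsg.Agent.H23.PComp

set_option autoImplicit false
open Cfsg

namespace Cfsg.Agent.S1278

/-- Let K ≠ L be 2-components of the finite group X. Then ⁅K, L⁆ ≤ O(K) ⊓ O(L), and if K is quasisimple then ⁅K, L⁆ = 1. -/
theorem result {X : Type*} [Group X] [Finite X] (K L : Subgroup X) (hK : Cfsg.IsPComponent 2 K) (hL : Cfsg.IsPComponent 2 L) (hne : K ≠ L) : ⁅K, L⁆ ≤ ((Cfsg.oddCore ↥K).map K.subtype) ⊓ ((Cfsg.oddCore ↥L).map L.subtype) ∧ (Cfsg.IsQuasisimple ↥K → ⁅K, L⁆ = ⊥) := by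
  have h1 := (H23.IsPComponent.eq_or_comm_le hK hL).resolve_left hne
  have h2 := H23.IsPComponent.le_normalizer_pcomp hK hL
  have h3 := H23.IsPComponent.le_normalizer_pcomp hL hK
  refine ⟨le_inf ?_ ?_, fun hq => ?_⟩
  · exact (le_inf h1 (H23.commutator_le_left_of h2)).trans (H23.pPrimeCore_inf_le_opp 2 K)
  · exact (le_inf h1 (H23.commutator_le_right_of h3)).trans (H23.pPrimeCore_inf_le_opp 2 L)
  · rcases H23.IsComponent.le_or_comm (H23.IsPComponent.isComponent_of_quasisimple hK hq)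
      (H23.isPComponent_iff.mp hL).1 with h | h
    · exact absurd (H23.IsPComponent.eq_of_le hK hL h) hne
    · exact h

end Cfsg.Agent.S1278
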