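import Cfsg.Statements.S1279
import Mathlib
import Cfsg.Agent.H23.Sig1
import Cfsg.Agent.H23.Ext
import Cfsg.Agent.H13.PConstrained

set_option autoImplicit false
open Cfsg

namespace Cfsg.Agent.S1279

/-- Let A be a noncyclic elementary abelian p-subgroup of the finite group G such that C_G(a) is solvable for every non-identity a ∈ A. Then a ↦ O_{p'}(C_G(a)) is a solvable A-signalizer functor on G. -/
theorem result {G : Type*} [Group G] [Finite G] (p : ℕ) [Fact p.Prime] (A : Subgroup G) (hA : Cfsg.IsElementaryAbelian p A) (hA2 : p ^ 2 ≤ Nat.card ↥A) (hsolv : ∀ a ∈ A, a ≠ 1 → Group.IsSolvable ↥(Subgroup.centralizer ({a} : Set G))) : Cfsg.IsSolvableSignalizerFunctor p A (fun a => Cfsg.centralizerPPrimeCore p a) := by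
  refine ⟨⟨fun a _ _ => H23.cpp_le p a, fun a _ _ => H23.cop_iff_not_dvd.1 (H23.cpp_cop p a),
    fun a ha _ b hb x hx => H23.conj_mem (H23.centralizer_le_normalizer_cpp p a)
      (H23.IsElementaryAbelian.le_centralizer_singleton hA ha hb) hx, ?_⟩,
    fun a ha h1 => H23.solvable_of_le (H23.cpp_le p a) (hsolv a ha h1)⟩
  intro a ha h1 b hb hb1
  have hab : a ∈ Subgroup.centralizer ({b} : Set G) :=
    H23.IsElementaryAbelian.le_centralizer_singleton hA hb ha
  have := hsolv b hb hb1
  have hL : Cfsg.pLayer p (Subgroup.centralizer ({b} : Set G)) = ⊥ :=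
    H23.isPConstrained_iff.1 H13.isPConstrained_of_isSolvable
  have h2 := H23.cpp_le_of_pLayer_eq_bot hL (x := ⟨a, hab⟩)
    (H23.isPGroup_zpowers_of_pow (Subtype.ext (hA.2 a ha)))
  have h3 := Subgroup.map_mono (f := (Subgroup.centralizer ({b} : Set G)).subtype) h2
  rw [H23.cpp_subgroup] at h3
  refine le_trans ?_ h3
  show H23.opp p (Subgroup.centralizer ({a} : Set G)) ⊓ _ ≤ _
  exact H23.le_opp_of_le_opp inf_le_left (le_inf inf_le_right (inf_le_left.trans (H23.opp_le _ _)))
    inf_le_right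

end Cfsg.Agent.S1279
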