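import Cfsg.Statements.S1281
import Mathlib
import Cfsg.Agent.H23.Sig1

set_option autoImplicit false
open Cfsg

namespace Cfsg.Agent.S1281

/-- Let θ be a solvable A-signalizer functor on the finite group G (A a noncyclic elementary abelian p-subgroup) and N a normal subgroup of order prime to p. Then for all non-identity a, b ∈ A, the image of θ a in G / N meets the centralizer of the image of b inside the image of θ b. -/
theorem result {G : Type*} [Group G] [Finite G] (p : ℕ) [Fact p.Prime] (A : Subgroup G) (hA : Cfsg.IsElementaryAbelian p A) (hA2 : p ^ 2 ≤ Nat.card ↥A) (θ : G → Subgroup G) (hθ : Cfsg.IsSolvableSignalizerFunctor p A θ) (N : Subgroup G) [N.Normal] (hN : ¬ p ∣ Nat.card ↥N) (a b : G) (ha : a ∈ A) (ha1 : a ≠ 1) (hb : b ∈ A) (hb1 : b ≠ 1) : (θ a).map (QuotientGroup.mk' N) ⊓ Subgroup.centralizer {QuotientGroup.mk' N b} ≤ (θ b).map (QuotientGroup.mk' N) := by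
  have hp : p.Prime := Fact.out
  have hS := H23.sf_of hp hA hθ
  rintro _ ⟨⟨x, hx, rfl⟩, hc⟩
  have hz : Subgroup.zpowers b ≤ A := Subgroup.zpowers_le.2 hb
  obtain ⟨v, hv, hvx⟩ := H26.coprime_lift_cent (A := Subgroup.zpowers b) (V := N ⊓ θ a) (g := x)
    (H24.norm_inf (H24.norm_of_normal _ _) (hz.trans (hS.inv a ha ha1)))
    (hS.cop ((hS.pi a ha ha1).inf_right _) hz) (Or.inr (hS.solA.of_le hz)) (by
      intro c hc'
      refine ⟨?_, (θ a).mul_mem (H24.conj_mem (hS.inv a ha ha1 (hz hc')) hx) ((θ a).inv_mem hx)⟩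
      have h1 : QuotientGroup.mk' N c ∈ Subgroup.centralizer {QuotientGroup.mk' N x} := by
        have h2 : Subgroup.zpowers (QuotientGroup.mk' N b) ≤
            Subgroup.centralizer {QuotientGroup.mk' N x} :=
          Subgroup.zpowers_le.2 (H24.mem_C1_comm.1 hc)
        apply h2
        rw [← MonoidHom.map_zpowers]
        exact Subgroup.mem_map_of_mem _ hc'
      show _ ∈ N
      rw [← QuotientGroup.ker_mk' N, MonoidHom.mem_ker]
      simp only [map_mul, map_inv]
      rw [H24.mem_C1.1 h1]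
      group)
  rw [H24.C_zpowers] at hvx
  refine ⟨v * x, hS.bal a ha ha1 b hb hb1 ⟨(θ a).mul_mem hv.2 hx, hvx⟩, ?_⟩
  rw [map_mul, show QuotientGroup.mk' N v = 1 from (QuotientGroup.eq_one_iff v).2 hv.1, one_mul]

end Cfsg.Agent.S1281
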