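import Cfsg.Statements.S1286
import Mathlib
import Cfsg.Agent.H23.Sig1

set_option autoImplicit false
open Cfsg

namespace Cfsg.Agent.S1286

open Equiv in
/-- the elements -/
def s : Perm (Fin 5) := swap 0 1
open Equiv in
def t : Perm (Fin 5) := swap 2 3
def x : Equiv.Perm (Fin 5) := Equiv.swap 2 3 * Equiv.swap 3 4
def y : Equiv.Perm (Fin 5) := Equiv.swap 0 1 * Equiv.swap 1 4

def A : Subgroup (Equiv.Perm (Fin 5)) where
  carrier := {g | g = 1 ∨ g = s ∨ g = t ∨ g = s * t}
  mul_mem' := by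
    rintro a b (rfl | rfl | rfl | rfl) (rfl | rfl | rfl | rfl) <;>
      simp only [Set.mem_setOf_eq] <;> decide
  one_mem' := Or.inl rfl
  inv_mem' := by
    rintro a (rfl | rfl | rfl | rfl) <;> simp only [Set.mem_setOf_eq] <;> decide

def X : Subgroup (Equiv.Perm (Fin 5)) where
  carrier := {g | g = 1 ∨ g = x ∨ g = x * x}
  mul_mem' := by
    rintro a b (rfl | rfl | rfl) (rfl | rfl | rfl) <;>
      simp only [Set.mem_setOf_eq] <;> decide
  one_mem' := Or.inl rfl
  inv_mem' := by
    rintro a (rfl | rfl | rfl) <;> simp only [Set.mem_setOf_eq] <;> decide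

def Y : Subgroup (Equiv.Perm (Fin 5)) where
  carrier := {g | g = 1 ∨ g = y ∨ g = y * y}
  mul_mem' := by
    rintro a b (rfl | rfl | rfl) (rfl | rfl | rfl) <;>
      simp only [Set.mem_setOf_eq] <;> decide
  one_mem' := Or.inl rfl
  inv_mem' := by
    rintro a (rfl | rfl | rfl) <;> simp only [Set.mem_setOf_eq] <;> decide

theorem memA {g : Equiv.Perm (Fin 5)} : g ∈ A ↔ g = 1 ∨ g = s ∨ g = t ∨ g = s * t := Iff.rfl
theorem memX {g : Equiv.Perm (Fin 5)} : g ∈ X ↔ g = 1 ∨ g = x ∨ g = x * x := Iff.rfl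
theorem memY {g : Equiv.Perm (Fin 5)} : g ∈ Y ↔ g = 1 ∨ g = y ∨ g = y * y := Iff.rfl

def th (g : Equiv.Perm (Fin 5)) : Subgroup (Equiv.Perm (Fin 5)) :=
  if g = s then X else if g = t then Y else ⊥

theorem th_s : th s = X := by simp [th]
theorem th_t : th t = Y := by
  unfold th
  rw [if_neg (by decide), if_pos rfl]
theorem th_st : th (s * t) = ⊥ := by
  unfold th
  rw [if_neg (by decide), if_neg (by decide)]

theorem cardA : Nat.card A = 4 := by
  have : (A : Set (Equiv.Perm (Fin 5))) = ({1, s, t, s * t} : Finset (Equiv.Perm (Fin 5))) := by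
    ext g
    simp [memA]
  rw [← SetLike.coe_sort_coe, this, Nat.card_coe_set_eq, Set.ncard_coe_finset]
  decide

theorem pow3X : ∀ g ∈ X, g ^ 3 = 1 := by
  rintro g (rfl | rfl | rfl) <;> decide
theorem pow3Y : ∀ g ∈ Y, g ^ 3 = 1 := by
  rintro g (rfl | rfl | rfl) <;> decide

theorem odd_of_pow3 {H : Subgroup (Equiv.Perm (Fin 5))} (h : ∀ g ∈ H, g ^ 3 = 1) :
    ¬ 2 ∣ Nat.card H := by
  intro hd
  obtain ⟨g, hg, ho⟩ := H24.exists_orderOf_eq Nat.prime_two hd
  have := orderOf_dvd_of_pow_eq_one (h g hg)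
  rw [ho] at this
  omega

theorem solv_of_pow3 {H : Subgroup (Equiv.Perm (Fin 5))} (h : ∀ g ∈ H, g ^ 3 = 1) :
    Group.IsSolvable H :=
  (H24.isPi_of_isPGroup Nat.prime_three (H2.isPGroup_of_forall_pow_eq_one h)).sol Nat.prime_three

/-- There exist a finite group X, an elementary abelian subgroup A of order 4 and a solvable A-signalizer functor θ on X for the prime 2 which is not complete. -/
theorem result : ∃ (X : Type) (_ : Group X) (_ : Finite X) (A : Subgroup X) (θ : X → Subgroup X), Cfsg.IsElementaryAbelian 2 A ∧ Nat.card ↥A = 4 ∧ Cfsg.IsSolvableSignalizerFunctor 2 A θ ∧ ¬ Cfsg.IsCompleteSignalizerFunctor 2 A θ := by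
  refine ⟨Equiv.Perm (Fin 5), inferInstance, inferInstance, A, th, ⟨?_, ?_⟩, cardA,
    ⟨⟨?_, ?_, ?_, ?_⟩, ?_⟩, ?_⟩
  · refine H25.abl_iff.2 ?_
    rintro a (rfl | rfl | rfl | rfl) b (rfl | rfl | rfl | rfl) <;> decide
  · rintro a (rfl | rfl | rfl | rfl) <;> decide
  · rintro a (rfl | rfl | rfl | rfl) h
    · exact absurd rfl h
    · rw [th_s]
      rintro g (rfl | rfl | rfl) <;> rw [H24.mem_C1] <;> decide
    · rw [th_t]
      rintro g (rfl | rfl | rfl) <;> rw [H24.mem_C1] <;> decide
    · rw [th_st]; exact bot_le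
  · rintro a (rfl | rfl | rfl | rfl) h
    · exact absurd rfl h
    · rw [th_s]; exact odd_of_pow3 pow3X
    · rw [th_t]; exact odd_of_pow3 pow3Y
    · rw [th_st]; simp
  · rintro a (rfl | rfl | rfl | rfl) h
    · exact absurd rfl h
    · rw [th_s]
      rintro b (rfl | rfl | rfl | rfl) g (rfl | rfl | rfl) <;> rw [memX] <;> decide
    · rw [th_t]
      rintro b (rfl | rfl | rfl | rfl) g (rfl | rfl | rfl) <;> rw [memY] <;> decide
    · rw [th_st]
      intro b _ g hg
      rw [Subgroup.mem_bot.1 hg]; simp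
  · rintro a (rfl | rfl | rfl | rfl) h
    · exact absurd rfl h
    · rw [th_s]
      rintro b (rfl | rfl | rfl | rfl) hb
      · exact absurd rfl hb
      · rw [th_s]; exact inf_le_left
      · rintro g ⟨rfl | rfl | rfl, hg⟩
        · exact Subgroup.one_mem _
        · exact absurd (H24.mem_C1.1 hg) (by decide)
        · exact absurd (H24.mem_C1.1 hg) (by decide)
      · rintro g ⟨rfl | rfl | rfl, hg⟩
        · exact Subgroup.one_mem _
        · exact absurd (H24.mem_C1.1 hg) (by decide)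
        · exact absurd (H24.mem_C1.1 hg) (by decide)
    · rw [th_t]
      rintro b (rfl | rfl | rfl | rfl) hb
      · exact absurd rfl hb
      · rintro g ⟨rfl | rfl | rfl, hg⟩
        · exact Subgroup.one_mem _
        · exact absurd (H24.mem_C1.1 hg) (by decide)
        · exact absurd (H24.mem_C1.1 hg) (by decide)
      · rw [th_t]; exact inf_le_left
      · rintro g ⟨rfl | rfl | rfl, hg⟩
        · exact Subgroup.one_mem _
        · exact absurd (H24.mem_C1.1 hg) (by decide)
        · exact absurd (H24.mem_C1.1 hg) (by decide)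
    · rw [th_st]
      intro b _ _
      exact inf_le_left.trans bot_le
  · rintro a (rfl | rfl | rfl | rfl) h
    · exact absurd rfl h
    · rw [th_s]; exact solv_of_pow3 pow3X
    · rw [th_t]; exact solv_of_pow3 pow3Y
    · rw [th_st]; infer_instance
  · rintro ⟨-, W, -, hW, h⟩
    have hx : x ∈ W := by
      have := h s (Or.inr (Or.inl rfl)) (by decide)
      rw [th_s] at this
      exact (this.ge (Or.inr (Or.inl rfl))).1
    have hy : y ∈ W := by
      have := h t (Or.inr (Or.inr (Or.inl rfl))) (by decide)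
      rw [th_t] at this
      exact (this.ge (Or.inr (Or.inl rfl))).1
    have hz : x * y * x⁻¹ * y ∈ W := W.mul_mem (W.mul_mem (W.mul_mem hx hy) (W.inv_mem hx)) hy
    have ho : orderOf (x * y * x⁻¹ * y) = 2 := orderOf_eq_prime (by decide) (by decide)
    exact hW (ho ▸ H24.orderOf_dvd_card' hz)

end Cfsg.Agent.S1286
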