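import Cfsg.Statements.S1303
import Cfsg.Agent.H23.Ext
import Cfsg.Agent.S0144
import Cfsg.Agent.H7.SL

set_option autoImplicit false
open Cfsg

namespace Cfsg.Agent.S1303

/-- The group X = SL(2, 3): it is 2-constrained, O_{2'}(X) = 1, its centre A = Z(X) contains every involution of X = C_X(A), and X has a subgroup of order 3 (normalized by A) not contained in O_{2'}(X). -/
theorem result : Cfsg.IsPConstrained 2 (Matrix.SpecialLinearGroup (Fin 2) (ZMod 3)) ∧ Cfsg.pPrimeCore 2 (Matrix.SpecialLinearGroup (Fin 2) (ZMod 3)) = ⊥ ∧ (∀ t : Matrix.SpecialLinearGroup (Fin 2) (ZMod 3), orderOf t = 2 → t ∈ Subgroup.center (Matrix.SpecialLinearGroup (Fin 2) (ZMod 3))) ∧ ∃ Q : Subgroup (Matrix.SpecialLinearGroup (Fin 2) (ZMod 3)), Nat.card ↥Q = 3 ∧ ¬ (Q ≤ Cfsg.pPrimeCore 2 (Matrix.SpecialLinearGroup (Fin 2) (ZMod 3))) := by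
  haveI : Fact (Nat.Prime 2) := ⟨Nat.prime_two⟩
  haveI : Fact (Nat.Prime 3) := ⟨Nat.prime_three⟩
  have hc : Nat.card (Matrix.SpecialLinearGroup (Fin 2) (ZMod 3)) = 24 :=
    H7.card_sl_two (F := ZMod 3) (q := 3) (by simp)
  have hs : Group.IsSolvable (Matrix.SpecialLinearGroup (Fin 2) (ZMod 3)) :=
    Cfsg.Agent.S0144.result 2 3 3 1 Nat.prime_two Nat.prime_three hc
  have h1 : ∀ g : Matrix.SpecialLinearGroup (Fin 2) (ZMod 3), g ≠ 1 → g * g * g = 1 →
      ∃ h : Matrix.SpecialLinearGroup (Fin 2) (ZMod 3), ∃ k, h * k = 1 ∧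
        (g * (h * g * k)) * (g * (h * g * k)) * (g * (h * g * k)) ≠ 1 := by decide +kernel
  have h2 : ∀ t g : Matrix.SpecialLinearGroup (Fin 2) (ZMod 3), t * t = 1 → g * t = t * g := by
    decide +kernel
  have hO : Cfsg.pPrimeCore 2 (Matrix.SpecialLinearGroup (Fin 2) (ZMod 3)) = ⊥ := by
    have h3 : Nat.card (Cfsg.pPrimeCore 2 (Matrix.SpecialLinearGroup (Fin 2) (ZMod 3))) ∣ 3 := by
      have h4 := Subgroup.card_subgroup_dvd_card
        (Cfsg.pPrimeCore 2 (Matrix.SpecialLinearGroup (Fin 2) (ZMod 3)))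
      rw [hc] at h4
      exact (Nat.Coprime.pow_right 3 (H2.pPrimeCore_coprime 2 _)).dvd_of_dvd_mul_left h4
    have h4 : ∀ g ∈ Cfsg.pPrimeCore 2 (Matrix.SpecialLinearGroup (Fin 2) (ZMod 3)),
        g * g * g = 1 := fun g hg => by
      rw [← pow_three']
      exact orderOf_dvd_iff_pow_eq_one.mp ((Subgroup.orderOf_dvd_natCard _ hg).trans h3)
    rw [eq_bot_iff]
    intro g hg
    by_contra hg1
    obtain ⟨h, k, hk, h5⟩ := h1 g hg1 (h4 g hg)
    rw [eq_inv_of_mul_eq_one_right hk] at h5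
    exact h5 (h4 _ (Subgroup.mul_mem _ hg (Subgroup.Normal.conj_mem inferInstance g hg h)))
  refine ⟨H23.isPConstrained_iff.mpr (H23.pLayer_eq_bot_of_solvable hs), hO, fun t ht => ?_, ?_⟩
  · rw [Subgroup.mem_center_iff]
    exact fun g => h2 t g (by rw [← pow_two]; exact H23.pow_eq_one_of_orderOf_eq ht)
  · obtain ⟨Q, hQ⟩ := Sylow.exists_subgroup_card_pow_prime
      (G := Matrix.SpecialLinearGroup (Fin 2) (ZMod 3)) 3 (n := 1) (by rw [hc]; norm_num)
    refine ⟨Q, hQ, fun h => ?_⟩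
    rw [hO, le_bot_iff] at h
    rw [h, Subgroup.card_bot] at hQ
    norm_num at hQ

end Cfsg.Agent.S1303
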