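import Cfsg.Statements.S1308
import Cfsg.Agent.H22.ACy
import Cfsg.Agent.H22.ACt
import Cfsg.Agent.H22.ACx
import Cfsg.Agent.H23.T11
import Cfsg.Agent.S1754

set_option autoImplicit false
open Cfsg

namespace Cfsg.Agent.S1308

/-- Aschbacher's Component Theorem. Let G be a non-abelian finite simple group with the B-property such that E(C_G(t)) ≠ 1 for some involution t. Then either some involution centralizer of G has a component of 2-rank 1, or there are an involution z and a subgroup K ≤ C = C_G(z) which is a component of C and a standard subgroup of G, such that C_C(K) has 2-rank 1, or C_C(K) is solvable and its Sylow 2-subgroups are elementary abelian or dihedral; moreover K is normal in C unless K has 2-rank 1. -/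
theorem result {G : Type*} [Group G] [Finite G] [IsSimpleGroup G] (hna : ¬ IsMulCommutative G) (hB : Cfsg.HasBProperty G) (t : G) (ht : orderOf t = 2) (hE : Cfsg.layer ↥(Subgroup.centralizer ({t} : Set G)) ≠ ⊥) :
    (∃ z : G, orderOf z = 2 ∧ ∃ K : Subgroup G, K ≤ Subgroup.centralizer ({z} : Set G) ∧
        Cfsg.IsComponent (K.subgroupOf (Subgroup.centralizer ({z} : Set G))) ∧ Cfsg.PRankLE 2 1 ↥K) ∨
    (∃ z : G, orderOf z = 2 ∧ ∃ K : Subgroup G, K ≤ Subgroup.centralizer ({z} : Set G) ∧ Cfsg.IsComponent (K.subgroupOf (Subgroup.centralizer ({z} : Set G))) ∧ Cfsg.IsStandardSubgroup K ∧ (Cfsg.PRankLE 2 1 ↥(Subgroup.centralizer ({z} : Set G) ⊓ Subgroup.centralizer (K : Set G)) ∨ (Group.IsSolvable ↥(Subgroup.centralizer ({z} : Set G) ⊓ Subgroup.centralizer (K : Set G)) ∧ ∀ S : Sylow 2 ↥(Subgroup.centralizer ({z} : Set G) ⊓ Subgroup.centralizer (K : Set G)), Cfsg.IsElementaryAbelian 2 (S : Subgroup ↥(Subgroup.centralizer ({z} : Set G) ⊓ Subgroup.centralizer (K : Set G))) ∨ ∃ n : ℕ, Nonempty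 (↥(S : Subgroup ↥(Subgroup.centralizer ({z} : Set G) ⊓ Subgroup.centralizer (K : Set G))) ≃* DihedralGroup n))) ∧ (Cfsg.PRankLE 2 1 ↥K ∨ (K.subgroupOf (Subgroup.centralizer ({z} : Set G))).Normal)) := by
  by_cases hr : ∀ (z : G) (L : Subgroup G), orderOf z = 2 →
      IsComponentOf L (Subgroup.centralizer ({z} : Set G)) → ¬ PRankLE 2 1 L
  · right
    obtain ⟨x, L, hT, hrk⟩ := ACo.exists_terminal hB ht hE hr
    have hL : IsStandardSubgroup L := H23.TC.standard_of_terminal inferInstance hT hrk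
    by_contra hcon
    obtain ⟨Ω, i1, i2, K, Q, a, hc⟩ := ACo.cx_of_standard hL (fun z hz hzL h => by
      obtain ⟨h1, h2⟩ := Cfsg.Agent.S1754.result L hL z hz hzL
      have hle : L ≤ Subgroup.centralizer ({z} : Set G) := fun y hy => by
        rw [Subgroup.mem_centralizer_iff]
        rintro _ rfl
        exact (Subgroup.mem_centralizer_iff.1 hzL y hy).symm
      exact hcon ⟨z, hz, L, hle, h2, hL, h, Or.inr (H24.Nml.normal ⟨hle, h1⟩)⟩)
    exact hc.false a
  · left
    push Not at hr
    obtain ⟨z, L, hz, hL, h⟩ := hr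
    exact ⟨z, hz, L, hL.1, hL.2, h⟩

end Cfsg.Agent.S1308
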