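import Cfsg.Statements.S1313
import Mathlib
import Cfsg.Agent.H23.Components

set_option autoImplicit false
open Cfsg

namespace Cfsg.Agent.S1313

/-- conjugation action on the non-identity elements of a normal subgroup -/
def permHom {H : Type*} [Group H] (N : Subgroup H) [hN : N.Normal] :
    H →* Equiv.Perm {x : H // x ∈ N ∧ x ≠ 1} where
  toFun g :=
    { toFun := fun x => ⟨g * x * g⁻¹, hN.conj_mem _ x.2.1 g, by simpa using x.2.2⟩
      invFun := fun x => ⟨g⁻¹ * x * g, hN.conj_mem' _ x.2.1 g, by
        intro h; apply x.2.2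
        have : (x : H) = g * (g⁻¹ * x * g) * g⁻¹ := by group
        rw [this, h]; simp⟩
      left_inv := fun x => by ext; simp [mul_assoc]
      right_inv := fun x => by ext; simp [mul_assoc] }
  map_one' := by ext; simp
  map_mul' a b := by ext; simp [mul_assoc]

/-- For a finite group H, |H| ≤ |F*(H)|!. -/
theorem result {H : Type*} [Group H] [Finite H] : Nat.card H ≤ Nat.factorial (Nat.card ↥(Cfsg.generalizedFittingSubgroup H)) := by
  classical
  set N := Cfsg.generalizedFittingSubgroup H with hN
  have hker : (permHom N).ker ≤ N := by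
    refine le_trans ?_ H23.centralizer_fstar_le
    intro g hg x hx
    by_cases h1 : x = 1
    · simp [h1]
    · have := congrArg Subtype.val (DFunLike.congr_fun (MonoidHom.mem_ker.mp hg) ⟨x, hx, h1⟩)
      change g * x * g⁻¹ = x at this
      calc x * g = g * x * g⁻¹ * g := by rw [this]
        _ = g * x := by group
  have hcard : Nat.card {x : H // x ∈ N ∧ x ≠ 1} + 1 = Nat.card N := by
    have : Nat.card {x : H // x ∈ N ∧ x ≠ 1} = Nat.card {y : N // y ≠ 1} := by
      refine Nat.card_congr ⟨fun x => ⟨⟨x, x.2.1⟩, fun h => x.2.2 (congrArg Subtype.val h)⟩,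
        fun y => ⟨y.1, y.1.2, fun h => y.2 (Subtype.ext h)⟩, fun _ => rfl, fun _ => rfl⟩
    rw [this]
    have := Fintype.ofFinite N
    simp only [Nat.card_eq_fintype_card, Fintype.card_subtype_compl, Fintype.card_unique]
    have : 0 < Fintype.card N := Fintype.card_pos
    omega
  have h1 : Nat.card H = Nat.card (permHom N).ker * Nat.card (permHom N).range := by
    rw [← Subgroup.index_ker, Subgroup.card_mul_index]
  have h2 : Nat.card (permHom N).range ≤ (Nat.card {x : H // x ∈ N ∧ x ≠ 1}).factorial := by
    rw [← Nat.card_perm]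
    exact Subgroup.card_le_card_group _
  rw [h1, ← hcard, Nat.factorial_succ, hcard]
  exact Nat.mul_le_mul (Subgroup.card_le_of_le hker) h2

end Cfsg.Agent.S1313
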