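import Cfsg.Statements.S1316
import Mathlib
import Cfsg.Agent.H23.Components

set_option autoImplicit false
open Cfsg

namespace Cfsg.Agent.S1316

/-- For a finite group X, E(X) equals the intersection of the derived series of F*(X) (its last term). -/
theorem result {X : Type*} [Group X] [Finite X] : (⨅ n : ℕ, (derivedSeries ↥(Cfsg.generalizedFittingSubgroup X) n).map (Cfsg.generalizedFittingSubgroup X).subtype) = Cfsg.layer X := by
  apply le_antisymm
  · have key : ∀ n : ℕ, (derivedSeries ↥(Cfsg.generalizedFittingSubgroup X) n).map
        (Cfsg.generalizedFittingSubgroup X).subtype ≤ Cfsg.layer X ⊔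
          (derivedSeries ↥(Cfsg.fittingSubgroup X) n).map (Cfsg.fittingSubgroup X).subtype := by
      intro n
      induction n with
      | zero =>
        simp only [derivedSeries_zero, ← MonoidHom.range_eq_map, Subgroup.range_subtype]
        exact le_rfl
      | succ n ih =>
        rw [derivedSeries_succ, derivedSeries_succ, Subgroup.map_commutator, Subgroup.map_commutator]
        refine (Subgroup.commutator_mono ih ih).trans ?_
        have := Subgroup.comap_map_eq (QuotientGroup.mk' (Cfsg.layer X))
        rw [sup_comm (Cfsg.layer X) ⁅_, _⁆]
        conv_rhs => rw [← QuotientGroup.ker_mk' (Cfsg.layer X), ← Subgroup.comap_map_eq]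
        rw [← Subgroup.map_le_iff_le_comap, Subgroup.map_commutator, Subgroup.map_commutator,
          Subgroup.map_sup, (Subgroup.map_eq_bot_iff (Cfsg.layer X)).mpr (by simp), bot_sup_eq]
    obtain ⟨n, hn⟩ := (inferInstance : Group.IsSolvable ↥(Cfsg.fittingSubgroup X))
    refine (iInf_le _ n).trans ((key n).trans ?_)
    rw [hn, Subgroup.map_bot, sup_bot_eq]
  · refine le_iInf fun n => ?_
    induction n with
    | zero =>
      simp only [derivedSeries_zero, ← MonoidHom.range_eq_map, Subgroup.range_subtype]
      exact H23.layer_le_fstar X
    | succ n ih =>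
      rw [derivedSeries_succ, Subgroup.map_commutator, ← H23.layer_perfect]
      exact Subgroup.commutator_mono ih ih

end Cfsg.Agent.S1316
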