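import Cfsg.Statements.S1321
import Mathlib
import Cfsg.Agent.H23.Components

set_option autoImplicit false
open Cfsg

namespace Cfsg.Agent.S1321

/-- Let X be finite and U ≤ X. Then E(X) is generated by C_{E(X)}(U) together with ⁅E(X), U⁆ (indeed it is their product, ⁅E(X), U⁆ being normal in E(X)). -/
theorem result {X : Type*} [Group X] [Finite X] (U : Subgroup X) : Cfsg.layer X = (Cfsg.layer X ⊓ Subgroup.centralizer (U : Set X)) ⊔ ⁅Cfsg.layer X, U⁆ ∧ ⁅Cfsg.layer X, U⁆ ≤ Cfsg.layer X := by
  have h2 : ⁅Cfsg.layer X, U⁆ ≤ Cfsg.layer X := Subgroup.commutator_le_left _ _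
  refine ⟨le_antisymm (H23.layer_le fun L hL => ?_) (sup_le inf_le_left h2), h2⟩
  rcases H23.IsComponent.le_or_comm_of_le_normalizer hL
    ((H23.le_layer hL).trans (Subgroup.normalizer_commutator_ge_left (Cfsg.layer X) U)) with h | h
  · exact h.trans le_sup_right
  · refine le_trans (le_inf (H23.le_layer hL) ?_) le_sup_left
    refine H23.le_centralizer_of_comm_bot (H23.comm_bot_symm
      (H23.comm_bot_of_comm_comm_bot (H23.IsComponent.perfect hL) ?_))
    refine H23.comm_bot_mono (H23.comm_bot_symm h) ?_ le_rfl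
    rw [Subgroup.commutator_comm]
    exact Subgroup.commutator_mono (H23.le_layer hL) le_rfl

end Cfsg.Agent.S1321
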