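import Cfsg.Statements.S1323
import Cfsg.Agent.H25.AltStd

set_option autoImplicit false
open Cfsg

namespace Cfsg.Agent.S1323

/-- For n ≥ 9, the subgroup of the alternating group on Fin n fixing each of the points 0, 1, 2, 3 is a standard subgroup. -/
theorem result (n : ℕ) (h4 : 4 ≤ n) (hn : 9 ≤ n) : Cfsg.IsStandardSubgroup (⨅ i : Fin 4, MulAction.stabilizer ↥(alternatingGroup (Fin n)) (Fin.castLE h4 i : Fin n)) := by
  have h1 : (Finset.univ.map (Fin.castLEEmb h4)).card = 4 := by simp
  have h2 := H25.Alt.standard_Fx h1 (by rw [Finset.card_compl, h1, Fintype.card_fin]; omega)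
  convert h2 using 1
  ext k
  rw [H25.Alt.mem_Fx, Subgroup.mem_iInf]
  simp only [MulAction.mem_stabilizer_iff, Finset.mem_map, Finset.mem_univ, true_and,
    forall_exists_index, forall_apply_eq_imp_iff]
  rfl

end Cfsg.Agent.S1323
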