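import Cfsg.Statements.S1328
import Mathlib
import Cfsg.Agent.H23.Ext

set_option autoImplicit false
open Cfsg
open scoped commutatorElement

namespace Cfsg.Agent.S1328

/-- Let G be finite, H ≤ G with O(H) = 1, t an involution of G normalizing H, and Y a nontrivial subgroup of O(C_H(t)). Then some component E of H is normalized by t and by Y and centralized by neither t nor Y. -/
theorem result {G : Type*} [Group G] [Finite G] (H : Subgroup G) (hO : Cfsg.oddCore ↥H = ⊥) (t : G) (ht : orderOf t = 2) (htH : t ∈ Subgroup.normalizer (H : Set G)) (Y : Subgroup G) (hY1 : Y ≠ ⊥) (hY : Y ≤ (Cfsg.oddCore ↥(H ⊓ Subgroup.centralizer ({t} : Set G))).map (H ⊓ Subgroup.centralizer ({t} : Set G)).subtype) : ∃ E : Subgroup ↥H, Cfsg.IsComponent E ∧ (E.map H.subtype).map (MulAut.conj t).toMonoidHom = E.map H.subtype ∧ Y ≤ Subgroup.normalizer ((E.map H.subtype : Subgroup G) : Set G) ∧ ¬ (t ∈ Subgroup.centralizer ((E.map H.subtype : Subgroup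 G) : Set G)) ∧ ¬ (Y ≤ Subgroup.centralizer ((E.map H.subtype : Subgroup G) : Set G)) := by
  set X := H ⊔ Subgroup.zpowers t with hX
  have hzt : Subgroup.zpowers t ≤ Subgroup.normalizer (H : Set G) := Subgroup.zpowers_le.mpr htH
  have hXH : X ≤ Subgroup.normalizer (H : Set G) := sup_le Subgroup.le_normalizer hzt
  have hz2 : IsPGroup 2 (Subgroup.zpowers t) := H23.isPGroup_zpowers_of_orderOf ht
  have hcomm : ⁅X, X⁆ ≤ H := by
    rw [Subgroup.commutator_le]
    intro a ha b hb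
    obtain ⟨h1, hh1, _, ⟨m, rfl⟩, rfl⟩ := H23.mem_sup_of_le_normalizer_left hzt ha
    obtain ⟨h2, hh2, _, ⟨n, rfl⟩, rfl⟩ := H23.mem_sup_of_le_normalizer_left hzt hb
    have e : ⁅h1 * t ^ m, h2 * t ^ n⁆ =
        h1 * (t ^ m * h2 * (t ^ m)⁻¹) * (t ^ n * h1⁻¹ * (t ^ n)⁻¹) * h2⁻¹ := by
      rw [commutatorElement_def]; group
    show ⁅h1 * t ^ m, h2 * t ^ n⁆ ∈ H
    rw [e]
    exact H.mul_mem (H.mul_mem (H.mul_mem hh1 (H23.conj_mem hzt ⟨m, rfl⟩ hh2))
      (H23.conj_mem hzt ⟨n, rfl⟩ (H.inv_mem hh1))) (H.inv_mem hh2)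
  have hOX : H23.opp 2 X = ⊥ := by
    have h1 : H23.opp 2 X ≤ H := by
      intro x hx
      obtain ⟨h1, hh1, _, ⟨m, rfl⟩, rfl⟩ :=
        H23.mem_sup_of_le_normalizer_left hzt (H23.opp_le 2 X hx)
      refine H23.mem_of_pow_mem_of_coprime (H13.orderOf_coprime_of_mem (H23.opp_cop 2 X) hx) ?_
      have h2 : (t ^ m) * (t ^ m) = 1 := by
        rw [← sq, ← zpow_natCast, ← zpow_mul, mul_comm, zpow_mul, zpow_natCast,
          H23.pow_eq_one_of_orderOf_eq ht, one_zpow]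
      have e : (h1 * t ^ m) ^ 2 = h1 * (t ^ m * h1 * (t ^ m)⁻¹) * (t ^ m * t ^ m) := by
        rw [sq]; group
      show (h1 * t ^ m) ^ 2 ∈ H
      rw [e, h2, mul_one]
      exact H.mul_mem hh1 (H23.conj_mem hzt ⟨m, rfl⟩ hh1)
    have h2 := H23.le_opp_of_le_opp le_rfl h1 (le_sup_left : H ≤ X)
    rwa [H23.opp_eq_bot_iff.mpr hO, le_bot_iff] at h2
  have hY' : Y ≤ H23.opp 2 (X ⊓ Subgroup.centralizer {t}) :=
    hY.trans (H23.opp_mono (inf_le_inf_right _ le_sup_left) (H23.le_normalizer_inf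
      (inf_le_left.trans hXH) (inf_le_right.trans Subgroup.le_normalizer)))
  obtain ⟨L, hL, h1, h2, h3⟩ := H23.exists_unbalanced_compOf hOX
    (Subgroup.mem_sup_right (Subgroup.mem_zpowers t)) (H23.pow_eq_one_of_orderOf_eq ht) hY' hY1
  have hLH : L ≤ H := by
    rw [← H23.IsQuasisimple.perfect hL.quasisimple]
    exact (Subgroup.commutator_mono hL.1 hL.1).trans hcomm
  have hL' := hL.of_le hLH le_sup_left
  refine ⟨L.subgroupOf H, hL'.2, ?_⟩
  rw [Subgroup.map_subgroupOf_eq_of_le hLH]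
  refine ⟨H23.mem_normalizer_iff_map_conj.mp (H23.mem_normalizer_of_comm_eq h2), h3, fun h => ?_,
    fun h => h1 (H23.comm_bot_symm (H23.comm_bot_of_le_centralizer h))⟩
  exact H23.IsQuasisimple.ne_bot hL.quasisimple (h2.symm.trans
    (H23.comm_bot_symm (H23.comm_bot_of_le_centralizer (Subgroup.zpowers_le.mpr h))))

end Cfsg.Agent.S1328
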