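import Cfsg.Statements.S1340
import Cfsg.Agent.H25.Lin

set_option autoImplicit false
open Cfsg

namespace Cfsg.Agent.S1340

/-- Let F be a finite field of odd order and n ≥ 3 with (n, |F|) ≠ (3, 3). Then GL(n, F) has a non-central involution t such that C(t) / O(C(t)) has a component. -/
theorem result {F : Type*} [Field F] [Fintype F] [DecidableEq F] (hF : Odd (Fintype.card F)) (n : ℕ) (hn : 3 ≤ n) (h33 : ¬ (n = 3 ∧ Fintype.card F = 3)) : ∃ t : Matrix.GeneralLinearGroup (Fin n) F, orderOf t = 2 ∧ t ∉ Subgroup.center (Matrix.GeneralLinearGroup (Fin n) F) ∧ Cfsg.HasComponent (↥(Subgroup.centralizer ({t} : Set (Matrix.GeneralLinearGroup (Fin n) F))) ⧸ Cfsg.oddCore ↥(Subgroup.centralizer ({t} : Set (Matrix.GeneralLinearGroup (Fin n) F)))) := by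
  obtain ⟨m, rfl⟩ : ∃ m, n = m + 1 := ⟨n - 1, by omega⟩
  have h2 := H25.Lin.two_ne_zero_of_odd hF
  refine H25.Lin.gl_component (κ := Fin m) finSumFinEquiv h2 (by simp; omega) ?_
  by_cases hm : 3 ≤ m
  · exact H25.Lin.isQuasisimple_sl (by simpa using hm)
  · obtain rfl : m = 2 := by omega
    have h4 : 4 ≤ Nat.card F := by
      rw [Nat.card_eq_fintype_card]
      have h1 : 1 < Fintype.card F := Fintype.one_lt_card
      have h3 : Fintype.card F ≠ 3 := fun h => h33 ⟨rfl, h⟩
      obtain ⟨k, hk⟩ := hF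
      omega
    apply H25.Lin.isQuasisimple_sl_two
    obtain ⟨x, hx⟩ : IsCyclic Fˣ := by infer_instance
    refine ⟨x, Units.ne_zero x, fun h ↦ ?_⟩
    grw [Nat.card_eq_card_units_add_one F, ← orderOf_eq_card_of_forall_mem_zpowers hx,
      orderOf_le_of_pow_eq_one zero_lt_two (Units.ext <| by simpa using h)] at h4
    omega

end Cfsg.Agent.S1340
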