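import Cfsg.Statements.S1343
import Mathlib
import Cfsg.Agent.H23.Ext

set_option autoImplicit false
open Cfsg

namespace Cfsg.Agent.S1343

/-- Let X be finite. Then L*_{2'}(X) = L_{2'}(X) ⊔ F for some subgroup F of odd order normalized by a Sylow 2-subgroup of X. -/
theorem result {X : Type*} [Group X] [Finite X] : ∃ F : Subgroup X, Odd (Nat.card ↥F) ∧ (∃ S : Sylow 2 X, (S : Subgroup X) ≤ Subgroup.normalizer (F : Set X)) ∧ Cfsg.extendedTwoLayer X = Cfsg.pLayer 2 X ⊔ F := by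
  obtain ⟨S⟩ := (inferInstance : Nonempty (Sylow 2 X))
  have := H23.lopp_normal (p := 2) (G := X)
  have hT : IsPGroup 2 ↥((S : Subgroup X) ⊓ H23.lopp 2 X) := S.isPGroup'.to_inf_left
  have h : ¬ 2 ∣ ((S : Subgroup X) ⊓ H23.lopp 2 X).relIndex (H23.lopp 2 X) := by
    rw [Subgroup.inf_relIndex_right]; exact H13.not_dvd_relIndex_sylow_normal S _
  refine ⟨H23.opp 2 (Subgroup.centralizer (((S : Subgroup X) ⊓ H23.lopp 2 X : Subgroup X) : Set X))
    ⊔ pPrimeCore 2 X, ?_, ⟨S, ?_⟩, ?_⟩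
  · exact H23.cop_two_iff_odd.mp (H23.cop_sup (H23.opp_cop _ _) (H2.pPrimeCore_coprime 2 X)
      Subgroup.le_normalizer_of_normal)
  · exact H23.le_normalizer_sup (H23.le_normalizer_opp 2 (H23.le_normalizer_centralizer
      (H23.le_normalizer_inf Subgroup.le_normalizer Subgroup.le_normalizer_of_normal)))
      Subgroup.le_normalizer_of_normal
  · rw [H23.extendedTwoLayer_eq hT inf_le_right h, sup_assoc, sup_comm (pPrimeCore 2 X)]

end Cfsg.Agent.S1343
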