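import Cfsg.Statements.S1344
import Mathlib
import Cfsg.Agent.H23.Ext

set_option autoImplicit false
open Cfsg

namespace Cfsg.Agent.S1344

/-- Let K be a 2-component of the finite group X. Then K ≤ L*_{2'}(X) and K is normal in L*_{2'}(X). -/
theorem result {X : Type*} [Group X] [Finite X] (K : Subgroup X) (hK : Cfsg.IsPComponent 2 K) : K ≤ Cfsg.extendedTwoLayer X ∧ (K.subgroupOf (Cfsg.extendedTwoLayer X)).Normal := by
  have h1 : K ≤ extendedTwoLayer X := (H23.le_pLayer hK).trans (le_sup_left.trans le_sup_left)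
  refine ⟨h1, (Subgroup.normal_subgroupOf_iff_le_normalizer h1).mpr ?_⟩
  obtain ⟨T, hT, -, hTM, h⟩ :=
    H13.exists_sylow_rel (L := H23.lopp 2 X) (IsPGroup.of_bot (p := 2)) bot_le
  rw [H23.extendedTwoLayer_eq hT hTM h]
  exact sup_le (sup_le (H23.pLayer_le_normalizer_pcomp hK)
    (H23.IsPComponent.pPrimeCore_le_normalizer hK))
    ((H23.opp_le _ _).trans (H23.centralizer_sylow_le_normalizer_pcomp hK h))

end Cfsg.Agent.S1344
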