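import Cfsg.Statements.S1359
import Mathlib
import Cfsg.Agent.H26.Types16

set_option autoImplicit false
open Cfsg

namespace Cfsg.Agent.S1359

/-- Let G be a minimal simple group of odd order and M a maximal subgroup with standard factorisation M = K U M_σ. Then the subgroup generated by those elements of U which centralize some non-identity element of M_σ is abelian. -/
theorem result {G : Type*} [Group G] [Finite G] (hG : Cfsg.IsMinSimpleOddOrder G)
    (M : Subgroup G) (hM : IsCoatom M) (K U : Subgroup G) (hKU : Cfsg.IsSigmaDecomposition M K U) :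
    IsMulCommutative (Subgroup.closure ((U : Set G) ∩ Cfsg.sigmaHat M)) := by
  have : H25.FT G := ⟨hG⟩
  obtain ⟨U₁, -, h1, h2⟩ := H24.kappa_structure_inertia hM (H26.kc hM hKU)
  refine H24.Abl.of_le h1 ((Subgroup.closure_le _).2 ?_)
  rintro u ⟨hu, -, y, hy, hy1, e⟩
  exact h2 y hy hy1 (Subgroup.mem_inf.2 ⟨hu, H24.mem_C1.2 e⟩)

end Cfsg.Agent.S1359
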