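import Cfsg.Statements.S1362
import Mathlib
import Cfsg.Agent.H26.Types16

set_option autoImplicit false
open Cfsg

namespace Cfsg.Agent.S1362

/-- Let G be a minimal simple group of odd order and M a maximal subgroup with standard factorisation M = K U M_σ, and let A(M) be the set of elements of U M_σ centralizing some non-identity element of M_σ. Then A(M) with M_σ removed is a TI-subset of G. -/
theorem result {G : Type*} [Group G] [Finite G] (hG : Cfsg.IsMinSimpleOddOrder G)
    (M : Subgroup G) (hM : IsCoatom M) (K U : Subgroup G) (hKU : Cfsg.IsSigmaDecomposition M K U) :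
    Cfsg.IsTISubset (Cfsg.sigmaA M U \ (Cfsg.sigmaCore M : Set G)) := by
  have : H25.FT G := ⟨hG⟩
  have hc := H26.kc hM hKU
  refine H26.isTI_of_ti (M := M) (fun g hg x hx => ⟨?_, fun e => hx.2 ?_⟩)
    fun x hx g hg => H24.BGsummaryB5 hM hc hx.1 hx.2 hg.1 hg.2
  · have h := (H24.mem_sigmaA16 hM hc).1 hx.1
    exact (H24.mem_sigmaA16 hM hc).2 ⟨H24.conj_mem_sigmaHat16 h.1 hg, h.2.conj g⟩
  · exact (H24.conj_mem_iff (H25.sigmaCore_norm M hg)).1 e

end Cfsg.Agent.S1362
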