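import Cfsg.Statements.S1374
import Mathlib
import Cfsg.Agent.H26.Types16

set_option autoImplicit false
open Cfsg

namespace Cfsg.Agent.S1374

/-- Let G be a minimal simple group of odd order, M a maximal subgroup and x a non-identity element of M_σ. Then C_M(x) has order coprime to its index in C_G(x), and C_G(x) has a normal subgroup R complementing C_M(x) such that for every conjugate gMg⁻¹ containing x there is exactly one r ∈ R with rMr⁻¹ = gMg⁻¹. -/
theorem result {G : Type*} [Group G] [Finite G] (hG : Cfsg.IsMinSimpleOddOrder G)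
    (M : Subgroup G) (hM : IsCoatom M) (x : G) (hx : x ∈ Cfsg.sigmaCore M) (hx1 : x ≠ 1) :
    (Nat.card ↥(M ⊓ Subgroup.centralizer ({x} : Set G))).Coprime ((M ⊓ Subgroup.centralizer ({x} : Set G)).relIndex (Subgroup.centralizer ({x} : Set G))) ∧
      ∃ R : Subgroup G, Subgroup.centralizer ({x} : Set G) ≤ Subgroup.normalizer (R : Set G) ∧ Cfsg.IsComplIn (M ⊓ Subgroup.centralizer ({x} : Set G)) R (Subgroup.centralizer ({x} : Set G)) ∧
        ∀ g : G, x ∈ M.map (MulAut.conj g).toMonoidHom → ∃! r : G, r ∈ R ∧ M.map (MulAut.conj r).toMonoidHom = M.map (MulAut.conj g).toMonoidHom := by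
  have : H25.FT G := ⟨hG⟩
  obtain ⟨h1, h2⟩ := H24.FT_signalizer_sd hM hx hx1
  refine ⟨by rw [h1.relIndex_right]; exact h2.symm, H24.sigR x, h1.nml.norm,
    H24.isComplIn_symm h1.isComplIn, fun g hg => ?_⟩
  have h3 : x ∈ Cfsg.sigmaCore (H24.cj g M) := H24.mem_Msigma16 (H24.isCoatom_cj hM g) hg
    (by rw [H25.sigma_cj]; exact (H25.sigmaCore_pi M).piElt hx)
  obtain ⟨r, hr, e⟩ := H24.FT_signalizer_trans hM hx hx1 (H24.isCoatom_cj hM g) h3
  refine ⟨r, ⟨hr, e.symm⟩, fun s hs => ?_⟩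
  have h4 : r⁻¹ * s ∈ M := H25.norm_mmax hM ▸ H24.cj_eq_cj_iff.1 (hs.2.trans e)
  have h5 : r⁻¹ * s ∈ H24.sigR x := (H24.sigR x).mul_mem ((H24.sigR x).inv_mem hr) hs.1
  have h6 : r⁻¹ * s ∈ H24.sigR x ⊓ (M ⊓ Subgroup.centralizer ({x} : Set G)) :=
    Subgroup.mem_inf.2 ⟨h5, Subgroup.mem_inf.2 ⟨h4, H24.sigR_le_C1 x h5⟩⟩
  rw [h1.inf, Subgroup.mem_bot] at h6
  exact (inv_mul_eq_one.1 h6).symm

end Cfsg.Agent.S1374
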