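import Cfsg.Statements.S1381
import Mathlib
import Cfsg.Agent.H26.Types16

set_option autoImplicit false
open Cfsg

namespace Cfsg.Agent.S1381

/-- Let G be a minimal simple group of odd order and M a maximal subgroup with standard factorisation M = K U M_σ. Then M is of Type II if and only if K ≠ 1 and U ≠ 1. -/
theorem result {G : Type*} [Group G] [Finite G] (hG : Cfsg.IsMinSimpleOddOrder G)
    (M : Subgroup G) (hM : IsCoatom M) (K U : Subgroup G) (hKU : Cfsg.IsSigmaDecomposition M K U) :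
    Cfsg.IsOfTypeII M ↔ (K ≠ ⊥ ∧ U ≠ ⊥) := by
  have : H25.FT G := ⟨hG⟩
  have hc := H26.kc hM hKU
  rw [H26.typeII_iff16 hM, ← H24.FTtype_P2max hM]
  exact ⟨fun h => ⟨h.pmax.ne_bot hc.hallK, h.ne_bot hc⟩, fun h => hc.p2max hM h.1 h.2⟩

end Cfsg.Agent.S1381
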