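import Cfsg.Statements.S1382
import Mathlib
import Cfsg.Agent.H26.Types16

set_option autoImplicit false
open Cfsg

namespace Cfsg.Agent.S1382

/-- Let G be a minimal simple group of odd order and M a maximal subgroup with standard factorisation M = K U M_σ. Then M is of Type III or of Type IV if and only if K ≠ 1, U = 1 and M_F ≠ M_σ. -/
theorem result {G : Type*} [Group G] [Finite G] (hG : Cfsg.IsMinSimpleOddOrder G)
    (M : Subgroup G) (hM : IsCoatom M) (K U : Subgroup G) (hKU : Cfsg.IsSigmaDecomposition M K U) :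
    (Cfsg.IsOfTypeIII M ∨ Cfsg.IsOfTypeIV M) ↔ (K ≠ ⊥ ∧ U = ⊥ ∧ Cfsg.fittingHallOf M ≠ Cfsg.sigmaCore M) := by
  have : H25.FT G := ⟨hG⟩
  have hc := H26.kc hM hKU
  have h1 := H24.FTtype_P1max hM
  have h2 := H24.Fcore_eq_FTcore hM
  have h3 := H24.FTtype_le M
  rw [H24.def_FTcore hM] at h2
  rw [H26.typeIII_iff16 hM, H26.typeIV_iff16 hM]
  constructor
  · intro h
    have h4 := h1.2 (by omega)
    exact ⟨h4.pmax.ne_bot hc.hallK, h4.eq_bot hc, fun e => by have := h2.1 e; omega⟩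
  · rintro ⟨h4, h5, h6⟩
    have h7 := h1.1 (hc.p1max hM h4 h5)
    have h8 : H24.FTtype M ≠ 5 := fun e => h6 (h2.2 (Or.inr (Or.inr e)))
    omega

end Cfsg.Agent.S1382
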