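import Cfsg.Statements.S1385
import Mathlib
import Cfsg.Agent.H26.TypeI16

set_option autoImplicit false
open Cfsg

namespace Cfsg.Agent.S1385

/-- Let G be a minimal simple group of odd order. Then either every maximal subgroup of G is of Type I, or there are nontrivial subgroups W₁, W₂ generating a cyclic group W that is the normalizer of every nonempty subset of W outside W₁ ∪ W₂, and maximal subgroups S, T with W₁ a complement to S' in S, W₂ a complement to T' in T, S ∩ T = W, S or T of Type II, each of S, T of Type II, III, IV or V, and every maximal subgroup of G of Type I or conjugate to S or to T. -/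
theorem result {G : Type*} [Group G] [Finite G] (hG : Cfsg.IsMinSimpleOddOrder G) :
    (∀ M : Subgroup G, IsCoatom M → Cfsg.IsOfTypeI M) ∨
      ∃ W₁ W₂ S T : Subgroup G, Cfsg.IsSelfNormalizingCyclic W₁ W₂ ∧ IsCoatom S ∧ IsCoatom T ∧
        Cfsg.IsComplIn ⁅S, S⁆ W₁ S ∧ Cfsg.IsComplIn ⁅T, T⁆ W₂ T ∧ S ⊓ T = W₁ ⊔ W₂ ∧
        (Cfsg.IsOfTypeII S ∨ Cfsg.IsOfTypeII T) ∧
        (Cfsg.IsOfTypeII S ∨ Cfsg.IsOfTypeIII S ∨ Cfsg.IsOfTypeIV S ∨ Cfsg.IsOfTypeV S) ∧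
        (Cfsg.IsOfTypeII T ∨ Cfsg.IsOfTypeIII T ∨ Cfsg.IsOfTypeIV T ∨ Cfsg.IsOfTypeV T) ∧
        ∀ M : Subgroup G, IsCoatom M → Cfsg.IsOfTypeI M ∨ ∃ g : G, M = S.map (MulAut.conj g).toMonoidHom ∨ M = T.map (MulAut.conj g).toMonoidHom := by
  have : H25.FT G := ⟨hG⟩
  refine or_iff_not_imp_left.2 fun h => ?_
  push Not at h
  obtain ⟨S, hS, h1⟩ := h
  rw [H26.typeI_iff16 hS] at h1
  obtain ⟨U, W, W₁, W₂, hP⟩ := H24.FTtypeP_witness hS h1
  obtain ⟨T, V, hT, hQ, h2, -, h3, h4⟩ := H24.BGsummaryI2 hS hP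
  have h5 : ∀ L : Subgroup G, IsCoatom L → H24.FTtype L ≠ 1 →
      Cfsg.IsOfTypeII L ∨ Cfsg.IsOfTypeIII L ∨ Cfsg.IsOfTypeIV L ∨ Cfsg.IsOfTypeV L := by
    intro L hL h
    rw [H26.typeII_iff16 hL, H26.typeIII_iff16 hL, H26.typeIV_iff16 hL, H26.typeV_iff16 hL]
    exact (H24.FTtype_cases L).resolve_left h
  refine ⟨W₁, W₂, S, T, (H27.typeP_of24 hP).tp.selfNormalizing, hS, hT, hP.sdM.isComplIn,
    hQ.sdM.isComplIn, h2.trans hP.W_eq, h3.imp (H26.typeII_iff16 hS).2 (H26.typeII_iff16 hT).2,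
    h5 S hS h1, h5 T hT (H24.FTtypeP_neq1 hT hQ), fun M hM => or_iff_not_imp_left.2 fun h => ?_⟩
  rcases h4 M hM (fun e => h ((H26.typeI_iff16 hM).2 e)) with ⟨g, hg⟩ | ⟨g, hg⟩
  exacts [⟨g, Or.inl hg⟩, ⟨g, Or.inr hg⟩]

end Cfsg.Agent.S1385
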