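import Cfsg.Statements.S1389
import Mathlib
import Cfsg.Agent.H26.Types16

set_option autoImplicit false
open Cfsg

namespace Cfsg.Agent.S1389

/-- Let G be a minimal simple group of odd order and M a maximal subgroup, and let M_s be M' if M is of Type III or IV and M_F otherwise. Then N_G(P) ≤ M for every nontrivial Sylow subgroup P of M_s, and both M_F and M_s have order coprime to their index in G. -/
theorem result {G : Type*} [Group G] [Finite G] (hG : Cfsg.IsMinSimpleOddOrder G)
    (M : Subgroup G) (hM : IsCoatom M) :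
    (∀ (p : ℕ), p.Prime → ∀ (P : Sylow p ↥(Cfsg.typeCore M)), (P : Subgroup ↥(Cfsg.typeCore M)) ≠ ⊥ →
        Subgroup.normalizer ((((P : Subgroup ↥(Cfsg.typeCore M)).map (Cfsg.typeCore M).subtype : Subgroup G)) : Set G) ≤ M) ∧
      (Nat.card (Cfsg.fittingHallOf M)).Coprime (Cfsg.fittingHallOf M).index ∧
      (Nat.card (Cfsg.typeCore M)).Coprime (Cfsg.typeCore M).index := by
  have : H25.FT G := ⟨hG⟩
  have e := H26.typeCore_eq16 hM
  have h1 : H24.IsHall ⊤ (Cfsg.sigmaCore M) := (H25.Msigma_Hall_G hM).isHall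
  have h2 : H24.IsHall ⊤ (Cfsg.fittingHallOf M) :=
    h1.trans ((H24.Fcore_isHall M).of_le (H24.Fcore_sub_Msigma hM) (H25.sigmaCore_le M))
  refine ⟨fun p hp P hP => ?_, by simpa using h2.coprime, by rw [e]; simpa using h1.coprime⟩
  have hS := H24.syl_of_sylow hp P
  have hne : (P : Subgroup (Cfsg.typeCore M)).map (Cfsg.typeCore M).subtype ≠ ⊥ := by
    rwa [Ne, Subgroup.map_eq_bot_iff_of_injective _ (Cfsg.typeCore M).subtype_injective]
  generalize (P : Subgroup (Cfsg.typeCore M)).map (Cfsg.typeCore M).subtype = S at hS hne ⊢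
  rw [e] at hS
  have hs : p ∈ Cfsg.sigma M := hS.pi.mem_of_ne_bot ((H25.sigmaCore_pi M).of_le hS.le) hne
  exact H25.norm_sigma_Sylow hs (H25.Msigma_Sylow hM hs hS)

end Cfsg.Agent.S1389
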