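import Cfsg.Statements.S1390
import Mathlib
import Cfsg.Agent.H26.Types16

set_option autoImplicit false
open Cfsg

namespace Cfsg.Agent.S1390

/-- Let G be a minimal simple group of odd order, M a maximal subgroup and H = M_F; suppose M is of Type I and U is a complement to H in M, or M is of Type II and U is a complement to H in M'. Then every Sylow subgroup of U is abelian with no elementary abelian subgroup of order p ^ 3; for every nonempty set X of non-identity elements of U centralizing a non-identity element of H, C_G(X) ≤ M and M is the unique maximal subgroup containing C_G(X); and A(M) with A₁(M) removed is a TI-subset of G. -/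
theorem result {G : Type*} [Group G] [Finite G] (hG : Cfsg.IsMinSimpleOddOrder G)
    (M : Subgroup G) (hM : IsCoatom M) (U : Subgroup G)
    (hU : (Cfsg.IsOfTypeI M ∧ Cfsg.IsComplIn (Cfsg.fittingHallOf M) U M) ∨ (Cfsg.IsOfTypeII M ∧ Cfsg.IsComplIn (Cfsg.fittingHallOf M) U ⁅M, M⁆)) :
    (∀ (p : ℕ), p.Prime → ∀ P : Sylow p U, IsMulCommutative (P : Subgroup U) ∧ Cfsg.PRankLE p 2 (P : Subgroup U)) ∧
      (∀ X : Set G, X ⊆ (U : Set G) \ {1} → X.Nonempty → Cfsg.fittingHallOf M ⊓ Subgroup.centralizer X ≠ ⊥ →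
        Subgroup.centralizer X ≤ M ∧ ∀ L : Subgroup G, IsCoatom L → Subgroup.centralizer X ≤ L → L = M) ∧
      Cfsg.IsTISubset (Cfsg.typeA M \ Cfsg.typeA1 M) := by
  have : H25.FT G := ⟨hG⟩
  obtain ⟨e, K, hc⟩ := H26.kappaCompl_of_sd hM (U := U) (hU.imp
    (fun h => ⟨H26.type1_of_frozen hM h.1, H24.SD.of_isComplIn h.2 (H24.Fcore_nml M).norm⟩)
    fun h => ⟨(H26.typeII_iff16 hM).1 h.1,
      H24.SD.of_isComplIn h.2 ((H24.der1_le M).trans (H24.Fcore_nml M).norm)⟩)
  refine ⟨fun p hp P => H26.syl_facts hp P fun S hS => H24.BGsummaryB1 hM hc hp hS,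
    fun X hX hne hC => ?_, ?_⟩
  · obtain ⟨x, hx⟩ := hne
    rw [← Subgroup.centralizer_closure] at hC ⊢
    have h := (H24.kappa_structure_cent hM hc ((Subgroup.closure_le U).2 fun y hy => (hX hy).1)
      (H24.ne_bot_of_mem (Subgroup.subset_closure hx) (hX hx).2) (e ▸ hC)).1
    exact ⟨h.le, h.uniq⟩
  · rw [H26.typeA_eq16 hM fun h1 => hU.elim (fun h => h.1) fun h => by
      have := (H26.typeII_iff16 hM).1 h.1; omega, H26.typeA1_eq16 hM]
    refine H26.isTI_of_ti (M := M) (fun g hg x hx => ⟨H24.conj_mem_FTsupp hg hx.1, fun h => hx.2 ?_⟩)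
      fun x hx g hg => H24.FTsupp0_ti16 hM (H24.FTsupp_sub0 M hx.1) (H24.FTsupp_sub0 M hg.1)
        fun h => hx.2 (H24.mem_FTsupp1.2 ⟨(H24.def_FTcore hM).symm ▸ h, hx.1.2.1⟩)
    exact (H24.conj_mem_set_iff (H24.norm_FTsupp1 M hg)).1 h

end Cfsg.Agent.S1390
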