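import Cfsg.Statements.S1437
import Mathlib
import Cfsg.Agent.H24.S15
import Cfsg.Agent.H25.Bridge

set_option autoImplicit false
open Cfsg

namespace Cfsg.Agent.S1437

/-- Let G be a minimal simple group of odd order and M a maximal subgroup with standard factorisation M = K U M_σ such that M_F ≠ M_σ; put K* = M_σ ∩ C_G(K), p = #K, q = #K*. Then U = 1 and M_σ = M'; p and q are prime, q divides #M_F and q ∈ β(M); M_σ has a Sylow q-subgroup Q normal in M and contained in M_F; every complement D of Q in M_σ is nilpotent, and Q₀ = Q ∩ C_G(D) is normal in M; Q₀ < Q with #Q = #Q₀ · q ^ p, every element of Q has its q-th power and all its commutators with Q in Q₀, and every subgroup strictly between Q₀ and Q fails to be normal in M. -/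
theorem result {G : Type*} [Group G] [Finite G] (hG : Cfsg.IsMinSimpleOddOrder G)
    (M : Subgroup G) (hM : IsCoatom M) (K U : Subgroup G) (hKU : Cfsg.IsSigmaDecomposition M K U) (hne : Cfsg.fittingHallOf M ≠ Cfsg.sigmaCore M) :
    U = ⊥ ∧ Cfsg.sigmaCore M = ⁅M, M⁆ ∧ (Nat.card K).Prime ∧ (Nat.card ↥(Cfsg.sigmaCore M ⊓ Subgroup.centralizer (K : Set G))).Prime ∧
      Nat.card ↥(Cfsg.sigmaCore M ⊓ Subgroup.centralizer (K : Set G)) ∣ Nat.card (Cfsg.fittingHallOf M) ∧ Nat.card ↥(Cfsg.sigmaCore M ⊓ Subgroup.centralizer (K : Set G)) ∈ Cfsg.beta M ∧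
      ∃ Q : Subgroup G, Q ≤ Cfsg.fittingHallOf M ∧ M ≤ Subgroup.normalizer (Q : Set G) ∧ IsPGroup (Nat.card ↥(Cfsg.sigmaCore M ⊓ Subgroup.centralizer (K : Set G))) Q ∧
        ¬ Nat.card ↥(Cfsg.sigmaCore M ⊓ Subgroup.centralizer (K : Set G)) ∣ Q.relIndex (Cfsg.sigmaCore M) ∧
        ∀ D : Subgroup G, Cfsg.IsComplIn Q D (Cfsg.sigmaCore M) →
          Group.IsNilpotent D ∧ M ≤ Subgroup.normalizer ((Q ⊓ Subgroup.centralizer (D : Set G) : Subgroup G) : Set G) ∧
          Q ⊓ Subgroup.centralizer (D : Set G) < Q ∧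
          Nat.card Q = Nat.card ↥(Q ⊓ Subgroup.centralizer (D : Set G)) * Nat.card ↥(Cfsg.sigmaCore M ⊓ Subgroup.centralizer (K : Set G)) ^ Nat.card K ∧
          (∀ a ∈ Q, ∀ b ∈ Q, a ^ Nat.card ↥(Cfsg.sigmaCore M ⊓ Subgroup.centralizer (K : Set G)) ∈ Q ⊓ Subgroup.centralizer (D : Set G) ∧
            a * b * a⁻¹ * b⁻¹ ∈ Q ⊓ Subgroup.centralizer (D : Set G)) ∧
          ∀ N : Subgroup G, Q ⊓ Subgroup.centralizer (D : Set G) < N → N < Q → ¬ M ≤ Subgroup.normalizer (N : Set G) := by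
  have : H25.FT G := ⟨hG⟩
  have h := (H24.kappaCompl_iff hM).2 hKU
  obtain ⟨h1, -, h2, h3, h4, h5, h6⟩ := H24.Fcore_structure_type hM h.hallK hne
  refine ⟨h1.eq_bot h, h2, h3, h4, h5, h6, ?_⟩
  generalize hq : Nat.card ↥(Cfsg.sigmaCore M ⊓ Subgroup.centralizer (K : Set G)) = q at h4 h5 h6 ⊢
  have hs : q ∈ sigma M := H25.beta_sub_sigma hM h6
  obtain ⟨D₀, hD₀⟩ := H26.Hall_exists {q}ᶜ (H25.Msigma_sol hM)
  have hQ := (H24.Fcore_structure hM h.hallK hne hq.symm hD₀).1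
  have hQs := H25.Sylow_Msigma hM hs hQ
  have hn := H24.pcore_nml {q} M
  refine ⟨_, H24.Fcore_max hQ.isHall hn.norm (hQ.pi.nil h4), hn.norm, hQ.pi.isPGroup h4, hQs.not_dvd h4,
    fun D hD => ?_⟩
  have hsd := H24.SD.of_isComplIn hD ((H25.sigmaCore_le M).trans hn.norm)
  obtain ⟨-, a1, a2, ⟨a3, a4, a5⟩, -⟩ := H24.Fcore_structure hM h.hallK hne hq.symm
    (hsd.hall_compl_right hQs)
  have b1 := a2.of_le inf_le_left hn.le
  refine ⟨a1, a2.norm, lt_of_le_of_ne inf_le_left fun e => a3.ne_bot ?_, ?_, fun a ha b hb => ?_,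
    fun N hN1 hN2 hN => ?_⟩
  · exact H24.quo_eq_bot_of_le e.ge
  · rw [← a5, b1.card_quo]
  · have haN := b1.norm ha
    have hbN := b1.norm hb
    have ha' := H24.cs_mem_quo ha haN
    have hb' := H24.cs_mem_quo hb hbN
    constructor
    · rw [← H24.cs_eq_one (pow_mem haN q), H24.cs, H24.ap_pow _ haN]
      exact a4.2 _ ha'
    · rw [← H24.cs_eq_one (mul_mem (mul_mem (mul_mem haN hbN) (inv_mem haN)) (inv_mem hbN)), H24.cs,
        H24.ap_mul _ (mul_mem (mul_mem haN hbN) (inv_mem haN)) (inv_mem hbN),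
        H24.ap_mul _ (mul_mem haN hbN) (inv_mem haN), H24.ap_mul _ haN hbN, H24.ap_inv _ haN,
        H24.ap_inv _ hbN, H24.Abl.comm a4.1 ha' hb']
      group
  · have hN0 := b1.of_le hN1.le hN2.le
    exact hN2.ne (H24.quo_inj hN0 b1 (a3.min _ (H24.quo_mono _ hN2.le)
      (fun e => hN1.not_ge ((H24.quo_eq_bot hN0.norm).1 e)) (H24.quo_norm _ hN)))

end Cfsg.Agent.S1437
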