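import Cfsg.Statements.S1451
import Mathlib
import Cfsg.Agent.H26.S04a

set_option autoImplicit false
open Cfsg

namespace Cfsg.Agent.S1451

/-- Let G be a solvable group of odd order such that G, or its Fitting subgroup, has no elementary abelian subgroup of order q ^ 3 for any prime q. Then G' is nilpotent; for every Sylow subgroup S of G, every characteristic subgroup T of S with T ≤ [S, S] is normal in G; and for every prime p, G has a characteristic subgroup that is a Hall subgroup for the set of primes greater than p. -/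
theorem result {G : Type*} [Group G] [Finite G] [Group.IsSolvable G] (hodd : Odd (Nat.card G)) (hr : Cfsg.RankLE 2 G ∨ Cfsg.RankLE 2 (Cfsg.fittingSubgroup G)) :
    Group.IsNilpotent ↥(commutator G) ∧
      (∀ (q : ℕ) [Fact q.Prime] (S : Sylow q G) (T : Subgroup ↥(S : Subgroup G)), T.Characteristic → T.map (S : Subgroup G).subtype ≤ ⁅(S : Subgroup G), (S : Subgroup G)⁆ →
        (T.map (S : Subgroup G).subtype).Normal) ∧
      ∀ p : ℕ, ∃ N : Subgroup G, N.Characteristic ∧ Cfsg.IsPiHall {q | q.Prime ∧ p < q} N := by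
  have ho : Odd (Nat.card (⊤ : Subgroup G)) := by rwa [Subgroup.card_top]
  have hr' : H24.rank (Cfsg.fittingOf (⊤ : Subgroup G)) ≤ 2 := by
    rcases hr with h | h
    · exact (H25.rank_mono le_top).trans (H25.rank_top_le_iff.mpr h)
    · rw [H24.Fitting_top]; exact H25.rank_le_iff.mpr h
  refine ⟨(H24.Fitting_nil _).of_le (H26.rank2_der1_sub_Fitting ho H24.sol_top hr'),
    fun q hq S T hT h => H24.nml_top_iff.mp (H26.rank2_char_Sylow_normal ho H24.sol_top hr' hq.out
      (H24.syl_top_of_sylow hq.out S) (H24.chr_map_subtype T) h), fun p => ?_⟩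
  exact ⟨_, H24.chr_top_iff.mp (H24.chr_pcore _ _), H24.hall_top_iff.mp
    ((H26.rank2_ge_pcore_Hall ho H24.sol_top hr' (p + 1)).congr fun q hq _ =>
      ⟨fun h => ⟨hq, h⟩, fun h => h.2⟩)⟩

end Cfsg.Agent.S1451
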