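import Cfsg.Statements.S1452
import Mathlib
import Cfsg.Agent.H26.S05

set_option autoImplicit false
open Cfsg

namespace Cfsg.Agent.S1452

/-- Let p be an odd prime and R a finite p-group containing an elementary abelian subgroup of order p ^ 3. If E is a normal elementary abelian subgroup of R of order p ^ 2, then E ≤ A for some normal subgroup A of R with C_R(A) = A that contains an elementary abelian subgroup of order p ^ 3. -/
theorem result {R : Type*} [Group R] [Finite R] (p : ℕ) [Fact p.Prime] (hp : p ≠ 2) (hR : IsPGroup p R) (hr : ¬ Cfsg.PRankLE p 2 R)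
    (E : Subgroup R) [E.Normal] (hE : Cfsg.IsElementaryAbelian p E) (hE2 : Nat.card E = p ^ 2) :
    ∃ A : Subgroup R, E ≤ A ∧ A.Normal ∧ Subgroup.centralizer (A : Set R) = A ∧ ¬ Cfsg.PRankLE p 2 A := by
  have hp' : p.Prime := Fact.out
  have hR' : H24.IsPi {p} (⊤ : Subgroup R) := H24.isPi_of_isPGroup hp' (hR.to_subgroup ⊤)
  obtain ⟨B, ⟨⟨-, h1, h2⟩, h3⟩, h4⟩ := H26.normal_p2Elem_SCN3 hp' hR' (H26.odd_of_pgroup hp' hp hR')
    (not_le.mp fun h => hr ((H25.prank_top_le_iff hp').mp h)) ⟨le_top, hE, hE2⟩ (H24.nml_top E)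
  refine ⟨B, h4, H24.nml_top_iff.mp ⟨le_top, h1⟩, (top_inf_eq _).symm.trans h2, ?_⟩
  rw [H25.rank_pgroup hp' (hR'.of_le le_top)] at h3
  exact (H25.lt_prank_iff hp').mp h3

end Cfsg.Agent.S1452
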