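import Cfsg.Statements.S1458
import Mathlib
import Cfsg.Agent.H26.SAB
import Cfsg.Agent.H13.ZJApps

set_option autoImplicit false
open Cfsg

namespace Cfsg.Agent.S1458

/-- Let G be a solvable group of odd order, p a prime and S a Sylow p-subgroup of G. Then the subgroup generated by the centre of the Thompson subgroup of S and O_{p'}(G) is normal in G. -/
theorem result {G : Type*} [Group G] [Finite G] [Group.IsSolvable G] (hodd : Odd (Nat.card G)) (p : ℕ) [Fact p.Prime] (S : Sylow p G) :
    (Cfsg.centerThompsonOf p (S : Subgroup G) ⊔ Cfsg.pPrimeCore p G).Normal := by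
  have hp : p.Prime := Fact.out
  by_cases h2 : p = 2
  · subst h2
    have hS : (S : Subgroup G) = ⊥ := H26.eq_bot_of_odd_two (M := ⊤) (by rwa [Subgroup.card_top])
      (H24.isPi_of_isPGroup hp S.isPGroup') le_top
    rw [H24.eq_bot_of_le hS (H13.centerThompsonOf_le _ _), bot_sup_eq]
    infer_instance
  have h := H13.pPrimeCore_sup_normalizer_centerThompsonOf h2 (Or.inr rfl)
    H13.isPConstrained_of_isSolvable (fun V _ hV => H12.isPStableOn_of_isPGroup
      (H12.not_quadInvolved_of_odd h2 (hodd.of_dvd_nat (Subgroup.card_quotient_dvd_card _))) V hV) S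
  rw [← H24.nml_top_iff]
  refine ⟨le_top, h ▸ sup_le (H24.norm_of_le le_sup_right)
    (H24.norm_sup le_rfl (H24.norm_of_normal _ _))⟩

end Cfsg.Agent.S1458
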