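import Cfsg.Statements.S1466
import Mathlib
import Cfsg.Agent.H26.PuigDefs

set_option autoImplicit false
open Cfsg

namespace Cfsg.Agent.S1466

/-- Let p be a prime and R a nontrivial finite p-group. Then for every i > 0, Z(R) ≤ C_R(L_i(R)) ≤ L_i(R); likewise Z(R) ≤ C_R(L_*(R)) ≤ L_*(R) and Z(R) ≤ C_R(L(R)) ≤ L(R); and L(R) ≠ 1, L_*(R) ≠ 1. -/
theorem result {R : Type*} [Group R] [Finite R] (p : ℕ) [Fact p.Prime] (hR : IsPGroup p R) [Nontrivial R] :
    (∀ i : ℕ, 0 < i → Subgroup.center R ≤ Subgroup.centralizer ((Cfsg.puigSeq R i : Subgroup R) : Set R) ∧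
        Subgroup.centralizer ((Cfsg.puigSeq R i : Subgroup R) : Set R) ≤ Cfsg.puigSeq R i) ∧
      (Subgroup.center R ≤ Subgroup.centralizer ((Cfsg.puigLower R : Subgroup R) : Set R) ∧ Subgroup.centralizer ((Cfsg.puigLower R : Subgroup R) : Set R) ≤ Cfsg.puigLower R) ∧
      (Subgroup.center R ≤ Subgroup.centralizer ((Cfsg.puigSubgroup R : Subgroup R) : Set R) ∧ Subgroup.centralizer ((Cfsg.puigSubgroup R : Subgroup R) : Set R) ≤ Cfsg.puigSubgroup R) ∧
      Cfsg.puigSubgroup R ≠ ⊥ ∧ Cfsg.puigLower R ≠ ⊥ := by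
  simp only [← H26.puigAt_top, ← H26.puigL_top, ← H26.puigInf_top]
  have := hR.isNilpotent
  have hN : H24.Nil (⊤ : Subgroup R) := inferInstance
  have hZ : Subgroup.center R ≠ ⊥ := Group.IsNilpotent.center_ne_bot R
  have h1 := H26.sub_cent_puigInf hN
  have h2 := H26.sub_cent_puigL hN
  rw [top_inf_eq] at h1 h2
  refine ⟨fun i hi => ⟨Subgroup.center_le_centralizer _, ?_⟩,
    ⟨Subgroup.center_le_centralizer _, h1⟩, ⟨Subgroup.center_le_centralizer _, h2⟩,
    H24.ne_bot_of_le hZ ((Subgroup.center_le_centralizer _).trans h2),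
    H24.ne_bot_of_le hZ ((Subgroup.center_le_centralizer _).trans h1)⟩
  simpa using H26.sub_cent_Puig_at hN hi

end Cfsg.Agent.S1466
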