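import Mathlib
import Cfsg.Statements.S1480
import Cfsg.Agent.H13.Transitivity
-- import your own Cfsg.Agent.* helpers here

set_option autoImplicit false
open Cfsg

namespace Cfsg.Agent.S1480

/-- Let G be a finite group and p a prime such that the normalizer of every nontrivial p-subgroup of G is p-constrained; if p = 2 assume also that the Sylow 2-subgroups of G have nilpotency class at most 2. Let E be an abelian p-subgroup containing an elementary abelian subgroup of order p ^ 3 and containing every element of p-power order of C_G(E). Then for every prime q ≠ p, any two maximal E-invariant q-subgroups of G are conjugate by an element of O_{p'}(C_G(E)). -/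
theorem result {G : Type*} [Group G] [Finite G] (p : ℕ) [Fact p.Prime]
    (hloc : ∀ T : Subgroup G, IsPGroup p T → T ≠ ⊥ → Cfsg.IsPConstrained p ↥(Subgroup.normalizer (T : Set G)))
    (h2 : p = 2 → ∀ S : Sylow p G, Group.IsNilpotent (S : Subgroup G) ∧ Group.nilpotencyClass (S : Subgroup G) ≤ 2)
    (E : Subgroup G) (hEp : IsPGroup p E) (hEc : IsMulCommutative E) (hE3 : ¬ Cfsg.PRankLE p 2 E)
    (hEfull : ∀ x ∈ Subgroup.centralizer (E : Set G), IsPGroup p (Subgroup.zpowers x) → x ∈ E)
    (q : ℕ) [Fact q.Prime] (hqp : q ≠ p) :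
    ∀ Q₁ ∈ Cfsg.maxInvSubgroups ⊤ E {q}, ∀ Q₂ ∈ Cfsg.maxInvSubgroups ⊤ E {q},
        ∃ k ∈ Cfsg.piCoreOf (Cfsg.primesNotDvd p) (Subgroup.centralizer (E : Set G)), Q₂ = Q₁.map (MulAut.conj k).toMonoidHom := by
  intro Q₁ h₁ Q₂ h₂
  simp only [Cfsg.PRankLE, not_forall, not_le] at hE3
  obtain ⟨A, -, hA, hc⟩ := hE3
  obtain ⟨k, hk, h⟩ := H13.thompson_transitivity hqp hloc (fun hp T hT => by
      obtain ⟨S, hS⟩ := hT.exists_le_sylow
      obtain ⟨h1, h3⟩ := h2 hp S
      exact eq_bot_iff.mpr (H13.commutator_commutator_eq_bot_of_class_le_two h3 ▸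
        Subgroup.commutator_mono (Subgroup.commutator_mono hS hS) hS))
    hEp hEc (Subgroup.map_subtype_le A)
    (by rintro _ ⟨a, ha, rfl⟩; exact congrArg Subtype.val (hA a ha))
    (by rwa [H2.card_map_subtype])
    (fun x hx k hk => hEfull x hx (H13.isPGroup_zpowers hk))
    (H13.maxInv_of_mem_maxInvSubgroups h₁) (H13.maxInv_of_mem_maxInvSubgroups h₂)
  exact ⟨k, Subgroup.map_mono H13.pPrimeCore_le_piCore hk, h⟩

end Cfsg.Agent.S1480
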