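import Cfsg.Statements.S1485
import Mathlib
import Cfsg.Agent.H27.Wrap1

set_option autoImplicit false
open Cfsg

namespace Cfsg.Agent.S1485

/-- Let H be a normal subgroup of the finite group G and θ an irreducible character of H. On H, the function induced from θ equals r times the sum of the distinct G-conjugates of θ, where r is the number of elements of G fixing θ under conjugation divided by the order of H (the index of H in the inertia group). -/
theorem result {G : Type*} [Group G] [Fintype G] (H : Subgroup G) [hN : H.Normal] (θ : H → ℂ) (hθ : Cfsg.IsIrrCharacter H θ) : (fun h : H => Cfsg.indFun H θ h) = ((Nat.card {g : G // ∀ h : H, θ ⟨g * h * g⁻¹, hN.conj_mem h h.2 g⟩ = θ h} : ℂ) / (Nat.card H : ℂ)) • ∑ᶠ ψ ∈ {ψ : H → ℂ | ∃ g : G, ψ = fun h : H => θ ⟨g * h * g⁻¹, hN.conj_mem h h.2 g⟩}, ψ := by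
  open H24 H27 in
  have h0 := ext0_mem_Irr.mpr hθ
  have h1 := congrArg (resL H) (cfInd_nml_eq_sum_cfclass (nml_top H) (irr_CF h0))
  rw [cfInd_top_ext0, map_smul, map_sum,
    relIndex_eq_div (le_inertia le_top (irr_CF h0))] at h1
  refine h1.trans ?_
  congr 1
  · congr 2
    exact Nat.card_congr (Equiv.subtypeEquivRight fun g => mem_inertia_top_ext0)
  · rw [← finsum_mem_coe_finset]
    refine finsum_mem_eq_of_bijOn (resL H) ⟨fun ψ hψ => ?_, fun ψ hψ φ hφ e => ?_, fun ψ hψ => ?_⟩
      (fun _ _ => rfl)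
    · have h2 := irr_cfOn (cfclass_irr (nml_top H).norm h0 hψ)
      refine mem_cfclass_top_ext0.mp ?_
      rw [resL_apply, ext0_res, cfRes_eq_self h2]; exact hψ
    · exact eq_of_res_eq (irr_cfOn (cfclass_irr (nml_top H).norm h0 hψ))
        (irr_cfOn (cfclass_irr (nml_top H).norm h0 hφ)) e
    · exact ⟨_, mem_cfclass_top_ext0.mpr hψ, res_ext0 ψ⟩

end Cfsg.Agent.S1485
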