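import Cfsg.Statements.S1488
import Mathlib
import Cfsg.Agent.H27.Wrap1

set_option autoImplicit false
open Cfsg

namespace Cfsg.Agent.S1488

/-- Let A be a normal subgroup of the finite group G contained in the subgroup H, let θ be a function on H and θ₁ a function on the image of H in G ⧸ A whose composite with the projection is θ. Then the function induced from θ₁ to G ⧸ A, composed with the projection G → G ⧸ A, equals the function induced from θ to G. -/
theorem result {G : Type*} [Group G] [Fintype G] (A H : Subgroup G) [A.Normal] (hAH : A ≤ H) [Fintype (G ⧸ A)] [Fintype ↥(H.map (QuotientGroup.mk' A))] (θ : H → ℂ) (θ₁ : ↥(H.map (QuotientGroup.mk' A)) → ℂ) (hθ : ∀ x : H, θ₁ ⟨QuotientGroup.mk' A x, Subgroup.mem_map_of_mem _ x.2⟩ = θ x) (g : G) : Cfsg.indFun (H.map (QuotientGroup.mk' A)) θ₁ (QuotientGroup.mk' A g) = Cfsg.indFun H θ g := by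
  open H24 H27 in
  let f : (⊤ : Subgroup G) →* G ⧸ A := (QuotientGroup.mk' A).comp (⊤ : Subgroup G).subtype
  have hap : ∀ x, ap f x = QuotientGroup.mk' A x := fun x => ap_of_mem f (Subgroup.mem_top x)
  have himg : ∀ X : Subgroup G, img f X = X.map (QuotientGroup.mk' A) := fun X => by
    ext z; simp only [mem_img_of_le le_top, hap, Subgroup.mem_map]
  have h1 := congrFun (cfInd_cfMorph f (H := H) le_top le_rfl (fun x hx => hAH (by
    have := (mem_pre_bot.mp hx.2).2
    rwa [hap, QuotientGroup.mk'_apply, QuotientGroup.eq_one_iff] at this))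
    (extendByZero (H.map (QuotientGroup.mk' A)) θ₁)) g
  have h2 : cfMorph f H (extendByZero (H.map (QuotientGroup.mk' A)) θ₁) = extendByZero H θ :=
    ext_on (cfMorph_mem_cfOn f H _) (ext0_mem_cfOn θ) fun x hx => by
      rw [cfMorph_apply f _ hx, hap, ext0_of_mem _ (Subgroup.mem_map_of_mem _ hx), ext0_of_mem _ hx]
      exact hθ ⟨x, hx⟩
  rw [h2, cfInd_top_ext0, cfMorph_apply f _ (Subgroup.mem_top g), himg, himg,
    Subgroup.map_top_of_surjective _ (QuotientGroup.mk'_surjective A), cfInd_top_ext0, hap] at h1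
  exact h1.symm

end Cfsg.Agent.S1488
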