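import Cfsg.Statements.S1489
import Mathlib
import Cfsg.Agent.H27.Wrap1

set_option autoImplicit false
open Cfsg

namespace Cfsg.Agent.S1489

/-- Let H be a normal subgroup of the finite group G, θ an irreducible character of H, and T the inertia group of θ (the elements g with θ(g h g⁻¹) = θ(h) for all h ∈ H). If ψ and ψ' are irreducible characters of T having nonzero inner product with the function induced from θ to T, then the function induced from ψ to G is an irreducible character of G, and it equals the one induced from ψ' only if ψ = ψ'. -/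
theorem result {G : Type*} [Group G] [Fintype G] (H T : Subgroup G) [hN : H.Normal] [Fintype T] (θ : H → ℂ) (hθ : Cfsg.IsIrrCharacter H θ) (hT : ∀ g : G, g ∈ T ↔ ∀ h : H, θ ⟨g * h * g⁻¹, hN.conj_mem h h.2 g⟩ = θ h) (hHT : H ≤ T) (ψ ψ' : T → ℂ) (hψ : Cfsg.IsIrrCharacter T ψ) (hψ' : Cfsg.IsIrrCharacter T ψ') (hc : Cfsg.classInner (Cfsg.indFun (H.subgroupOf T) (fun x => θ ⟨(x : T), Subgroup.mem_subgroupOf.mp x.2⟩)) ψ ≠ 0) (hc' : Cfsg.classInner (Cfsg.indFun (H.subgroupOf T) (fun x => θ ⟨(x : T), Subgroup.mem_subgroupOf.mp x.2⟩)) ψ' ≠ 0) : Cfsg.IsIrrCharacter G (Cfsg.indFun T ψ) ∧ (Cfsg.indFun T ψ = Cfsg.indFun T ψ' → ψ = ψ') := by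
  open H24 H27 in
  have h0 := ext0_mem_Irr.mpr hθ
  have hT' : T = inertia ⊤ (extendByZero H θ) := by
    ext g; rw [hT, mem_inertia_top_ext0]
  have key : ∀ ψ : T → ℂ, IsIrrCharacter T ψ → classInner (indFun (H.subgroupOf T)
      (fun x => θ ⟨(x : T), Subgroup.mem_subgroupOf.mp x.2⟩)) ψ ≠ 0 →
      cfdot H (extendByZero T ψ) (extendByZero H θ) ≠ 0 := fun ψ hψ h h' => h (by
    have h1 := cfdot_cfInd_left hHT (extendByZero H θ) (irr_CF (ext0_mem_Irr.mpr hψ))
    rw [cfdot_symm_zero h', cfdot_eq_classInner, res_cfInd H hHT, res_ext0] at h1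
    rw [← h1]
    congr 2
    funext x
    exact (ext0_of_mem θ _).symm)
  have h1 := key ψ hψ hc
  have h2 := key ψ' hψ' hc'
  have h3 := ext0_mem_Irr.mpr hψ
  have h4 := ext0_mem_Irr.mpr hψ'
  rw [← cfInd_top_ext0, ← cfInd_top_ext0, ← mem_Irr_top]
  clear key hc hc'
  subst hT'
  exact ⟨clifford_ind_irr (nml_top H) h0 h3 h1,
    fun e => ext0_injective (clifford_ind_inj (nml_top H) h0 h3 h4 h1 h2 e)⟩

end Cfsg.Agent.S1489
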