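import Cfsg.Statements.S1496
import Mathlib
import Cfsg.Agent.H27.Wrap1

set_option autoImplicit false
open Cfsg

namespace Cfsg.Agent.S1496

/-- Let H be a subgroup of the finite group G and g an element normalising H whose order is coprime to the order of H. Then for every h ∈ H there are x ∈ H and c ∈ H commuting with g such that x * (h * g) * x⁻¹ = c * g. -/
theorem result {G : Type*} [Group G] [Finite G] (H : Subgroup G) (g : G) (hg : g ∈ Subgroup.normalizer (H : Set G)) (hcop : Nat.Coprime (orderOf g) (Nat.card H)) (h : G) (hh : h ∈ H) : ∃ x ∈ H, ∃ c ∈ H, c * g = g * c ∧ x * (h * g) * x⁻¹ = c * g := by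
  open H24 H27 in
  classical
  by_contra hc
  have h1 := coprime_coset_avg hg hcop.symm
    (fun y => if ∃ x ∈ H, x * (h * g) * x⁻¹ = y then 1 else 0) (fun k hk y => by
      congr 1
      refine propext ⟨fun ⟨x, hx, e⟩ => ⟨k⁻¹ * x, H.mul_mem (H.inv_mem hk) hx, ?_⟩,
        fun ⟨x, hx, e⟩ => ⟨k * x, H.mul_mem hk hx, by rw [← e]; group⟩⟩
      calc k⁻¹ * x * (h * g) * (k⁻¹ * x)⁻¹ = k⁻¹ * (x * (h * g) * x⁻¹) * k := by group
        _ = y := by rw [e]; group)
  rw [Finset.sum_eq_zero (s := fs ((H ⊓ C{g} : Subgroup G) : Set G)) (fun c hc' => if_neg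
    fun ⟨x, hx, e⟩ => hc ⟨x, hx, c, (mem_fs.mp hc').1, mem_C1.mp (mem_fs.mp hc').2, e⟩), mul_zero,
    Finset.sum_boole, mul_eq_zero, inv_eq_zero, Nat.cast_eq_zero, Nat.cast_eq_zero,
    Finset.card_eq_zero, Finset.filter_eq_empty_iff] at h1
  exact h1.elim (card_ne_zero H) fun h2 => h2 (mem_fs.mpr hh) ⟨1, H.one_mem, by group⟩

end Cfsg.Agent.S1496
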