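import Cfsg.Statements.S1497
import Mathlib
import Cfsg.Agent.H27.Wrap1

set_option autoImplicit false
open Cfsg

namespace Cfsg.Agent.S1497

/-- Let A be a nonempty subset of the finite group G not containing 1 and L a subgroup. Then A is a TI-subset whose normaliser is L if and only if the Dade hypothesis holds for A, L and the constant choice H(a) = ⊥. -/
theorem result {G : Type*} [Group G] [Finite G] (A : Set G) (hA : A.Nonempty) (h1 : (1 : G) ∉ A) (L : Subgroup G) : (Cfsg.IsTISubset A ∧ Subgroup.normalizer A = L) ↔ Cfsg.DadeHypothesis A L (fun _ => ⊥) := by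
  open H24 H27 in
  refine ⟨fun h => normedTI_Dade (nti_of_normedTI ((normedTI_iff h1).mpr ⟨hA, h⟩)) h1, fun h => ?_⟩
  refine ((normedTI_iff h1).mp (NTI.normedTI ⟨le_top, h.subset, h.conj_mem, fun a ha g _ hg => ?_⟩
    hA)).2
  obtain ⟨x, hx, e⟩ := h.fusion a ha g hg
  have h2 := h.sup_eq a ha
  rw [bot_sup_eq, inf_eq_right] at h2
  have : x⁻¹ * g ∈ L := h2 (mem_C1_iff_conj.mpr (by
    calc x⁻¹ * g * a * (x⁻¹ * g)⁻¹ = x⁻¹ * (g * a * g⁻¹) * x := by group
      _ = a := by rw [← e]; group))
  simpa using L.mul_mem hx this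

end Cfsg.Agent.S1497
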