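import Cfsg.Statements.S1502
import Mathlib
import Cfsg.Agent.H4.PFWrap

set_option autoImplicit false
open Cfsg

namespace Cfsg.Agent.S1502
open H4
open H24 H27 H4.PFW

/-- Let W₁, W₂ be nontrivial subgroups of the finite group G generating a cyclic subgroup W = W₁ ⊔ W₂ of odd order that is the normaliser of every nonempty set of its elements outside W₁ ∪ W₂. Then there is a family attaching to each linear character ω of W an irreducible character of G up to sign, orthonormal, sending the trivial character to the principal character, with χ ω = ω on W outside W₁ ∪ W₂, and such that inducing (1 − φ)(1 − ψ) to G gives 1 − χ φ − χ ψ + χ (φψ) whenever φ ≠ 1 is trivial on W₂ and ψ ≠ 1 is trivial on W₁. -/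
theorem result {G : Type*} [Group G] [Fintype G] (W₁ W₂ : Subgroup G) (hW : Cfsg.IsSelfNormalizingCyclic W₁ W₂) (hodd : Odd (Nat.card ↥(W₁ ⊔ W₂))) : ∃ χ : (↥(W₁ ⊔ W₂) →* ℂˣ) → (G → ℂ), Cfsg.IsCyclicTIFamily W₁ W₂ χ := by
  classical
  have c := snc_cyclicTI hW hodd
  refine ⟨fun ω => cycIso ⊤ (W₁ ⊔ W₂) W₁ W₂ (lc ω), fun ω => isDirr_top.mp (c.iso_dirr (lc_irr ω)),
    fun ω ω' => ?_, ?_, fun ω w h1 h2 => ?_, fun φ ψ _ _ hφ hψ => ?_⟩
  · rw [← cfdot_top, c.iso_dot_irr (lc_irr ω) (lc_irr ω')]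
    simp only [lc_inj]; congr
  · simp only [lc_one, c.iso_one, cfOne_top]
  · rw [c.iso_restrict (irr_CF (lc_irr ω)) ⟨w.2, h1, h2⟩, lc_coe]
  · rw [← cfInd_top_eq (alpha_apply φ ψ), ← c.iso_Ind (c.alpha_on ((lc_mem_irrK c.le2).mpr hφ)
      ((lc_mem_irrK c.le1).mpr hψ)), map_add, map_sub, map_sub, c.iso_one, lc_mul, cfOne_top]
    rfl

end Cfsg.Agent.S1502
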