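import Cfsg.Statements.S1504
import Mathlib
import Cfsg.Agent.H4.PFWrap

set_option autoImplicit false
open Cfsg

namespace Cfsg.Agent.S1504
open H4
open H24 H27 H4.PFW

/-- Let W₁, W₂ be subgroups of a finite group with W₁ ⊓ W₂ = ⊥ whose elements commute, and W = W₁ ⊔ W₂. For linear characters φ, ψ of W with φ trivial on W₂ and ψ trivial on W₁, the function (1 − φ)(1 − ψ) vanishes on W₁ ∪ W₂; and the family of these functions, indexed by pairs (φ, ψ) with φ ≠ 1 ≠ ψ, is linearly independent over ℂ. -/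
theorem result {G : Type*} [Group G] [Finite G] (W₁ W₂ : Subgroup G) (hdisj : W₁ ⊓ W₂ = ⊥) (hcomm : ∀ a ∈ W₁, ∀ b ∈ W₂, a * b = b * a) : (∀ φ ψ : ↥(W₁ ⊔ W₂) →* ℂˣ, (∀ w : ↥(W₁ ⊔ W₂), (w : G) ∈ W₂ → φ w = 1) → (∀ w : ↥(W₁ ⊔ W₂), (w : G) ∈ W₁ → ψ w = 1) → ∀ w : ↥(W₁ ⊔ W₂), ((w : G) ∈ W₁ ∨ (w : G) ∈ W₂) → (1 - (φ w : ℂ) - (ψ w : ℂ) + (φ w : ℂ) * (ψ w : ℂ)) = 0) ∧ LinearIndependent ℂ (fun p : {p : (↥(W₁ ⊔ W₂) →* ℂˣ) × (↥(W₁ ⊔ W₂) →* ℂˣ) // p.1 ≠ 1 ∧ p.2 ≠ 1 ∧ (∀ w : ↥(W₁ ⊔ W₂), (w : G) ∈ W₂ → p.1 w = 1) ∧ (∀ w : ↥(W₁ ⊔ W₂), (w : G) ∈ W₁ → p.2 w = 1)} => fun w : ↥(W₁ ⊔ W₂) => 1 - (p.1.1 w : ℂ) - (p.1.2 w : ℂ) + (p.1.1 w : ℂ) * (p.1.2 w : ℂ)) := by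
  classical
  refine ⟨fun φ ψ hφ hψ w hw => ?_, ?_⟩
  · rcases hw with hw | hw
    · simp [hψ w hw]
    · simp [hφ w hw]
  have hd : DP W₁ W₂ (W₁ ⊔ W₂) := DP.mk_sup (fun b hb => mem_C.2 fun a ha => hcomm a ha b hb) hdisj
  rw [linearIndependent_iff']
  intro s g hs p hp
  have mI := fun q : {p : (↥(W₁ ⊔ W₂) →* ℂˣ) × (↥(W₁ ⊔ W₂) →* ℂˣ) // p.1 ≠ 1 ∧ p.2 ≠ 1 ∧
      (∀ w : ↥(W₁ ⊔ W₂), (w : G) ∈ W₂ → p.1 w = 1) ∧ (∀ w : ↥(W₁ ⊔ W₂), (w : G) ∈ W₁ → p.2 w = 1)} =>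
    (⟨(lc_mem_irrK hd.right_le).mpr q.2.2.2.1, (lc_mem_irrK hd.left_le).mpr q.2.2.2.2⟩ :
      lc q.1.1 ∈ irrK (W₁ ⊔ W₂) W₂ ∧ lc q.1.2 ∈ irrK (W₁ ⊔ W₂) W₁)
  have h1 := cfOne_mem_irrK hd.right_le
  have h2 := cfOne_mem_irrK hd.left_le
  have hz : cfdot (W₁ ⊔ W₂) (∑ q ∈ s, g q • (cfOne (W₁ ⊔ W₂) - lc q.1.1 - lc q.1.2 +
      lc q.1.1 * lc q.1.2)) (lc p.1.1 * lc p.1.2) = 0 := by
    refine cfdot_eq_zero_of fun x hx => Or.inl ?_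
    have := congrFun hs ⟨x, hx⟩
    rw [Finset.sum_apply] at this ⊢
    refine Eq.trans (Finset.sum_congr rfl fun q _ => ?_) this
    rw [Pi.smul_apply, Pi.smul_apply, alpha_apply q.1.1 q.1.2 ⟨x, hx⟩]
  have hdot : ∀ {a b : G → ℂ}, a ∈ irrK (W₁ ⊔ W₂) W₂ → b ∈ irrK (W₁ ⊔ W₂) W₁ →
      cfdot (W₁ ⊔ W₂) (a * b) (lc p.1.1 * lc p.1.2) = if a = lc p.1.1 ∧ b = lc p.1.2 then 1 else 0 := by
    intro a b ha hb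
    rw [irr_dot (dprod_irr hd ha hb) (dprod_irr hd (mI p).1 (mI p).2)]
    simp only [dprod_inj hd ha hb (mI p).1 (mI p).2]
  have e : ∀ q ∈ s, cfdot (W₁ ⊔ W₂) (g q • (cfOne (W₁ ⊔ W₂) - lc q.1.1 - lc q.1.2 +
      lc q.1.1 * lc q.1.2)) (lc p.1.1 * lc p.1.2) = if q = p then g q else 0 := by
    intro q _
    have a0 := hdot h1 h2
    have a1 := hdot (mI q).1 h2
    have a2 := hdot h1 (mI q).2
    rw [cfOne_mul (irr_cfOn (cfOne_mem_Irr _))] at a0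
    rw [mul_cfOne (irr_cfOn (lc_irr _))] at a1
    rw [cfOne_mul (irr_cfOn (lc_irr _))] at a2
    rw [cfdot_smul_left, cfdot_add_left, cfdot_sub_left, cfdot_sub_left, a0, a1, a2,
      hdot (mI q).1 (mI q).2]
    have n1 := (lc_ne_one p.2.1).symm
    have n2 := (lc_ne_one p.2.2.1).symm
    simp only [n1, n2, false_and, and_false, if_false, lc_inj, ← Prod.ext_iff, ← Subtype.ext_iff]
    split_ifs <;> simp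
  rw [cfdot_sum_left, Finset.sum_congr rfl e, Finset.sum_ite_eq', if_pos hp] at hz
  exact hz

end Cfsg.Agent.S1504
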