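import Cfsg.Statements.S1505
import Mathlib
import Cfsg.Agent.H4.PFWrap

set_option autoImplicit false
open Cfsg

namespace Cfsg.Agent.S1505
open H4
open H24 H27 H4.PFW

open Classical in
/-- Let W₁, W₂ ≤ G form a self-normalising cyclic subgroup W = W₁ ⊔ W₂. For nontrivial linear characters φ, φ' of W trivial on W₂ and ψ, ψ' trivial on W₁, put α = (1 − φ)(1 − ψ) and α' = (1 − φ')(1 − ψ'). Then the function induced from α to G has inner product 1 with the principal character, and the inner product of the functions induced from α and α' is 1 + a + b + ab where a = 1 if φ = φ' (else 0) and b = 1 if ψ = ψ' (else 0). -/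
theorem result {G : Type*} [Group G] [Fintype G] (W₁ W₂ : Subgroup G) (hW : Cfsg.IsSelfNormalizingCyclic W₁ W₂) (φ φ' ψ ψ' : ↥(W₁ ⊔ W₂) →* ℂˣ) (hφ : φ ≠ 1) (hφ' : φ' ≠ 1) (hψ : ψ ≠ 1) (hψ' : ψ' ≠ 1) (hφ₂ : ∀ w : ↥(W₁ ⊔ W₂), (w : G) ∈ W₂ → φ w = 1 ∧ φ' w = 1) (hψ₁ : ∀ w : ↥(W₁ ⊔ W₂), (w : G) ∈ W₁ → ψ w = 1 ∧ ψ' w = 1) : Cfsg.classInner (Cfsg.indFun (W₁ ⊔ W₂) (fun w => 1 - (φ w : ℂ) - (ψ w : ℂ) + (φ w : ℂ) * (ψ w : ℂ))) (fun _ => 1) = 1 ∧ Cfsg.classInner (Cfsg.indFun (W₁ ⊔ W₂) (fun w => 1 - (φ w : ℂ) - (ψ w : ℂ) + (φ w : ℂ) * (ψ w : ℂ))) (Cfsg.indFun (W₁ ⊔ W₂) (fun w => 1 - (φ' w : ℂ) - (ψ' w : ℂ) + (φ' w : ℂ) * (ψ' w : ℂ))) = 1 + (if φ = φ' then 1 else 0) + (if ψ = ψ' then 1 else 0) + (if φ = φ' then 1 else 0) * (if ψ = ψ' then 1 else 0) := by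
  have hd := snc_dp hW
  have m1 := (lc_mem_irrK hd.right_le).mpr fun w hw => (hφ₂ w hw).1
  have m1' := (lc_mem_irrK hd.right_le).mpr fun w hw => (hφ₂ w hw).2
  have m2 := (lc_mem_irrK hd.left_le).mpr fun w hw => (hψ₁ w hw).1
  have m2' := (lc_mem_irrK hd.left_le).mpr fun w hw => (hψ₁ w hw).2
  rw [← cfInd_top_eq (alpha_apply φ ψ), ← cfInd_top_eq (alpha_apply φ' ψ'), ← cfdot_top, ← cfdot_top,
    ← cfOne_top, cfdot_cfInd_left le_top _ (cfOne_mem_CF ⊤), ← cfdot_cfRes_right, cfRes_cfOne le_top,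
    PF3.alpha_dot_one hd m1 m2 (lc_ne_one hφ) (lc_ne_one hψ),
    (snc_nti hW).cfdot_cfInd (PF3.alpha_on hd (snc_abl hW) m1 m2).2
      (PF3.alpha_on hd (snc_abl hW) m1' m2'),
    PF3.alpha_dot hd m1 m2 m1' m2' (lc_ne_one hφ) (lc_ne_one hψ) (lc_ne_one hφ') (lc_ne_one hψ')]
  refine ⟨rfl, ?_⟩
  simp only [lc_inj]
  split_ifs <;> norm_num

end Cfsg.Agent.S1505
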