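import Cfsg.Statements.S1507
import Mathlib
import Cfsg.Agent.H4.PFWrap

set_option autoImplicit false
open Cfsg

namespace Cfsg.Agent.S1507
open H4
open H24 H27 H4.PFW

open Classical in
/-- Let W₁, W₂ ≤ G form a self-normalising cyclic subgroup W = W₁ ⊔ W₂ of odd order with Nat.card W₁ < Nat.card W₂, and χ an orthonormal family of irreducible characters of G up to sign, indexed by the linear characters ω of W, with χ_1 = 1, χ_ω = ω on W outside W₁ ∪ W₂, and the induction identity for (1 − φ)(1 − ψ). Let θ be a class function of G vanishing on W outside W₁ ∪ W₂, and suppose fewer than 2 · Nat.card W₁ linear characters ω of W have ⟨θ, χ ω⟩ ≠ 0. Then one of: all ⟨θ, χ ω⟩ vanish; or there are ψ₀ and a with ⟨θ, χ ω⟩ = a when ω ψ₀⁻¹ is trivial on W₂ and 0 otherwise; or there are φ₀ and a with ⟨θ, χ ω⟩ = a when ω φ₀⁻¹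 is trivial on W₁ and 0 otherwise. -/
theorem result {G : Type*} [Group G] [Fintype G] (W₁ W₂ : Subgroup G) (hW : Cfsg.IsSelfNormalizingCyclic W₁ W₂) (hodd : Odd (Nat.card ↥(W₁ ⊔ W₂))) (χ : (↥(W₁ ⊔ W₂) →* ℂˣ) → (G → ℂ)) (hχ : Cfsg.IsCyclicTIFamily W₁ W₂ χ) (hlt : Nat.card W₁ < Nat.card W₂) (θ : G → ℂ) (hθ : Cfsg.IsClassFunction G θ) (hθV : ∀ w : ↥(W₁ ⊔ W₂), (w : G) ∉ W₁ → (w : G) ∉ W₂ → θ w = 0) (hfew : Nat.card {ω : ↥(W₁ ⊔ W₂) →* ℂˣ // Cfsg.classInner θ (χ ω) ≠ 0} < 2 * Nat.card W₁) : (∀ ω, Cfsg.classInner θ (χ ω) = 0) ∨ (∃ (ψ₀ : ↥(W₁ ⊔ W₂) →* ℂˣ) (a : ℂ), ∀ ω, Cfsg.classInner θ (χ ω) = if (∀ w : ↥(W₁ ⊔ W₂), (w : G) ∈ W₂ → (ω * ψ₀⁻¹) w = 1) then a else 0) ∨ (∃ (φ₀ : ↥(W₁ ⊔ W₂) →* ℂˣ) (a : ℂ), ∀ ω, Cfsg.classInner θ (χ ω) = if (∀ w : ↥(W₁ ⊔ W₂), (w : G) ∈ W₁ → (ω * φ₀⁻¹) w = 1) then a else 0) := by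
  have c := snc_cyclicTI hW hodd
  have hd := c.dp
  by_cases h0 : ∀ ω, Cfsg.classInner θ (χ ω) = 0
  · exact Or.inl h0
  right
  push Not at h0
  obtain ⟨ω₀, h0⟩ := h0
  have dec : ∀ ω : ↥(W₁ ⊔ W₂) →* ℂˣ, ∃ a b : ↥(W₁ ⊔ W₂) →* ℂˣ, lc a ∈ irrK (W₁ ⊔ W₂) W₂ ∧
      lc b ∈ irrK (W₁ ⊔ W₂) W₁ ∧ ω = a * b := fun ω => by
    obtain ⟨i, hi, j, hj, e⟩ := c.exists_ij (lc_irr ω)
    obtain ⟨a, rfl⟩ := exists_lc c.abl (irrK_sub _ _ hi)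
    obtain ⟨b, rfl⟩ := exists_lc c.abl (irrK_sub _ _ hj)
    exact ⟨a, b, hi, hj, lc_inj.mp (by rw [e, lc_mul])⟩
  have hNC : cycNC ⊤ (W₁ ⊔ W₂) W₁ W₂ θ =
      Nat.card {ω : ↥(W₁ ⊔ W₂) →* ℂˣ // Cfsg.classInner θ (χ ω) ≠ 0} := by
    unfold cycNC
    rw [← Fintype.card_coe, ← Nat.card_eq_fintype_card]
    refine (Nat.card_congr (Equiv.ofBijective (fun ω => ⟨lc ω.1, Finset.mem_filter.mpr
      ⟨lc_irr _, by rw [← family_eq hW hodd hχ, cfdot_top]; exact ω.2⟩⟩) ⟨fun a b e => ?_, ?_⟩)).symm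
    · exact Subtype.ext (lc_inj.mp (congrArg Subtype.val e))
    · rintro ⟨x, hx⟩
      obtain ⟨h1, h2⟩ := Finset.mem_filter.mp hx
      obtain ⟨a, rfl⟩ := exists_lc c.abl h1
      exact ⟨⟨a, by rwa [← family_eq hW hodd hχ, cfdot_top] at h2⟩, rfl⟩
  obtain ⟨a₀, b₀, ha₀, hb₀, rfl⟩ := dec ω₀
  have key : ∀ {A B : Subgroup G}, DP A B (W₁ ⊔ W₂) → ∀ a b b' : ↥(W₁ ⊔ W₂) →* ℂˣ,
      lc a ∈ irrK (W₁ ⊔ W₂) B → lc b ∈ irrK (W₁ ⊔ W₂) A → lc b' ∈ irrK (W₁ ⊔ W₂) A →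
      (lc b = lc b' ↔ ∀ w : ↥(W₁ ⊔ W₂), (w : G) ∈ B → (a * b * b'⁻¹) w = 1) := by
    intro A B hAB a b b' ha hb hb'
    rw [lc_mem_irrK hAB.right_le] at ha
    rw [lc_mem_irrK hAB.left_le] at hb hb'
    rw [lc_inj]
    constructor
    · rintro rfl w hw; simp [ha w hw]
    · intro h
      have h1 := dprod_irrK_inter hAB (i := lc (b * b'⁻¹))
        ((lc_mem_irrK hAB.right_le).mpr fun w hw => by simpa [ha w hw] using h w hw)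
        ((lc_mem_irrK hAB.left_le).mpr fun w hw => by simp [hb w hw, hb' w hw])
      rw [← lc_one, lc_inj] at h1
      exact mul_inv_eq_one.mp h1
  rcases c.small_NC (mem_CF_top.mpr hθ) (fun x hx => hθV ⟨x, hx.1⟩ hx.2.1 hx.2.2)
    (by rw [hNC, min_eq_left hlt.le]; exact hfew) ha₀ hb₀
    (by rwa [← lc_mul, ← family_eq hW hodd hχ, cfdot_top]) with hc | hc
  · refine Or.inl ⟨b₀, cfdot ⊤ θ (cycIso ⊤ (W₁ ⊔ W₂) W₁ W₂ (lc a₀ * lc b₀)), fun ω => ?_⟩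
    obtain ⟨a, b, ha, hb, rfl⟩ := dec ω
    rw [family_eq hW hodd hχ, ← cfdot_top, lc_mul, hc _ ha _ hb]
    simp only [key hd a b b₀ ha hb hb₀]
  · refine Or.inr ⟨a₀, cfdot ⊤ θ (cycIso ⊤ (W₁ ⊔ W₂) W₁ W₂ (lc a₀ * lc b₀)), fun ω => ?_⟩
    obtain ⟨a, b, ha, hb, rfl⟩ := dec ω
    rw [family_eq hW hodd hχ, ← cfdot_top, lc_mul, hc _ ha _ hb, mul_comm a b]
    simp only [key hd.symm b a a₀ hb ha ha₀]

end Cfsg.Agent.S1507
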