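import Cfsg.Statements.S1511
import Mathlib
import Cfsg.Agent.H4.PFWrap

set_option autoImplicit false
open Cfsg

namespace Cfsg.Agent.S1511
open H4
open H24 H27 H4.PFW

/-- Let L be a finite group with K normal with complement W₁ ≠ 1 a cyclic Hall subgroup, and W₂ ≠ 1 a cyclic subgroup of K equal to C_K(x) for every non-identity x ∈ W₁, with W₁W₂ of odd order. Then there are a map μ from the linear characters of W = W₁ ⊔ W₂ to irreducible characters of L, injective, and a sign δ(ω) ∈ {1, −1} depending only on the values of ω on W₂, such that: for ω, ω' agreeing on W₂, the function induced to L from ω − ω' equals δ(ω) • (μ ω − μ ω'); μ ω x = δ(ω) ω x for x ∈ W outside W₂; every irreducible character of L not of the form μ ω vanishes on W outside W₂; and μ ω 1 − δ(ω) is an integer multiple of Nat.card W₁. -/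
theorem result {L : Type*} [Group L] [Fintype L] (K W₁ W₂ : Subgroup L) [hK : K.Normal] (hKW₁ : K ⊓ W₁ = ⊥) (hKW₁' : K ⊔ W₁ = ⊤) (hW₁ : W₁ ≠ ⊥) (hW₁c : IsCyclic W₁) (hHall : Nat.Coprime (Nat.card W₁) W₁.index) (hW₂ : W₂ ≠ ⊥) (hW₂c : IsCyclic W₂) (hW₂K : W₂ ≤ K) (hC : ∀ x ∈ W₁, x ≠ 1 → K ⊓ Subgroup.centralizer ({x} : Set L) = W₂) (hodd : Odd (Nat.card ↥(W₁ ⊔ W₂))) : ∃ (μ : (↥(W₁ ⊔ W₂) →* ℂˣ) → (L → ℂ)) (δ : (↥(W₁ ⊔ W₂) →* ℂˣ) → ℂ), Function.Injective μ ∧ (∀ ω, Cfsg.IsIrrCharacter L (μ ω)) ∧ (∀ ω, δ ω = 1 ∨ δ ω = -1) ∧ (∀ ω ω' : ↥(W₁ ⊔ W₂) →* ℂˣ, (∀ w : ↥(W₁ ⊔ W₂), (w : L) ∈ W₂ → ω w = ω' w) → δ ω = δ ω' ∧ Cfsg.indFun (W₁ ⊔ W₂) (fun w => (ω w : ℂ) - (ω' w : ℂ)) = δ ω • (μ ω - μ ω')) ∧ (∀ ω, ∀ w : ↥(W₁ ⊔ W₂), (w : L) ∉ W₂ → μ ω w = δ ω * (ω w : ℂ)) ∧ (∀ θ : L → ℂ, Cfsg.IsIrrCharacter L θ → (∀ ω, θ ≠ μ ω) → ∀ w : ↥(W₁ ⊔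 W₂), (w : L) ∉ W₂ → θ w = 0) ∧ (∀ ω, ∃ n : ℤ, μ ω 1 - δ ω = n * (Nat.card W₁ : ℂ)) := by
  have h := primeTI_top hKW₁ hKW₁' hW₁ hW₁c hHall hW₂ hW₂c hW₂K hC hodd
  have c := h.cyclicTI
  have sg : ∀ {i j : L → ℂ}, i ∈ irrK (W₁ ⊔ W₂) W₂ → j ∈ irrK (W₁ ⊔ W₂) W₁ →
      prSign ⊤ (W₁ ⊔ W₂) W₁ W₂ (i * j) = prSign ⊤ (W₁ ⊔ W₂) W₁ W₂ j := h.sign_mul
  refine ⟨fun ω => prMu ⊤ (W₁ ⊔ W₂) W₁ W₂ (lc ω), fun ω => prSign ⊤ (W₁ ⊔ W₂) W₁ W₂ (lc ω),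
    fun ω ω' e => lc_inj.mp ((h.mu_inj (lc_irr ω) (lc_irr ω')).mp e),
    fun ω => mem_Irr_top.mp (h.mu_irr (lc_irr ω)), fun ω => ?_, fun ω ω' hω => ?_,
    fun ω w hw => ?_, fun θ hθ hn w hw => ?_, fun ω => ?_⟩
  · rcases prSign_cases ⊤ (W₁ ⊔ W₂) W₁ W₂ (lc ω) with e | e <;> simp [e]
  · obtain ⟨i, hi, j, hj, e⟩ := c.exists_ij (lc_irr ω)
    obtain ⟨i', hi', j', hj', e'⟩ := c.exists_ij (lc_irr ω')
    have hjj : j = j' := res_inj_of_ker c.dp.isProd (irr_cfOn (irrK_sub _ _ hj))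
      (irr_cfOn (irrK_sub _ _ hj')) (mem_irrK.mp hj).2 (mem_irrK.mp hj').2 fun x hx => by
        have e1 := congrFun e x
        have e2 := congrFun e' x
        rw [Pi.mul_apply, PF3.irrK_apply c.abl hi hx, one_mul, lc_of_mem _ (c.le2 hx)] at e1
        rw [Pi.mul_apply, PF3.irrK_apply c.abl hi' hx, one_mul, lc_of_mem _ (c.le2 hx)] at e2
        rw [← e1, ← e2, hω _ hx]
    subst hjj
    rw [← cfInd_top_eq (φ := lc ω - lc ω') fun w => by simp]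
    simp only [e, e', sg hi hj, sg hi' hj, h.cfInd_sub hi hi' hj, and_self]
  · obtain ⟨i, hi, j, hj, e⟩ := c.exists_ij (lc_irr ω)
    simp only [← lc_coe, e, sg hi hj, h.mu_id hi hj w.2 hw]
  · refine h.not_mu_vanish (mem_Irr_top.mpr hθ) (fun ω hω => ?_) w.2 hw
    obtain ⟨ω, rfl⟩ := exists_lc c.abl hω
    exact hn ω
  · obtain ⟨i, hi, j, hj, e⟩ := c.exists_ij (lc_irr ω)
    obtain ⟨n, hn⟩ := h.mu_one_mod hi hj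
    refine ⟨n, ?_⟩
    simp only [e, sg hi hj, irr_one_eq (h.mu_irr (c.mul_irr hi hj))]
    rw [mul_comm (n : ℂ)]; exact_mod_cast hn

end Cfsg.Agent.S1511
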