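import Cfsg.Statements.S1512
import Mathlib
import Cfsg.Agent.H4.PFWrap

set_option autoImplicit false
open Cfsg

namespace Cfsg.Agent.S1512
open H4
open H24 H27 H4.PFW

/-- Let K be a normal subgroup of the finite group L and x a non-identity element whose order is coprime to the order of K, such that K ⊓ C_L(y) = W₂ for every non-identity element y of the cyclic group generated by x. Then the number of conjugacy classes of K mapped to themselves by conjugation by x is at most Nat.card W₂. -/
theorem result {L : Type*} [Group L] [Finite L] (K W₂ : Subgroup L) [hK : K.Normal] (x : L) (hx1 : x ≠ 1) (hx : Nat.Coprime (orderOf x) (Nat.card K)) (hC : ∀ y ∈ Subgroup.zpowers x, y ≠ 1 → K ⊓ Subgroup.centralizer ({y} : Set L) = W₂) : Nat.card {C : ConjClasses K // ConjClasses.map (MulEquiv.toMonoidHom ((MulAut.conjNormal x : MulAut K))) C = C} ≤ Nat.card W₂ := by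
  have hxK : x ^ Nat.card K ≠ 1 := fun e => hx1 (orderOf_eq_one_iff.mp
    (Nat.eq_one_of_dvd_coprimes hx dvd_rfl (orderOf_dvd_of_pow_eq_one e)))
  refine le_trans ?_ (PF4.ncard_fix_classes_le (norm_of_normal ⊤ K (Subgroup.mem_top x)) hx.symm
    (hC _ (Subgroup.pow_mem _ (Subgroup.mem_zpowers x) _) hxK).le)
  rw [← Nat.card_coe_set_eq]
  refine Nat.card_le_card_of_injective (fun C => ⟨Subtype.val '' C.1.carrier, ?_⟩) fun a b e => ?_
  · obtain ⟨C, hC⟩ := C
    obtain ⟨k, rfl⟩ := ConjClasses.mk_surjective C
    refine ⟨k, k.2, image_carrier_mk k, ?_⟩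
    exact ⟨MulAut.conjNormal x k, ConjClasses.mem_carrier_iff_mk_eq.mpr hC, rfl⟩
  · have := Subtype.val_injective.image_injective (congrArg Subtype.val e)
    obtain ⟨k, hk⟩ := ConjClasses.mk_surjective a.1
    have h1 : k ∈ a.1.carrier := ConjClasses.mem_carrier_iff_mk_eq.mpr hk
    rw [this, ConjClasses.mem_carrier_iff_mk_eq] at h1
    exact Subtype.ext (hk.symm.trans h1)

end Cfsg.Agent.S1512
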