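import Cfsg.Statements.S1513
import Mathlib
import Cfsg.Agent.H4.PFWrap

set_option autoImplicit false
open Cfsg

namespace Cfsg.Agent.S1513
open H4
open H24 H27 H4.PFW

/-- Let L be a finite group with K normal with complement W₁ ≠ 1 a cyclic Hall subgroup, and W₂ ≠ 1 a cyclic subgroup of K equal to C_K(x) for every non-identity x ∈ W₁, with W₁W₂ of odd order. For an irreducible character θ of K: if θ is not fixed under conjugation by some element of W₁, then the function induced from θ to L is an irreducible character of L; and the irreducible characters of K fixed by all of W₁ are exactly Nat.card W₂ in number, each inducing to the sum of Nat.card W₁ pairwise distinct irreducible characters of L. -/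
theorem result {L : Type*} [Group L] [Fintype L] (K W₁ W₂ : Subgroup L) [hK : K.Normal] (hKW₁ : K ⊓ W₁ = ⊥) (hKW₁' : K ⊔ W₁ = ⊤) (hW₁ : W₁ ≠ ⊥) (hW₁c : IsCyclic W₁) (hHall : Nat.Coprime (Nat.card W₁) W₁.index) (hW₂ : W₂ ≠ ⊥) (hW₂c : IsCyclic W₂) (hW₂K : W₂ ≤ K) (hC : ∀ x ∈ W₁, x ≠ 1 → K ⊓ Subgroup.centralizer ({x} : Set L) = W₂) (hodd : Odd (Nat.card ↥(W₁ ⊔ W₂))) : (∀ θ : K → ℂ, Cfsg.IsIrrCharacter K θ → (∃ x ∈ W₁, (fun k : K => θ ⟨x * k * x⁻¹, hK.conj_mem (k : L) k.2 x⟩) ≠ θ) → Cfsg.IsIrrCharacter L (Cfsg.indFun K θ)) ∧ Nat.card {θ : Cfsg.IrrCharacter K // ∀ x ∈ W₁, (fun k : K => (θ : K → ℂ) ⟨x * k * x⁻¹, hK.conj_mem (k : L) k.2 x⟩) = θ} = Nat.card W₂ ∧ (∀ θ : K → ℂ, Cfsg.IsIrrCharacter K θ → (∀ x ∈ W₁, (fun k : K => θ ⟨x * k * x⁻¹, hK.conj_mem (k : L) k.2 x⟩) = θ) → ∃ C : Finset (L → ℂ), C.card = Nat.card W₁ ∧ (∀ μ ∈ C, Cfsg.IsIrrCharacter L μ)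 ∧ Cfsg.indFun K θ = ∑ μ ∈ C, μ) := by
  classical
  have h := primeTI_top hKW₁ hKW₁' hW₁ hW₁c hHall hW₂ hW₂c hW₂K hC hodd
  have c := h.cyclicTI
  obtain ⟨w, hw, hw1⟩ := exists_ne_one hW₁
  have fixj : ∀ j ∈ irrK (W₁ ⊔ W₂) W₁, ∀ x, cfConj x (prRes ⊤ K (W₁ ⊔ W₂) W₁ W₂ j) =
      prRes ⊤ K (W₁ ⊔ W₂) W₁ W₂ j := fun j hj x => ((h.res_inertia hj).ge (Subgroup.mem_top x)).2
  refine ⟨fun θ hθ ⟨x, hx, hne⟩ => ?_, ?_, fun θ hθ hfix => ?_⟩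
  · rcases h.res_irr_cases (ext0_mem_Irr.mpr hθ) with ⟨j, hj, e⟩ | ⟨h1, -⟩
    · exact absurd ((cfConj_ext0_eq_iff θ x).mp (e ▸ fixj j hj x)) hne
    · rwa [cfInd_top_ext0, mem_Irr_top] at h1
  · rw [← h.ncard_res, ← h.fix_eq hw hw1, ← Nat.card_coe_set_eq]
    refine Nat.card_congr (Equiv.ofBijective (fun θ => ⟨extendByZero K θ.1.1,
      ext0_mem_Irr.mpr θ.1.2, (cfConj_ext0_eq_iff _ w).mpr (θ.2 w hw)⟩) ⟨fun a b e => ?_, ?_⟩)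
    · exact Subtype.ext (Subtype.ext (ext0_injective (congrArg Subtype.val e)))
    · rintro ⟨φ, hφ⟩
      have e : extendByZero K (fun x : K => φ x) = φ := by rw [ext0_res, cfRes_CF (irr_CF hφ.1)]
      refine ⟨⟨⟨fun x : K => φ x, (mem_Irr.mp hφ.1).1⟩, fun x hx => (cfConj_ext0_eq_iff _ x).mp ?_⟩,
        Subtype.ext e⟩
      obtain ⟨j, hj, rfl⟩ := (h.fix_eq hw hw1).subset hφ
      exact e.symm ▸ fixj j hj x
  · obtain ⟨j, hj, e⟩ := (h.fix_eq hw hw1).subset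
      ⟨ext0_mem_Irr.mpr hθ, (cfConj_ext0_eq_iff θ w).mpr (hfix w hw)⟩
    have hinj : Set.InjOn (fun i => prMu ⊤ (W₁ ⊔ W₂) W₁ W₂ (i * j)) (irrK (W₁ ⊔ W₂) W₂) :=
      fun i hi i' hi' e => ((c.ij_inj hi hj hi' hj).mp
        ((h.mu_inj (c.mul_irr hi hj) (c.mul_irr hi' hj)).mp e)).1
    refine ⟨(irrK (W₁ ⊔ W₂) W₂).image fun i => prMu ⊤ (W₁ ⊔ W₂) W₁ W₂ (i * j), ?_, fun μ hμ => ?_, ?_⟩
    · rw [Finset.card_image_of_injOn hinj, c.card_I]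
    · obtain ⟨i, hi, rfl⟩ := Finset.mem_image.mp hμ
      exact mem_Irr_top.mp (h.mu_irr (c.mul_irr hi hj))
    · rw [Finset.sum_image hinj, ← cfInd_top_ext0, ← e, h.ind_res hj]; rfl

end Cfsg.Agent.S1513
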