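import Cfsg.Statements.S1515
import Mathlib
import Cfsg.Agent.H27.Wrap2

set_option autoImplicit false
open Cfsg

namespace Cfsg.Agent.S1515

/-- Let (S, τ, R) be a coherence system from L to G, χ ∈ S, and ψ an integer combination of S with ⟨χ, ψ⟩ = ⟨conj χ, ψ⟩ = 0. Let τ₁ be a linear isometry on the integer combinations of χ − ψ and χ − conj χ, with virtual-character values, agreeing with τ on integer multiples of χ − conj χ. Then the sum over α ∈ R χ of the squared absolute values of ⟨τ₁(χ − ψ), α⟩ is at least ⟨χ, χ⟩; and if ⟨τ₁(χ − ψ), τ₁(χ − ψ)⟩ minus that sum is at least ⟨ψ, ψ⟩, then the sum equals ⟨χ, χ⟩ and every ⟨τ₁(χ − ψ), α⟩ with α ∈ R χ is 0 or 1. -/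
theorem result {L : Type*} [Group L] [Fintype L] {G : Type*} [Group G] [Fintype G] (S : Set (L → ℂ)) (τ : (L → ℂ) → (G → ℂ)) (R : (L → ℂ) → Finset (G → ℂ)) (hS : Cfsg.IsCoherenceSystem S τ R) (χ : L → ℂ) (hχ : χ ∈ S) (ψ : L → ℂ) (hψ : ψ ∈ Cfsg.zspan S) (h1 : Cfsg.classInner χ ψ = 0) (h2 : Cfsg.classInner (Cfsg.conjFun χ) ψ = 0) (τ₁ : (L → ℂ) → (G → ℂ)) (hτ₁ : Cfsg.IsLinearIsometryOn (Cfsg.zspan {χ - ψ, χ - Cfsg.conjFun χ}) τ₁) (hagree : ∀ n : ℤ, τ₁ (n • (χ - Cfsg.conjFun χ)) = τ (n • (χ - Cfsg.conjFun χ))) : (Cfsg.classInner χ χ).re ≤ ∑ α ∈ R χ, ‖Cfsg.classInner (τ₁ (χ - ψ)) α‖ ^ 2 ∧ ((Cfsg.classInner ψ ψ).re ≤ (Cfsg.classInner (τ₁ (χ - ψ)) (τ₁ (χ - ψ))).re - ∑ α ∈ R χ, ‖Cfsg.classInner (τ₁ (χ - ψ)) α‖ ^ 2 → (∑ α ∈ R χ, ‖Cfsg.classInner (τ₁ (χ - ψ)) α‖ ^ 2 = (Cfsg.classInner χ χ).re ∧ ∀ α ∈ R χ, Cfsg.classInner (τ₁ (χ - ψ)) α = 0 ∨ Cfsg.classInner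 (τ₁ (χ - ψ)) α = 1)) := by
  open H24 H27 in
  classical
  lift S to Finset (L → ℂ) using system_finite hS
  obtain ⟨τ', k1, k2⟩ := subcoh_of_system hS
  obtain ⟨ν, k3, k4⟩ := exists_zisom (zsp {χ - ψ, χ - conjC χ}) (τ := τ₁) (by
    convert hτ₁ using 1
    rw [zsp, Finset.coe_pair]; rfl)
  have m1 : χ - ψ ∈ zsp {χ - ψ, χ - conjC χ} := mem_zsp_of_mem (by simp)
  have m2 : χ - conjC χ ∈ zsp {χ - ψ, χ - conjC χ} := mem_zsp_of_mem (by simp)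
  have he : ν (χ - conjC χ) = τ' (χ - conjC χ) := by
    rw [k4 _ m2, k2 _ (k1.sub_conj_mem hχ)]
    have := hagree 1
    rwa [one_smul] at this
  obtain ⟨X, hX, Y, hY, e, o⟩ := k1.split hχ (k3.vchar _ m1)
  have hXY : cfdot ⊤ X Y = 0 := cfdot_symm_zero (cfdot_eq_zero_of_zsp_right o hX)
  have hR := k1.R_orthon χ hχ
  obtain ⟨k5, k6⟩ := k1.norm hχ (zsp_le_vchar (fun φ h => k1.vchar h) hψ) (by rwa [cfdot_top])
    (by rwa [cfdot_top]) k3 he e (fun x hx => absurd (Subgroup.mem_top x) hx) hXY o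
  have e1 : ∀ α ∈ R χ, classInner (τ₁ (χ - ψ)) α = cfdot ⊤ X α := fun α hα => by
    rw [← cfdot_top, ← k4 _ m1, e, cfdot_sub_left, o α hα, sub_zero]
  have e2 : ∑ α ∈ R χ, ‖classInner (τ₁ (χ - ψ)) α‖ ^ 2 = cfnorm ⊤ X := by
    obtain ⟨c, rfl⟩ := mem_zsp_iff.mp hX
    rw [hR.cfnorm_sum_smul]
    exact Finset.sum_congr rfl fun α hα => by rw [e1 α hα, hR.cfdot_sum_left _ hα]
  rw [e2, ← cfdot_top, ← cfdot_top, ← cfdot_top, ← cfnorm_eq_re, ← cfnorm_eq_re, ← cfnorm_eq_re,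
    ← k4 _ m1, e, cfnorm_sub_orth hXY, add_sub_cancel_left]
  refine ⟨k5, fun h => ?_⟩
  obtain ⟨k7, -, E, hE, k8⟩ := k6 h
  refine ⟨k7, fun α hα => ?_⟩
  rw [← e, k4 _ m1, e1 α hα, k8, cfdot_sum_left]
  by_cases h : α ∈ E
  · right
    rw [Finset.sum_eq_single α (fun β hβ e' => hR.2 β (hE hβ) α hα e') (fun h' => absurd h h'),
      hR.1 α hα]
  · exact Or.inl (Finset.sum_eq_zero fun β hβ => hR.2 β (hE hβ) α hα fun e' => h (e' ▸ hβ))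

end Cfsg.Agent.S1515
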