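import Cfsg.Statements.S1516
import Mathlib
import Cfsg.Agent.H27.Wrap2

set_option autoImplicit false
open Cfsg

namespace Cfsg.Agent.S1516

/-- Let (S, τ, R) be a coherence system from L to G with degrees φ 1 = d φ and squared norms ⟨φ, φ⟩ = n φ for φ ∈ S. Let S₁ ⊆ S be a finite subset closed under complex conjugation such that (S₁, L minus 1, τ) is coherent, let χ ∈ S with χ ∉ S₁ and conj χ ∉ S₁, and let χ₁ ∈ S₁ with d χ₁ dividing d χ and 2 d χ d χ₁ < Σ_{φ ∈ S₁} (d φ)² / n φ. Then S₁ together with χ and conj χ is coherent. -/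
theorem result {L : Type*} [Group L] [Fintype L] {G : Type*} [Group G] [Fintype G] (S : Set (L → ℂ)) (τ : (L → ℂ) → (G → ℂ)) (R : (L → ℂ) → Finset (G → ℂ)) (hS : Cfsg.IsCoherenceSystem S τ R) (d n : (L → ℂ) → ℕ) (hd : ∀ φ ∈ S, φ 1 = (d φ : ℂ)) (hn : ∀ φ ∈ S, Cfsg.classInner φ φ = (n φ : ℂ)) (S₁ : Finset (L → ℂ)) (hS₁ : ↑S₁ ⊆ S) (hS₁c : ∀ φ ∈ S₁, Cfsg.conjFun φ ∈ S₁) (hcoh : Cfsg.IsCoherent (↑S₁ : Set (L → ℂ)) {1}ᶜ τ) (χ : L → ℂ) (hχ : χ ∈ S) (hχ₁ : χ ∉ S₁) (hχ₂ : Cfsg.conjFun χ ∉ S₁) (χ₁ : L → ℂ) (hχ₁S : χ₁ ∈ S₁) (hdvd : d χ₁ ∣ d χ) (hineq : (2 * d χ * d χ₁ : ℝ) < ∑ φ ∈ S₁, ((d φ : ℝ) ^ 2 / (n φ : ℝ))) : Cfsg.IsCoherent (↑S₁ ∪ {χ, Cfsg.conjFun χ} : Set (L → ℂ)) {1}ᶜ τ := by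
  open H24 H27 in
  classical
  lift S to Finset (L → ℂ) using system_finite hS
  rw [Finset.coe_subset] at hS₁
  obtain ⟨τ', h1, h2⟩ := subcoh_of_system hS
  have hd' : ∀ ξ ∈ S, deg ξ = d ξ := fun ξ hξ => deg_eq_of (hd ξ hξ)
  have hn' : ∀ ξ ∈ S, cfnorm ⊤ ξ = n ξ := fun ξ hξ =>
    cfnorm_eq_of_cfdot (by rw [cfdot_top, hn ξ hξ]; simp)
  have hsub : insert χ (insert (conjC χ) S₁) ⊆ S :=
    Finset.insert_subset hχ (Finset.insert_subset (h1.conj_mem χ hχ) hS₁)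
  have hsub' : S₁ ⊆ insert χ (insert (conjC χ) S₁) :=
    (Finset.subset_insert _ _).trans (Finset.subset_insert _ _)
  obtain ⟨α, hα, h0⟩ := hcoh.1
  have := (h1.extend_coherent ⟨hS₁, hS₁c⟩ hχ₁S hχ hχ₁
    (coherent_of_isCoherent hcoh fun α hα => h2 α (zsp0_mono hS₁ hα))
    (by rwa [hd' χ hχ, hd' χ₁ (hS₁ hχ₁S)]) (by
      rwa [hd' χ hχ, hd' χ₁ (hS₁ hχ₁S), Finset.sum_congr rfl fun ξ hξ => by
        rw [hd' ξ (hS₁ hξ), hn' ξ (hS₁ hξ)]])).isCoherent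
    (fun α hα => h2 α (zsp0_mono hsub hα)) ⟨α, zsp0_mono hsub' hα, h0⟩
  convert this using 1
  ext φ
  simp only [Set.mem_union, Finset.mem_coe, Set.mem_insert_iff, Set.mem_singleton_iff,
    Finset.coe_insert, conjC_eq_conjFun]
  tauto

end Cfsg.Agent.S1516
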