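import Cfsg.Statements.S1521
import Mathlib
import Cfsg.Agent.H27.Wrap3

set_option autoImplicit false
open Cfsg

namespace Cfsg.Agent.S1521

/-- Let K be a solvable normal subgroup of the finite group L of odd order and (S, τ, R) a coherence system from L to G with S the functions induced from non-principal irreducible characters of K; S(A) as before. Let M ≤ K be normal in L with K/M nilpotent, H₁ = [K, K] ⊔ M, H₁ < K < L, and suppose every element of K outside H₁ is centralised modulo H₁ only from inside K (L/H₁ is a Frobenius group with kernel K/H₁). Suppose one of the following: some normal subgroup of L lies strictly between H₁ and K; or [K:H₁] > 4[L:K]^2 + 1; or [K:M] is not a prime power; or [K,K] ≤ M; or [K:M] is a power of a prime p with [L:K] dividing p − 1. Then S(M) is coherent. -/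
theorem result {L : Type*} [Group L] [Fintype L] {G : Type*} [Group G] [Fintype G] (K : Subgroup L) [hK : K.Normal] (hsolv : Group.IsSolvable K) (τ : (L → ℂ) → (G → ℂ)) (R : (L → ℂ) → Finset (G → ℂ)) (hS : Cfsg.IsCoherenceSystem (Cfsg.inducedIrrAbove K ⊥) τ R) (hodd : Odd (Nat.card L)) (M : Subgroup L) [M.Normal] (hMK : M ≤ K) [(M.subgroupOf K).Normal] (hnil : Group.IsNilpotent (↥K ⧸ M.subgroupOf K)) (H₁ : Subgroup L) (hH₁ : H₁ = ⁅K, K⁆ ⊔ M) (hH₁K : H₁ < K) (hKL : K < ⊤) (hfrob : ∀ k ∈ K, k ∉ H₁ → ∀ x : L, x * k * x⁻¹ * k⁻¹ ∈ H₁ → x ∈ K) (hgood : (∃ N : Subgroup L, N.Normal ∧ H₁ < N ∧ N < K) ∨ 4 * K.index ^ 2 + 1 < H₁.relIndex K ∨ (¬ ∃ p m : ℕ, p.Prime ∧ M.relIndex K = p ^ m) ∨ ⁅K, K⁆ ≤ M ∨ (∃ p m : ℕ, p.Prime ∧ M.relIndex K = p ^ m ∧ K.index ∣ p - 1)) : Cfsg.IsCoherent (Cfsg.inducedIrrAbove K M) {1}ᶜ τ := by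
  open H24 H27 in
  subst hH₁
  rw [inducedIrrAbove_eq bot_le] at hS
  rw [inducedIrrAbove_eq hMK]
  obtain ⟨τ', h1, h2⟩ := subcoh_of_system hS
  have h3 : ∀ X, ∀ α ∈ zsp0 (seqIndD K ⊤ K X), τ' α = τ α := fun X α hα =>
    h2 α (zsp0_mono (seqIndD_mono K ⊤ le_rfl bot_le) hα)
  have hMK' : M < K := le_sup_right.trans_lt hH₁K
  have hO : OddFrobQuo K ⊤ M := ⟨by rwa [Subgroup.card_top], nml_top M, hMK,
    nil_quo_of_quotient (norm_of_normal K M) hnil, frobK_quo_of_cent (nml_top K)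
      ((nml_top K).der1.sup (nml_top M)) hH₁K hKL.ne fun k hk h x _ => hfrob k hk h x⟩
  rcases non_coherent_chief (nml_top K) hsolv h1 hO with h | ⟨h4, h5, p, hp, h6, h7, h8⟩
  · exact h.isCoherent (h3 M) (h1.exists_ne_zero (seqIndD_conjSub K ⊤ le_rfl bot_le)
      (seqIndD_nonempty ⊤ ((nml_top M).of_le hMK le_top) hMK'.not_ge))
  exfalso
  rw [Subgroup.relIndex_top_right] at h5 h8
  obtain ⟨k, hk⟩ := h6.card_eq_pow hp
  rw [card_quo (norm_of_normal K M)] at hk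
  rcases hgood with ⟨N, hN, h9, h10⟩ | h9 | h9 | h9 | ⟨q, m, hq, h9, h10⟩
  · exact (h4.max N h9.le h10.le (nml_top N).norm).elim h9.ne' h10.ne
  · omega
  · exact h9 ⟨p, k, hp, hk⟩
  · exact h7 h9
  · have hm : m ≠ 0 := fun e => hMK'.not_ge (Subgroup.relIndex_eq_one.mp (by rw [h9, e, pow_zero]))
    obtain rfl : q = p := (Nat.prime_dvd_prime_iff_eq hq hp).mp
      (hq.dvd_of_dvd_pow (hk ▸ h9 ▸ dvd_pow_self q hm))
    exact h8 h10

end Cfsg.Agent.S1521
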