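import Cfsg.Statements.S1524
import Mathlib
import Cfsg.Agent.H27.Wrap3

set_option autoImplicit false
open Cfsg

namespace Cfsg.Agent.S1524

/-- Let G be a finite group and H ≤ L subgroups with L of odd order, H ≠ ⊥ nilpotent and normal in L with a nontrivial complement W₁ in L (H ⊓ W₁ = ⊥, H ⊔ W₁ = L) acting on H without non-identity fixed points (L is a Frobenius group with kernel H), and suppose the underlying set of H is a TI-subset of G whose normaliser is L. Let S be the set of functions on L induced from the non-principal irreducible characters of H. Then (S, L minus 1, induction to G) is coherent. -/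
theorem result {G : Type*} [Group G] [Fintype G] (H L W₁ : Subgroup G) [Fintype L] (hodd : Odd (Nat.card L)) (hHL : H ≤ L) (hW₁L : W₁ ≤ L) (hH1 : H ≠ ⊥) (hW1 : W₁ ≠ ⊥) (hnil : Group.IsNilpotent H) (hHn : ∀ x ∈ L, ∀ h ∈ H, x * h * x⁻¹ ∈ H) (hinf : H ⊓ W₁ = ⊥) (hsup : H ⊔ W₁ = L) (hfpf : ∀ w ∈ W₁, w ≠ 1 → ∀ h ∈ H, w * h = h * w → h = 1) (hTI : Cfsg.IsTISubset (H : Set G)) (hN : Subgroup.normalizer (H : Set G) = L) : Cfsg.IsCoherent (Cfsg.inducedIrrAbove (H.subgroupOf L) ⊥) {1}ᶜ (fun α : L → ℂ => Cfsg.indFun L α) := by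
  open H24 H27 in
  have hH : H ⊴ L := ⟨hHL, le_normalizer_of_conj_mem hHn⟩
  have hF : FrobK L H := ⟨W₁, ⟨hW₁L.trans hH.norm, hinf, hsup⟩, hH1, hW1, fun w hw h1 =>
    eq_bot_iff.mpr fun h hh => Subgroup.mem_bot.mpr (hfpf w hw h1 h hh.1 (mem_C1.mp hh.2).symm)⟩
  obtain ⟨φ, hφ, -⟩ := hF.exists_lin
  exact (hF.sibley (normedTI_shp_iff.mpr ⟨hH1, hTI, hN⟩) hodd).isCoherent_sub
    (fun φ hφ => irr_cfOn (hF.seqInd_irr hφ)) (fun θ => ext0_mem_seqIndC1 hHL)
    (exists_zsp0_ne_zero hF.seqInd_irr (one_lt_card_seqIndD hH hodd le_rfl hφ))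
    fun α => (cfInd_top_ext0 L α).symm

end Cfsg.Agent.S1524
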