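import Cfsg.Statements.S1527
import Mathlib
import Cfsg.Agent.H2.Frobenius

set_option autoImplicit false
open Cfsg

namespace Cfsg.Agent.S1527

/-- Let G be a finite group and H i (i in a finite index type) subgroups of pairwise coprime orders, each of whose underlying sets is a TI-subset of G, such that every non-identity element of G is conjugate to an element of some H i. Then Nat.card G − 1 = Σ_i [G : N_G(H i)] · (Nat.card (H i) − 1). -/
theorem result {G : Type*} [Group G] [Finite G] {ι : Type*} [Fintype ι] (H : ι → Subgroup G) (hcop : ∀ i j, i ≠ j → Nat.Coprime (Nat.card (H i)) (Nat.card (H j))) (hTI : ∀ i, Cfsg.IsTISubset (H i : Set G)) (hcover : ∀ g : G, g ≠ 1 → ∃ i, ∃ x : G, x * g * x⁻¹ ∈ H i) : Nat.card G - 1 = ∑ i, (Subgroup.normalizer (H i : Set G)).index * (Nat.card (H i) - 1) := by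
  classical
  have key : ∀ i, (Group.conjugatesOfSet ((H i : Set G) \ {1})).ncard =
      (Subgroup.normalizer (H i : Set G)).index * (Nat.card (H i) - 1) := fun i => by
    rw [H2.ncard_conjugatesOfSet_of_TI (Subgroup.normalizer (H i : Set G)) ((H i : Set G) \ {1})
      (fun n hn a ha => ⟨(Subgroup.mem_normalizer_iff.mp hn a).mp ha.1, by simpa using ha.2⟩)
      (fun g a ha h => by
        by_contra hg
        exact ha.2 (hTI i g hg a ha.1 h.1)), ← H2.ncard_coe_diff_one, Nat.add_sub_cancel]
  have h1 : ({1}ᶜ : Set G) = ⋃ i, Group.conjugatesOfSet ((H i : Set G) \ {1}) := by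
    ext g
    simp only [Set.mem_compl_iff, Set.mem_singleton_iff, Set.mem_iUnion,
      H2.mem_conjugatesOfSet_iff']
    constructor
    · intro hg
      obtain ⟨i, x, hx⟩ := hcover g hg
      exact ⟨i, x⁻¹, by simpa using hx, by simpa using hg⟩
    · rintro ⟨i, x, hx⟩ rfl
      simp at hx
  rw [← Finset.sum_congr rfl fun i _ => key i, ← finsum_eq_sum_of_fintype,
    ← Set.ncard_iUnion_of_finite (fun i => Set.toFinite _) ?_, ← h1, Set.ncard_compl,
    Set.ncard_singleton]
  intro i j hij
  refine Set.disjoint_left.mpr fun g hi hj => ?_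
  obtain ⟨x, hx⟩ := H2.mem_conjugatesOfSet_iff'.mp hi
  obtain ⟨y, hy⟩ := H2.mem_conjugatesOfSet_iff'.mp hj
  have e : ∀ z : G, orderOf (z⁻¹ * g * z) = orderOf g := fun z => by
    simpa using (MulAut.conj z⁻¹).orderOf_eq g
  have h2 := Subgroup.orderOf_dvd_natCard _ hx.1
  have h3 := Subgroup.orderOf_dvd_natCard _ hy.1
  rw [e] at h2 h3
  have h4 : g = 1 := orderOf_eq_one_iff.mp (Nat.eq_one_of_dvd_coprimes (hcop i j hij) h2 h3)
  exact hx.2 (by simp [h4])

end Cfsg.Agent.S1527
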