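import Cfsg.Statements.S1529
import Mathlib
import Cfsg.Agent.H27.Wrap1

set_option autoImplicit false
open Cfsg

namespace Cfsg.Agent.S1529

/-- Let N be a subgroup of the finite group G, S a set of irreducible characters of N with at least two members, and τ₁ a linear isometry on the integer combinations of S with virtual-character values such that τ₁ α vanishes at 1 whenever α ∈ ℤ[S] does. Then there is ε ∈ {1, −1} such that ε • τ₁ χ is an irreducible character of G for every χ ∈ S, and distinct members of S give distinct characters. -/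
theorem result {G : Type*} [Group G] [Fintype G] (N : Subgroup G) [Fintype N] (S : Set (N → ℂ)) (hirr : ∀ χ ∈ S, Cfsg.IsIrrCharacter N χ) (htwo : ∃ χ ∈ S, ∃ ψ ∈ S, χ ≠ ψ) (τ₁ : (N → ℂ) → (G → ℂ)) (hτ₁ : Cfsg.IsLinearIsometryOn (Cfsg.zspan S) τ₁) (h0 : ∀ α ∈ Cfsg.zspan S, α 1 = 0 → τ₁ α 1 = 0) : ∃ ε : ℂ, (ε = 1 ∨ ε = -1) ∧ (∀ χ ∈ S, Cfsg.IsIrrCharacter G (ε • τ₁ χ)) ∧ (∀ χ ∈ S, ∀ ψ ∈ S, τ₁ χ = τ₁ ψ → χ = ψ) := by
  open H24 H27 in
  obtain ⟨hadd, hsm, hdot, hv⟩ := hτ₁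
  have hm : ∀ χ ∈ S, χ ∈ zspan S := fun χ hχ => Submodule.subset_span hχ
  have hd : ∀ χ ∈ S, IsDirr ⊤ (τ₁ χ) := fun χ hχ => isDirr_iff.mpr
    ⟨mem_vchar_top.mpr (hv χ (hm χ hχ)), cfnorm_eq_one_iff.mpr (by
      rw [cfdot_top, hdot χ (hm χ hχ) χ (hm χ hχ), ← cfdot_ext0,
        irr_dot_self (ext0_mem_Irr.mpr (hirr χ hχ))])⟩
  obtain ⟨χ₀, h₀, -⟩ := htwo
  obtain ⟨ε, μ, hε, hμ, e⟩ := (hd χ₀ h₀).exists_sign
  refine ⟨ε, by rcases hε with rfl | rfl <;> simp, fun χ hχ => ?_, fun χ hχ ψ hψ e => ?_⟩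
  · refine mem_Irr_top.mp (((hd χ hχ).sign_smul hε).irr_of_pos ?_)
    have a1 := irr_one_eq (ext0_mem_Irr.mpr (hirr χ hχ))
    have a2 := irr_one_eq (ext0_mem_Irr.mpr (hirr χ₀ h₀))
    have a3 := irr_deg_pos (ext0_mem_Irr.mpr (hirr χ₀ h₀))
    rw [ext0_one] at a1 a2
    set d := deg (extendByZero N χ)
    set d₀ := deg (extendByZero N χ₀)
    have m1 : (d₀ : ℤ) • χ ∈ zspan S := Submodule.smul_mem _ _ (hm χ hχ)
    have m2 : (-d : ℤ) • χ₀ ∈ zspan S := Submodule.smul_mem _ _ (hm χ₀ h₀)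
    have h1 := h0 _ (Submodule.add_mem _ m1 m2) (by simp [a1, a2, mul_comm])
    rw [hadd _ m1 _ m2, hsm _ (hm χ hχ), hsm _ (hm χ₀ h₀), e] at h1
    have h2 : (d₀ : ℂ) * ((ε : ℂ) • τ₁ χ) 1 = d * deg μ := by
      simp only [Pi.add_apply, Pi.smul_apply, smul_eq_mul, irr_one_eq hμ] at h1 ⊢
      simp only [zsmul_eq_mul] at h1
      have : (ε : ℂ) * ε = 1 := by rcases hε with rfl | rfl <;> simp
      push_cast at h1
      linear_combination (ε : ℂ) * h1 + d * deg μ * this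
    have h3 := congrArg Complex.re h2
    simp only [Complex.mul_re, Complex.natCast_re, Complex.natCast_im, zero_mul, sub_zero,
      mul_zero] at h3
    have h4 : (0 : ℝ) < d₀ := by exact_mod_cast a3
    exact nonneg_of_mul_nonneg_right (h3 ▸ by positivity) h4 
  · have h1 := hdot χ (hm χ hχ) ψ (hm ψ hψ)
    rw [← e, ← cfdot_top, (hd χ hχ).dot_self, ← cfdot_ext0] at h1
    exact ext0_injective (irr_eq_of_dot_ne (ext0_mem_Irr.mpr (hirr χ hχ))
      (ext0_mem_Irr.mpr (hirr ψ hψ)) (h1 ▸ one_ne_zero))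

end Cfsg.Agent.S1529
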