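import Cfsg.Statements.S1530
import Mathlib
import Cfsg.Agent.H27.Wrap2

set_option autoImplicit false
open Cfsg

namespace Cfsg.Agent.S1530

/-- Let N be a subgroup of the finite group G and S₀ a finite set of irreducible characters of N, χ an irreducible character of N not in S₀, with degrees ξ 1 = d ξ. Let τ be a linear isometry on the integer combinations of S₀ ∪ {χ} vanishing at 1, with values virtual characters of G vanishing at 1, such that (S₀, N minus 1, τ) is coherent. If some ψ ∈ S₀ has d ψ dividing d χ and 2 · d ψ · d χ < Σ_{ξ ∈ S₀} (d ξ)², then (S₀ ∪ {χ}, N minus 1, τ) is coherent. -/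
theorem result {G : Type*} [Group G] [Fintype G] (N : Subgroup G) [Fintype N] (S₀ : Finset (N → ℂ)) (χ : N → ℂ) (hirr : ∀ ξ ∈ S₀, Cfsg.IsIrrCharacter N ξ) (hχ : Cfsg.IsIrrCharacter N χ) (hχS : χ ∉ S₀) (d : (N → ℂ) → ℕ) (hd : ∀ ξ ∈ insert χ S₀, ξ 1 = (d ξ : ℂ)) (τ : (N → ℂ) → (G → ℂ)) (hτ : Cfsg.IsLinearIsometryOn (Cfsg.zspanOn (↑(insert χ S₀) : Set (N → ℂ)) {1}ᶜ) τ) (hτ1 : ∀ α ∈ Cfsg.zspanOn (↑(insert χ S₀) : Set (N → ℂ)) {1}ᶜ, τ α 1 = 0) (hcoh : Cfsg.IsCoherent (↑S₀ : Set (N → ℂ)) {1}ᶜ τ) (ψ : N → ℂ) (hψ : ψ ∈ S₀) (hdvd : d ψ ∣ d χ) (hlt : 2 * d ψ * d χ < ∑ ξ ∈ S₀, d ξ ^ 2) : Cfsg.IsCoherent (↑(insert χ S₀) : Set (N → ℂ)) {1}ᶜ τ := by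
  open H24 H27 in
  obtain ⟨τ', h1, h2⟩ := exists_zisom0 hτ
  have hsub : S₀ ⊆ insert χ S₀ := Finset.subset_insert _ _
  obtain ⟨ν, hν⟩ := coherent_of_isCoherent (τ' := τ') hcoh fun α hα => h2 α (zsp0_mono hsub hα)
  have hd' : ∀ ξ ∈ insert χ S₀, deg ξ = d ξ := fun ξ hξ => deg_eq_of (hd ξ hξ)
  have e1 := hd' ψ (hsub hψ)
  have e2 := hd' χ (Finset.mem_insert_self _ _)
  obtain ⟨α, hα, h0⟩ := hcoh.1
  refine (feit_extend (fun ξ hξ => mem_Irr_top.mpr (hirr ξ hξ)) (mem_Irr_top.mpr hχ) hχS h1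
    (fun α hα => by rw [h2 α hα]; exact hτ1 α hα) hν hψ (by rwa [e1, e2]) ?_).isCoherent h2
    ⟨α, zsp0_mono hsub hα, h0⟩
  rwa [e1, e2, Finset.sum_congr rfl fun ξ hξ => by rw [hd' ξ (hsub hξ)]]

end Cfsg.Agent.S1530
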