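import Cfsg.Statements.S1531
import Mathlib
import Cfsg.Agent.H27.Wrap2

set_option autoImplicit false
open Cfsg

namespace Cfsg.Agent.S1531

/-- Let N be a subgroup of the finite group G, S a set of irreducible characters of N, and α a linear isometry on the integer combinations of S vanishing at 1 with values virtual characters of G vanishing at 1. Let X, Y ⊆ S be disjoint, each with at least two members, and σ, τ linear isometries on ℤ[X], ℤ[Y] into virtual characters agreeing with α on the members vanishing at 1. Then ⟨σ χ, τ η⟩ = 0 for χ ∈ X, η ∈ Y; and if for some χ₀ ∈ X, η₀ ∈ Y with degrees c = χ₀ 1, e = η₀ 1 one has α (c • η₀ − e • χ₀) = c • τ η₀ − e • σ χ₀, then (X ∪ Y, N minus 1, α) is coherent. -/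
theorem result {G : Type*} [Group G] [Fintype G] (N : Subgroup G) [Fintype N] (S X Y : Set (N → ℂ)) (hirr : ∀ ξ ∈ S, Cfsg.IsIrrCharacter N ξ) (hXS : X ⊆ S) (hYS : Y ⊆ S) (hXY : Disjoint X Y) (hX2 : ∃ a ∈ X, ∃ b ∈ X, a ≠ b) (hY2 : ∃ a ∈ Y, ∃ b ∈ Y, a ≠ b) (α : (N → ℂ) → (G → ℂ)) (hα : Cfsg.IsLinearIsometryOn (Cfsg.zspanOn S {1}ᶜ) α) (hα1 : ∀ θ ∈ Cfsg.zspanOn S {1}ᶜ, α θ 1 = 0) (σ τ : (N → ℂ) → (G → ℂ)) (hσ : Cfsg.IsLinearIsometryOn (Cfsg.zspan X) σ) (hσα : ∀ θ ∈ Cfsg.zspanOn X {1}ᶜ, σ θ = α θ) (hτ : Cfsg.IsLinearIsometryOn (Cfsg.zspan Y) τ) (hτα : ∀ θ ∈ Cfsg.zspanOn Y {1}ᶜ, τ θ = α θ) : (∀ χ ∈ X, ∀ η ∈ Y, Cfsg.classInner (σ χ) (τ η) = 0) ∧ ((∃ χ₀ ∈ X, ∃ η₀ ∈ Y, α (χ₀ 1 • η₀ - η₀ 1 • χ₀) = χ₀ 1 • τ η₀ - η₀ 1 • σ χ₀) → Cfsg.IsCoherent (X ∪ Y) {1}ᶜ α) := by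
  open H24 H27 in
  classical
  lift S to Finset (N → ℂ) using irr_set_finite hirr
  lift X to Finset (N → ℂ) using S.finite_toSet.subset hXS
  lift Y to Finset (N → ℂ) using S.finite_toSet.subset hYS
  rw [Finset.coe_subset] at hXS hYS
  rw [Finset.disjoint_coe] at hXY
  have hS : S ⊆ Irr ⊤ := fun ξ hξ => mem_Irr_top.mpr (hirr ξ hξ)
  obtain ⟨α', h1, h2⟩ := exists_zisom0 hα
  obtain ⟨ν₁, h3, h4⟩ := exists_cohWith (τ' := α') hσ
    fun θ hθ => (hσα θ hθ).trans (h2 θ (zsp0_mono hXS hθ)).symm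
  obtain ⟨ν₂, h5, h6⟩ := exists_cohWith (τ' := α') hτ
    fun θ hθ => (hτα θ hθ).trans (h2 θ (zsp0_mono hYS hθ)).symm
  have hX2' := Finset.one_lt_card.mpr hX2
  have ho : ∀ χ ∈ X, ∀ η ∈ Y, cfdot ⊤ (ν₁ χ) (ν₂ η) = 0 := fun χ hχ η hη =>
    irr_coherent_ortho hS h1 (fun θ hθ => by rw [h2 θ hθ]; exact hα1 θ hθ) hXS hYS hXY hX2'
      (Finset.one_lt_card.mpr hY2) h3 h5 hχ hη
  refine ⟨fun χ hχ η hη => ?_, fun ⟨χ, hχ, η, hη, he⟩ => ?_⟩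
  · rw [← cfdot_top, ← h4 χ (mem_zsp_of_mem hχ), ← h6 η (mem_zsp_of_mem hη)]
    exact ho χ hχ η hη
  · have hU : X ∪ Y ⊆ S := Finset.union_subset hXS hYS
    rw [← Finset.coe_union]
    refine (irr_bridge_coherent (hXS.trans hS) (hYS.trans hS) hXY h3 h5 ho hχ hη ?_).isCoherent
      (fun θ hθ => h2 θ (zsp0_mono hU hθ)) (exists_zsp0_ne_zero (hU.trans hS)
        (hX2'.trans_le (Finset.card_le_card Finset.subset_union_left)))
    rw [h4 χ (mem_zsp_of_mem hχ), h6 η (mem_zsp_of_mem hη), ← he]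
    refine h2 _ ?_
    have := cross_mem_zsp0 (mem_zsp_of_mem (hYS hη)) (mem_zsp_of_mem (hXS hχ)) (m := deg η)
      (n := deg χ) (by simpa using irr_one_eq (hS (hYS hη))) (by simpa using irr_one_eq (hS (hXS hχ)))
    rwa [Int.cast_natCast, Int.cast_natCast, ← irr_one_eq (hS (hYS hη)),
      ← irr_one_eq (hS (hXS hχ))] at this

end Cfsg.Agent.S1531
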