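import Cfsg.Statements.S1532
import Mathlib
import Cfsg.Agent.H27.Wrap3

set_option autoImplicit false
open Cfsg

namespace Cfsg.Agent.S1532

/-- Let G be a finite group, p an odd prime and P a Sylow p-subgroup that is non-abelian, whose underlying set is a TI-subset of G, with P properly contained in its set normaliser N and C_G(x) ≤ P for every non-identity x ∈ P. Let Z be a nontrivial subgroup of the centre of P normalised by N. Then the set of irreducible characters χ of N with χ z ≠ χ 1 for some z ∈ Z is coherent for the map induced by induction from N to G. -/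
theorem result {G : Type*} [Group G] [Fintype G] (p : ℕ) [Fact p.Prime] (hp : p ≠ 2) (P : Sylow p G) (hna : ¬ IsMulCommutative (P : Subgroup G)) (hTI : Cfsg.IsTISubset ((P : Subgroup G) : Set G)) (hlt : (P : Subgroup G) < Subgroup.normalizer ((P : Subgroup G) : Set G)) (hC : ∀ k ∈ (P : Subgroup G), k ≠ 1 → Subgroup.centralizer ({k} : Set G) ≤ (P : Subgroup G)) [Fintype ↥(Subgroup.normalizer ((P : Subgroup G) : Set G))] (Z : Subgroup G) (hZ1 : Z ≠ ⊥) (hZP : ∀ z ∈ Z, z ∈ (P : Subgroup G) ∧ ∀ y ∈ (P : Subgroup G), z * y = y * z) (hZn : ∀ x ∈ Subgroup.normalizer ((P : Subgroup G) : Set G), ∀ z ∈ Z, x * z * x⁻¹ ∈ Z) : Cfsg.IsCoherent {χ : ↥(Subgroup.normalizer ((P : Subgroup G) : Set G)) → ℂ | Cfsg.IsIrrCharacter ↥(Subgroup.normalizer ((P : Subgroup G) : Set G)) χ ∧ ∃ z : ↥(Subgroup.normalizer ((P : Subgroup G) : Set G)), (z : G) ∈ Z ∧ χ z ≠ χ 1} {1}ᶜ (fun α => Cfsg.indFun (Subgroup.normalizer ((P : Subgroup G) : Set G)) α) := by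
  open H24 H27 in
  have hp' : p.Prime := Fact.out
  have hP1 : (P : Subgroup G) ≠ ⊥ := fun e => hna (e ▸ abl_bot)
  have hF := frobK_N hP1 hlt hC
  have hT : NormedTI (shp (P : Subgroup G)) N[(P : Subgroup G)] := normedTI_shp_iff.mpr ⟨hP1, hTI, rfl⟩
  have hodd := hF.odd_card hna hp' hp (syl_top_of_sylow hp' P).pi
  have hZP' : Z ≤ (P : Subgroup G) := fun z hz => (hZP z hz).1
  have hZ : Z ⊴ N[(P : Subgroup G)] := ⟨hZP'.trans hF.nml.le, le_normalizer_of_conj_mem hZn⟩
  obtain ⟨φ, hφ⟩ := seqIndD_nonempty N[(P : Subgroup G)] (Nml.bot (P : Subgroup G))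
    (fun h => hZ1 (le_bot_iff.mp h))
  exact hF.isCoherent_of hZ hZP' (hF.sibley hT hodd) (one_lt_card_seqIndD hF.nml hodd hZP' hφ)

end Cfsg.Agent.S1532
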