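import Cfsg.Statements.S1533
import Mathlib
import Cfsg.Agent.H27.Wrap3

set_option autoImplicit false
open Cfsg

namespace Cfsg.Agent.S1533

/-- Let G be a finite group, p an odd prime, and P a nontrivial Sylow p-subgroup whose underlying set is a TI-subset of G, with P properly contained in its set normaliser N and C_G(x) ≤ P for every non-identity x ∈ P. Let S be the set of irreducible characters χ of N with χ x ≠ χ 1 for some x ∈ P. Then either S has exactly one member, P is elementary abelian and Nat.card P = [N:P] + 1; or (S, N minus 1, induction to G) is coherent. -/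
theorem result {G : Type*} [Group G] [Fintype G] (p : ℕ) [Fact p.Prime] (hp : p ≠ 2) (P : Sylow p G) (hP1 : (P : Subgroup G) ≠ ⊥) (hTI : Cfsg.IsTISubset ((P : Subgroup G) : Set G)) (hlt : (P : Subgroup G) < Subgroup.normalizer ((P : Subgroup G) : Set G)) (hC : ∀ k ∈ (P : Subgroup G), k ≠ 1 → Subgroup.centralizer ({k} : Set G) ≤ (P : Subgroup G)) [Fintype ↥(Subgroup.normalizer ((P : Subgroup G) : Set G))] : (Nat.card {χ : ↥(Subgroup.normalizer ((P : Subgroup G) : Set G)) → ℂ // Cfsg.IsIrrCharacter ↥(Subgroup.normalizer ((P : Subgroup G) : Set G)) χ ∧ ∃ x : ↥(Subgroup.normalizer ((P : Subgroup G) : Set G)), (x : G) ∈ (P : Subgroup G) ∧ χ x ≠ χ 1} = 1 ∧ Cfsg.IsElementaryAbelian p (P : Subgroup G) ∧ Nat.card (P : Subgroup G) = ((P : Subgroup G).subgroupOf (Subgroup.normalizer ((P : Subgroup G) : Set G))).index + 1) ∨ Cfsg.IsCoherent {χ : ↥(Subgroup.normalizer ((P : Subgroup G) : Set G)) → ℂ | Cfsg.IsIrrCharacter ↥(Subgroup.normalizer ((P : Subgroup G) : Set G)) χ ∧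 ∃ x : ↥(Subgroup.normalizer ((P : Subgroup G) : Set G)), (x : G) ∈ (P : Subgroup G) ∧ χ x ≠ χ 1} {1}ᶜ (fun α => Cfsg.indFun (Subgroup.normalizer ((P : Subgroup G) : Set G)) α) := by
  open H24 H27 in
  have hp' : p.Prime := Fact.out
  have hF := frobK_N hP1 hlt hC
  have hT : NormedTI (shp (P : Subgroup G)) N[(P : Subgroup G)] := normedTI_shp_iff.mpr ⟨hP1, hTI, rfl⟩
  have hP := (syl_top_of_sylow hp' P).pi
  by_cases he : Nat.card (P : Subgroup G) = (P : Subgroup G).relIndex N[(P : Subgroup G)] + 1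
  · obtain ⟨q, hq, h⟩ := hF.elem_of_card he
    obtain rfl : p = q := hP.mem_of_ne_bot (isPi_iff_piElt.mpr fun x hx =>
      piElt_of_pow_eq_one (piNat_self hq) (h.2 x hx)) hP1
    refine Or.inl ⟨?_, h, he⟩
    rw [card_irr_nontriv hF.nml.le, ← hF.seqIndD_eq hF.nml le_rfl, hF.card_seqInd_eq_one_iff, he]
  rcases feit_sibley hF hT with h | ⟨h1, h2, h3⟩
  · exact Or.inr (hF.isCoherent_of hF.nml le_rfl h (hF.one_lt_card_seqInd he))
  · exact absurd (hP.mem_of_ne_bot h1 hP1) hp

end Cfsg.Agent.S1533
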