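import Cfsg.Statements.S1536
import Mathlib
import Cfsg.Agent.H27.Wrap1

set_option autoImplicit false
open Cfsg

namespace Cfsg.Agent.S1536

/-- Let H be a normal subgroup of the finite group M whose order is coprime to its index. For x ∈ M: some non-principal irreducible character of H is unchanged under h ↦ θ(x h x⁻¹) if and only if some non-identity element of H commutes with x. -/
theorem result {M : Type*} [Group M] [Finite M] (H : Subgroup M) [hN : H.Normal] (hHall : Nat.Coprime (Nat.card H) H.index) (x : M) : (∃ θ : H → ℂ, Cfsg.IsIrrCharacter H θ ∧ θ ≠ (fun _ => 1) ∧ (fun h : H => θ ⟨x * h * x⁻¹, hN.conj_mem h h.2 x⟩) = θ) ↔ ∃ h ∈ H, h ≠ 1 ∧ x * h = h * x := by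
  open H24 H27 in
  have h := exists_fix_irr_iff' (H := H) (g := x) ((nml_top H).norm trivial)
  constructor
  · rintro ⟨θ, h1, h2, h3⟩
    obtain ⟨y, hy, h4⟩ := exists_ne_one (h.mp ⟨extendByZero H θ, ext0_mem_Irr.mpr h1,
      fun e => h2 (ext0_eq_cfOne_iff.mp e), by rw [ext0_cfConj, h3]⟩)
    exact ⟨y, hy.1, h4, (mem_C1.mp hy.2).symm⟩
  · rintro ⟨y, hy, h1, h2⟩
    obtain ⟨θ, h3, h4, h5⟩ := h.mpr (ne_bot_of_mem (x := y) ⟨hy, mem_C1.mpr h2.symm⟩ h1)
    obtain ⟨θ, rfl⟩ := exists_ext0 (irr_cfOn h3)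
    exact ⟨θ, ext0_mem_Irr.mp h3, fun e => h4 (ext0_eq_cfOne_iff.mpr e),
      ext0_injective (by rw [← ext0_cfConj, h5])⟩

end Cfsg.Agent.S1536
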