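import Mathlib
import Cfsg.Statements.S1555
import Cfsg.Agent.H28.Sextet
import Cfsg.Agent.H28.Oct2

set_option autoImplicit false
open scoped Pointwise
open Cfsg

namespace Cfsg.Agent.S1555

/-- Bottom row of the Leech triangle: an octad is met in a prescribed pair of its points by exactly 16 octads and in a prescribed 4-subset by exactly 4 octads. -/
theorem result (o : Finset Cfsg.GolayPt) (ho : o ∈ Cfsg.octads) (s : Finset Cfsg.GolayPt) (hs : s ⊆ o) : (s.card = 2 → {o' : Finset Cfsg.GolayPt | o' ∈ Cfsg.octads ∧ o ∩ o' = s}.ncard = 16) ∧ (s.card = 4 → {o' : Finset Cfsg.GolayPt | o' ∈ Cfsg.octads ∧ o ∩ o' = s}.ncard = 4) := by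
  constructor
  · intro h2
    obtain ⟨p, q, hpq, rfl⟩ := Finset.card_eq_two.1 h2
    have hp : p ∈ o := hs (by simp)
    have hq : q ∈ o := hs (by simp)
    rw [← (H28.s1604 p q hpq o o o ho ho ho ⟨hp, hp, hp⟩ ⟨hq, hq, hq⟩ rfl).1]
    congr 1
    ext x
    refine and_congr_right fun _ => ⟨fun h => ?_, fun h => ?_⟩
    · have h1 : p ∈ o ∩ x := by rw [h]; simp
      have h3 : q ∈ o ∩ x := by rw [h]; simp
      exact ⟨(Finset.mem_inter.1 h1).2, (Finset.mem_inter.1 h3).2, by rw [h, h2]⟩
    · symm
      apply Finset.eq_of_subset_of_card_le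
      · intro r hr
        simp only [Finset.mem_insert, Finset.mem_singleton] at hr
        rcases hr with rfl | rfl
        · exact Finset.mem_inter.2 ⟨hp, h.1⟩
        · exact Finset.mem_inter.2 ⟨hq, h.2.1⟩
      · rw [h.2.2, h2]
  · intro h4
    have h5 := H28.octads_through_tetrad h4
    have : {o' : Finset Cfsg.GolayPt | o' ∈ Cfsg.octads ∧ o ∩ o' = s} =
        {o' | o' ∈ octads ∧ s ⊆ o'} \ {o} := by
      ext x
      simp only [Set.mem_ofPred_eq, Set.mem_diff, Set.mem_singleton_iff]
      constructor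
      · rintro ⟨hx, h⟩
        refine ⟨⟨hx, h ▸ Finset.inter_subset_right⟩, ?_⟩
        rintro rfl
        rw [Finset.inter_self] at h
        have := hx.2
        rw [h] at this
        omega
      · rintro ⟨⟨hx, h⟩, hne⟩
        refine ⟨hx, (Finset.eq_of_subset_of_card_le (Finset.subset_inter hs h) ?_).symm⟩
        rcases H9.octad_inter ho hx (Ne.symm hne) with h | h | h <;> omega
    rw [this, Set.ncard_diff_singleton_of_mem (by exact ⟨ho, hs⟩), h5]

end Cfsg.Agent.S1555
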