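import Mathlib
import Cfsg.Statements.S1568
import Cfsg.Agent.H10.Theta

set_option autoImplicit false
open Cfsg

namespace Cfsg.Agent.S1568

/-- Shape census of the lattice vectors of sum of squares 48 (customary norm 6): the four families (2^12, 0^12), (±3^3, ±1^21), (±4, ±2^8, 0^15) and (±5, ±1^23) have 5275648, 8290304, 3108864 and 98304 members. -/
theorem result : {x : Cfsg.GolayPt → ℤ | x ∈ Cfsg.leechLattice ∧ Cfsg.sqNorm x = 48 ∧ ∀ i, x i = 0 ∨ x i = 2 ∨ x i = -2}.ncard = 5275648 ∧ {x : Cfsg.GolayPt → ℤ | x ∈ Cfsg.leechLattice ∧ Cfsg.sqNorm x = 48 ∧ ∃ i j k, i ≠ j ∧ j ≠ k ∧ i ≠ k ∧ |x i| = 3 ∧ |x j| = 3 ∧ |x k| = 3}.ncard = 8290304 ∧ {x : Cfsg.GolayPt → ℤ | x ∈ Cfsg.leechLattice ∧ Cfsg.sqNorm x = 48 ∧ ∃ i, |x i| = 4}.ncard = 3108864 ∧ {x : Cfsg.GolayPt → ℤ | x ∈ Cfsg.leechLattice ∧ Cfsg.sqNorm x = 48 ∧ ∃ i, |x i| = 5}.ncard = 98304 := by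
  have hex : ∀ (a : ℕ), {x : Cfsg.GolayPt → ℤ | x ∈ Cfsg.leechLattice ∧ Cfsg.sqNorm x = 48 ∧
      ∃ i, |x i| = a}.ncard + H10.thCount (fun t => decide (t.natAbs ≠ a)) 48 = 16773120 := by
    intro a
    have hfin : {x : Cfsg.GolayPt → ℤ | x ∈ Cfsg.leechLattice ∧ Cfsg.sqNorm x = 48}.Finite :=
      (H10.finite_norm 48).subset fun x hx => hx.2
    rw [← H10.ncard_eq_thCount _ 48 (by norm_num), ← H10.ncard_48, ← Set.ncard_union_eq ?_
      (hfin.subset fun x hx => ⟨hx.1, hx.2.1⟩) (hfin.subset fun x hx => ⟨hx.1, hx.2.1⟩)]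
    · apply congrArg Set.ncard
      ext x
      simp only [Set.mem_union, Set.mem_ofPred_eq, decide_eq_true_eq, Nat.cast_ofNat]
      constructor
      · rintro (h | h) <;> exact ⟨h.1, h.2.1⟩
      · rintro ⟨h1, h2⟩
        by_cases h : ∃ i, |x i| = a
        · exact Or.inl ⟨h1, h2, h⟩
        · refine Or.inr ⟨h1, h2, fun i hi => h ⟨i, ?_⟩⟩
          rw [← hi, Int.natCast_natAbs]
    · rw [Set.disjoint_left]
      rintro x ⟨_, _, i, hi⟩ ⟨_, _, h⟩
      have := h i
      simp only [decide_eq_true_eq] at this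
      apply this
      rw [← Int.natCast_natAbs] at hi
      exact_mod_cast hi
  refine ⟨?_, ?_, ?_, ?_⟩
  · have := H10.ncard_eq_thCount (fun t => decide (t = 0 ∨ t = 2 ∨ t = -2)) 48 (by norm_num)
    simp only [decide_eq_true_eq, Nat.cast_ofNat] at this
    rw [this]
    decide +kernel
  · have h3 := hex 3
    have e : H10.thCount (fun t => decide (t.natAbs ≠ 3)) 48 = 8482816 := by decide +kernel
    rw [e] at h3
    have : {x : Cfsg.GolayPt → ℤ | x ∈ Cfsg.leechLattice ∧ Cfsg.sqNorm x = 48 ∧ ∃ i j k, i ≠ j ∧ j ≠ k ∧ i ≠ k ∧ |x i| = 3 ∧ |x j| = 3 ∧ |x k| = 3} = {x : Cfsg.GolayPt → ℤ | x ∈ Cfsg.leechLattice ∧ Cfsg.sqNorm x = 48 ∧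
      ∃ i, |x i| = (3 : ℕ)} := by
      ext x
      simp only [Set.mem_ofPred_eq, Nat.cast_ofNat]
      refine and_congr_right fun hx => and_congr_right fun hn => ⟨?_, ?_⟩
      · rintro ⟨i, _, _, _, _, _, h, _⟩
        exact ⟨i, h⟩
      · rintro ⟨i, hi⟩
        have hodd : ∀ j, x j % 2 = 1 := by
          obtain ⟨c, h | h⟩ := (H10.mem_L_iff01 x).1 hx
          · have := h.2.1 i
            unfold H10.res at this
            rcases abs_eq (by norm_num : (0 : ℤ) ≤ 3) |>.1 hi with h' | h' <;>
              split_ifs at this <;> omega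
          · intro j
            have := h.2.1 j
            unfold H10.res at this
            split_ifs at this <;> omega
        classical
        set J := Finset.univ.filter fun j => |x j| = 3 with hJ
        have hJ1 : 0 < J.card := Finset.card_pos.2 ⟨i, by simp [hJ, hi]⟩
        have hsum : ∑ j, (x j ^ 2 - 1 - if j ∈ J then 8 else 0) = 24 - 8 * (J.card : ℤ) := by
          rw [Finset.sum_sub_distrib, Finset.sum_sub_distrib, H10.sum_const24,
            H10.sum_ite_mem_const]
          have : ∑ j, x j ^ 2 = 48 := hn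
          omega
        have hterm : ∀ j, (x j ^ 2 - 1 - if j ∈ J then 8 else 0) = 0 ∨
            24 ≤ (x j ^ 2 - 1 - if j ∈ J then 8 else 0) := by
          intro j
          have ho := hodd j
          by_cases hj : |x j| = 3
          · have : j ∈ J := by simp [hJ, hj]
            rw [if_pos this, ← sq_abs, hj]
            norm_num
          · have : j ∉ J := by simp [hJ, hj]
            rw [if_neg this]
            have h5 : x j = 1 ∨ x j = -1 ∨ 5 ≤ x j ∨ x j ≤ -5 := by
              have : x j ≠ 3 := fun h => hj (by rw [h]; rfl)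
              have : x j ≠ -3 := fun h => hj (by rw [h]; rfl)
              omega
            rcases h5 with h | h | h | h
            · left; rw [h]; norm_num
            · left; rw [h]; norm_num
            · right; nlinarith
            · right; nlinarith
        have hJ3 : 2 < J.card := by
          by_contra hlt
          by_cases hall : ∀ j, (x j ^ 2 - 1 - if j ∈ J then 8 else 0) = 0
          · rw [Finset.sum_eq_zero fun j _ => hall j] at hsum
            omega
          · push Not at hall
            obtain ⟨j, hj⟩ := hall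
            have := Finset.single_le_sum (f := fun j => x j ^ 2 - 1 - if j ∈ J then 8 else 0)
              (fun j _ => by have := hterm j; omega) (Finset.mem_univ j)
            have := hterm j
            omega
        obtain ⟨a, ha, b, hb, c, hc, hab, hac, hbc⟩ := Finset.two_lt_card.1 hJ3
        simp only [hJ, Finset.mem_filter, Finset.mem_univ, true_and] at ha hb hc
        exact ⟨a, b, c, hab, hbc, hac, ha, hb, hc⟩
    rw [this]
    exact Nat.add_right_cancel (h3.trans (by norm_num))
  · have h3 := hex 4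
    have e : H10.thCount (fun t => decide (t.natAbs ≠ 4)) 48 = 13664256 := by decide +kernel
    rw [e] at h3
    exact Nat.add_right_cancel (h3.trans (by norm_num))
  · have h3 := hex 5
    have e : H10.thCount (fun t => decide (t.natAbs ≠ 5)) 48 = 16674816 := by decide +kernel
    rw [e] at h3
    exact Nat.add_right_cancel (h3.trans (by norm_num))

end Cfsg.Agent.S1568
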