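import Mathlib
import Cfsg.Statements.S1577
import Cfsg.Agent.H10.Psu

set_option autoImplicit false
open Cfsg

namespace Cfsg.Agent.S1577

/-- The joint stabiliser of two minimal vectors of customary inner product −2 is isomorphic to PSU(6, 2). -/
theorem result (v w : ↥Cfsg.leechLattice) (hv : Cfsg.sqNorm (v : Cfsg.GolayPt → ℤ) = 32) (hw : Cfsg.sqNorm (w : Cfsg.GolayPt → ℤ) = 32) (hd : Cfsg.dotInt (v : Cfsg.GolayPt → ℤ) (w : Cfsg.GolayPt → ℤ) = -16) (F : Type) [Field F] [Fintype F] (hF : Fintype.card F = 4) : Nonempty (↥(MulAction.stabilizer ↥Cfsg.Co0 v ⊓ MulAction.stabilizer ↥Cfsg.Co0 w) ≃* Cfsg.PSU 6 F 2) := by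
  obtain ⟨g, rfl, rfl⟩ := H10.std_Uy (b := -H10.vX) (by rw [H10.norm_negL, H10.norm_vX]) hv hw
    (by rw [hd, H10.dU, H10.dot_negR]; exact congrArg Neg.neg H10.dU_vX)
  obtain ⟨e⟩ := H10.equiv_transport g H10.U62 (MulAction.stabilizer _ (g • H10.vU) ⊓
      MulAction.stabilizer _ (g • -H10.vX)) fun a => by
    simp only [Subgroup.mem_inf, MulAction.mem_stabilizer_iff, H10.conj_fix_iff, H10.fix_neg]
  exact ⟨e.symm.trans (H10.U62_psu F hF).some⟩

end Cfsg.Agent.S1577
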