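import Mathlib
import Cfsg.Statements.S1579
import Cfsg.Agent.H10.Std

set_option autoImplicit false
open Cfsg

namespace Cfsg.Agent.S1579

/-- The stabiliser of a vector of customary norm 6 is transitive on the 552 minimal vectors that complete it to a sum of two minimal vectors. -/
theorem result (u v v' : ↥Cfsg.leechLattice) (hu : Cfsg.sqNorm (u : Cfsg.GolayPt → ℤ) = 48) (hv : Cfsg.sqNorm (v : Cfsg.GolayPt → ℤ) = 32 ∧ Cfsg.sqNorm ((u - v) : Cfsg.GolayPt → ℤ) = 32) (hv' : Cfsg.sqNorm (v' : Cfsg.GolayPt → ℤ) = 32 ∧ Cfsg.sqNorm ((u - v') : Cfsg.GolayPt → ℤ) = 32) : ∃ g : ↥Cfsg.Co0, g • u = u ∧ g • v = v' := by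
  obtain ⟨g, rfl⟩ := H10.std48' u hu
  obtain ⟨y, rfl⟩ := MulAction.surjective g v
  obtain ⟨y', rfl⟩ := MulAction.surjective g v'
  simp only [H10.co_norm, H10.co_norm_sub, H10.norm_negV_sub] at hv hv'
  obtain ⟨h, h1, h2⟩ := H10.tr_C3 y y' hv.1 hv'.1 (by omega)
  exact ⟨_, H10.conj_fix g (H10.fix_neg.2 h1), H10.conj_fix g h2⟩

end Cfsg.Agent.S1579
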