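import Mathlib
import Cfsg.Statements.S1580
import Cfsg.Agent.H10.Std

set_option autoImplicit false
open Cfsg

namespace Cfsg.Agent.S1580

/-- The McLaughlin configuration: for u of customary norm 6 and v minimal with u − v minimal, there are 275 further such summands x of customary inner product 2 with v, permuted transitively by the stabiliser of u and v. -/
theorem result (u v : ↥Cfsg.leechLattice) (hu : Cfsg.sqNorm (u : Cfsg.GolayPt → ℤ) = 48) (hv : Cfsg.sqNorm (v : Cfsg.GolayPt → ℤ) = 32 ∧ Cfsg.sqNorm ((u - v) : Cfsg.GolayPt → ℤ) = 32) : {x : ↥Cfsg.leechLattice | Cfsg.sqNorm (x : Cfsg.GolayPt → ℤ) = 32 ∧ Cfsg.sqNorm ((u - x) : Cfsg.GolayPt → ℤ) = 32 ∧ Cfsg.dotInt (v : Cfsg.GolayPt → ℤ) (x : Cfsg.GolayPt → ℤ) = 16}.ncard = 275 ∧ ∀ x ∈ {x : ↥Cfsg.leechLattice | Cfsg.sqNorm (x : Cfsg.GolayPt → ℤ) = 32 ∧ Cfsg.sqNorm ((u - x) : Cfsg.GolayPt → ℤ) = 32 ∧ Cfsg.dotInt (v :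 Cfsg.GolayPt → ℤ) (x : Cfsg.GolayPt → ℤ) = 16}, ∀ x' ∈ {x : ↥Cfsg.leechLattice | Cfsg.sqNorm (x : Cfsg.GolayPt → ℤ) = 32 ∧ Cfsg.sqNorm ((u - x) : Cfsg.GolayPt → ℤ) = 32 ∧ Cfsg.dotInt (v : Cfsg.GolayPt → ℤ) (x : Cfsg.GolayPt → ℤ) = 16}, ∃ g : ↥Cfsg.Co0, g • u = u ∧ g • v = v ∧ g • x = x' := by
  obtain ⟨g, rfl, rfl⟩ := H10.std_McL' hu hv.1 hv.2
  constructor
  · rw [← show H10.cntP (fun a _ c => decide (c = -24 ∧ a = 16)) = 275 by decide +kernel,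
      ← H10.ncard_P]
    apply H10.ncard_transport g
    intro x
    simp only [Set.mem_ofPred_eq, H10.co_norm, H10.co_norm_sub, H10.norm_negV_sub, H10.co_dot,
      decide_eq_true_eq, H10.dU]
    omega
  · intro x hx x' hx'
    obtain ⟨y, rfl⟩ := MulAction.surjective g x
    obtain ⟨y', rfl⟩ := MulAction.surjective g x'
    simp only [Set.mem_ofPred_eq, H10.co_norm, H10.co_norm_sub, H10.norm_negV_sub,
      H10.co_dot] at hx hx'
    obtain ⟨h, h1, h2⟩ := H10.tr_Mc y y' hx.1 hx'.1 (hx.2.2.trans hx'.2.2.symm) (by omega)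
    exact ⟨_, H10.conj_fix g (H10.fix_neg.2 h1.2), H10.conj_fix g h1.1, H10.conj_fix g h2⟩

end Cfsg.Agent.S1580
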