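import Mathlib
import Cfsg.Statements.S1581
import Cfsg.Agent.H10.Small

set_option autoImplicit false
open Cfsg

namespace Cfsg.Agent.S1581

/-- The McLaughlin group acts with rank 3 and subdegrees 1, 112, 162 on its 275 points: the point stabiliser has two orbits on the remaining points, distinguished by customary inner product 1 or 2 with the fixed point. -/
theorem result (u v x : ↥Cfsg.leechLattice) (hu : Cfsg.sqNorm (u : Cfsg.GolayPt → ℤ) = 48) (hv : Cfsg.sqNorm (v : Cfsg.GolayPt → ℤ) = 32 ∧ Cfsg.sqNorm ((u - v) : Cfsg.GolayPt → ℤ) = 32) (hx : x ∈ {x : ↥Cfsg.leechLattice | Cfsg.sqNorm (x : Cfsg.GolayPt → ℤ) = 32 ∧ Cfsg.sqNorm ((u - x) : Cfsg.GolayPt → ℤ) = 32 ∧ Cfsg.dotInt (v : Cfsg.GolayPt → ℤ) (x : Cfsg.GolayPt → ℤ) = 16}) : {y : ↥Cfsg.leechLattice | y ∈ {x : ↥Cfsg.leechLattice | Cfsg.sqNorm (x : Cfsg.GolayPt → ℤ) = 32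 ∧ Cfsg.sqNorm ((u - x) : Cfsg.GolayPt → ℤ) = 32 ∧ Cfsg.dotInt (v : Cfsg.GolayPt → ℤ) (x : Cfsg.GolayPt → ℤ) = 16} ∧ Cfsg.dotInt (x : Cfsg.GolayPt → ℤ) (y : Cfsg.GolayPt → ℤ) = 8}.ncard = 112 ∧ {y : ↥Cfsg.leechLattice | y ∈ {x : ↥Cfsg.leechLattice | Cfsg.sqNorm (x : Cfsg.GolayPt → ℤ) = 32 ∧ Cfsg.sqNorm ((u - x) : Cfsg.GolayPt → ℤ) = 32 ∧ Cfsg.dotInt (v : Cfsg.GolayPt → ℤ) (x : Cfsg.GolayPt → ℤ) = 16} ∧ y ≠ x ∧ Cfsg.dotInt (x : Cfsg.GolayPt → ℤ) (y : Cfsg.GolayPt → ℤ) = 16}.ncard = 162 ∧ ∀ y ∈ {x : ↥Cfsg.leechLattice | Cfsg.sqNorm (x : Cfsg.GolayPt → ℤ) = 32 ∧ Cfsg.sqNorm ((u - x) : Cfsg.GolayPt → ℤ) = 32 ∧ Cfsg.dotInt (v : Cfsg.GolayPt → ℤ) (x : Cfsg.GolayPt → ℤ) = 16}, ∀ y' ∈ {x : ↥Cfsg.leechLattice | Cfsg.sqNorm (x : Cfsg.GolayPt → ℤ) = 32 ∧ Cfsg.sqNorm ((u - x) : Cfsg.GolayPt → ℤ) = 32 ∧ Cfsg.dotInt (v : Cfsg.GolayPt → ℤ) (x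 : Cfsg.GolayPt → ℤ) = 16}, y ≠ x → y' ≠ x → Cfsg.dotInt (x : Cfsg.GolayPt → ℤ) (y : Cfsg.GolayPt → ℤ) = Cfsg.dotInt (x : Cfsg.GolayPt → ℤ) (y' : Cfsg.GolayPt → ℤ) → ∃ g : ↥Cfsg.Co0, g • u = u ∧ g • v = v ∧ g • x = x ∧ g • y = y' := by
  obtain ⟨g, rfl, rfl, rfl⟩ := H10.std_U43 hu hv.1 hv.2 hx.1 hx.2.1 hx.2.2
  have key : ∀ y : H10.L, (Cfsg.sqNorm (y : H10.V) = 32 ∧
      48 + Cfsg.sqNorm (y : H10.V) + 2 * H10.dV y = 32 ∧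
      Cfsg.dotInt (H10.vU : H10.V) (y : H10.V) = 16) ↔ y ∈ H10.S275 := by
    intro y
    simp only [H10.S275, Set.mem_ofPred_eq, H10.dU]
    omega
  refine ⟨?_, ?_, ?_⟩
  · rw [← H10.ncard_112]
    apply H10.ncard_transport g
    intro x
    simp only [Set.mem_ofPred_eq, H10.co_norm, H10.co_norm_sub, H10.norm_negV_sub, H10.co_dot, key]
  · rw [← H10.ncard_162]
    apply H10.ncard_transport g
    intro x
    simp only [Set.mem_ofPred_eq, H10.co_norm, H10.co_norm_sub, H10.norm_negV_sub, H10.co_dot, key,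
      ne_eq, smul_left_cancel_iff]
    refine and_congr_right fun _ => and_iff_right_of_imp fun h e => ?_
    rw [e, H10.dot_self, H10.norm_vX] at h
    norm_num at h
  · intro x hx x' hx' _ _ h3
    obtain ⟨y, rfl⟩ := MulAction.surjective g x
    obtain ⟨y', rfl⟩ := MulAction.surjective g x'
    simp only [Set.mem_ofPred_eq, H10.co_norm, H10.co_norm_sub, H10.norm_negV_sub, H10.co_dot,
      key] at hx hx' h3
    obtain ⟨h, hh, e⟩ := H10.tr_U43 hx hx' h3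
    exact ⟨_, H10.conj_fix g (H10.fix_neg.2 hh.1.2), H10.conj_fix g hh.1.1, H10.conj_fix g hh.2,
      H10.conj_fix g e⟩

end Cfsg.Agent.S1581
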