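import Mathlib
import Cfsg.Statements.S1582
import Cfsg.Agent.H10.Psu

set_option autoImplicit false
open Cfsg

namespace Cfsg.Agent.S1582

/-- The point stabiliser in the rank-3 action of the McLaughlin group on 275 points is isomorphic to PSU(4, 3). -/
theorem result (u v x : ↥Cfsg.leechLattice) (hu : Cfsg.sqNorm (u : Cfsg.GolayPt → ℤ) = 48) (hv : Cfsg.sqNorm (v : Cfsg.GolayPt → ℤ) = 32 ∧ Cfsg.sqNorm ((u - v) : Cfsg.GolayPt → ℤ) = 32) (hx : x ∈ {x : ↥Cfsg.leechLattice | Cfsg.sqNorm (x : Cfsg.GolayPt → ℤ) = 32 ∧ Cfsg.sqNorm ((u - x) : Cfsg.GolayPt → ℤ) = 32 ∧ Cfsg.dotInt (v : Cfsg.GolayPt → ℤ) (x : Cfsg.GolayPt → ℤ) = 16}) (F : Type) [Field F] [Fintype F] (hF : Fintype.card F = 9) : Nonempty (↥(MulAction.stabilizer ↥Cfsg.Co0 u ⊓ MulAction.stabilizer ↥Cfsg.Co0 v ⊓ MulAction.stabilizer ↥Cfsg.Co0 x) ≃* Cfsg.PSU 4 F 3) := by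
  obtain ⟨g, rfl, rfl, rfl⟩ := H10.std_U43 hu hv.1 hv.2 hx.1 hx.2.1 hx.2.2
  obtain ⟨e⟩ := H10.equiv_transport g H10.U43 (MulAction.stabilizer _ (g • -H10.vV) ⊓
      MulAction.stabilizer _ (g • H10.vU) ⊓ MulAction.stabilizer _ (g • H10.vX)) fun a => by
    simp only [Subgroup.mem_inf, MulAction.mem_stabilizer_iff, H10.conj_fix_iff, H10.fix_neg]
    exact ⟨fun h => ⟨⟨h.1.2, h.1.1⟩, h.2⟩, fun h => ⟨⟨h.1.2, h.1.1⟩, h.2⟩⟩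
  exact ⟨e.symm.trans (H10.U43_psu F hF).some⟩

end Cfsg.Agent.S1582
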