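import Cfsg.Statements.S1612
import Mathlib
import Cfsg.Agent.H0.Prim

set_option autoImplicit false
open Cfsg

namespace Cfsg.Agent.S1612

open H0

theorem commute_of_two_group {G : Type*} [Group G] {D : Set G} (hD : TT D) {Q : Subgroup G}
    (hQ : IsPGroup 2 Q) {x y : G} (hx : x ∈ D) (hy : y ∈ D) (hxQ : x ∈ Q) (hyQ : y ∈ Q) :
    Commute x y := by
  by_contra hc
  have h3 := hD.pow_three hx hy (hD.braid hx hy hc)
  obtain ⟨k, hk⟩ := hQ ⟨x * y, mul_mem hxQ hyQ⟩
  have hk' : (x * y) ^ 2 ^ k = 1 := congrArg Subtype.val hk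
  have h1 : orderOf (x * y) ∣ Nat.gcd 3 (2 ^ k) :=
    Nat.dvd_gcd (orderOf_dvd_of_pow_eq_one h3) (orderOf_dvd_of_pow_eq_one hk')
  have h2 : Nat.gcd 3 (2 ^ k) = 1 := Nat.Coprime.pow_right k (by norm_num)
  rw [h2, Nat.dvd_one, orderOf_eq_one_iff] at h1
  apply hc
  rw [eq_inv_of_mul_eq_one_left h1]
  exact (Commute.refl y).inv_left

theorem two_group_closure {G : Type*} [Group G] {D E : Set G} (hD : TT D) (hE : E ⊆ D)
    (hc : ∀ a ∈ E, ∀ b ∈ E, Commute a b) : IsPGroup 2 (Subgroup.closure E) := by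
  have k1 : ∀ a ∈ Subgroup.closure E, ∀ b ∈ Subgroup.closure E, Commute a b := by
    intro x hx y hy
    induction hx using Subgroup.closure_induction with
    | mem a ha =>
      induction hy using Subgroup.closure_induction with
      | mem b hb => exact hc a ha b hb
      | one => exact Commute.one_right _
      | mul p q _ _ hp hq => exact hp.mul_right hq
      | inv p _ hp => exact hp.inv_right
    | one => exact Commute.one_left _
    | mul p q _ _ hp hq => exact hp.mul_left hq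
    | inv p _ hp => exact hp.inv_left
  refine H2.isPGroup_of_forall_pow_eq_one fun x hx => ?_
  induction hx using Subgroup.closure_induction with
  | mem a ha => rw [pow_two, hD.sq a (hE ha)]
  | one => exact one_pow 2
  | mul p q hp' hq' hp hq => rw [(k1 p hp' q hq').mul_pow, hp, hq, one_mul]
  | inv p _ hp => rw [inv_pow, hp, inv_one]

theorem eq_inter {G : Type*} [Group G] [Finite G] {D E : Set G} (hD : TT D) (hE : E ⊆ D)
    (hmax : ∀ E' : Set G, E' ⊆ D → (∀ a ∈ E', ∀ b ∈ E', Commute a b) → E'.ncard ≤ E.ncard)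
    {Q : Subgroup G} (hQ : IsPGroup 2 Q) (hEQ : E ⊆ Q) : E = D ∩ Q :=
  Set.eq_of_subset_of_ncard_le (Set.subset_inter hE hEQ)
    (hmax _ Set.inter_subset_left fun _ ha _ hb =>
      commute_of_two_group hD hQ ha.1 hb.1 ha.2 hb.2)


/-- In a 3-transposition group (no solvable normal subgroup, perfect derived group), the normaliser of a commuting set of transpositions of maximum size contains a Sylow 2-subgroup and is doubly transitive on the set. -/
theorem result {G : Type*} [Group G] [Finite G] (hsol : ∀ N : Subgroup G, N.Normal → Group.IsSolvable ↥N → N = ⊥) (hperf : ⁅commutator G, commutator G⁆ = commutator G) {D : Set G} (hD : Cfsg.IsThreeTranspositionClass D) {E : Set G} (hE : E ⊆ D) (hc : ∀ a ∈ E, ∀ b ∈ E, Commute a b) (hmax : ∀ E' : Set G, E' ⊆ D → (∀ a ∈ E', ∀ b ∈ E', Commute a b) → E'.ncard ≤ E.ncard) : (∃ P : Sylow 2 G, (P : Subgroup G) ≤ Subgroup.normalizer E) ∧ ∀ a ∈ E, ∀ b ∈ E, ∀ c ∈ E, ∀ d ∈ E, a ≠ b → c ≠ d → ∃ g ∈ Subgroup.normalizer E, g * a * g⁻¹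 = c ∧ g * b * g⁻¹ = d := by
  have h := H0.ptt_of_fischer hsol hperf hD
  have hT := h.toTT
  have : Fact (Nat.Prime 2) := ⟨Nat.prime_two⟩
  constructor
  · obtain ⟨P, hP⟩ := (two_group_closure hT hE hc).exists_le_sylow
    refine ⟨P, fun g hg => ?_⟩
    have e := eq_inter hT hE hmax P.2 (Subgroup.subset_closure.trans hP)
    rw [Subgroup.mem_set_normalizer_iff]
    intro n
    rw [e]
    refine and_congr (hT.mem_cj (g := g)).symm ?_
    constructor
    · intro hn; exact mul_mem (mul_mem hg hn) (inv_mem hg)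
    · intro hn
      have := mul_mem (mul_mem (inv_mem hg) hn) hg
      have e2 : g⁻¹ * (g * n * g⁻¹) * g = n := by group
      exact e2 ▸ this
  · intro a ha b hb c hc' d hd hab hcd
    obtain ⟨g, k1, k2⟩ := h.comm_pair_trans (hE ha) (hE hc') ⟨hE hb, hab.symm, hc a ha b hb⟩
      ⟨hE hd, hcd.symm, hc c hc' d hd⟩
    let C : Subgroup G := Subgroup.centralizer {c, d}
    let E' : Set G := cj g '' E
    have hE' : E' ⊆ D := by rintro _ ⟨x, hx, rfl⟩; exact hT.conj x (hE hx) g
    have hc2 : ∀ a ∈ E', ∀ b ∈ E', Commute a b := by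
      rintro _ ⟨x, hx, rfl⟩ _ ⟨y, hy, rfl⟩; exact commute_cj.2 (hc x hx y hy)
    have hcard : E'.ncard = E.ncard := Set.ncard_image_of_injective _ (cj_injective g)
    have hC1 : Subgroup.closure E ≤ C := by
      rw [Subgroup.closure_le]
      intro x hx y hy
      rcases hy with rfl | rfl
      · exact hc _ hc' x hx
      · exact hc _ hd x hx
    have hC2 : Subgroup.closure E' ≤ C := by
      rw [Subgroup.closure_le]
      intro x hx y hy
      rcases hy with rfl | rfl
      · exact hc2 _ ⟨a, ha, k1⟩ x hx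
      · exact hc2 _ ⟨b, hb, k2⟩ x hx
    obtain ⟨Q1, hQ1⟩ := ((two_group_closure hT hE hc).comap_subtype (K := C)).exists_le_sylow
    obtain ⟨Q2, hQ2⟩ := ((two_group_closure hT hE' hc2).comap_subtype (K := C)).exists_le_sylow
    obtain ⟨k, hk⟩ := MulAction.exists_smul_eq C Q2 Q1
    have e1 := eq_inter hT hE hmax (Q1.2.map C.subtype) (fun x hx =>
      ⟨⟨x, hC1 (Subgroup.subset_closure hx)⟩, hQ1 (Subgroup.subset_closure hx), rfl⟩)
    have hsub : cj (k * g) '' E ⊆ E := by
      rintro _ ⟨x, hx, rfl⟩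
      rw [e1]
      refine ⟨hT.conj x (hE hx) _, ?_⟩
      have hx2 : cj g x ∈ E' := ⟨x, hx, rfl⟩
      have h1 : (⟨cj g x, hC2 (Subgroup.subset_closure hx2)⟩ : C) ∈ Q2 :=
        hQ2 (Subgroup.subset_closure hx2)
      have h2 : k * ⟨cj g x, hC2 (Subgroup.subset_closure hx2)⟩ * k⁻¹ ∈ k • Q2 := by
        rw [H6.mem_smul_sylow_iff]; simpa [mul_assoc] using h1
      rw [hk] at h2
      exact ⟨_, h2, by rw [← cj_cj]; rfl⟩
    have heq : cj (k * g) '' E = E := Set.eq_of_subset_of_ncard_le hsub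
      (Set.ncard_image_of_injective _ (cj_injective _)).ge
    have hkc : Commute (k : G) c := (k.2 c (by simp)).symm
    have hkd : Commute (k : G) d := (k.2 d (by simp)).symm
    refine ⟨k * g, ?_, ?_, ?_⟩
    · rw [Subgroup.mem_set_normalizer_iff]
      intro n
      constructor
      · intro hn; exact hsub ⟨n, hn, rfl⟩
      · intro hn
        rw [← heq] at hn
        obtain ⟨m, hm, h⟩ := hn
        rwa [← cj_injective _ h]
    · rw [← cj_def, ← cj_cj, k1, cj_of_commute hkc]
    · rw [← cj_def, ← cj_cj, k2, cj_of_commute hkd]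

end Cfsg.Agent.S1612
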