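import Cfsg.Statements.S1614
import Mathlib
import Cfsg.Agent.H0.Prim
import Cfsg.Agent.H0.Classify
import Cfsg.Agent.S1615
import Cfsg.Agent.S0247
import Cfsg.Agent.H2.MinNormal

set_option autoImplicit false
open Cfsg

namespace Cfsg.Agent.S1614

/-- If the commuting transpositions of one transposition generate a solvable group, a Fischer 3-transposition group is S5, S6, PSU(4, 2) or PSU(5, 2). -/
theorem result {G : Type*} [Group G] [Finite G] (hsol : ∀ N : Subgroup G, N.Normal → Group.IsSolvable ↥N → N = ⊥) (hperf : ⁅commutator G, commutator G⁆ = commutator G) {D : Set G} (hD : Cfsg.IsThreeTranspositionClass D) (x : G) (hx : x ∈ D) (hs : Group.IsSolvable ↥(Subgroup.closure {y : G | y ∈ D ∧ y ≠ x ∧ Commute x y})) : Nonempty (G ≃* Equiv.Perm (Fin 5)) ∨ Nonempty (G ≃* Equiv.Perm (Fin 6)) ∨ ∃ (F : Type) (_ : Field F) (_ : Fintype F), Fintype.card F = 4 ∧ (Nonempty (G ≃* Cfsg.PSU 4 F 2) ∨ Nonempty (G ≃* Cfsg.PSU 5 F 2)) := by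
  have hP := H0.ptt_of_fischer hsol hperf hD
  have hZ : Subgroup.center G = ⊥ :=
    hsol _ inferInstance (H2.isSolvable_of_isMulCommutative _)
  by_cases h1 : Cfsg.oddCore ↥(Subgroup.closure (H0.Dx D x)) ≤ Subgroup.center _
  swap
  · exact Or.inl (Cfsg.Agent.S1615.result hsol hperf hD x hx h1)
  by_cases h : Cfsg.pCore 2 ↥(Subgroup.closure (H0.Dx D x)) ≤ Subgroup.center _
  · exfalso
    have : Fact (Nat.Prime 2) := ⟨Nat.prime_two⟩
    have : Group.IsSolvable ↥(Subgroup.closure (H0.Dx D x)) := hs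
    have hF := (H2.fitting_le_pCore_sup_pPrimeCore 2).trans (sup_le h h1)
    obtain ⟨a, ha⟩ := hP.Dx_ne hx
    obtain ⟨f, hf, hfa⟩ := hP.sep hx ha.1 ha.2.1.symm
    have hc : (⟨a, Subgroup.subset_closure ha⟩ : Subgroup.closure (H0.Dx D x)) ∈
        Subgroup.center _ := hF (H2.centralizer_fitting_le _ fun g hg =>
          (Subgroup.mem_center_iff.1 (hF hg) _).symm)
    exact hfa (congrArg Subtype.val
      (Subgroup.mem_center_iff.1 hc ⟨f, Subgroup.subset_closure hf⟩))
  rw [Cfsg.pCore, sSup_le_iff] at h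
  push Not at h
  obtain ⟨N, ⟨hN, h2⟩, hc⟩ := h
  have hPol := @H0.PTT.pol_of_two G _ _ D hP x hx N hN h2 hc
  right
  rcases hPol.model hZ with ⟨m, hm, φ, hφ⟩ | ⟨n, hn, φ, hφ⟩
  · left
    obtain rfl : m = 2 := by
      by_contra hne
      exact hφ.sp_not_solvable hP.toTT (by omega) hx hs
    obtain ⟨e⟩ := hφ.iso_sp hPol hZ
    obtain ⟨e'⟩ := Cfsg.Agent.S0247.result (F := ZMod 2) rfl
    exact ⟨e.trans e'⟩
  · right
    refine ⟨H0.F4, inferInstance, inferInstance, rfl, ?_⟩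
    have : n = 4 ∨ n = 5 := by
      by_contra hne
      exact hφ.su_not_solvable hP.toTT (by omega) hx hs
    rcases this with rfl | rfl
    · exact Or.inl (hφ.iso_su hPol hZ hn)
    · exact Or.inr (hφ.iso_su hPol hZ hn)

end Cfsg.Agent.S1614
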