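import Cfsg.Statements.S1620
import Mathlib
import Cfsg.Agent.H7.J2

set_option autoImplicit false
open Quaternion
open Cfsg

namespace Cfsg.Agent.S1620

/-- The Hall–Janko group is simple and non-abelian. -/
theorem result : IsSimpleGroup Cfsg.Spor.J2 ∧ ∃ a b : Cfsg.Spor.J2, a * b ≠ b * a := by
  obtain ⟨f, -⟩ := H7.J2.exists_iso
  refine ⟨f.isSimpleGroup, ?_⟩
  by_contra h
  push Not at h
  refine H7.J2.hz ?_
  rw [← Subgroup.mem_bot, ← H7.J2.center_S, Subgroup.mem_center_iff]
  exact fun g => f.symm.injective (by rw [map_mul, map_mul, h])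

end Cfsg.Agent.S1620
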