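import Mathlib
import Cfsg.Statements.S1633
import Cfsg.Agent.H10.Psu

set_option autoImplicit false
open Cfsg

namespace Cfsg.Agent.S1633

/-- The Higman–Sims group acts transitively on 352 vectors, a set closed under x ↦ −w − x, with vector stabiliser isomorphic to PSU(3, 5). -/
theorem result (v w : ↥Cfsg.leechLattice) (hv : Cfsg.sqNorm (v : Cfsg.GolayPt → ℤ) = 48) (hw : Cfsg.sqNorm (w : Cfsg.GolayPt → ℤ) = 48) (hvw : Cfsg.dotInt (v : Cfsg.GolayPt → ℤ) (w : Cfsg.GolayPt → ℤ) = -32) (F : Type) [Field F] [Fintype F] (hF : Fintype.card F = 25) : {x : ↥Cfsg.leechLattice | Cfsg.sqNorm (x : Cfsg.GolayPt → ℤ) = 32 ∧ Cfsg.dotInt (v : Cfsg.GolayPt → ℤ) (x : Cfsg.GolayPt → ℤ) = 16 ∧ Cfsg.dotInt (w : Cfsg.GolayPt → ℤ) (x : Cfsg.GolayPt → ℤ) = -24}.ncard = 352 ∧ (∀ x ∈ {x : ↥Cfsg.leechLattice | Cfsg.sqNorm (x : Cfsg.GolayPt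 → ℤ) = 32 ∧ Cfsg.dotInt (v : Cfsg.GolayPt → ℤ) (x : Cfsg.GolayPt → ℤ) = 16 ∧ Cfsg.dotInt (w : Cfsg.GolayPt → ℤ) (x : Cfsg.GolayPt → ℤ) = -24}, -w - x ∈ {x : ↥Cfsg.leechLattice | Cfsg.sqNorm (x : Cfsg.GolayPt → ℤ) = 32 ∧ Cfsg.dotInt (v : Cfsg.GolayPt → ℤ) (x : Cfsg.GolayPt → ℤ) = 16 ∧ Cfsg.dotInt (w : Cfsg.GolayPt → ℤ) (x : Cfsg.GolayPt → ℤ) = -24}) ∧ (∀ x ∈ {x : ↥Cfsg.leechLattice | Cfsg.sqNorm (x : Cfsg.GolayPt → ℤ) = 32 ∧ Cfsg.dotInt (v : Cfsg.GolayPt → ℤ) (x : Cfsg.GolayPt → ℤ) = 16 ∧ Cfsg.dotInt (w : Cfsg.GolayPt → ℤ) (x : Cfsg.GolayPt → ℤ) = -24}, ∀ x' ∈ {x : ↥Cfsg.leechLattice | Cfsg.sqNorm (x : Cfsg.GolayPt → ℤ) = 32 ∧ Cfsg.dotInt (v : Cfsg.GolayPt → ℤ) (x : Cfsg.GolayPt → ℤ) = 16 ∧ Cfsg.dotInt (w : Cfsg.GolayPt → ℤ) (x : Cfsg.GolayPt → ℤ) = -24}, ∃ g : ↥Cfsg.Co0, g • v = v ∧ g • w = w ∧ g • x = x')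 ∧ ∀ x ∈ {x : ↥Cfsg.leechLattice | Cfsg.sqNorm (x : Cfsg.GolayPt → ℤ) = 32 ∧ Cfsg.dotInt (v : Cfsg.GolayPt → ℤ) (x : Cfsg.GolayPt → ℤ) = 16 ∧ Cfsg.dotInt (w : Cfsg.GolayPt → ℤ) (x : Cfsg.GolayPt → ℤ) = -24}, Nonempty (↥(MulAction.stabilizer ↥Cfsg.Co0 v ⊓ MulAction.stabilizer ↥Cfsg.Co0 w ⊓ MulAction.stabilizer ↥Cfsg.Co0 x) ≃* Cfsg.PSU 3 F 5) := by
  refine ⟨?_, ?_, ?_, ?_⟩
  · obtain ⟨g, rfl, rfl⟩ := H10.std_HS hv hw hvw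
    rw [← show H10.cntP (fun _ b c => decide (b = 8 ∧ c = 16)) = 352 by decide +kernel,
      ← H10.ncard_P]
    apply H10.ncard_transport g
    intro x
    simp only [Set.mem_ofPred_eq, H10.co_norm, H10.co_dot, H10.dot_w1, decide_eq_true_eq, H10.dV]
    omega
  · rintro x ⟨h1, h2, h3⟩
    simp only [Set.mem_ofPred_eq, AddSubgroup.coe_sub, AddSubgroup.coe_neg, H10.sqNorm_sub,
      H10.dot_sub_right, H10.dot_neg_right, H10.dot_neg_left, H10.sqNorm_neg, H10.dot_self, hw, hvw,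
      h1, h2, h3]
    norm_num
  · obtain ⟨g, rfl, rfl⟩ := H10.std_HS hv hw hvw
    intro x hx x' hx'
    obtain ⟨y, rfl⟩ := MulAction.surjective g x
    obtain ⟨y', rfl⟩ := MulAction.surjective g x'
    simp only [Set.mem_ofPred_eq, H10.co_norm, H10.co_dot] at hx hx'
    obtain ⟨h, h1, h2, h3⟩ := H10.tr_Vw1 y y' hx.1 hx'.1
      (by rw [H10.dV, hx.2.1]; norm_num) (hx.2.1.trans hx'.2.1.symm) (hx.2.2.trans hx'.2.2.symm)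
    exact ⟨_, H10.conj_fix g h1, H10.conj_fix g h2, H10.conj_fix g h3⟩
  · intro x hx
    obtain ⟨g, rfl, rfl, rfl⟩ := H10.std_third (c := H10.vZ) hx.1 (H10.std_HS hv hw hvw)
      (by rw [hx.2.1]; exact H10.dV_vZ)
      (by rw [hx.2.2, H10.dot_w1, H10.dV_vZ, H10.dU'_vZ]; norm_num)
      (fun y hy h1 h2 => H10.tr_Vw1 _ y H10.norm_vZ hy (by rw [H10.dV_vZ]; norm_num) h1 h2)
    obtain ⟨e⟩ := H10.equiv_transport g H10.U35 (MulAction.stabilizer _ (g • H10.vV) ⊓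
        MulAction.stabilizer _ (g • H10.w1) ⊓ MulAction.stabilizer _ (g • H10.vZ)) fun a => by
      simp only [Subgroup.mem_inf, MulAction.mem_stabilizer_iff, H10.conj_fix_iff]
      exact ⟨fun h => ⟨⟨(H10.fix_w1 h.1.1).1 h.1.2, h.1.1⟩, h.2⟩,
        fun h => ⟨⟨h.1.2, (H10.fix_w1 h.1.2).2 h.1.1⟩, h.2⟩⟩
    exact ⟨e.symm.trans (H10.U35_psu F hF).some⟩

end Cfsg.Agent.S1633
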