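import Mathlib
import Cfsg.Statements.S1634
import Cfsg.Agent.H10.Std

set_option autoImplicit false
open Cfsg

namespace Cfsg.Agent.S1634

/-- The McLaughlin group acts on 2025 points (minimal vectors orthogonal to v with customary inner product 2 with w) transitively with rank 4 and subdegrees 1, 330, 462, 1232. -/
theorem result (v w : ↥Cfsg.leechLattice) (hv : Cfsg.sqNorm (v : Cfsg.GolayPt → ℤ) = 32) (hw : Cfsg.sqNorm (w : Cfsg.GolayPt → ℤ) = 32) (hvw : Cfsg.dotInt (v : Cfsg.GolayPt → ℤ) (w : Cfsg.GolayPt → ℤ) = -8) : {x : ↥Cfsg.leechLattice | Cfsg.sqNorm (x : Cfsg.GolayPt → ℤ) = 32 ∧ Cfsg.dotInt (v : Cfsg.GolayPt → ℤ) (x : Cfsg.GolayPt → ℤ) = 0 ∧ Cfsg.dotInt (w : Cfsg.GolayPt → ℤ) (x : Cfsg.GolayPt → ℤ) = 16}.ncard = 2025 ∧ (∀ x ∈ {x : ↥Cfsg.leechLattice | Cfsg.sqNorm (x : Cfsg.GolayPt → ℤ) = 32 ∧ Cfsg.dotInt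 (v : Cfsg.GolayPt → ℤ) (x : Cfsg.GolayPt → ℤ) = 0 ∧ Cfsg.dotInt (w : Cfsg.GolayPt → ℤ) (x : Cfsg.GolayPt → ℤ) = 16}, ∀ x' ∈ {x : ↥Cfsg.leechLattice | Cfsg.sqNorm (x : Cfsg.GolayPt → ℤ) = 32 ∧ Cfsg.dotInt (v : Cfsg.GolayPt → ℤ) (x : Cfsg.GolayPt → ℤ) = 0 ∧ Cfsg.dotInt (w : Cfsg.GolayPt → ℤ) (x : Cfsg.GolayPt → ℤ) = 16}, ∃ g : ↥Cfsg.Co0, g • v = v ∧ g • w = w ∧ g • x = x') ∧ ∀ x ∈ {x : ↥Cfsg.leechLattice | Cfsg.sqNorm (x : Cfsg.GolayPt → ℤ) = 32 ∧ Cfsg.dotInt (v : Cfsg.GolayPt → ℤ) (x : Cfsg.GolayPt → ℤ) = 0 ∧ Cfsg.dotInt (w : Cfsg.GolayPt → ℤ) (x : Cfsg.GolayPt → ℤ) = 16}, ∃ y₁ ∈ {x : ↥Cfsg.leechLattice | Cfsg.sqNorm (x : Cfsg.GolayPt → ℤ) = 32 ∧ Cfsg.dotInt (v : Cfsg.GolayPt → ℤ) (x : Cfsg.GolayPt → ℤ) = 0 ∧ Cfsg.dotInt (w : Cfsg.GolayPt → ℤ) (x : Cfsg.GolayPt → ℤ) = 16}, ∃ y₂ ∈ {x : ↥Cfsg.leechLattice | Cfsg.sqNorm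 (x : Cfsg.GolayPt → ℤ) = 32 ∧ Cfsg.dotInt (v : Cfsg.GolayPt → ℤ) (x : Cfsg.GolayPt → ℤ) = 0 ∧ Cfsg.dotInt (w : Cfsg.GolayPt → ℤ) (x : Cfsg.GolayPt → ℤ) = 16}, ∃ y₃ ∈ {x : ↥Cfsg.leechLattice | Cfsg.sqNorm (x : Cfsg.GolayPt → ℤ) = 32 ∧ Cfsg.dotInt (v : Cfsg.GolayPt → ℤ) (x : Cfsg.GolayPt → ℤ) = 0 ∧ Cfsg.dotInt (w : Cfsg.GolayPt → ℤ) (x : Cfsg.GolayPt → ℤ) = 16}, (MulAction.orbit ↥(MulAction.stabilizer ↥Cfsg.Co0 v ⊓ MulAction.stabilizer ↥Cfsg.Co0 w ⊓ MulAction.stabilizer ↥Cfsg.Co0 x) y₁).ncard = 330 ∧ (MulAction.orbit ↥(MulAction.stabilizer ↥Cfsg.Co0 v ⊓ MulAction.stabilizer ↥Cfsg.Co0 w ⊓ MulAction.stabilizer ↥Cfsg.Co0 x) y₂).ncard = 462 ∧ (MulAction.orbit ↥(MulAction.stabilizer ↥Cfsg.Co0 v ⊓ MulAction.stabilizer ↥Cfsg.Co0 w ⊓ MulAction.stabilizer ↥Cfsg.Co0 x) y₃).ncard = 1232 := by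
  obtain ⟨g, rfl, rfl⟩ := H10.std_McL hv hw hvw
  refine ⟨?_, ?_, ?_⟩
  · rw [← show H10.cntP (fun a _ c => decide (a = 0 ∧ c = -16)) = 2025 by decide +kernel,
      ← H10.ncard_P]
    apply H10.ncard_transport g
    intro x
    simp only [Set.mem_ofPred_eq, H10.co_norm, H10.co_dot, H10.dot_w0, decide_eq_true_eq, H10.dU]
    omega
  · intro x hx x' hx'
    obtain ⟨y, rfl⟩ := MulAction.surjective g x
    obtain ⟨y', rfl⟩ := MulAction.surjective g x'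
    simp only [Set.mem_ofPred_eq, H10.co_norm, H10.co_dot] at hx hx'
    obtain ⟨h, h1, h2, h3⟩ := H10.tr_Uw0 y y' hx.1 hx'.1
      (hx.2.1.trans hx'.2.1.symm) (hx.2.2.trans hx'.2.2.symm)
    exact ⟨_, H10.conj_fix g h1, H10.conj_fix g h2, H10.conj_fix g h3⟩
  · intro x hx
    obtain ⟨g', e1, e2, rfl⟩ := H10.std_third (c := H10.vU') hx.1 ⟨g, rfl, rfl⟩
      (by rw [hx.2.1]; decide +kernel) (by rw [hx.2.2]; decide +kernel)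
      (fun y hy h1 h2 => H10.tr_Uw0 _ y H10.norm_vU' hy h1 h2)
    rw [← e1, ← e2]
    have key : ∀ (b : ℤ) (n : ℕ), ((0 : ℤ), b, (-16 : ℤ)) ∈ H10.fM22.map Prod.fst → n ≠ 0 →
        H10.cntP (fun a' b' c' => decide (a' = 0 ∧ b' = b ∧ c' = -16)) = n →
        ∃ y ∈ {x : ↥Cfsg.leechLattice | Cfsg.sqNorm (x : Cfsg.GolayPt → ℤ) = 32 ∧
          Cfsg.dotInt ((g' • H10.vU : H10.L) : Cfsg.GolayPt → ℤ) (x : Cfsg.GolayPt → ℤ) = 0 ∧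
          Cfsg.dotInt ((g' • H10.w0 : H10.L) : Cfsg.GolayPt → ℤ) (x : Cfsg.GolayPt → ℤ) = 16},
          (MulAction.orbit ↥(MulAction.stabilizer ↥Cfsg.Co0 (g' • H10.vU) ⊓
            MulAction.stabilizer ↥Cfsg.Co0 (g' • H10.w0) ⊓
            MulAction.stabilizer ↥Cfsg.Co0 (g' • H10.vU')) y).ncard = n := by
      intro b n hb hn hc
      obtain ⟨y, h1, h2, h3, h4⟩ := H10.exists_ty 0 b (-16) (hc ▸ hn)
      refine ⟨g' • y, ?_, ?_⟩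
      · simp only [Set.mem_ofPred_eq, H10.co_norm, H10.co_dot, H10.dot_w0]
        exact ⟨h1, h2, by omega⟩
      · rw [H10.ncard_transport g' _ _ (H10.mem_orbit_transport g' H10.H22 _ (fun a => ?_) y),
          H10.orbit_M22 _ (fun _ => Iff.rfl) h1 (by rwa [h2, h3, h4]), h2, h3, h4]
        · exact H10.ncard_of_P _ _ hc (by simp)
        · simp only [Subgroup.mem_inf, MulAction.mem_stabilizer_iff, H10.conj_fix_iff, H10.mem_H22]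
          exact ⟨fun ⟨⟨a, b⟩, c⟩ => ⟨a, c, (H10.fix_w0 a).1 b⟩,
            fun ⟨a, b, c⟩ => ⟨⟨a, (H10.fix_w0 a).2 c⟩, b⟩⟩
    obtain ⟨y1, a1, b1⟩ := key 0 330 (by decide +kernel) (by norm_num) (by decide +kernel)
    obtain ⟨y2, a2, b2⟩ := key 16 462 (by decide +kernel) (by norm_num) (by decide +kernel)
    obtain ⟨y3, a3, b3⟩ := key 8 1232 (by decide +kernel) (by norm_num) (by decide +kernel)
    exact ⟨y1, a1, y2, a2, y3, a3, b1, b2, b3⟩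

end Cfsg.Agent.S1634
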