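import Mathlib
import Cfsg.Statements.S1641
import Cfsg.Agent.H10.Std

set_option autoImplicit false
open Cfsg

namespace Cfsg.Agent.S1641

/-- The third Conway group acts on the 11178 cosets of the Higman–Sims group with rank 5 and subdegrees 1, 352, 1100, 4125, 5600. -/
theorem result (u x : ↥Cfsg.leechLattice) (hu : Cfsg.sqNorm (u : Cfsg.GolayPt → ℤ) = 48) (hx : x ∈ {x : ↥Cfsg.leechLattice | Cfsg.sqNorm (x : Cfsg.GolayPt → ℤ) = 32 ∧ Cfsg.dotInt (u : Cfsg.GolayPt → ℤ) (x : Cfsg.GolayPt → ℤ) = -16}) : ∃ y₁ ∈ {x : ↥Cfsg.leechLattice | Cfsg.sqNorm (x : Cfsg.GolayPt → ℤ) = 32 ∧ Cfsg.dotInt (u : Cfsg.GolayPt → ℤ) (x : Cfsg.GolayPt → ℤ) = -16}, ∃ y₂ ∈ {x : ↥Cfsg.leechLattice | Cfsg.sqNorm (x : Cfsg.GolayPt → ℤ) = 32 ∧ Cfsg.dotInt (u : Cfsg.GolayPt → ℤ) (x : Cfsg.GolayPt → ℤ) = -16}, ∃ y₃ ∈ {x : ↥Cfsg.leechLattice | Cfsg.sqNorm (x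 : Cfsg.GolayPt → ℤ) = 32 ∧ Cfsg.dotInt (u : Cfsg.GolayPt → ℤ) (x : Cfsg.GolayPt → ℤ) = -16}, ∃ y₄ ∈ {x : ↥Cfsg.leechLattice | Cfsg.sqNorm (x : Cfsg.GolayPt → ℤ) = 32 ∧ Cfsg.dotInt (u : Cfsg.GolayPt → ℤ) (x : Cfsg.GolayPt → ℤ) = -16}, (MulAction.orbit ↥(MulAction.stabilizer ↥Cfsg.Co0 u ⊓ MulAction.stabilizer ↥Cfsg.Co0 x) y₁).ncard = 352 ∧ (MulAction.orbit ↥(MulAction.stabilizer ↥Cfsg.Co0 u ⊓ MulAction.stabilizer ↥Cfsg.Co0 x) y₂).ncard = 1100 ∧ (MulAction.orbit ↥(MulAction.stabilizer ↥Cfsg.Co0 u ⊓ MulAction.stabilizer ↥Cfsg.Co0 x) y₃).ncard = 4125 ∧ (MulAction.orbit ↥(MulAction.stabilizer ↥Cfsg.Co0 u ⊓ MulAction.stabilizer ↥Cfsg.Co0 x) y₄).ncard = 5600 ∧ {x : ↥Cfsg.leechLattice | Cfsg.sqNorm (x : Cfsg.GolayPt → ℤ) = 32 ∧ Cfsg.dotInt (u : Cfsg.GolayPt → ℤ) (x : Cfsg.GolayPt → ℤ) = -16} = {x} ∪ MulAction.orbit ↥(MulAction.stabilizer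 ↥Cfsg.Co0 u ⊓ MulAction.stabilizer ↥Cfsg.Co0 x) y₁ ∪ MulAction.orbit ↥(MulAction.stabilizer ↥Cfsg.Co0 u ⊓ MulAction.stabilizer ↥Cfsg.Co0 x) y₂ ∪ MulAction.orbit ↥(MulAction.stabilizer ↥Cfsg.Co0 u ⊓ MulAction.stabilizer ↥Cfsg.Co0 x) y₃ ∪ MulAction.orbit ↥(MulAction.stabilizer ↥Cfsg.Co0 u ⊓ MulAction.stabilizer ↥Cfsg.Co0 x) y₄ := by
  obtain ⟨g, rfl, rfl⟩ := H10.std_Vy H10.norm_vU' hu hx.1 (H10.dV_vU'.trans hx.2.symm)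
  have key : ∀ (b : ℤ) (n : ℕ), n ≠ 0 →
      H10.cntP (fun _ b' c' => decide (b' = b ∧ c' = -16)) = n →
      ∃ y ∈ {x : ↥Cfsg.leechLattice | Cfsg.sqNorm (x : Cfsg.GolayPt → ℤ) = 32 ∧
        Cfsg.dotInt ((g • H10.vV : H10.L) : Cfsg.GolayPt → ℤ) (x : Cfsg.GolayPt → ℤ) = -16},
        (MulAction.orbit ↥(MulAction.stabilizer ↥Cfsg.Co0 (g • H10.vV) ⊓
          MulAction.stabilizer ↥Cfsg.Co0 (g • H10.vU')) y).ncard = n ∧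
        ∀ z : H10.L, g • z ∈ MulAction.orbit ↥(MulAction.stabilizer ↥Cfsg.Co0 (g • H10.vV) ⊓
          MulAction.stabilizer ↥Cfsg.Co0 (g • H10.vU')) y ↔
          Cfsg.sqNorm (z : H10.V) = 32 ∧ H10.dU' z = b ∧ H10.dV z = -16 := by
    intro b n hn hc
    obtain ⟨y, h1, h2⟩ := H10.exists_of_cnt _ (hc ▸ hn)
    obtain ⟨h3, h4⟩ := of_decide_eq_true h2
    have e : ∀ z : H10.L, g • z ∈ MulAction.orbit ↥(MulAction.stabilizer ↥Cfsg.Co0 (g • H10.vV) ⊓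
          MulAction.stabilizer ↥Cfsg.Co0 (g • H10.vU')) (g • y) ↔
          z ∈ {z : H10.L | Cfsg.sqNorm (z : H10.V) = 32 ∧ H10.dU' z = b ∧ H10.dV z = -16} := by
      intro z
      rw [H10.mem_orbit_transport g H10.Hs _ (fun a => ?_) y,
        H10.orbit_Hs _ (fun _ => Iff.rfl) h1 (by rw [h4]; norm_num), h3, h4]
      simp only [Subgroup.mem_inf, MulAction.mem_stabilizer_iff, H10.conj_fix_iff, and_comm]
    refine ⟨g • y, ?_, ?_, e⟩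
    · simp only [Set.mem_ofPred_eq, H10.co_norm, H10.co_dot]
      exact ⟨h1, h4⟩
    · rw [H10.ncard_transport g _ _ e]
      exact H10.ncard_of_P _ _ hc (by simp)
  obtain ⟨y1, a1, b1, c1⟩ := key (-8) 352 (by norm_num) (by decide +kernel)
  obtain ⟨y2, a2, b2, c2⟩ := key 16 1100 (by norm_num) (by decide +kernel)
  obtain ⟨y3, a3, b3, c3⟩ := key 0 4125 (by norm_num) (by decide +kernel)
  obtain ⟨y4, a4, b4, c4⟩ := key 8 5600 (by norm_num) (by decide +kernel)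
  refine ⟨y1, a1, y2, a2, y3, a3, y4, a4, b1, b2, b3, b4, ?_⟩
  ext z
  obtain ⟨z, rfl⟩ := MulAction.surjective g z
  simp only [Set.mem_union, c1, c2, c3, c4, Set.mem_ofPred_eq, H10.co_norm, H10.co_dot,
    Set.mem_singleton_iff, smul_left_cancel_iff]
  constructor
  · rintro ⟨h1, h2⟩
    have := H10.forall_min (fun _ b c _ => c = -16 → b = 32 ∨ b = -8 ∨ b = 16 ∨ b = 0 ∨ b = 8)
      (by decide +kernel) z h1 h2
    have h3 := H10.eq_of_dot32 H10.norm_vU' h1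
    have h4 : H10.dV z = -16 := h2
    tauto
  · rintro ((((rfl | h) | h) | h) | h)
    · exact ⟨H10.norm_vU', H10.dV_vU'⟩
    all_goals exact ⟨h.1, h.2.2⟩

end Cfsg.Agent.S1641
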