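import Mathlib
import Cfsg.Statements.S1642
import Cfsg.Agent.H10.Small

set_option autoImplicit false
open Cfsg

namespace Cfsg.Agent.S1642

/-- Some involution of the Higman–Sims group acts without fixed points on its 100 points. -/
theorem result (v w : ↥Cfsg.leechLattice) (hv : Cfsg.sqNorm (v : Cfsg.GolayPt → ℤ) = 48) (hw : Cfsg.sqNorm (w : Cfsg.GolayPt → ℤ) = 48) (hvw : Cfsg.dotInt (v : Cfsg.GolayPt → ℤ) (w : Cfsg.GolayPt → ℤ) = -32) : ∃ g : ↥Cfsg.Co0, g • v = v ∧ g • w = w ∧ orderOf g = 2 ∧ ∀ x ∈ {x : ↥Cfsg.leechLattice | Cfsg.sqNorm (x : Cfsg.GolayPt → ℤ) = 32 ∧ Cfsg.dotInt (v : Cfsg.GolayPt → ℤ) (x : Cfsg.GolayPt → ℤ) = 24 ∧ Cfsg.dotInt (w : Cfsg.GolayPt → ℤ) (x : Cfsg.GolayPt → ℤ) = -24}, g • x ≠ x := by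
  obtain ⟨g, rfl, rfl⟩ := H10.std_HS hv hw hvw
  obtain ⟨t, ht, h1, h2⟩ := H10.exists_fpf_invol
  refine ⟨_, H10.conj_fix g ht.2, H10.conj_fix g ((H10.fix_w1 ht.2).2 ht.1), ?_, ?_⟩
  · exact ((MulAut.conj g).orderOf_eq t).trans h1
  · intro x hx
    obtain ⟨y, rfl⟩ := MulAction.surjective g x
    simp only [Set.mem_ofPred_eq, H10.co_norm, H10.co_dot, H10.dot_w1] at hx
    rw [Ne, H10.conj_fix_iff]
    have a : H10.dV y = 24 := hx.2.1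
    exact h2 y hx.1 a (by omega)

end Cfsg.Agent.S1642
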