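import Cfsg.Statements.S1662
import Mathlib
import Cfsg.Agent.H11.BF0
import Cfsg.Agent.H11.BO4
import Cfsg.Agent.H10.BO3
import Cfsg.Agent.H29.CV.Main
import Cfsg.Agent.H3.BN3
import Cfsg.Agent.H29.YB.B2

set_option autoImplicit false
open Cfsg

namespace Cfsg.Agent.S1662

/-- Uniqueness of the Baby Monster at the level of isomorphism: a finite simple group having an involution t whose centraliser has a normal subgroup M of index 2, containing its own centraliser in the involution centraliser, which is a non-split double cover of the twisted group ²E₆(2) (realised over a field with four elements) is isomorphic to the presented Baby Monster. -/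
theorem result {G : Type*} [Group G] [Finite G] [IsSimpleGroup G] (t : G) (ht : orderOf t = 2) (M : Subgroup (Subgroup.centralizer ({t} : Set G))) [M.Normal] (hM : M.index = 2) (K : Type) [Field K] [Fintype K] (hK : Fintype.card K = 4) (hout : Subgroup.centralizer (M : Set (Subgroup.centralizer ({t} : Set G))) ≤ M) (hcov : Cfsg.IsNonsplitDoubleCover M (Cfsg.Lie.twistedE6 K 2)) : Cfsg.Spor.IsoB G := by
  obtain ⟨p, z, z0, z1, z2, z3, z4, z5, -, z6⟩ := H10.Mon.MG.MB.cover_data ht hout hcov
  obtain ⟨n, n1, n2⟩ := H3.BN3.dict K hK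
  obtain ⟨m, m1, m2, m3, m4⟩ := H29.CV.cover p z1 z2 z3 z4 z5 z6 n n1 n2
  refine H10.Mon.MG.MB.N12.pre H29.YB.isB_PY hM hout m m1 m2 m3 (m4 ▸ z0)
    fun γ s w H hw Φ ker u hu sur => ?_
  have c := H10.Mon.MG.BO.core H Φ ker hw.1 hw.2 u
    ⟨_, Subgroup.mem_centralizer_singleton_iff.2 H.one.xy.symm⟩ hu rfl sur
  exact H10.Mon.MG.BO.fin H Φ ker hw.1 hw.2 u _ hu rfl c.1 c.2

end Cfsg.Agent.S1662
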