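import Mathlib
import Cfsg.Statements.S1667
import Cfsg.Agent.H10.McR

set_option autoImplicit false
open Cfsg

namespace Cfsg.Agent.S1667

/-- Recognition of the McLaughlin group as a rank 3 permutation group: a transitive permutation group on 275 points in which the stabiliser of a point is isomorphic to the unitary group U₄(3) and has two further orbits, of sizes 112 and 162, is isomorphic to the McLaughlin group. -/
theorem result {Ω : Type*} [Fintype Ω] [DecidableEq Ω] (hΩ : Fintype.card Ω = 275) (G : Subgroup (Equiv.Perm Ω)) [MulAction.IsPretransitive G Ω] (a : Ω) (K : Type) [Field K] [Fintype K] (hK : Fintype.card K = 9) (e : MulAction.stabilizer G a ≃* Cfsg.PSU 4 K 3) (b c : Ω) (hb : (MulAction.orbit (MulAction.stabilizer G a) b).ncard = 112) (hc : (MulAction.orbit (MulAction.stabilizer G a) c).ncard = 162) : Cfsg.Spor.IsoMcL G := by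
  open H29 H10 H10.R3 H10.McR in (
  obtain ⟨ρ, fx, h0, hX⟩ := McR0.exists_rho
  have hρ := McR.map h0
  have tr : Trans ρ 275 := ⟨by norm_num, fun g i hi => lt_of_fix (fx g) hi, fun i hi => by
    obtain ⟨g, -, h⟩ := (reach_of_chk hn McR.tr).exists_bit (fun c _ => hρ c) (i := i)
      (by simp [testBit_ones, hi])
    exact ⟨g, h⟩⟩
  have inj : Function.Injective ρ := by
    rw [← MonoidHom.ker_eq_bot_iff]
    refine (simple_Mc.eq_bot_or_eq_top_of_normal _ inferInstance).resolve_right fun h => ?_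
    obtain ⟨g, hg⟩ := tr.trans 1 (by norm_num)
    rw [show ρ g = 1 from (h ▸ Subgroup.mem_top g : g ∈ ρ.ker)] at hg
    simp at hg
  have hiv' : IvOK (extE McR0.e0 4 defs) (ivOf ivx) := fun c => inj (by rw [map_inv, hρ, hρ, hiv])
  have : Finite Mc := Nat.finite_of_card_ne_zero (by rw [card_Mc]; norm_num)
  have hH : Nat.card (stab ρ 0) = 3265920 := by
    have := tr.card_eq
    rw [card_Mc] at this
    omega
  have hL := stab_eq_gen hn hρ inj fx chH (by rw [hH]; norm_num)
  have M : Model ρ 275 D 112 162 1 113 := model_of_chk hn (by norm_num) hρ tr fx inj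
    (fun g hg => inv_of_chk hn (fun c _ => hρ c) invD (hL ▸ hg)) model
  have rf : ∀ R : List (List ℕ), (∀ r ∈ R, ev (sg nx) r = 1) →
      ∀ r ∈ R, ev (extE McR0.e0 4 defs) r = 1 := fun R h r hr =>
    inj (by rw [map_ev_sg fun c _ => hρ c, h r hr, map_one])
  have u3' := u3_of_chk M hn hρ u3
  have hp : ∀ p ∈ ps, p.valid 275 = true ∧ PiOK ρ D p.perm := by
    have v := fun p ws (h : chkPi 275 9 nx D LH p ws = true) =>
      And.intro (and2_true.1 (and2_true.1 h).1).1 (piOK_of_chk M u3' hn (by norm_num) hρ hL h)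
    simp only [ps, List.mem_cons, List.not_mem_nil, or_false, forall_eq_or_imp, forall_eq]
    exact ⟨⟨rfl, fun _ h => h, MulEquiv.refl _, fun _ _ _ => rfl⟩, v _ _ pi0, v _ _ pi1, v _ _ pi2⟩
  obtain ⟨f1⟩ := U43_psu K hK
  have f2 : stab ρ 0 ≃* U43 := (MulEquiv.subgroupCongr (by
    ext g; rw [mem_stab, hX, Subgroup.mem_subgroupOf]; exact ⟨fun h => ⟨g.2, h⟩, fun h => h.2⟩)).trans
    (Subgroup.subgroupOfEquivOfLe (show U43 ≤ Mc from inf_le_left))
  have f3 : Mc ≃* Cfsg.Spor.McL := (MulEquiv.subgroupCongr (by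
    ext g; exact ⟨fun h => ⟨⟨g.2, h.2⟩, h.1⟩, fun h => ⟨h.2, h.1.2⟩⟩)).trans
    (Subgroup.subgroupOfEquivOfLe (show Cfsg.Spor.McL ≤ Cfsg.Co0 from fun g h => h.1.1))
  obtain ⟨f⟩ := recog (p := 113) M (by norm_num) (by norm_num) (by norm_num) (by norm_num)
    (by norm_num) (lam := 30) (mu := 56) (by norm_num)
    (a1_of_chk (p := 3) (a := 6) M hn (by norm_num) hρ (by norm_num) hH (by norm_num)
      (isPGroup_pc hiv' 3 D3 (by decide +kernel) (rf _ r3)) (by norm_num) (by norm_num)
      (fun _ _ _ _ _ _ => rfl) a1)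
    (u1_of_chk M hn (by norm_num) hρ u1)
    (a2_of_half (a := 6) (nK := 20160) M hn (by norm_num) hρ hH
      (isPGroup_pc hiv' 2 D2 (by decide +kernel) (rf _ r2)) (by norm_num) (by norm_num)
      (fun U h => (or2_true.1 h).imp (isRowP_spec M hn hρ hp)
        (inEx_spec M hn (by norm_num) hρ exs)) h3 (allN_true.1 a2))
    (u2_of_chk M hn (by norm_num) hρ u2) u3' simple_Mc
    (by rw [card_Mc]; norm_num) (by rw [card_Mc]; exact aut_le M hn (by norm_num) hρ aut)
    (by rw [Nat.card_eq_fintype_card, hΩ]) ((e.trans f1.symm).trans f2.symm) hb hc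
  exact ⟨f.trans f3⟩)

end Cfsg.Agent.S1667
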