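import Mathlib
import Cfsg.Statements.S1668
import Cfsg.Agent.H10.SuzR
import Cfsg.Agent.H10.ChevCongr
import Cfsg.Agent.H9.G24M

set_option autoImplicit false
open Cfsg

namespace Cfsg.Agent.S1668

/-- Recognition of the sporadic Suzuki group as a rank 3 permutation group: a transitive permutation group on 1782 points in which the stabiliser of a point is isomorphic to the Chevalley group G₂(4) and has two further orbits, of sizes 416 and 1365, is isomorphic to the sporadic Suzuki group. -/
theorem result {Ω : Type*} [Fintype Ω] [DecidableEq Ω] (hΩ : Fintype.card Ω = 1782) (G : Subgroup (Equiv.Perm Ω)) [MulAction.IsPretransitive G Ω] (a : Ω) (K : Type) [Field K] [Fintype K] (hK : Fintype.card K = 4) (e : MulAction.stabilizer G a ≃* Cfsg.Lie.chevG2.group K) (b c : Ω) (hb : (MulAction.orbit (MulAction.stabilizer G a) b).ncard = 416) (hc : (MulAction.orbit (MulAction.stabilizer G a) c).ncard = 1365) : Cfsg.Spor.IsoSuz G := by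
  open H29 H10 H10.R3 H10.SuzR in (
  have hρ := SuzR.map Suz.hρ
  have hiv' := ivOK_extE Suz.hiv0 hext
  have fx : ∀ g i, 1782 ≤ i → Suz.ρ g i = i := fun g i hi =>
    fix_of_mem_gen (e := Suz.P.e) (l := Suz1.cols)
      (fun c _ => by rw [Suz.hρ]; exact Net.perm_fix (Suz1.hn c) hi) (Suz.top ▸ Subgroup.mem_top g)
  have M : Model Suz.ρ 1782 D 416 1365 1781 1 := model_of_chk hn (by norm_num) hρ Suz.cm.toTrans fx
    ((injective_iff_map_eq_one _).2 fun g hg => Suz.card.2 g fun i _ => by rw [hg]; rfl)
    (fun g hg => inv_of_chk hn (fun c _ => hρ c) invD (by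
      rw [gen_extE _ _ (by decide)]; exact (Suz.cm.mem g).1 hg)) model
  have := M.finite
  have hH : Nat.card (stab Suz.ρ 0) = 251596800 := by
    have := M.tr.card_eq
    rw [Suz.card.1] at this
    omega
  have rf := fun R => rels_of_faithful (R := R) Suz.card.2 hρ
  obtain ⟨f1⟩ := H9.G24M.iso_sub
  obtain ⟨f2⟩ := chevCongr_card Cfsg.Lie.chevG2 (hK.trans H9.F4.card.symm)
  exact recog (p := 139) M (by norm_num) (by norm_num) (by norm_num) (by norm_num) (by norm_num)
    (lam := 100) (mu := 96) (by norm_num)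
    (a1_of_chk (p := 5) (a := 2) M hn (by norm_num) hρ (by norm_num) hH (by norm_num)
      (isPGroup_pc hiv' 5 D5 (by decide +kernel) (rf _ r5)) (by norm_num) (by norm_num)
      (res_of_chk (p := 7) M hn (by norm_num) hρ (by norm_num)
        (by simpa [ev_powW] using rf _ r7 _ List.mem_cons_self) (by norm_num)
        (by rw [hH]; norm_num) res) a1)
    (u1_of_chk M hn (by norm_num) hρ u1)
    (a2_of_pgroup (p := 2) (a := 12) M hn (by norm_num) hρ hH (by norm_num)
      (isPGroup_pc hiv' 2 D2 (by decide +kernel) (rf _ r2)) (by norm_num) (by norm_num) a2)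
    (u2_of_chk M hn (by norm_num) hρ u2) (u3_of_chk M hn hρ u3) Suz.simple
    (by rw [Suz.card.1]; norm_num) (by rw [Suz.card.1]; exact aut_le M hn (by norm_num) hρ aut)
    (by rw [Nat.card_eq_fintype_card, hΩ])
    (((e.trans f2).trans f1.symm).trans (MulEquiv.subgroupCongr Suz.cm.eq_stab)) hb hc)

end Cfsg.Agent.S1668
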