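import Mathlib
import Cfsg.Statements.S1669
import Cfsg.Agent.H10.RuMain
import Cfsg.Agent.H10.RuS

set_option autoImplicit false
open Cfsg

namespace Cfsg.Agent.S1669

/-- Recognition of the Rudvalis group as a rank 3 permutation group: a transitive permutation group on 4060 points in which the stabiliser of a point is isomorphic to the Ree group ²F₄(2) and has two further orbits, of sizes 1755 and 2304, is isomorphic to the Rudvalis group. -/
theorem result {Ω : Type*} [Fintype Ω] [DecidableEq Ω] (hΩ : Fintype.card Ω = 4060) (G : Subgroup (Equiv.Perm Ω)) [MulAction.IsPretransitive G Ω] (a : Ω)  (e : MulAction.stabilizer G a ≃* Cfsg.Lie.twistedF4 (ZMod 2) 1) (b c : Ω) (hb : (MulAction.orbit (MulAction.stabilizer G a) b).ncard = 1755) (hc : (MulAction.orbit (MulAction.stabilizer G a) c).ncard = 2304) : Cfsg.Spor.IsoRu G := by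
  open H29 H10 H10.R3 H10.Ru H10.RuS in (
  have hρ := RuS.map ρ_e1
  have := MM.finite
  have hiv' : IvOK (extE e1 21 defs) (ivOf ivx) := fun c => ρ_inj (by rw [map_inv, hρ, hρ, hiv])
  have hy := rels_of_faithful faith hρ ry
  simp only [List.mem_cons, List.not_mem_nil, or_false, forall_eq_or_imp, forall_eq, ev_powW,
    ev_append, ev_cons, ev_nil, mul_one, ← mul_assoc] at hy
  obtain ⟨y1, y2, y3, y4⟩ := hy
  have i1 : extE e1 21 defs 24 = (extE e1 21 defs 23)⁻¹ := hiv' 23
  have i2 : extE e1 21 defs 26 = (extE e1 21 defs 25)⁻¹ := hiv' 25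
  have o1 := ne_one_of_disj hn hρ (w := [21]) (x := 1) (by decide +kernel)
  have o2 := ne_one_of_disj hn hρ z2
  simp only [ev_cons, ev_nil, mul_one] at o1 o2
  rw [i1, mul_eq_one_iff_eq_inv] at y3
  rw [i2, mul_eq_one_iff_eq_inv] at y4
  have := Fact.mk (show Nat.Prime 13 by norm_num)
  have a2 : A2 ρ 4060 DD 2304 780 := a2_of_norm (W := WW) MM hn (by norm_num) hρ card_H (by norm_num)
    (orderOf_eq_prime y1 o1) (orderOf_eq_prime_pow (by rwa [pow_one, sq]) y2)
    (by rw [y3]; exact inv_mem (pow_mem (Subgroup.mem_zpowers _) _))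
    (by rw [y4]; exact inv_mem (pow_mem (Subgroup.mem_zpowers _) _)) rY rZ cY (by norm_num) cW
    (by
      simp only [WW, List.mem_append]
      rintro a (((h | h) | h) | h)
      exacts [allL_true.1 w0 a h, allL_true.1 w1 a h, allL_true.1 w2 a h, allL_true.1 w3 a h])
  obtain ⟨f1⟩ := stab_iso
  exact recog (p := 439) MM (by norm_num) (by norm_num) (by norm_num) (by norm_num)
    (by norm_num) (lam := 730) (mu := 780) (by norm_num)
    (a1_of_chk (p := 2) (a := 12) MM hn (by norm_num) hρ (by norm_num) card_H (by norm_num)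
      (isPGroup_pc hiv' 2 D2 (by decide +kernel) (rels_of_faithful faith hρ r2)) (by norm_num)
      (by norm_num) (fun _ _ _ _ _ _ => rfl) a1)
    (u1_of_chk MM hn (by norm_num) hρ u1) a2 (u2_of_chk MM hn (by norm_num) hρ u2) uu3 simple_Ru
    (by rw [card_Ru]; norm_num) (by rw [card_Ru]; exact autB.trans (by norm_num))
    (by rw [Nat.card_eq_fintype_card, hΩ]) (e.trans f1.symm) hb hc)

end Cfsg.Agent.S1669
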