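import Cfsg.Statements.S1681
import Cfsg.Agent.H29.Suz
import Cfsg.Agent.H29.Suz6
-- import your own Cfsg.Agent.* helpers here

set_option autoImplicit false
open Cfsg

namespace Cfsg.Agent.S1681

/-- In the presented sporadic Suzuki group (generators a, …, g), the subgroup generated by the images of a, b, c, d, f, g has index 22880. -/
theorem result : (((Subgroup.closure ({Cfsg.Spor.Suz.a, Cfsg.Spor.Suz.b, Cfsg.Spor.Suz.c, Cfsg.Spor.Suz.d, Cfsg.Spor.Suz.f, Cfsg.Spor.Suz.g} : Set (FreeGroup Cfsg.Spor.Suz.Gen))).map (PresentedGroup.mk (Cfsg.Spor.coxRelators Cfsg.Spor.Suz.edges ∪ {r | r ∈ Cfsg.Spor.Suz.extra})))).index = 22880 := by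
  erw [H29.PData.map_closure (P := H29.Suz.P) H29.Suz.coh H29.Suz.hg
    (ws := [Cfsg.Spor.Suz.a, Cfsg.Spor.Suz.b, Cfsg.Spor.Suz.c, Cfsg.Spor.Suz.d, Cfsg.Spor.Suz.f, Cfsg.Spor.Suz.g]) (by simp) (e' := H29.Suz.P.e) (l := H29.Suz6.hcols)
    (W := fun c => [c]) (by simp) (by decide +kernel)]
  obtain ⟨ρ, hρ⟩ := H29.PData.exists_rho H29.Suz.coh H29.Suz.hg H29.Suz6.hiv
    (H29.rels_sub H29.Suz6.hR0 (by decide +kernel)) (by decide)
  exact (H29.Suz6.cm H29.Suz.hiv0 (H29.rels_sub H29.Suz.hR (by decide +kernel))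
    (H29.PData.gen_top H29.Suz.coh H29.Suz.hg (by decide)) hρ).index_eq

end Cfsg.Agent.S1681
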