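import Cfsg.Statements.S1690
import Cfsg.Agent.H29.Fi24
import Cfsg.Agent.H29.Fi24T
-- import your own Cfsg.Agent.* helpers here

set_option autoImplicit false
open Cfsg

namespace Cfsg.Agent.S1690

/-- In the presented group Fi₂₄ = Fi₂₄′:2, the subgroup generated by the images of a, b, c, d, e, f, g, h, i, j and l (every generator but k) has index 306936. -/
theorem result : (((Subgroup.closure ({Cfsg.Spor.Fi24.a, Cfsg.Spor.Fi24.b, Cfsg.Spor.Fi24.c, Cfsg.Spor.Fi24.d, Cfsg.Spor.Fi24.e, Cfsg.Spor.Fi24.f, Cfsg.Spor.Fi24.g, Cfsg.Spor.Fi24.h, Cfsg.Spor.Fi24.i, Cfsg.Spor.Fi24.j, Cfsg.Spor.Fi24.l} : Set (FreeGroup Cfsg.Spor.Fi24.Gen))).map (PresentedGroup.mk (Cfsg.Spor.coxRelators Cfsg.Spor.Fi24.edges ∪ {r | r ∈ Cfsg.Spor.Fi24.extra})))).index = 306936 := by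
  erw [H29.PData.map_closure (P := H29.Fi24.P) H29.Fi24.coh H29.Fi24.hg
    (ws := [Cfsg.Spor.Fi24.a, Cfsg.Spor.Fi24.b, Cfsg.Spor.Fi24.c, Cfsg.Spor.Fi24.d, Cfsg.Spor.Fi24.e, Cfsg.Spor.Fi24.f, Cfsg.Spor.Fi24.g, Cfsg.Spor.Fi24.h, Cfsg.Spor.Fi24.i, Cfsg.Spor.Fi24.j, Cfsg.Spor.Fi24.l]) (by simp) (e' := H29.Fi24.P.e) (l := H29.Fi24T.hcols)
    (W := fun c => [c]) (by simp) (by decide +kernel)]
  obtain ⟨ρ, hρ⟩ := H29.PData.exists_rho H29.Fi24.coh H29.Fi24.hg H29.Fi24T.hiv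
    (H29.rels_sub H29.Fi24T.hR0 (by decide +kernel)) (by decide)
  exact (H29.Fi24T.cm H29.Fi24.hiv0 (H29.rels_sub H29.Fi24.hR (by decide +kernel))
    (H29.PData.gen_top H29.Fi24.coh H29.Fi24.hg (by decide)) hρ).index_eq

end Cfsg.Agent.S1690
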