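import Cfsg.Statements.S1708
import Cfsg.Agent.H29.HN
import Cfsg.Agent.H29.HS100
-- import your own Cfsg.Agent.* helpers here

set_option autoImplicit false
open Cfsg

namespace Cfsg.Agent.S1708

/-- In the presented Harada–Norton group, the subgroup N generated by the images of x, y, z has a normal subgroup of index 2 which is a non-split double cover of the Higman–Sims group. -/
theorem result : ∃ K : Subgroup (((Subgroup.closure ({Cfsg.Spor.HN.x, Cfsg.Spor.HN.y, Cfsg.Spor.HN.z} : Set (FreeGroup Cfsg.Spor.HN.Gen))).map (PresentedGroup.mk (Cfsg.Spor.coxRelators Cfsg.Spor.HN.edges ∪ {r | r ∈ Cfsg.Spor.HN.extra})))), K.Normal ∧ K.index = 2 ∧ Cfsg.IsNonsplitDoubleCover K Cfsg.Spor.HS := by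
  have key : ∀ N : Subgroup H29.HNP.P.G, N = H29.HNP.φ.range →
      ∃ K : Subgroup N, K.Normal ∧ K.index = 2 ∧ Cfsg.IsNonsplitDoubleCover K Cfsg.Spor.HS := by
    rintro _ rfl
    obtain ⟨M, h1, h2⟩ := H29.HS100.cover (MonoidHom.ofInjective H29.HN.φ_inj)
    exact ⟨M, Subgroup.normal_of_index_eq_two h1, h1, h2⟩
  exact key _ H29.HNP.map_xyz

end Cfsg.Agent.S1708
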