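import Cfsg.Statements.S1715
import Cfsg.Agent.H9.LA5
import Cfsg.Agent.H9.LC2
import Cfsg.Agent.H9.LE
import Cfsg.Agent.H9.LF1
import Cfsg.Agent.H9.LF2
import Cfsg.Agent.H9.LG1
import Cfsg.Agent.H9.FA6
import Cfsg.Agent.H9.FA7

set_option autoImplicit false
open Cfsg

namespace Cfsg.Agent.S1715

/-- The Fischer group Fi₂₄′ from an involution centraliser: let G be a finite group with an involution z whose centraliser C has generalised Fitting subgroup Q, extraspecial of order 2 ^ 13, and normal subgroups Q ≤ N ≤ M with N / Q of order 3, M / N isomorphic to PSU(4, 3) (over a field with nine elements) and M of index 2 in C; suppose some conjugate of z different from z lies in Q. Then G is isomorphic to the commutator subgroup of the presented Fischer group Fi₂₄. -/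
theorem result {G : Type*} [Group G] [Finite G] (z : G) (hz : orderOf z = 2) (Q N M : Subgroup (Subgroup.centralizer ({z} : Set G))) [Q.Normal] [N.Normal] [M.Normal] (hF : Cfsg.generalizedFittingSubgroup (Subgroup.centralizer ({z} : Set G)) = Q) (hQ : Cfsg.IsExtraspecial 2 Q) (hcard : Nat.card Q = 2 ^ 13) (hQN : Q ≤ N) (hNM : N ≤ M) (hN : Nat.card N = 3 * Nat.card Q) (K : Type) [Field K] [Fintype K] (hK : Fintype.card K = 9) (e : M ⧸ N.subgroupOf M ≃* Cfsg.PSU 4 K 3) (hM : M.index = 2) (hnwc : ∃ g : G, (∃ hq : g * z * g⁻¹ ∈ Subgroup.centralizer ({z} : Set G), (⟨g * z * g⁻¹, hq⟩ : Subgroup.centralizer ({z} : Set G)) ∈ Q) ∧ g * z * g⁻¹ ≠ z) : Cfsg.Spor.IsoFi24' G := by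
  obtain ⟨c, c1, c2⟩ := H9.L.exists_stM (z := H9.FB.pt z) (by rw [← hz]; exact (Subgroup.orderOf_coe _).symm)
    (fun g => Subtype.ext (Subgroup.mem_centralizer_singleton_iff.1 g.2)) Q N M hF hQ hcard hQN hNM hN K hK e hM
  obtain ⟨g0, ⟨hq, h1⟩, h2⟩ := hnwc
  obtain ⟨c', g, u, h⟩ := H9.L.exists_fu hz c (congrArg Subtype.val c1) (c2 ▸ hF) (c2 ▸ hQ)
    ⟨g0, ⟨_, hq⟩, c2 ▸ h1, rfl, fun e => h2 (congrArg Subtype.val (e.trans c1))⟩
  obtain ⟨θ, t1, t2, t3⟩ := h.theta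
  obtain ⟨K0, hK0⟩ := h.exists_KK t3
  obtain ⟨⟨s1, a1, a2⟩, ⟨s2, b1, b2⟩, ⟨r, r1, r2⟩, -⟩ := c'.f3
  have ne : ∀ {a b} {x y : ℕ}, c'.π a = H9.R.vec x → c'.π b = H9.R.vec y → x < 4096 ∧ y < 4096 ∧ x ≠ y →
      c'.j a ≠ c'.j b := fun e1 e2 k e => k.2.2 (H9.R.vec_inj k.1 k.2.1 (by rw [← e1, ← e2, c'.inj e]))
  have p1 := c'.π_one.trans H9.R.vec_zero.symm
  obtain ⟨ι, hι, hr⟩ := hK0.fb (by rw [← map_mul, c'.tt_sq, map_one]) (by rw [← map_mul, c'.ss_sq, map_one])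
    (by rw [← map_mul, c'.z2, map_one]) (by rw [← map_mul, c'.tt_ss, map_mul])
    (by rw [← map_mul, c'.zc, map_mul]) (by rw [← map_mul, c'.zc, map_mul])
    ⟨map_one c'.j ▸ ne c'.π_tt p1 (by decide), map_one c'.j ▸ ne c'.π_ss p1 (by decide),
      ne c'.π_ss c'.π_tt (by decide), fun e => c'.z1 (c'.inj (e.trans (map_one _).symm))⟩ h.tz θ t1 t2 t3
    ⟨c'.j s1, by rw [← map_mul, c'.zc, map_mul], by simp only [← map_mul, ← map_inv, a1],
      by simp only [← map_mul, ← map_inv, a2]⟩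
    ⟨c'.j s2, by rw [← map_mul, c'.zc, map_mul], by simp only [← map_mul, ← map_inv, b1],
      by simp only [← map_mul, ← map_inv, b2]⟩
    ⟨c'.j r, by rw [← map_mul, r1, map_mul], by simp only [← map_mul, ← map_inv, r2]⟩
  obtain ⟨x2, col, m⟩ := H9.FB.model
  haveI : IsSimpleGroup H29.Fi24.χ.ker := H9.FB.ker24 ▸ H29.Fi24.simpleE
  obtain ⟨Φ, f1, f2, z0, -, f3, f4⟩ := hι.fin m
  have top := h.top hK0 f2 (by
    rw [← Nat.card_congr (MonoidHom.ofInjective f1).toEquiv, H9.FB.ker24, H29.Fi24.cardE]; norm_num) f3 (hr ▸ f4)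
  exact ⟨(MulEquiv.ofBijective Φ ⟨f1, MonoidHom.range_eq_top.1 top⟩).symm.trans
    (MulEquiv.subgroupCongr H9.FB.ker24)⟩

end Cfsg.Agent.S1715
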