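import Mathlib
import Cfsg.Statements.S1717
import Cfsg.Agent.H28.HeldA

set_option autoImplicit false
open Cfsg

namespace Cfsg.Agent.S1717

/-- Let G be a finite group with an involution z whose centraliser C is isomorphic to the centraliser of a transvection of SL(5, 2). Then a Sylow 2-subgroup of C, viewed in G, is a Sylow 2-subgroup of G (its index in G is odd). -/
theorem result {G : Type*} [Group G] [Finite G] (s : Matrix.SpecialLinearGroup (Fin 5) (ZMod 2)) (hs : (s : Matrix (Fin 5) (Fin 5) (ZMod 2)) = Matrix.transvection 0 1 1) (z : G) (hz : orderOf z = 2) (e : (Subgroup.centralizer ({z} : Set G)) ≃* Subgroup.centralizer ({s} : Set (Matrix.SpecialLinearGroup (Fin 5) (ZMod 2)))) (T : Sylow 2 (Subgroup.centralizer ({z} : Set G))) : ¬ 2 ∣ ((T : Subgroup (Subgroup.centralizer ({z} : Set G))).map (Subgroup.subtype (Subgroup.centralizer ({z} : Set G)))).index := by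
  obtain rfl : s = H28.s5 := Subtype.ext hs
  obtain ⟨φ, H, -⟩ := H28.Held.exists_HS hz e
  have h1 : Nat.card (T : Subgroup (Subgroup.centralizer ({z} : Set G))) = 2 ^ 10 := by
    rw [T.card_eq_multiplicity, Nat.card_congr e.toEquiv, ← Nat.card_congr H28.Hc.equiv.toEquiv,
      H28.Hc.card, show 21504 = 2 ^ 10 * 21 by norm_num,
      Nat.factorization_mul (by norm_num) (by norm_num), Finsupp.add_apply,
      Nat.Prime.factorization_pow Nat.prime_two, Finsupp.single_eq_same,
      Nat.factorization_eq_zero_of_not_dvd (by norm_num)]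
  have h2 := ((T : Subgroup (Subgroup.centralizer ({z} : Set G))).map
    (Subgroup.subtype (Subgroup.centralizer ({z} : Set G)))).index_mul_card
  rw [Subgroup.card_map_of_injective (Subgroup.subtype_injective _), h1,
    ← (H28.Held.Tc.map φ).index_mul_card, H.card_T] at h2
  rw [Nat.eq_of_mul_eq_mul_right (by norm_num) h2]
  exact H.sylow

end Cfsg.Agent.S1717
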