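import Cfsg.Statements.S1728
import Cfsg.Agent.H0.PCMain
import Cfsg.Agent.H0.PCR1
import Cfsg.Agent.H0.PCR2
import Cfsg.Agent.S0482
import Cfsg.Agent.H26.B71C
-- import your own Cfsg.Agent.* helpers here

set_option autoImplicit false
open Cfsg

namespace Cfsg.Agent.S1728

/-- Let G be a non-abelian finite simple group of 2-rank at least 2 whose 2-generated core (the subgroup generated by the normalizers of all subgroups of 2-rank at least 2 of a Sylow 2-subgroup) is a proper subgroup. Then G is isomorphic to a projective special linear group of dimension 2 over a field with at least 3 elements, to a Suzuki group, to a projective special unitary group of dimension 3 over a field of characteristic 2, to the Mathieu group of degree 11, or to the first Janko group. -/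
theorem result {G : Type*} [Group G] [Finite G] [IsSimpleGroup G]
    (hG : ¬ IsMulCommutative G) (hc : Cfsg.HasProperTwoGeneratedCore G) :
    (∃ (F : Type) (_ : Field F) (_ : Fintype F), 3 ≤ Fintype.card F ∧ Nonempty (G ≃* Matrix.ProjectiveSpecialLinearGroup (Fin 2) F)) ∨
      Cfsg.Lie.IsoSuzuki G ∨
      (∃ (F : Type) (_ : Field F) (_ : Fintype F) (n : ℕ), 1 ≤ n ∧ Fintype.card F = (2 ^ n) ^ 2 ∧ Nonempty (G ≃* Cfsg.PSU 3 F (2 ^ n))) ∨
      Cfsg.Spor.IsoM11 G ∨ Cfsg.Spor.IsoJ1 G := by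
  open H0.PC H24 in
  obtain ⟨h1, S, hS⟩ := hc
  have hp := pc_of_core S h1 le_rfl
  have fin : (∀ t : G, H3.B71.Inv t → H6.ZD.Nar (G ⧸ kGeneratedCore 2 2 (S : Subgroup G)) t) → _ :=
    fun e => (H26.BR.isBender_of_se (se_of_nar hS hp e)).1.imp
      (fun ⟨F, _, _, n, hn, hF, f⟩ => (⟨F, _, _, by
        rw [hF]; exact le_trans (by norm_num) (Nat.pow_le_pow_right (n := 2) (by norm_num) hn), f⟩ :
        ∃ (F : Type) (_ : Field F) (_ : Fintype F), 3 ≤ Fintype.card F ∧
          Nonempty (G ≃* Matrix.ProjectiveSpecialLinearGroup (Fin 2) F)))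
      (Or.imp_right fun ⟨F, _, _, n, hn, hF, f⟩ => (Or.inl ⟨F, _, _, n, by omega, hF, f⟩ :
        (∃ (F : Type) (_ : Field F) (_ : Fintype F) (n : ℕ), 1 ≤ n ∧ Fintype.card F = (2 ^ n) ^ 2 ∧
          Nonempty (G ≃* Cfsg.PSU 3 F (2 ^ n))) ∨ Cfsg.Spor.IsoM11 G ∨ Cfsg.Spor.IsoJ1 G))
  by_cases hr : PRankLE 2 2 G
  · rcases S0482.result hG hr with ⟨F, _, _, -, h5, f⟩ | ⟨F, _, _, h, ⟨f⟩⟩ | ⟨F, _, _, q, h, hq, ⟨f⟩⟩ |
      ⟨F, _, _, h, f⟩ | ⟨⟨f⟩⟩ | h
    · exact Or.inl ⟨F, _, _, by omega, f⟩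
    · exact fin (hp.nar_psl3 h f)
    · exact fin (hp.nar_psu3 h hq f)
    · exact Or.inr (Or.inr (Or.inl ⟨F, _, _, 2, by norm_num, h, f⟩))
    · exact fin (hp.nar_a7 f)
    · exact Or.inr (Or.inr (Or.inr (Or.inl (iso_m11 h))))
  · exact (pc3 hp hr).elim fin fun e => Or.inr (Or.inr (Or.inr (Or.inr e.1)))


end Cfsg.Agent.S1728
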