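import Cfsg.Statements.S1729
import Cfsg.Agent.H22.HoQ

set_option autoImplicit false
open Cfsg

namespace Cfsg.Agent.S1729

/-- Let G be a finite simple group acting faithfully and primitively on a finite set Ω, with no nontrivial normal subgroup of odd order and trivial centre. If some involution of G lying in the centre of a Sylow 2-subgroup fixes exactly one point of Ω, then either G has a strongly embedded subgroup, or G is isomorphic to the alternating or the symmetric group of some odd degree. For a simple group the symmetric alternative cannot occur, since no symmetric group of degree at least 3 is simple. -/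
theorem result {G : Type*} [Group G] [Finite G] [IsSimpleGroup G] {Ω : Type*} [Finite Ω]
    [MulAction G Ω] [FaithfulSMul G Ω] [MulAction.IsPreprimitive G Ω] (hO : Cfsg.oddCore G = ⊥)
    (hZ : Subgroup.center G = ⊥) (t : G) (ht : Cfsg.IsTwoCentralInvolution t) (hfix : ∃! ω : Ω, t • ω = ω) :
    (∃ H : Subgroup G, Cfsg.IsStronglyEmbedded H) ∨
      ∃ n : ℕ, Odd n ∧ (Nonempty (G ≃* alternatingGroup (Fin n)) ∨ Nonempty (G ≃* Equiv.Perm (Fin n))) := by
  obtain ⟨ω, h1, h2⟩ := hfix
  have nab : ¬ IsMulCommutative G := fun c => by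
    obtain ⟨x, hx⟩ := exists_ne (1 : G)
    exact hx (Subgroup.mem_bot.mp (hZ ▸ Subgroup.mem_center_iff.mpr fun y => c.is_comm.comm y x))
  have hH : MulAction.stabilizer G ω ≠ ⊤ := fun e => by
    obtain ⟨x, hx⟩ := exists_ne (1 : G)
    refine hx (eq_of_smul_eq_smul (α := Ω) fun c => ?_)
    obtain ⟨g, rfl⟩ := MulAction.exists_smul_eq G ω c
    rw [one_smul, ← mul_smul, show (x * g) • ω = ω from e.ge (Subgroup.mem_top _),
      show g • ω = ω from e.ge (Subgroup.mem_top _)]
  rcases H22.Ho.holt_cosets nab hH ht h1 (fun x hx => h2 _ (by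
    rwa [MulAction.mem_stabilizer_iff, mul_smul, mul_smul, inv_smul_eq_iff] at hx)) with h | ⟨n, o, -, e⟩
  · exact Or.inl ⟨_, h⟩
  · exact Or.inr ⟨n, o, Or.inl e⟩

end Cfsg.Agent.S1729
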