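import Cfsg.Statements.S1737
import Cfsg.Agent.H17.ZStar
import Cfsg.Agent.S1704
import Cfsg.Agent.S1705
import Cfsg.Agent.H0.BSC2
import Cfsg.Agent.H0.BSG
import Cfsg.Agent.H0.BSK1
import Cfsg.Agent.H0.BSK2
import Cfsg.Agent.H0.BSQ
import Cfsg.Agent.H9.MBZ

set_option autoImplicit false
open Cfsg

namespace Cfsg.Agent.S1737

/-- Let G be a non-abelian finite simple group which is locally balanced (the centralizer of every involution has no nontrivial normal subgroup of odd order) and has the strong B-property (every section of G has the B-property), and let L be a standard subgroup of G whose centre has order 2 with quotient isomorphic to the Baby Monster. Then G is isomorphic to the Monster. -/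
theorem result {G : Type*} [Group G] [Finite G] [IsSimpleGroup G] (hG : ¬ IsMulCommutative G)
    (hbal : ∀ t : G, orderOf t = 2 → Cfsg.centralizerPPrimeCore 2 t = ⊥) (hB : Cfsg.HasStrongBProperty G)
    (L : Subgroup G) (hL : Cfsg.IsStandardSubgroup L)
    (hLX : (Nat.card ↥(Subgroup.center ↥L) = 2 ∧ Nonempty (↥L ⧸ Subgroup.center ↥L ≃* Cfsg.Spor.BabyMonster))) :
    Cfsg.Spor.IsoM G := by
  open H10.Mon H10.Mon.MG in
  have hb := Cfsg.Agent.S1704.result
  obtain ⟨t, ι, E, hι⟩ := exists_em L hL.1 hLX.1 hLX.2.some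
  obtain ⟨eO, eD, s0, l1, l2⟩ := exists_LF2
  obtain ⟨γ, H⟩ := twoM
  have S := St.of ⟨H, l1, l2, genM hb H⟩ E hL hι
  have ot : orderOf t = 2 := orderOf_eq_prime
    (by rw [pow_two, ← E.hx, ← E.mul rfl rfl, H.xx, E.one])
    (fun e => H.x_ne ((E.eq_one rfl).1 (E.hx.trans e)))
  obtain ⟨g, g1, g2⟩ : ∃ g, g * t * g⁻¹ ≠ t ∧ g * t * g⁻¹ * t = t * (g * t * g⁻¹) := by
    by_contra hn
    push Not at hn
    have iso : IsIsolatedInvolution t := ⟨ot, fun g hg => by_contra fun h => hn g h hg.eq.symm⟩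
    rcases (inferInstance : (pPrimeCore 2 G).Normal).eq_bot_or_eq_top with h | h
    · rcases (inferInstance : (Subgroup.center G).Normal).eq_bot_or_eq_top with c | c
      · have : t ∈ Subgroup.center G := Subgroup.mem_center_iff.2 fun g =>
          (H17.zstar_central h iso g).eq.symm
        rw [c, Subgroup.mem_bot] at this
        simp [this] at ot
      · exact hG ⟨⟨fun a b => (Subgroup.mem_center_iff.1 (c ▸ Subgroup.mem_top a) b).symm⟩⟩
    · have := H17.odd_card_pPrimeCore (G := G)
      rw [h, Subgroup.card_top] at this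
      exact (Nat.not_even_iff_odd.2 this) (even_iff_two_dvd.2 (ot ▸ orderOf_dvd_natCard t))
  have F := E.fr H l1 (fun u hu => S.sur H l1 (hbal t ot) g1 g2 hu) g1 g2
  obtain ⟨q, Q⟩ := F.exists_fq H l1
  obtain ⟨e⟩ := F.isoM hb Q (F.down H l1 Q)
  haveI := Cfsg.Agent.S1705.result.1
  obtain ⟨e'⟩ := Y.iso_of_simple (K := Cfsg.Spor.Monster) ⟨.refl _⟩
  exact ⟨e.symm.trans e'.symm⟩

end Cfsg.Agent.S1737
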