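import Cfsg.Statements.S1739
import Cfsg.Agent.H16.NMI
import Cfsg.Agent.H16.NMR
import Cfsg.Agent.H16.NMW
import Cfsg.Agent.H28.NDZ

set_option autoImplicit false
open Cfsg

namespace Cfsg.Agent.S1739

/-- Let G be a finite group with no nontrivial normal subgroup of odd order whose generalized Fitting subgroup is quasisimple, t an involution of G with centralizer C, and K a 2-component of C. Then K modulo its largest normal odd-order subgroup is isomorphic neither to the McLaughlin group nor to the Lyons group. -/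
theorem result {G : Type*} [Group G] [Finite G]
    (hO : Cfsg.oddCore G = ⊥) (hF : Cfsg.IsQuasisimple ↥(Cfsg.generalizedFittingSubgroup G)) (t : G) (ht : orderOf t = 2)
    (K : Subgroup ↥(Subgroup.centralizer ({t} : Set G))) (hK : Cfsg.IsPComponent 2 K) :
    ¬ Cfsg.Spor.IsoMcL (↥K ⧸ Cfsg.oddCore ↥K) ∧ ¬ Cfsg.Spor.IsoLy (↥K ⧸ Cfsg.oddCore ↥K) := by
  have key : ∀ n, (n = 8 ∨ n = 11) → H20.So.NM.TS n (↥K ⧸ Cfsg.oddCore ↥K) → False := fun n hn h =>
    H20.So.NM.of_mainB (H20.So.NM.mainB (fun X _ _ => H20.So.NM.solH X) (fun X _ _ E s u M h => by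
      obtain ⟨t, z, K, K', J, J', c, c', z2, a, b, hno⟩ := s.exIn h
      exact H28.ND.dbl c c' z2 a b s.sol hno) G) hO hF (t := t)
      (K := K.map (Subgroup.centralizer ({t} : Set G)).subtype)
      ⟨ht, hn, H23.isPCompOf_map_subtype hK, (H20.So.NM.tb_map _ _ (by simp)).2 h⟩
  exact ⟨fun h => key 8 (.inl rfl) (H20.So.NM.ts_mcl h), fun h => key 11 (.inr rfl) (H20.So.NM.ts_ly h)⟩

end Cfsg.Agent.S1739
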