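import Cfsg.Statements.S1750
import Mathlib
import Cfsg.Agent.H5.MCS1
import Cfsg.Agent.H5.MCS2
import Cfsg.Agent.H5.MCP
import Cfsg.Agent.H5.MCW2
import Cfsg.Agent.H5.MCZ
import Cfsg.Agent.H5.MCC1
import Cfsg.Agent.H5.MCC2

set_option autoImplicit false
open Cfsg

namespace Cfsg.Agent.S1750

/-- Let G be a non-abelian finite simple group with the strong B-property (every section of G has the B-property) possessing a standard subgroup L isomorphic to the Mathieu group of degree 12. Then G is a group of Lie type in characteristic 3, or an alternating group of degree at least 9, or G is isomorphic to the third Conway group. -/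
theorem result {G : Type*} [Group G] [Finite G] [IsSimpleGroup G] (hG : ¬ IsMulCommutative G)
    (hB : Cfsg.HasStrongBProperty G) (L : Subgroup G) (hL : Cfsg.IsStandardSubgroup L)
    (hLX : Nonempty (↥L ≃* ↥Cfsg.Spor.M12)) :
    Cfsg.IsLieTypeChar 3 G ∨ (∃ n : ℕ, 9 ≤ n ∧ Nonempty (G ≃* ↥(alternatingGroup (Fin n)))) ∨ Cfsg.Spor.IsoCo3 G := by
  have h2 : ∀ K : Subgroup G, K.index ≠ 2 := fun K hK => by
    have := Subgroup.normal_of_index_eq_two hK
    rcases IsSimpleGroup.eq_bot_or_eq_top_of_normal K this with rfl | rfl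
    · rw [Subgroup.index_bot] at hK
      have : Fact (Nat.Prime 2) := ⟨Nat.prime_two⟩
      exact hG (isCyclic_of_prime_card hK).isMulCommutative
    · simp at hK
  obtain ⟨e⟩ := hLX
  let l : Cfsg.Spor.M12 →* G := L.subtype.comp e.symm.toMonoidHom
  have hl : Function.Injective l := L.subtype_injective.comp e.symm.injective
  have hr : l.range = L := by
    rw [MonoidHom.range_comp, MonoidHom.range_eq_top.2 e.symm.surjective, ← MonoidHom.range_eq_map, Subgroup.range_subtype]
  rw [← hr] at hL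
  obtain ⟨a, b⟩ := H5.MC.step1 hG l hl hL
  obtain ⟨H, ⟨F⟩⟩ := H5.MC.frame h2 l hl hL a b
  obtain ⟨F', ⟨C⟩⟩ := F.exists_cov
  have key : ∀ {E : H5.MC.Fr H G} {E' : H5.MC.Fr H (Subgroup.normalizer (F.W : Set G) ⧸
      F.W.subgroupOf (Subgroup.normalizer (F.W : Set G)))}, H5.MC.Cov E E' → H5.MC.Out E' → Cfsg.Spor.IsoCo3 G :=
    fun {E E'} C h => by
      rcases h with ⟨⟨B⟩⟩ | ⟨⟨B⟩⟩ | ⟨⟨B⟩⟩
      · exact (H5.MC.killW C B h2).elim
      · exact (H5.MC.killS C B h2).elim
      · obtain ⟨j, j0, j1, j2, j3, j4⟩ := B.hom C.bot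
        exact H5.MC.endC hG C B.one j j0 j1 j2 j3 j4
  refine Or.inr (Or.inr ?_)
  rcases H5.MC.phase1 F' C.bot with h | h
  · exact key C h
  · obtain ⟨C'⟩ := C.tw
    exact key C' h

end Cfsg.Agent.S1750
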