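import Cfsg.Statements.S1751
import Mathlib
import Cfsg.Agent.H27.GZ

set_option autoImplicit false
open Cfsg

namespace Cfsg.Agent.S1751

/-- Let G be a non-abelian finite simple group with the strong B-property (every section of G has the B-property) possessing a standard subgroup L isomorphic to the Chevalley group of type G₂ over the field with 4 elements. Then G is a group of Lie type in characteristic 3, or an alternating group of degree at least 9, or G is isomorphic to the first Conway group. -/
theorem result {G : Type*} [Group G] [Finite G] [IsSimpleGroup G] (hG : ¬ IsMulCommutative G)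
    (hB : Cfsg.HasStrongBProperty G) (L : Subgroup G) (hL : Cfsg.IsStandardSubgroup L)
    {F : Type*} [Field F] [Fintype F] (hF : Fintype.card F = 4)
    (hLX : Nonempty (↥L ≃* ↥(Cfsg.Lie.chevG2.group F))) :
    Cfsg.IsLieTypeChar 3 G ∨ (∃ n : ℕ, 9 ≤ n ∧ Nonempty (G ≃* ↥(alternatingGroup (Fin n)))) ∨ Cfsg.Spor.IsoCo1 G := by
  obtain ⟨e⟩ := hLX
  obtain ⟨hO, -, X, γ, -, h2, h3⟩ := H24.G4.exists_top' hL hF e
  exact Or.inr (Or.inr (H27.G4.co1 h2 h3 hO))

end Cfsg.Agent.S1751
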