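import Cfsg.Statements.S1764
import Mathlib
import Cfsg.Agent.H12.TIZ

set_option autoImplicit false
open Cfsg

namespace Cfsg.Agent.S1764

/-- Let G be a finite group and B an elementary abelian 2-subgroup of G such that every conjugate of B either equals B or meets B trivially, and such that every conjugate of B contained in the normalizer of B equals B. Let S be the normal closure of B in G. Then S has a normal elementary abelian 2-subgroup N such that, writing X for the quotient S/N, either X modulo its largest normal odd-order subgroup is commutative, or X has a central subgroup Z with X/Z isomorphic to a projective special linear group over a field of characteristic 2, a Suzuki group, a projective special unitary group of dimension 3 over a field of characteristic 2, an alternating group of degree 6, 7, 8 or 9, or the Mathieu group of degree 22, 23 or 24. -/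
theorem result {G : Type*} [Group G] [Finite G] (B : Subgroup G)
    (hB : Cfsg.IsElementaryAbelian 2 B)
    (hti : ∀ g : G, B.map (MulAut.conj g).toMonoidHom = B ∨ B.map (MulAut.conj g).toMonoidHom ⊓ B = ⊥)
    (hwc : ∀ g : G, B.map (MulAut.conj g).toMonoidHom ≤ Subgroup.normalizer (B : Set G) → B.map (MulAut.conj g).toMonoidHom = B) :
    ∃ N : Subgroup ↥(Subgroup.normalClosure (B : Set G)), N.Normal ∧ Cfsg.IsElementaryAbelian 2 N ∧
      ∀ hN : N.Normal,
        IsMulCommutative ((↥(Subgroup.normalClosure (B : Set G)) ⧸ N) ⧸ Cfsg.oddCore (↥(Subgroup.normalClosure (B : Set G)) ⧸ N)) ∨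
        ∃ Z : Subgroup (↥(Subgroup.normalClosure (B : Set G)) ⧸ N), Z ≤ Subgroup.center _ ∧ ∀ hZ : Z.Normal,
          (∃ (F : Type) (_ : Field F) (_ : Fintype F) (n : ℕ), ringChar F = 2 ∧ 2 ≤ n ∧
              Nonempty ((↥(Subgroup.normalClosure (B : Set G)) ⧸ N) ⧸ Z ≃* Matrix.ProjectiveSpecialLinearGroup (Fin n) F)) ∨
          Cfsg.Lie.IsoSuzuki ((↥(Subgroup.normalClosure (B : Set G)) ⧸ N) ⧸ Z) ∨
          (∃ (F : Type) (_ : Field F) (_ : Fintype F) (m : ℕ), Fintype.card F = 4 ^ m ∧
              Nonempty ((↥(Subgroup.normalClosure (B : Set G)) ⧸ N) ⧸ Z ≃* Cfsg.PSU 3 F (2 ^ m))) ∨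
          (∃ k : ℕ, 6 ≤ k ∧ k ≤ 9 ∧ Nonempty ((↥(Subgroup.normalClosure (B : Set G)) ⧸ N) ⧸ Z ≃* ↥(alternatingGroup (Fin k)))) ∨
          Cfsg.Spor.IsoM22 ((↥(Subgroup.normalClosure (B : Set G)) ⧸ N) ⧸ Z) ∨
          Cfsg.Spor.IsoM23 ((↥(Subgroup.normalClosure (B : Set G)) ⧸ N) ⧸ Z) ∨
          Cfsg.Spor.IsoM24 ((↥(Subgroup.normalClosure (B : Set G)) ⧸ N) ⧸ Z) := by
  obtain ⟨N, h1, h2, h3⟩ := H12.TI.red' H12.TI.simp_all hB hti hwc
  refine ⟨N, h1, h2, fun hN => (h3 hN).imp_right ?_⟩
  rintro ⟨Z, hZ, h4⟩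
  refine ⟨Z, hZ, fun hn => (h4 hn).imp_right (Or.imp_right (Or.imp_left ?_))⟩
  rintro ⟨F, _, _, m, -, h5⟩
  exact ⟨F, inferInstance, inferInstance, m, h5⟩

end Cfsg.Agent.S1764
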