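import Cfsg.Statements.S1767
import Mathlib
import Cfsg.Agent.H27.GZ

set_option autoImplicit false
open Cfsg

namespace Cfsg.Agent.S1767

/-- Let G be a finite group with no nontrivial normal subgroup of odd order in which every section has the B-property, and let A be a standard subgroup of G isomorphic to the Chevalley group of type G₂ over the field with 4 elements whose centralizer contains a Klein four-group. Then either A is normal in G, or the normal closure of A in G is isomorphic to the first Conway group. -/
theorem result {G : Type*} [Group G] [Finite G] (hO : Cfsg.oddCore G = ⊥) (hB : Cfsg.HasStrongBProperty G)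
    (A : Subgroup G) (hA : Cfsg.IsStandardSubgroup A) {F : Type*} [Field F] [Fintype F] (hF : Fintype.card F = 4)
    (hAX : Nonempty (↥A ≃* ↥(Cfsg.Lie.chevG2.group F))) (hR : ¬ Cfsg.PRankLE 2 1 ↥(Subgroup.centralizer (A : Set G))) :
    A.Normal ∨ Cfsg.Spor.IsoCo1 ↥(Subgroup.normalClosure (A : Set G)) := by
  by_cases h : A.Normal
  · exact Or.inl h
  obtain ⟨e⟩ := hAX
  obtain ⟨X, γ, h1, h2, h3⟩ := H24.G4.exists_top hO hA hF e h hR
  obtain ⟨f⟩ := H27.G4.co1 h2 h3 hO
  have : IsSimpleGroup Cfsg.Spor.Co1 := H10.simple_Co1
  have := f.isSimpleGroup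
  rcases IsSimpleGroup.eq_bot_or_eq_top_of_normal (Subgroup.normalClosure (A : Set G)) inferInstance
    with k | k
  · exact absurd ((le_bot_iff.1 (k ▸ Subgroup.le_normalClosure)).symm ▸ inferInstance) h
  · exact Or.inr ⟨((MulEquiv.subgroupCongr k).trans Subgroup.topEquiv).trans f⟩

end Cfsg.Agent.S1767
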