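import Cfsg.Statements.S1769
import Mathlib
import Cfsg.Agent.H24.LE5
import Cfsg.Agent.H24.LEI1
import Cfsg.Agent.H24.LEI3
import Cfsg.Agent.H24.LEI4

set_option autoImplicit false
open Cfsg

namespace Cfsg.Agent.S1769

/-- Let G be a finite simple group containing an elementary abelian subgroup of order 8, whose Sylow 2-subgroups are isomorphic to a Sylow 2-subgroup of the projective special linear group of dimension m ≥ 3 over a field F with 2^r elements, r ≥ 2. Then G is isomorphic to that projective special linear group. -/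
theorem result {G : Type*} [Group G] [Finite G] [IsSimpleGroup G]
    (h3 : ¬ Cfsg.PRankLE 2 2 G) {F : Type*} [Field F] [Fintype F] (r : ℕ) (hr : 2 ≤ r) (hF : Fintype.card F = 2 ^ r)
    (m : ℕ) (hm : 3 ≤ m) (S : Sylow 2 G) (P : Sylow 2 (Matrix.ProjectiveSpecialLinearGroup (Fin m) F))
    (hS : Nonempty (↥(S : Subgroup G) ≃* ↥(P : Subgroup (Matrix.ProjectiveSpecialLinearGroup (Fin m) F)))) :
    Nonempty (G ≃* Matrix.ProjectiveSpecialLinearGroup (Fin m) F) := by
  obtain ⟨e⟩ := hS
  have hq : 4 ≤ Fintype.card F := hF ▸ Nat.pow_le_pow_right (n := 2) (by norm_num) hr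
  haveI : CharP F 2 := by
    obtain ⟨p, hp⟩ := CharP.exists F
    obtain ⟨n, hpp, hn⟩ := FiniteField.card F p
    have : p ∣ 2 ^ r := by rw [← hF, hn]; exact dvd_pow_self p n.ne_zero
    exact (Nat.prime_dvd_prime_iff_eq hpp Nat.prime_two).mp (hpp.dvd_of_dvd_pow this) ▸ hp
  obtain ⟨M0⟩ := H24.LE.mod_psl F m
  obtain ⟨M, -⟩ := H24.LE.mod_of_equiv M0 (H24.syl_top_of_sylow Nat.prime_two S)
    (H24.syl_top_of_sylow Nat.prime_two P) e
  rcases hm.eq_or_lt with rfl | h4
  · exact H24.LE.three M hq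
  obtain ⟨k, rfl⟩ : ∃ k, m = k + 4 := ⟨m - 4, by omega⟩
  refine H24.LE.of_concl M hq (H24.LE.concl M ?_)
  by_contra hn
  classical
  have := Finset.card_le_card (fun x _ => by
    by_contra hx
    simp only [Finset.mem_insert, Finset.mem_singleton, not_or] at hx
    exact hn ⟨x, hx⟩ : Finset.univ ⊆ ({0, 1} : Finset F))
  have h2 : ({0, 1} : Finset F).card ≤ 2 := Finset.card_le_two
  rw [Finset.card_univ] at this
  omega

end Cfsg.Agent.S1769
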