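import Cfsg.Statements.S1770
import Cfsg.Agent.H27.HZ
import Cfsg.Agent.H27.HG
import Cfsg.Agent.S1055
import Cfsg.Agent.S1071

set_option autoImplicit false
open Cfsg

namespace Cfsg.Agent.S1770

/-- Let G be a finite simple group and S a Sylow 2-subgroup of G. (1) If S is isomorphic to a Sylow 2-subgroup of the Chevalley group of type G₂ over a field F with 2^r elements, r ≥ 2, then G is isomorphic to that group. (2) If S is isomorphic to a Sylow 2-subgroup of the triality-twisted group of type D₄ with parameter 2^r (realised over a field K with 8^r elements), r ≥ 1, then G is isomorphic to that group. -/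
theorem result {G : Type*} [Group G] [Finite G] [IsSimpleGroup G]
    (S : Sylow 2 G) (r : ℕ) :
    (∀ (F : Type) [Field F] [Fintype F], 2 ≤ r → Fintype.card F = 2 ^ r →
        ∀ P : Sylow 2 ↥(Cfsg.Lie.chevG2.group F), Nonempty (↥(S : Subgroup G) ≃* ↥(P : Subgroup ↥(Cfsg.Lie.chevG2.group F))) →
          Nonempty (G ≃* ↥(Cfsg.Lie.chevG2.group F))) ∧
      (∀ (K : Type) [Field K] [Fintype K], 1 ≤ r → Fintype.card K = 8 ^ r →
        ∀ P : Sylow 2 ↥(Cfsg.Lie.twistedD4 K (2 ^ r)), Nonempty (↥(S : Subgroup G) ≃* ↥(P : Subgroup ↥(Cfsg.Lie.twistedD4 K (2 ^ r)))) →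
          Nonempty (G ≃* ↥(Cfsg.Lie.twistedD4 K (2 ^ r)))) := by
  refine ⟨fun F _ _ hr hF P ⟨e⟩ => ?_, fun K _ _ hr hK P ⟨e⟩ => ?_⟩
  · haveI := H27.HX.charP_of_card F (by omega) hF
    obtain ⟨ω, h0, h1⟩ := H27.HX.big_of_card F
      (by rw [hF]; exact lt_of_lt_of_le (by norm_num) (Nat.pow_le_pow_right (by norm_num) hr))
    haveI := (S1055.result ⟨ω, h0, h1⟩).1
    obtain ⟨M₀⟩ := H27.HX.modG2 F
    obtain ⟨M⟩ := H14.HM.md_of_sylow M₀ S P e
    exact M.iso M₀ ⟨ω, rfl, h0, h1⟩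
  · have hK' : Fintype.card K = (2 ^ r) ^ 3 := by rw [hK, ← pow_mul, mul_comm, pow_mul]; norm_num
    haveI := H27.HX.charP_of_card K (n := r * 3) (by omega) (by rw [hK', pow_mul])
    have hb := H27.HX.big_of_card K
      (by rw [hK]; exact lt_of_lt_of_le (by norm_num) (Nat.pow_le_pow_right (by norm_num) hr))
    haveI := (S1071.result (Nat.prime_two.isPrimePow.pow (by omega : r ≠ 0)) hK').1
    obtain ⟨τ, hq, ⟨M₀⟩⟩ := H27.HX.modD4 K hr hK
    obtain ⟨M⟩ := H14.HM.md_of_sylow M₀ S P e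
    by_cases hF : τ.BigF
    · exact M.iso M₀ hF
    · obtain ⟨M', h⟩ := M.exists_gd hb
      obtain ⟨K', _, _, h8, ⟨e'⟩⟩ := h.fin2 hF
      have h2 : 2 ^ r = 2 := by rw [← hq]; by_contra hn; exact hF (τ.bigF_iff.2 hn)
      have hc : Fintype.card K' = Fintype.card K := by rw [h8, hK', h2]; norm_num
      obtain ⟨e''⟩ := H27.HX.d4_congr (FiniteField.ringEquivOfCardEq hc) 2
      rw [h2]
      exact ⟨e'.trans e''⟩

end Cfsg.Agent.S1770
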