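import Cfsg.Statements.S1776
import Mathlib
import Cfsg.Agent.H7.SyD

set_option autoImplicit false
open Cfsg

namespace Cfsg.Agent.S1776

/-- Let G be a finite simple group whose Sylow 2-subgroups are isomorphic to a Sylow 2-subgroup of the second Janko group. Then G is isomorphic to the second Janko group or to the third Janko group. -/
theorem result {G : Type*} [Group G] [Finite G] [IsSimpleGroup G]
    (S : Sylow 2 G) (P : Sylow 2 Cfsg.Spor.J2) (hS : Nonempty (↥(S : Subgroup G) ≃* ↥(P : Subgroup Cfsg.Spor.J2))) :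
    Cfsg.Spor.IsoJ2 G ∨ Cfsg.Spor.IsoJ3 G := by
  obtain ⟨f⟩ := H7.SJ.exists_equiv P
  exact (H7.SJ.of_equiv S (f.trans hS.some.symm)).imp (fun h => H7.J2.isoJ2 h.some)
    fun h => H7.J3.isoJ3 h.some

end Cfsg.Agent.S1776
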