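import Cfsg.Statements.S1779
import Mathlib
import Cfsg.Agent.H3.TA9
import Cfsg.Agent.H3.TA10
import Cfsg.Agent.H2.Quaternion

set_option autoImplicit false
open Cfsg H24 H26 Subgroup H3.TA

namespace Cfsg.Agent.S1779

/-- Let G be a finite group with no nontrivial normal 2-subgroup, M a maximal 2-local subgroup of G such that C_M(O₂(M)) ≤ O₂(M), and B an abelian normal subgroup of M such that every G-conjugate of B equals B or meets B trivially. Then B is cyclic, or B is isomorphic to the direct product of two cyclic groups of order 4 and the generalized Fitting subgroup of G is isomorphic to the projective special linear group of dimension 3 over the field with 4 elements, or B is an elementary abelian 2-group. -/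
theorem result {G : Type*} [Group G] [Finite G] (hO : Cfsg.pCore 2 G = ⊥)
    (M : Subgroup G) (hM : Cfsg.IsMaximalTwoLocal M) (hMc : Cfsg.IsOfCharacteristicTwo ↥M)
    (B : Subgroup G) (hBM : B ≤ M) (hBn : ∀ m ∈ M, ∀ b ∈ B, m * b * m⁻¹ ∈ B) (hBa : IsMulCommutative ↥B)
    (hti : ∀ g : G, B.map (MulAut.conj g).toMonoidHom = B ∨ B.map (MulAut.conj g).toMonoidHom ⊓ B = ⊥) :
    IsCyclic ↥B ∨
      (Nonempty (↥B ≃* Multiplicative (ZMod 4) × Multiplicative (ZMod 4)) ∧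
        ∃ (F : Type) (_ : Field F) (_ : Fintype F), Fintype.card F = 4 ∧
          Nonempty (↥(Cfsg.generalizedFittingSubgroup G) ≃* Matrix.ProjectiveSpecialLinearGroup (Fin 3) F)) ∨
      Cfsg.IsElementaryAbelian 2 B := by
  refine or_iff_not_imp_left.2 fun n1 => or_iff_not_imp_right.2 fun n2 => ?_
  have p2 := Nat.prime_two
  have hn : B ⊴ M := ⟨hBM, le_N_iff.2 hBn⟩
  have hc : M ⊓ C[O[{2}, M]] ≤ O[{2}, M] := fun x hx => by
    have h1 := hx.2
    rw [pcore_singleton p2] at h1 ⊢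
    exact ⟨⟨x, hx.1⟩, hMc fun y hy => Subtype.ext (h1 y ⟨y, hy, rfl⟩), rfl⟩
  have h2 : IsPi {2} B := two_of_odd fun x hx ho => by
    have h3 := hn.pcore {2}ᶜ
    exact eq_one_of_odd (pcore_pi {2} M) (hc ((le_inf h3.le (cents_symm (pcore_cents
      (pcore_pi _ _) h3))) ((Abl.nil hBa).mem_pcore (Gold.oddE_iff.2 ho) hx))) ho
  have hmax : ∀ X : Subgroup G, IsPi {2} X → X ≠ ⊥ → M ≤ N[X] → N[X] = M := fun X h1 h3 h4 =>
    hM.2 _ ⟨X, h1.isPGroup p2, h3, rfl⟩ h4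
  have hN : N[B] = M := hmax B h2 (fun e => n1 (e ▸ cyc_bot)) hn.norm
  have st : St {D | ∃ g, cj g B = D} := by
    refine ⟨?_, ?_, ?_, ?_, ?_, ?_, ?_, ?_, ?_, by rw [pcore_singleton_top p2, hO]⟩
    · rintro _ ⟨g, rfl⟩ k
      exact ⟨k * g, cj_mul _ _ _⟩
    · rintro _ ⟨g, rfl⟩ _ ⟨k, rfl⟩
      exact ⟨k * g⁻¹, by rw [cj_mul, cj_inv_cj]⟩
    · rintro _ ⟨g, rfl⟩ _ ⟨k, rfl⟩ x h3 h4 x1
      refine cj_eq_cj_iff.2 (mem_N_iff_cj.2 ((hti (k⁻¹ * g)).resolve_right fun e => ?_))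
      refine cj_ne k⁻¹ x1 (mem_bot.1 (e ▸ mem_inf.2 ⟨?_, by simpa using mem_cj.1 h4⟩))
      rw [← cj_def, cj_mul]
      exact conj_mem_cj _ h3
    · rintro _ ⟨g, rfl⟩
      exact Abl.cj hBa g
    · rintro _ ⟨g, rfl⟩
      exact h2.cj g
    · rintro _ ⟨g, rfl⟩
      by_contra hn
      refine n1 (H2.UniqueOrderP.isCyclic_of_comm (h2.isPGroup p2) fun x y x1 x2 y2 => ?_)
      have k : ∀ x : B, x ^ 2 = 1 → g * x * g⁻¹ ∈ Om (cj g B) := fun x e =>
        cj_mem_Om g (mem_Om' x.2 (by rw [← pow_two]; exact congrArg Subtype.val e))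
      by_cases y1 : y = 1
      · exact y1 ▸ one_mem _
      by_cases e : y = x
      · exact e ▸ mem_zpowers _
      exact absurd ⟨_, k x x2, _, k y y2, cj_ne g fun e => x1 (Subtype.ext e),
        cj_ne g fun e => y1 (Subtype.ext e), fun e' => e (Subtype.ext (by simpa using e'.symm))⟩ hn
    · rintro _ ⟨g, rfl⟩
      by_contra hn
      refine n2 ⟨hBa, fun a ha => ?_⟩
      by_contra e
      exact hn ⟨_, conj_mem_cj g ha, by rw [← cj_mul', ← pow_two]; exact cj_ne g e⟩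
    · rintro _ ⟨g, rfl⟩ X h3 h4 h5
      rw [← cj_N, hN] at h5 ⊢
      rw [le_cj_iff, cj_N, hmax _ (h3.cj _) (by simpa using h4) (by rwa [← cj_N, ← cj_le_iff])]
    · rintro _ ⟨g, rfl⟩
      rw [← cj_N, hN, pcore_cj, ← cj_C, ← cj_inf]
      exact cj_mono g hc
  have hB : B ∈ {D | ∃ g, cj g B = D} := ⟨1, cj_one B⟩
  by_cases h : ∃ A P D, Cfg {D | ∃ g, cj g B = D} A P D
  · obtain ⟨A, P, D, c⟩ := h
    exact ⟨c.fu.z44 hB, c.fu.psl3 hB⟩
  · exact (NoC.false ⟨st, fun A P D c => h ⟨A, P, D, c⟩⟩ hB).elim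

end Cfsg.Agent.S1779
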