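import Cfsg.Statements.S1786
import Mathlib
import Cfsg.Agent.H11.TI3
import Cfsg.Agent.H23.Components

set_option autoImplicit false
open Cfsg

namespace Cfsg.Agent.S1786

/-- Let G be a finite group, V an elementary abelian 2-subgroup of G and M the normalizer of V; write Q for the largest normal 2-subgroup of M. Suppose (1) the generalized Fitting subgroup of M equals Q; (2) V is a maximal abelian normal subgroup of M; (3) every conjugate of V equals V or meets V trivially, and for some g ∈ G the conjugate V' = g V g⁻¹ is different from V and contained in Q. Let P be the centralizer of V in Q, W the subgroup generated by V and V', and H the subgroup generated by P and g P g⁻¹. Then: (a) V is contained in g Q g⁻¹; (b) every non-identity element of W lies in exactly one conjugate of V contained in W, H normalizes W, and H modulo the centralizer of W in H is isomorphic to the special linear group of dimension 2 over the field with |V| elements; (c) P = Q, and V equals the Frattini subgroup,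 the centre and the commutator subgroup of Q. -/
theorem result {G : Type*} [Group G] [Finite G] (V : Subgroup G)
    (hV : Cfsg.IsElementaryAbelian 2 V)
    (h1 : (Cfsg.generalizedFittingSubgroup ↥(Subgroup.normalizer (V : Set G))).map (Subgroup.normalizer (V : Set G)).subtype =
      (Cfsg.pCore 2 ↥(Subgroup.normalizer (V : Set G))).map (Subgroup.normalizer (V : Set G)).subtype)
    (h2 : ∀ A : Subgroup G, V ≤ A → A ≤ Subgroup.normalizer (V : Set G) → IsMulCommutative ↥A →
      (∀ m ∈ Subgroup.normalizer (V : Set G), ∀ a ∈ A, m * a * m⁻¹ ∈ A) → A = V)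
    (hti : ∀ x : G, V.map (MulAut.conj x).toMonoidHom = V ∨ V.map (MulAut.conj x).toMonoidHom ⊓ V = ⊥)
    (g : G) (hg : V.map (MulAut.conj g).toMonoidHom ≠ V)
    (hgQ : V.map (MulAut.conj g).toMonoidHom ≤ (Cfsg.pCore 2 ↥(Subgroup.normalizer (V : Set G))).map (Subgroup.normalizer (V : Set G)).subtype) :
    let Q : Subgroup G := (Cfsg.pCore 2 ↥(Subgroup.normalizer (V : Set G))).map (Subgroup.normalizer (V : Set G)).subtype
    let P : Subgroup G := Q ⊓ Subgroup.centralizer (V : Set G)
    let W : Subgroup G := V ⊔ V.map (MulAut.conj g).toMonoidHom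
    let H : Subgroup G := P ⊔ P.map (MulAut.conj g).toMonoidHom
    V ≤ Q.map (MulAut.conj g).toMonoidHom ∧
      (∀ w ∈ W, w ≠ 1 → ∃! U : Subgroup G, (∃ x : G, U = V.map (MulAut.conj x).toMonoidHom) ∧ U ≤ W ∧ w ∈ U) ∧
      H ≤ Subgroup.normalizer (W : Set G) ∧
      (∀ hN : ((Subgroup.centralizer (W : Set G)).subgroupOf H).Normal, ∃ (F : Type) (_ : Field F) (_ : Fintype F), Fintype.card F = Nat.card ↥V ∧
        Nonempty (↥H ⧸ (Subgroup.centralizer (W : Set G)).subgroupOf H ≃* Matrix.SpecialLinearGroup (Fin 2) F)) ∧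
      P = Q ∧ (frattini ↥Q).map Q.subtype = V ∧ (Subgroup.center ↥Q).map Q.subtype = V ∧ (commutator ↥Q).map Q.subtype = V := by
  intro Q P W H
  haveI : Fact (Nat.Prime 2) := ⟨Nat.prime_two⟩
  have hQ : H11.TI.QQ V = Q := H24.pcore_singleton Nat.prime_two _
  have hyp : H11.TI.Hyp V := by
    refine ⟨fun x hx => by rw [← pow_two]; exact hV.2 x hx, hV.1, ?_, fun A a b c => h2 A a b.le c
      (fun m hm x hx => H24.conj_mem (b.norm hm) hx), hti⟩
    have e := Subgroup.map_injective (Subgroup.subtype_injective _) h1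
    have hc := H23.fstar_eq_pCore_iff.1 e
    rw [H24.pcore_singleton Nat.prime_two]
    rintro x ⟨hxN, hxC⟩
    refine ⟨⟨x, hxN⟩, hc fun y hy => Subtype.ext ?_, rfl⟩
    exact hxC y.1 ⟨y, hy, rfl⟩
  have hP : H11.TI.PP V = P := by rw [H11.TI.PP, hQ]
  have hgQ' : H24.cj g V ≤ H11.TI.QQ V := hQ ▸ hgQ
  have adj : H11.TI.Adj V (H24.cj g V) := ⟨hyp, ⟨g, rfl⟩, hg, le_inf hgQ'
    (hyp.cent_of_norm ⟨g, rfl⟩ hg (hgQ'.trans (H11.TI.QQ_nml V).le))⟩
  have hH : H11.TI.PP V ⊔ H11.TI.PP (H24.cj g V) = H := by rw [H11.TI.PP_cj, hP]; rfl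
  have hPQ : P = Q := by rw [← hP, adj.PP_eq, hQ]
  refine ⟨?_, fun w hw h1 => adj.spread hw h1, hH ▸ adj.sup_norm, ?_, hPQ, ?_, ?_, ?_⟩
  · have := adj.symm.le.trans (H11.TI.PP_le_QQ _)
    rwa [H11.TI.QQ_cj, hQ] at this
  · rw [← hH]
    exact adj.sl2
  · rw [← H24.Phi_top, ← H24.Phi_map _ Q.subtype_injective, ← MonoidHom.range_eq_map,
      Subgroup.range_subtype, ← hPQ, ← hP, adj.Phi_eq]
  · have := hyp.center_PP
    rw [hP, hPQ] at this
    rw [← this]
    ext x
    constructor
    · rintro ⟨y, hy, rfl⟩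
      exact ⟨y.2, fun z hz => congrArg Subtype.val (Subgroup.mem_center_iff.1 hy ⟨z, hz⟩)⟩
    · rintro ⟨h1, h2⟩
      exact ⟨⟨x, h1⟩, Subgroup.mem_center_iff.2 fun z => Subtype.ext (h2 z z.2), rfl⟩
  · rw [commutator_def, Subgroup.map_commutator, ← MonoidHom.range_eq_map, Subgroup.range_subtype,
      ← hPQ, ← hP, adj.der_eq]

end Cfsg.Agent.S1786
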