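import Cfsg.Statements.S1824
import Cfsg.Agent.H22.PU14

set_option autoImplicit false
open Cfsg

namespace Cfsg.Agent.S1824

/-- The qrc-lemma in the form used for simple QTKE-groups. Let G be a non-abelian finite simple QTKE-group, T a Sylow 2-subgroup of G and M a maximal 2-local subgroup of G containing T. Let T ≤ M₀ ≤ M, let H be a minimal member of the set of subgroups of G with nontrivial 2-core that contain T and are not contained in M, and let V be a 2-reduced elementary abelian normal 2-subgroup of M₀ with O₂(M₀) = C_T(V). Suppose H ∩ M normalizes O²(M₀) or normalizes V. Then one of the following holds: (1) some nontrivial subgroup of O₂(M₀) is normalized by both M₀ and H; (2) V ≰ O₂(H) and q̂(M₀/C_{M₀}(V), V) ≤ 2; (3) q(M₀/C_{M₀}(V), V) ≤ 2. Here q (resp. q̂) ≤ 2 means that some subgroup of M₀ inducing a nontrivial elementary abelian 2-group A on V acts quadratically (resp. cubically)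 on V with |V : C_V(A)| ≤ |A|². -/
theorem result {G : Type*} [Group G] [Finite G] [IsSimpleGroup G]
    (hG : ¬ IsMulCommutative G) (hQ : Cfsg.IsQTKE G) (T : Sylow 2 G) (M M₀ H V : Subgroup G)
    (hM : M ∈ Cfsg.maxTwoLocalsContaining (T : Subgroup G))
    (hTM₀ : (T : Subgroup G) ≤ M₀) (hM₀M : M₀ ≤ M) (hH : H ∈ Cfsg.calHMin (T : Subgroup G) M)
    (hV : V ∈ Cfsg.calR2 M₀)
    (hR : (Cfsg.pCore 2 ↥M₀).map M₀.subtype = (T : Subgroup G) ⊓ Subgroup.centralizer (V : Set G))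
    (hI : H ⊓ M ≤ Subgroup.normalizer (Cfsg.oddGenerated M₀ : Set G) ∨
      H ⊓ M ≤ Subgroup.normalizer (V : Set G)) :
    (∃ R₀ : Subgroup G, R₀ ≠ ⊥ ∧ R₀ ≤ (Cfsg.pCore 2 ↥M₀).map M₀.subtype ∧
        M₀ ⊔ H ≤ Subgroup.normalizer (R₀ : Set G)) ∨
      (¬ V ≤ (Cfsg.pCore 2 ↥H).map H.subtype ∧ Cfsg.CubicParamLE M₀ V 2) ∨
      Cfsg.QuadParamLE M₀ V 2 := by
  by_cases c3 : Cfsg.QuadParamLE M₀ V 2
  · exact Or.inr (Or.inr c3)
  refine or_iff_not_imp_left.2 fun c1 => Or.inl ?_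
  have ec := PU22.ec_of hQ.2.2 T
  have sH := ec.syl.of_le hH.1.1.2 le_top
  have q1 := PU22.Q2_ne_bot hH.1.1.1
  have QT : H11.ZN.Q2 H ≤ (T : Subgroup G) := H24.pcore_le_Hall sH
  have e : ∀ X : Subgroup G, H11.ZN.Q2 X = (Cfsg.pCore 2 ↥X).map X.subtype := fun X =>
    H24.pcore_singleton Nat.prime_two X
  have mp : PU22.MP H T (H ⊓ M) := ⟨sH, le_inf hH.1.1.2 (hTM₀.trans hM₀M), inf_lt_left.2 hH.1.2,
    fun X x1 x2 => or_iff_not_imp_right.2 fun x3 => (hH.2 X ⟨⟨PU22.mem_calH (ne_bot_of_le_ne_bot q1 (H24.pcore_max' (H24.pcore_pi _ _)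
        (QT.trans x1) (x2.trans (H12.NG.Q2_nml H).norm))), x1⟩, fun x4 => x3 (le_inf x2 x4)⟩ x2)⟩
  have h : PU22.QR H T (H ⊓ M) M₀ V (H11.ZN.Q2 M₀) := ⟨mp, ec, ec.cent hH.1.1.2 q1,
    ne_bot_of_le_ne_bot q1 QT, hTM₀, hV.2.2.1, hV.1, hV.2.1, rfl, (e M₀).trans hR, hI,
    fun Y y1 y2 y3 => by_contra fun y4 => c1 ⟨Y, y4, e M₀ ▸ y1, sup_le y3 y2⟩, c3⟩
  exact ⟨e H ▸ h.not_le, h.main⟩

end Cfsg.Agent.S1824
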